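import Mathlib

/-!
Quadratic pairs of linear maps: a group generated by two quadratically acting elements
maps to `SL(2, K)` with an image that is not a `p`-group (Kurzweil-Stellmacher 9.1.2).
-/

set_option autoImplicit false

namespace H12

open Module

section Linear

variable {K : Type*} [Field K] {H : Type*} [Group H]

/-- An endomorphism that squares to zero after subtracting one has `p`-th power one. -/
theorem pow_char_eq_one_of_sq_sub_one {R : Type*} [Ring R] {p : ℕ} (hp : (p : R) = 0) {g : R}
    (hg : (g - 1) * (g - 1) = 0) : g ^ p = 1 := by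
  have key : ∀ n : ℕ, g ^ n = 1 + (n : R) * (g - 1) := by
    intro n
    induction n with
    | zero => simp
    | succ n ih =>
      rw [pow_succ, ih]
      have : (1 + (n : R) * (g - 1)) * g = 1 + (n : R) * (g - 1) + (g - 1) +
          (n : R) * ((g - 1) * (g - 1)) := by noncomm_ring
      rw [this, hg]
      push_cast
      noncomm_ring
  rw [key p, hp, zero_mul, add_zero]

theorem det_eq_one_of_sq_sub_one {M : Matrix (Fin 2) (Fin 2) K} (h : (M - 1) * (M - 1) = 0) :
    M.det = 1 := by
  have h00 := congrFun (congrFun h 0) 0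
  have h01 := congrFun (congrFun h 0) 1
  have h10 := congrFun (congrFun h 1) 0
  have h11 := congrFun (congrFun h 1) 1
  simp [Matrix.mul_apply, Fin.sum_univ_two, Matrix.one_apply] at h00 h01 h10 h11
  rw [Matrix.det_fin_two]
  have ht : M 0 0 - 1 + (M 1 1 - 1) = 0 := by
    by_contra ht
    have a1 : M 0 1 = 0 := by
      apply mul_right_cancel₀ ht; linear_combination h01
    have a2 : M 0 0 - 1 = 0 := by
      have : (M 0 0 - 1) ^ 2 = 0 := by rw [a1] at h00; linear_combination h00
      exact pow_eq_zero_iff (two_ne_zero) |>.mp this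
    have a3 : M 1 1 - 1 = 0 := by
      have : (M 1 1 - 1) ^ 2 = 0 := by rw [a1] at h11; linear_combination h11
      exact pow_eq_zero_iff (two_ne_zero) |>.mp this
    exact ht (by rw [a2, a3, add_zero])
  linear_combination (M 0 0) * ht - h00

variable {W : Type*} [AddCommGroup W] [Module K W]

/-- The invariance of a submodule only has to be checked on generators of a torsion group. -/
theorem invariant_of_generators (ρ : Representation K H W) {s : Set H}
    (hs : Subgroup.closure s = ⊤) (U : Submodule K W)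
    (hU : ∀ g ∈ s, ∀ u ∈ U, ρ g u ∈ U) (hU' : ∀ g ∈ s, ∀ u ∈ U, ρ g⁻¹ u ∈ U) :
    ∀ g, U ≤ U.comap (ρ g) := by
  intro g
  have hg : g ∈ Subgroup.closure s := hs ▸ Subgroup.mem_top g
  induction hg using Subgroup.closure_induction'' with
  | mem x hx => exact fun u hu => hU x hx u hu
  | inv_mem x hx => exact fun u hu => hU' x hx u hu
  | one => intro u hu; simpa using hu
  | mul x y _ _ hx hy =>
    intro u hu
    have := hx (hy hu)
    simpa using this

theorem rep_inv_eq_of_quadratic (ρ : Representation K H W) {a : H}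
    (ha : (ρ a - 1) * (ρ a - 1) = 0) : ρ a⁻¹ = 2 - ρ a := by
  have h1 : ρ a⁻¹ * ρ a = 1 := by rw [← map_mul, inv_mul_cancel, map_one]
  have h2 : ρ a * (2 - ρ a) = 1 := by
    have : ρ a * (2 - ρ a) = 1 - (ρ a - 1) * (ρ a - 1) := by noncomm_ring
    rw [this, ha, sub_zero]
  calc ρ a⁻¹ = ρ a⁻¹ * (ρ a * (2 - ρ a)) := by rw [h2, mul_one]
    _ = 2 - ρ a := by rw [← mul_assoc, h1, one_mul]

/-- The span of an eigenvector `w` of `a * b` and of `b w` is invariant. -/
theorem span_invariant_of_eigenvector (ρ : Representation K H W) {a b : H}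
    (hab : Subgroup.closure {a, b} = ⊤)
    (ha : (ρ a - 1) * (ρ a - 1) = 0) (hb : (ρ b - 1) * (ρ b - 1) = 0)
    {w : W} {c : K} (hw : ρ (a * b) w = c • w) :
    ∀ g, Submodule.span K {w, ρ b w} ≤ (Submodule.span K {w, ρ b w}).comap (ρ g) := by
  set U := Submodule.span K {w, ρ b w} with hU
  have hwU : w ∈ U := Submodule.subset_span (by simp)
  have hbwU : ρ b w ∈ U := Submodule.subset_span (by simp)
  have ha' := rep_inv_eq_of_quadratic ρ ha
  have hb' := rep_inv_eq_of_quadratic ρ hb
  have hab' : ρ a (ρ b w) = c • w := by rw [← hw, map_mul]; rfl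
  -- `b` preserves `U`
  have hbU : ∀ u ∈ U, ρ b u ∈ U := by
    have : U ≤ U.comap (ρ b) := by
      refine Submodule.span_le.mpr ?_
      rintro x (rfl | rfl)
      · exact hbwU
      · have h := congrArg (fun f => f w) hb
        simp only [Module.End.mul_apply, LinearMap.sub_apply, Module.End.one_apply, map_sub,
          LinearMap.zero_apply] at h
        have : ρ b (ρ b w) = ρ b w + ρ b w - w := by
          rw [← sub_eq_zero, ← h]; abel
        show ρ b (ρ b w) ∈ U
        rw [this]
        exact U.sub_mem (U.add_mem hbwU hbwU) hwU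
    exact fun u hu => this hu
  have haU : ∀ u ∈ U, ρ a u ∈ U := by
    have : U ≤ U.comap (ρ a) := by
      refine Submodule.span_le.mpr ?_
      rintro x (rfl | rfl)
      · show ρ a x ∈ U
        by_cases hc : c = 0
        · have h0 : ρ (a * b) x = 0 := by rw [hw, hc, zero_smul]
          have : x = 0 := by
            have h1 : ρ (a * b)⁻¹ (ρ (a * b) x) = x := by
              rw [← Module.End.mul_apply, ← map_mul, inv_mul_cancel, map_one,
                Module.End.one_apply]
            rw [← h1, h0, map_zero]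
          rw [this, map_zero]; exact U.zero_mem
        · have h1 : ρ b x = c • ρ a⁻¹ x := by
            rw [← map_smul, ← hab', ← Module.End.mul_apply, ← map_mul, inv_mul_cancel, map_one,
              Module.End.one_apply]
          rw [ha'] at h1
          have h2 : ρ a x = x + x - c⁻¹ • ρ b x := by
            rw [h1, smul_smul, inv_mul_cancel₀ hc, one_smul, LinearMap.sub_apply]
            simp [two_smul]
          rw [h2]
          exact U.sub_mem (U.add_mem hwU hwU) (U.smul_mem _ hbwU)
      · show ρ a (ρ b w) ∈ U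
        rw [hab']; exact U.smul_mem _ hwU
    exact fun u hu => this hu
  refine invariant_of_generators ρ hab U ?_ ?_
  · rintro g (rfl | rfl)
    · exact haU
    · exact hbU
  · rintro g (rfl | rfl) u hu
    · rw [ha', LinearMap.sub_apply]
      exact U.sub_mem (by simpa [two_smul] using U.add_mem hu hu) (haU u hu)
    · rw [hb', LinearMap.sub_apply]
      exact U.sub_mem (by simpa [two_smul] using U.add_mem hu hu) (hbU u hu)

theorem finrank_span_pair_le (x y : W) : finrank K (Submodule.span K {x, y}) ≤ 2 := by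
  classical
  have := finrank_span_finset_le_card (R := K) ({x, y} : Finset W)
  rw [Set.finrank, Finset.coe_pair] at this
  exact this.trans Finset.card_le_two

/-- In a basis of a two-dimensional space a group generated by quadratic elements is
represented inside `SL(2, K)`. -/
theorem exists_sl_two_of_basis (ρ : Representation K H W) {s : Set H}
    (hs : Subgroup.closure s = ⊤) (hq : ∀ a ∈ s, (ρ a - 1) * (ρ a - 1) = 0)
    (B : Basis (Fin 2) K W) :
    ∃ φ : H →* Matrix.SpecialLinearGroup (Fin 2) K,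
      ∀ h, (φ h : Matrix (Fin 2) (Fin 2) K) = LinearMap.toMatrix B B (ρ h) := by
  let ψ : H →* Matrix (Fin 2) (Fin 2) K :=
    ((LinearMap.toMatrixAlgEquiv B : (W →ₗ[K] W) ≃ₐ[K] _) : (W →ₗ[K] W) →* _).comp ρ
  have hψ : ∀ h, ψ h = LinearMap.toMatrix B B (ρ h) := fun h => rfl
  have hdet : ∀ h, (ψ h).det = 1 := by
    have : (Matrix.detMonoidHom.comp ψ) = 1 := by
      refine MonoidHom.eq_of_eqOn_dense hs fun a ha => ?_
      show (ψ a).det = 1
      apply det_eq_one_of_sq_sub_one
      have h := congrArg (LinearMap.toMatrixAlgEquiv B) (hq a ha)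
      rw [map_mul, map_sub, map_one, map_zero] at h
      exact h
    intro h
    exact DFunLike.congr_fun this h
  refine ⟨⟨⟨fun h => ⟨ψ h, hdet h⟩, ?_⟩, ?_⟩, fun h => rfl⟩
  · exact Subtype.ext (map_one ψ)
  · intro x y; exact Subtype.ext (map_mul ψ x y)

theorem rep_eq_one_of_finrank_le_one [FiniteDimensional K W] (hW : finrank K W ≤ 1)
    {f : W →ₗ[K] W} (hf : (f - 1) * (f - 1) = 0) : f = 1 := by
  obtain ⟨v, hv⟩ := finrank_le_one_iff.mp hW
  obtain ⟨c, hc⟩ := hv ((f - 1) v)
  have h0 : (f - 1) ((f - 1) v) = 0 := by rw [← Module.End.mul_apply, hf]; rfl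
  have h1 : (f - 1) v = 0 := by
    by_cases hc0 : c = 0
    · rw [← hc, hc0, zero_smul]
    · rw [← hc, map_smul] at h0
      exact (smul_eq_zero.mp h0).resolve_left hc0
  rw [← sub_eq_zero]
  ext w
  obtain ⟨d, rfl⟩ := hv w
  rw [map_smul, h1, smul_zero]; rfl

theorem exists_eigenvector_of_splits [FiniteDimensional K W] [Nontrivial W] (f : W →ₗ[K] W)
    {q : Polynomial K} (hq0 : q ≠ 0) (hq : q.Splits) (hf : Polynomial.aeval f q = 0) :
    ∃ (w : W) (c : K), w ≠ 0 ∧ f w = c • w := by
  have hint : IsIntegral K f := Algebra.IsIntegral.isIntegral f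
  have h1 : (minpoly K f).Splits := hq.of_dvd hq0 (minpoly.dvd K f hf)
  obtain ⟨c, hc⟩ := h1.exists_eval_eq_zero (minpoly.degree_pos hint).ne'
  obtain ⟨w, hw⟩ := (Module.End.hasEigenvalue_of_isRoot hc).exists_hasEigenvector
  exact ⟨w, c, hw.2, hw.apply_eq_smul⟩

/-- The main theorem on quadratic pairs. -/
theorem exists_sl_two_of_quadratic_pair {p : ℕ} [Fact p.Prime] [CharP K p] {a b : H}
    (hab : Subgroup.closure {a, b} = ⊤) {q : Polynomial K} (hq0 : q ≠ 0) (hq : q.Splits) :
    ∀ (n : ℕ) (W : Type _) [AddCommGroup W] [Module K W] [FiniteDimensional K W]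
      (ρ : Representation K H W), finrank K W = n →
      (ρ a - 1) * (ρ a - 1) = 0 → (ρ b - 1) * (ρ b - 1) = 0 →
      Polynomial.aeval (ρ (a * b)) q = 0 → (∃ h : H, ∀ k : ℕ, ρ h ^ p ^ k ≠ 1) →
      ∃ φ : H →* Matrix.SpecialLinearGroup (Fin 2) K, ¬ IsPGroup p φ.range ∧
        ((φ a : Matrix (Fin 2) (Fin 2) K) - 1) * ((φ a : Matrix (Fin 2) (Fin 2) K) - 1) = 0 ∧
        ((φ b : Matrix (Fin 2) (Fin 2) K) - 1) * ((φ b : Matrix (Fin 2) (Fin 2) K) - 1) = 0 ∧
        ∀ h, ρ h = 1 → φ h = 1 := by
  intro n
  induction n using Nat.strong_induction_on with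
  | _ n ih =>
  intro W _ _ _ ρ hn ha hb hqab hnp
  obtain ⟨h₀, hh₀⟩ := hnp
  have hnt : Nontrivial W := by
    by_contra hW
    rw [not_nontrivial_iff_subsingleton] at hW
    exact hh₀ 0 (by ext; exact Subsingleton.elim _ _)
  obtain ⟨w, c, hw0, hw⟩ := exists_eigenvector_of_splits (ρ (a * b)) hq0 hq hqab
  set U := Submodule.span K {w, ρ b w} with hU
  have hUinv := span_invariant_of_eigenvector ρ hab ha hb hw
  rw [← hU] at hUinv
  let ρU := ρ.subrepresentation U hUinv
  let ρQ := ρ.quotient U hUinv
  have hρU : ∀ g (u : U), (ρU g u : W) = ρ g u := fun g u => rfl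
  have hρQ : ∀ g (x : W), ρQ g (U.mkQ x) = U.mkQ (ρ g x) := fun g x => rfl
  have hUq : ∀ g, (ρ g - 1) * (ρ g - 1) = 0 → (ρU g - 1) * (ρU g - 1) = 0 := by
    intro g hg
    ext u
    have h := congrArg (fun f => f (u : W)) hg
    simpa [hρU] using h
  have hQq : ∀ g, (ρ g - 1) * (ρ g - 1) = 0 → (ρQ g - 1) * (ρQ g - 1) = 0 := by
    intro g hg
    refine LinearMap.ext fun x => ?_
    obtain ⟨x, rfl⟩ := U.mkQ_surjective x
    have h := congrArg (fun f => U.mkQ (f x)) hg
    simp only [Module.End.mul_apply, LinearMap.sub_apply, Module.End.one_apply, map_sub,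
      LinearMap.zero_apply, map_zero] at h ⊢
    simpa only [hρQ] using h
  by_cases hcase : ∃ h : H, ∀ k : ℕ, ρU h ^ p ^ k ≠ 1
  · obtain ⟨h₁, hh₁⟩ := hcase
    have h2 : finrank K U = 2 := by
      have hle : finrank K U ≤ 2 := finrank_span_pair_le _ _
      by_contra hne
      have hle1 : finrank K U ≤ 1 := by omega
      have : ρU = 1 := by
        refine MonoidHom.eq_of_eqOn_dense hab ?_
        rintro g (rfl | rfl)
        · exact rep_eq_one_of_finrank_le_one hle1 (hUq _ ha)
        · exact rep_eq_one_of_finrank_le_one hle1 (hUq _ hb)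
      exact hh₁ 0 (by rw [this]; simp)
    let B : Basis (Fin 2) K U := Module.finBasisOfFinrankEq K U h2
    obtain ⟨φ, hφ⟩ := exists_sl_two_of_basis ρU hab (by
      rintro g (rfl | rfl)
      · exact hUq _ ha
      · exact hUq _ hb) B
    have hquad : ∀ g, (ρU g - 1) * (ρU g - 1) = 0 →
        ((φ g : Matrix (Fin 2) (Fin 2) K) - 1) * ((φ g : Matrix (Fin 2) (Fin 2) K) - 1) = 0 := by
      intro g hg
      have h := congrArg (LinearMap.toMatrixAlgEquiv B) hg
      rw [map_mul, map_sub, map_one, map_zero] at h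
      rw [hφ]; exact h
    refine ⟨φ, fun hP => ?_, hquad _ (hUq _ ha), hquad _ (hUq _ hb), fun h hh => ?_⟩
    · obtain ⟨k, hk⟩ := hP ⟨φ h₁, h₁, rfl⟩
      apply hh₁ k
      have hk' : φ (h₁ ^ p ^ k) = 1 := by rw [map_pow]; exact congrArg Subtype.val hk
      have := hφ (h₁ ^ p ^ k)
      rw [hk', Matrix.SpecialLinearGroup.coe_one] at this
      rw [← map_pow]
      apply (LinearMap.toMatrix B B).injective
      rw [← this, LinearMap.toMatrix_one]
    · ext1
      have : ρU h = 1 := by ext u; simp [hρU, hh]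
      rw [hφ, this, LinearMap.toMatrix_one]; rfl
  · push Not at hcase
    have hUne : U ≠ ⊥ := by
      intro h
      have : w ∈ U := Submodule.subset_span (by simp)
      rw [h] at this
      exact hw0 this
    have hlt : finrank K (W ⧸ U) < n := by
      have h1 := U.finrank_quotient_add_finrank
      have h2 : finrank K U ≠ 0 := fun h => hUne (Submodule.finrank_eq_zero.mp h)
      omega
    obtain ⟨φ, h1, h2, h3, h4⟩ := ih _ hlt (W ⧸ U) ρQ rfl (hQq _ ha) (hQq _ hb) (by
      refine LinearMap.ext fun x => ?_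
      obtain ⟨x, rfl⟩ := U.mkQ_surjective x
      have : ∀ r : Polynomial K, Polynomial.aeval (ρQ (a * b)) r (U.mkQ x) =
          U.mkQ (Polynomial.aeval (ρ (a * b)) r x) := by
        intro r
        induction r using Polynomial.induction_on' with
        | add r s hr hs => simp only [map_add, LinearMap.add_apply, hr, hs]
        | monomial m d =>
          simp only [Polynomial.aeval_monomial, Module.End.mul_apply, ← map_pow,
            Module.algebraMap_end_apply, hρQ, map_smul]
      rw [this, hqab]; simp) (by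
      refine ⟨h₀, fun k hk => ?_⟩
      obtain ⟨l, hl⟩ := hcase h₀
      apply hh₀ (k + l + 1)
      have e1 : ρQ (h₀ ^ p ^ (k + l)) = 1 := by
        rw [map_pow, pow_add, pow_mul, hk, one_pow]
      have e2 : ρU (h₀ ^ p ^ (k + l)) = 1 := by
        rw [map_pow, add_comm, pow_add, pow_mul, hl, one_pow]
      rw [pow_succ, pow_mul, ← map_pow]
      apply pow_char_eq_one_of_sq_sub_one
      · rw [← map_natCast (algebraMap K (W →ₗ[K] W)), CharP.cast_eq_zero, map_zero]
      · ext x
        have hx : (ρ (h₀ ^ p ^ (k + l)) - 1) x ∈ U := by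
          rw [← Submodule.ker_mkQ U, LinearMap.mem_ker, LinearMap.sub_apply, map_sub, ← hρQ, e1]
          simp
        have := hρU (h₀ ^ p ^ (k + l)) ⟨_, hx⟩
        rw [e2] at this
        rw [Module.End.mul_apply, LinearMap.sub_apply (ρ _) 1 ((ρ _ - 1) x), ← this]
        simp)
    refine ⟨φ, h1, h2, h3, fun h hh => h4 h ?_⟩
    refine LinearMap.ext fun x => ?_
    obtain ⟨x, rfl⟩ := U.mkQ_surjective x
    rw [hρQ, hh]; rfl

end Linear

end H12
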