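import Mathlib
import Cfsg.Agent.H12.QuadLinear
import Cfsg.Agent.H7.SL

/-!
Elementary facts on `2 × 2` matrices of determinant one: commuting matrices, unipotent pairs,
normal form of a pair of unipotent matrices.
-/

set_option autoImplicit false

namespace H12

open Matrix MatrixGroups

section Mat

variable {K : Type*} [Field K]

/-- A matrix is scalar. -/
def IsScal (z : Matrix (Fin 2) (Fin 2) K) : Prop := z 0 1 = 0 ∧ z 1 0 = 0 ∧ z 0 0 = z 1 1

theorem IsScal.commute {z : Matrix (Fin 2) (Fin 2) K} (hz : IsScal z)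
    (y : Matrix (Fin 2) (Fin 2) K) : z * y = y * z := by
  obtain ⟨h1, h2, h3⟩ := hz
  ext i j
  fin_cases i <;> fin_cases j <;>
    simp only [Matrix.mul_apply, Fin.sum_univ_two, Fin.zero_eta, Fin.mk_one, Fin.isValue, h1, h2,
      h3] <;> ring

theorem exists_eq_of_commute {z y : Matrix (Fin 2) (Fin 2) K} (hz : ¬ IsScal z)
    (h : y * z = z * y) : ∃ α β : K, y = α • (1 : Matrix (Fin 2) (Fin 2) K) + β • z := by
  have h00 := congrFun (congrFun h 0) 0
  have h01 := congrFun (congrFun h 0) 1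
  have h10 := congrFun (congrFun h 1) 0
  simp only [Matrix.mul_apply, Fin.sum_univ_two] at h00 h01 h10
  have key : ∃ β : K, y 0 1 = β * z 0 1 ∧ y 1 0 = β * z 1 0 ∧
      y 0 0 - y 1 1 = β * (z 0 0 - z 1 1) := by
    by_cases hb : z 0 1 = 0
    · by_cases hc : z 1 0 = 0
      · have had : z 0 0 - z 1 1 ≠ 0 := fun e => hz ⟨hb, hc, sub_eq_zero.mp e⟩
        refine ⟨(y 0 0 - y 1 1) / (z 0 0 - z 1 1), ?_, ?_, ?_⟩
        · rw [hb, mul_zero]
          apply mul_right_cancel₀ had
          rw [hb] at h01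
          linear_combination -h01
        · rw [hc, mul_zero]
          apply mul_right_cancel₀ had
          rw [hc] at h10
          linear_combination h10
        · field_simp
      · refine ⟨y 1 0 / z 1 0, ?_, ?_, ?_⟩
        · field_simp; linear_combination h00
        · field_simp
        · field_simp; linear_combination -h10
    · refine ⟨y 0 1 / z 0 1, ?_, ?_, ?_⟩
      · field_simp
      · field_simp; linear_combination -h00
      · field_simp; linear_combination h01
  obtain ⟨β, h1, h2, h3⟩ := key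
  refine ⟨y 0 0 - β * z 0 0, β, ?_⟩
  ext i j
  fin_cases i <;> fin_cases j <;> simp [h1, h2]
  linear_combination -h3

theorem commute_of_commute_nonscalar {z x y : Matrix (Fin 2) (Fin 2) K} (hz : ¬ IsScal z)
    (hx : x * z = z * x) (hy : y * z = z * y) : x * y = y * x := by
  obtain ⟨α, β, rfl⟩ := exists_eq_of_commute hz hx
  simp [add_mul, mul_add, hy]

theorem sq_eq_trace_smul (z : Matrix (Fin 2) (Fin 2) K) :
    z * z = z.trace • z - z.det • (1 : Matrix (Fin 2) (Fin 2) K) := by
  ext i j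
  fin_cases i <;> fin_cases j <;>
    simp [Matrix.mul_apply, Fin.sum_univ_two, Matrix.trace_fin_two, Matrix.det_fin_two] <;> ring

theorem isScal_of_sq_eq_one (h2 : (2 : K) ≠ 0) {z : SL(2, K)} (hz : z * z = 1) :
    IsScal (z : Matrix (Fin 2) (Fin 2) K) := by
  have h := sq_eq_trace_smul (z : Matrix (Fin 2) (Fin 2) K)
  rw [← Matrix.SpecialLinearGroup.coe_mul, hz, z.det_coe] at h
  have h00 := congrFun (congrFun h 0) 0
  have h01 := congrFun (congrFun h 0) 1
  have h10 := congrFun (congrFun h 1) 0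
  have h11 := congrFun (congrFun h 1) 1
  simp at h00 h01 h10 h11
  have ht : (z : Matrix (Fin 2) (Fin 2) K).trace ≠ 0 := by
    intro e; rw [e] at h00; apply h2; linear_combination h00
  refine ⟨h01.resolve_left ht, h10.resolve_left ht, ?_⟩
  apply mul_left_cancel₀ ht
  linear_combination h11 - h00

theorem sq_eq_one_of_isScal {z : SL(2, K)} (hz : IsScal (z : Matrix (Fin 2) (Fin 2) K)) :
    z * z = 1 := by
  obtain ⟨h1, h2, h3⟩ := hz
  have hd := z.det_coe
  rw [Matrix.det_fin_two, h1, h2, h3] at hd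
  ext i j
  fin_cases i <;> fin_cases j <;>
    simp [Matrix.mul_apply, Fin.sum_univ_two, h1, h2, h3] <;> linear_combination hd

/-- A scalar element of `SL(2, K)` is `1` or `-1`. -/
theorem eq_one_or_neg_one_of_isScal {z : SL(2, K)} (hz : IsScal (z : Matrix (Fin 2) (Fin 2) K)) :
    (z : Matrix (Fin 2) (Fin 2) K) = 1 ∨ (z : Matrix (Fin 2) (Fin 2) K) = -1 := by
  obtain ⟨h1, h2, h3⟩ := hz
  have hd := z.det_coe
  rw [Matrix.det_fin_two, h1, h2, h3] at hd
  have : ((z : Matrix (Fin 2) (Fin 2) K) 1 1 - 1) * ((z : Matrix (Fin 2) (Fin 2) K) 1 1 + 1) = 0 := by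
    linear_combination hd
  rcases mul_eq_zero.mp this with h | h
  · left
    have h' : (z : Matrix (Fin 2) (Fin 2) K) 1 1 = 1 := sub_eq_zero.mp h
    ext i j
    fin_cases i <;> fin_cases j <;> simp [h1, h2, h3, h']
  · right
    have h' : (z : Matrix (Fin 2) (Fin 2) K) 1 1 = -1 := eq_neg_of_add_eq_zero_left h
    ext i j
    fin_cases i <;> fin_cases j <;> simp [h1, h2, h3, h']

theorem natCast_char_matrix (p : ℕ) [CharP K p] : (p : Matrix (Fin 2) (Fin 2) K) = 0 := by
  rw [← map_natCast (algebraMap K (Matrix (Fin 2) (Fin 2) K)), CharP.cast_eq_zero, map_zero]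

/-- Unipotent (possibly trivial) elements of `SL(2, K)`. -/
def IsUnip (z : SL(2, K)) : Prop :=
  ((z : Matrix (Fin 2) (Fin 2) K) - 1) * ((z : Matrix (Fin 2) (Fin 2) K) - 1) = 0

theorem IsUnip.pow_char {p : ℕ} [CharP K p] {z : SL(2, K)} (hz : IsUnip z) : z ^ p = 1 := by
  apply Subtype.ext
  rw [Matrix.SpecialLinearGroup.coe_pow]
  exact pow_char_eq_one_of_sq_sub_one (natCast_char_matrix p) hz

theorem isUnip_iff_trace {z : SL(2, K)} :
    IsUnip z ↔ (z : Matrix (Fin 2) (Fin 2) K).trace = 2 := by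
  have h := sq_eq_trace_smul (z : Matrix (Fin 2) (Fin 2) K)
  rw [z.det_coe, one_smul] at h
  have e : ((z : Matrix (Fin 2) (Fin 2) K) - 1) * ((z : Matrix (Fin 2) (Fin 2) K) - 1) =
      ((z : Matrix (Fin 2) (Fin 2) K).trace - 2) • (z : Matrix (Fin 2) (Fin 2) K) := by
    rw [sub_mul, mul_sub, mul_sub, h, sub_smul, two_smul]
    simp only [mul_one, one_mul]
    abel
  unfold IsUnip
  rw [e, smul_eq_zero, sub_eq_zero]
  refine ⟨fun h => h.resolve_right fun h0 => ?_, Or.inl⟩
  have := z.det_coe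
  rw [h0] at this
  simp at this

theorem isUnip_of_pow_char_pow {p : ℕ} [Fact p.Prime] [CharP K p] {z : SL(2, K)} {k : ℕ}
    (hz : z ^ p ^ k = 1) : IsUnip z := by
  have h1 : ((z : Matrix (Fin 2) (Fin 2) K) - 1) ^ p ^ k = 0 := by
    rw [sub_pow_char_pow_of_commute _ _ (Commute.one_right _), one_pow,
      ← Matrix.SpecialLinearGroup.coe_pow, hz]
    simp
  have h2 : IsNilpotent ((z : Matrix (Fin 2) (Fin 2) K) - 1) := ⟨_, h1⟩
  have h3 := (Matrix.isNilpotent_trace_of_isNilpotent h2).eq_zero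
  rw [isUnip_iff_trace]
  rw [Matrix.trace_sub, Matrix.trace_one] at h3
  simpa [sub_eq_zero] using h3

theorem pow_two_mul_char_of_trace_sq {p : ℕ} [CharP K p] {z : SL(2, K)}
    (h : (z : Matrix (Fin 2) (Fin 2) K).trace ^ 2 = 4) : (z ^ 2) ^ p = 1 := by
  apply IsUnip.pow_char
  rw [isUnip_iff_trace, sq, Matrix.SpecialLinearGroup.coe_mul, sq_eq_trace_smul, z.det_coe]
  simp only [Matrix.trace_sub, Matrix.trace_smul, one_smul, Matrix.trace_one, smul_eq_mul]
  simp only [Fintype.card_fin, Nat.cast_ofNat]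
  linear_combination h

theorem isScal_of_trace_sq {p : ℕ} [CharP K p] (h2 : (2 : K) ≠ 0) {z : SL(2, K)}
    (hz : (orderOf z).Coprime p) (h : (z : Matrix (Fin 2) (Fin 2) K).trace ^ 2 = 4) :
    IsScal (z : Matrix (Fin 2) (Fin 2) K) := by
  apply isScal_of_sq_eq_one h2
  have h1 := pow_two_mul_char_of_trace_sq (p := p) h
  rw [← pow_mul] at h1
  have h3 : orderOf z ∣ 2 := hz.dvd_of_dvd_mul_right (orderOf_dvd_of_pow_eq_one h1)
  rw [← sq]
  exact orderOf_dvd_iff_pow_eq_one.mp h3

theorem trace_conj (g z : SL(2, K)) :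
    ((g * z * g⁻¹ : SL(2, K)) : Matrix (Fin 2) (Fin 2) K).trace =
      (z : Matrix (Fin 2) (Fin 2) K).trace := by
  rw [Matrix.SpecialLinearGroup.coe_mul, Matrix.trace_mul_comm, ← Matrix.SpecialLinearGroup.coe_mul,
    inv_mul_cancel_left]

theorem eq_or_mul_eq_one_of_commute (h2 : (2 : K) ≠ 0) {z y : SL(2, K)}
    (hz : ¬ IsScal (z : Matrix (Fin 2) (Fin 2) K)) (hc : y * z = z * y)
    (ht : (y : Matrix (Fin 2) (Fin 2) K).trace = (z : Matrix (Fin 2) (Fin 2) K).trace)
    (h4 : (z : Matrix (Fin 2) (Fin 2) K).trace ^ 2 ≠ 4) : y = z ∨ y = z⁻¹ := by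
  obtain ⟨α, β, h⟩ := exists_eq_of_commute hz (congrArg Subtype.val hc)
  have hy := y.det_coe
  have hzd := z.det_coe
  rw [h] at hy ht
  simp only [Matrix.det_fin_two, Matrix.trace_fin_two, Matrix.add_apply, Matrix.smul_apply,
    Matrix.one_apply, smul_eq_mul] at hy ht hzd h4
  simp at hy ht
  set a := (z : Matrix (Fin 2) (Fin 2) K) 0 0
  set b := (z : Matrix (Fin 2) (Fin 2) K) 0 1
  set c := (z : Matrix (Fin 2) (Fin 2) K) 1 0
  set d := (z : Matrix (Fin 2) (Fin 2) K) 1 1
  have key : (1 - β) * (1 + β) * ((a + d) ^ 2 - 4) = 0 := by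
    linear_combination 4 * hy - 4 * β ^ 2 * hzd -
      (2 * α + (a + d) * (1 - β) + 2 * β * (a + d)) * ht
  rcases mul_eq_zero.mp ((mul_eq_zero.mp key).resolve_right (sub_ne_zero.mpr h4)) with h1 | h1
  · left
    have hβ : β = 1 := by linear_combination -h1
    have hα : α = 0 := by
      apply mul_left_cancel₀ h2
      rw [hβ] at ht
      linear_combination ht
    apply Subtype.ext
    rw [h, hα, hβ]; simp
  · right
    have hβ : β = -1 := by linear_combination h1
    have hα : α = a + d := by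
      apply mul_left_cancel₀ h2
      rw [hβ] at ht
      linear_combination ht
    rw [eq_inv_iff_mul_eq_one]
    apply Subtype.ext
    rw [Matrix.SpecialLinearGroup.coe_mul, h, hα, hβ, add_mul, smul_mul_assoc, smul_mul_assoc,
      sq_eq_trace_smul, z.det_coe, Matrix.trace_fin_two]
    simp [a, d]

/-- Two unipotent elements whose product has trace two commute. -/
theorem commute_of_isUnip {u v : SL(2, K)} (hu : IsUnip u) (hv : IsUnip v)
    (huv : IsUnip (u * v)) : u * v = v * u := by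
  rw [isUnip_iff_trace] at hu hv huv
  have hud := u.det_coe
  have hvd := v.det_coe
  apply Subtype.ext
  simp only [Matrix.SpecialLinearGroup.coe_mul, Matrix.trace_fin_two, Matrix.det_fin_two,
    Matrix.mul_apply, Fin.sum_univ_two] at hu hv huv hud hvd ⊢
  set a := (u : Matrix (Fin 2) (Fin 2) K) 0 0 - 1 with ha
  set d := (v : Matrix (Fin 2) (Fin 2) K) 0 0 - 1 with hd
  set b := (u : Matrix (Fin 2) (Fin 2) K) 0 1 with hb
  set c := (u : Matrix (Fin 2) (Fin 2) K) 1 0 with hc
  set e := (v : Matrix (Fin 2) (Fin 2) K) 0 1 with he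
  set f := (v : Matrix (Fin 2) (Fin 2) K) 1 0 with hf
  have u00 : (u : Matrix (Fin 2) (Fin 2) K) 0 0 = 1 + a := by rw [ha]; ring
  have u11 : (u : Matrix (Fin 2) (Fin 2) K) 1 1 = 1 - a := by linear_combination hu - u00
  have v00 : (v : Matrix (Fin 2) (Fin 2) K) 0 0 = 1 + d := by rw [hd]; ring
  have v11 : (v : Matrix (Fin 2) (Fin 2) K) 1 1 = 1 - d := by linear_combination hv - v00
  rw [u00, u11] at hud huv
  rw [v00, v11] at hvd huv
  have e1 : a ^ 2 + b * c = 0 := by linear_combination -hud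
  have e2 : d ^ 2 + e * f = 0 := by linear_combination -hvd
  have e3 : 2 * a * d + b * f + c * e = 0 := by linear_combination huv
  have f1 : a * d + b * f = 0 := by
    apply pow_eq_zero_iff (two_ne_zero) |>.mp
    linear_combination b * f * e3 + d ^ 2 * e1 - b * c * e2
  have f2 : a * e - b * d = 0 := by
    apply pow_eq_zero_iff (two_ne_zero) |>.mp
    linear_combination (-b * e) * e3 + e ^ 2 * e1 + b ^ 2 * e2
  have f3 : c * d - a * f = 0 := by
    apply pow_eq_zero_iff (two_ne_zero) |>.mp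
    linear_combination (-c * f) * e3 + f ^ 2 * e1 + c ^ 2 * e2
  ext i j
  fin_cases i <;> fin_cases j <;>
    simp only [Matrix.mul_apply, Fin.sum_univ_two, Fin.zero_eta, Fin.mk_one, Fin.isValue, u00,
      u11, v00, v11, ← hb, ← hc, ← he, ← hf]
  · linear_combination 2 * f1 - e3
  · linear_combination 2 * f2
  · linear_combination 2 * f3
  · linear_combination e3 - 2 * f1

/-- Conjugation of `SL(2, K)` by an invertible matrix. -/
def conjSL (g : GL (Fin 2) K) : SL(2, K) →* SL(2, K) where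
  toFun x := ⟨(g : Matrix (Fin 2) (Fin 2) K) * x * ((g⁻¹ : GL (Fin 2) K) : Matrix (Fin 2) (Fin 2) K), by
    rw [Matrix.det_mul, Matrix.det_mul, x.det_coe, mul_one, ← Matrix.det_mul, ← Units.val_mul]
    simp⟩
  map_one' := by
    apply Subtype.ext
    simp
  map_mul' x y := by
    apply Subtype.ext
    show (g : Matrix (Fin 2) (Fin 2) K) * ((x : Matrix (Fin 2) (Fin 2) K) * y) * _ =
      ((g : Matrix (Fin 2) (Fin 2) K) * x * _) * ((g : Matrix (Fin 2) (Fin 2) K) * y * _)
    simp only [Matrix.mul_assoc]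
    rw [← Matrix.mul_assoc ((g⁻¹ : GL (Fin 2) K) : Matrix (Fin 2) (Fin 2) K), ← Units.val_mul]
    simp

theorem coe_conjSL (g : GL (Fin 2) K) (x : SL(2, K)) :
    (conjSL g x : Matrix (Fin 2) (Fin 2) K) =
      (g : Matrix (Fin 2) (Fin 2) K) * x * ((g⁻¹ : GL (Fin 2) K) : Matrix (Fin 2) (Fin 2) K) := rfl

theorem conjSL_inv_conjSL (g : GL (Fin 2) K) (x : SL(2, K)) : conjSL g⁻¹ (conjSL g x) = x := by
  apply Subtype.ext
  simp only [coe_conjSL, inv_inv, Matrix.mul_assoc]
  rw [← Units.val_mul, ← Matrix.mul_assoc, ← Units.val_mul]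
  simp

theorem conjSL_injective (g : GL (Fin 2) K) : Function.Injective (conjSL g) :=
  Function.LeftInverse.injective (conjSL_inv_conjSL g)

theorem conjSL_conjSL_inv (g : GL (Fin 2) K) (x : SL(2, K)) : conjSL g (conjSL g⁻¹ x) = x := by
  simpa using conjSL_inv_conjSL g⁻¹ x

theorem conjSL_eq_of_mul_eq {g : GL (Fin 2) K} {x y : SL(2, K)}
    (h : (y : Matrix (Fin 2) (Fin 2) K) * g = g * x) : conjSL g x = y := by
  apply Subtype.ext
  rw [coe_conjSL, ← h, Matrix.mul_assoc, ← Units.val_mul]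
  simp

theorem trace_conjSL (g : GL (Fin 2) K) (x : SL(2, K)) :
    (conjSL g x : Matrix (Fin 2) (Fin 2) K).trace = (x : Matrix (Fin 2) (Fin 2) K).trace := by
  rw [coe_conjSL, Matrix.trace_mul_comm, ← Matrix.mul_assoc, ← Units.val_mul]
  simp

/-- The upper unitriangular matrix with entry `c`. -/
def upT (c : K) : SL(2, K) := ⟨!![1, c; 0, 1], by simp [Matrix.det_fin_two]⟩

/-- The lower unitriangular matrix with entry `c`. -/
def loT (c : K) : SL(2, K) := ⟨!![1, 0; c, 1], by simp [Matrix.det_fin_two]⟩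

@[simp] theorem coe_upT (c : K) : (upT c : Matrix (Fin 2) (Fin 2) K) = !![1, c; 0, 1] := rfl

@[simp] theorem coe_loT (c : K) : (loT c : Matrix (Fin 2) (Fin 2) K) = !![1, 0; c, 1] := rfl

theorem upT_add (c d : K) : upT (c + d) = upT c * upT d := by
  apply Subtype.ext; simp [add_comm]

theorem loT_add (c d : K) : loT (c + d) = loT c * loT d := by
  apply Subtype.ext; simp

theorem upT_zero : upT (0 : K) = 1 := by
  apply Subtype.ext; simp [Matrix.one_fin_two]

theorem loT_zero : loT (0 : K) = 1 := by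
  apply Subtype.ext; simp [Matrix.one_fin_two]

theorem upT_pow (c : K) (n : ℕ) : upT c ^ n = upT (n * c) := by
  induction n with
  | zero => simp [upT_zero]
  | succ n ih => rw [pow_succ, ih, ← upT_add]; congr 1; push_cast; ring

theorem loT_pow (c : K) (n : ℕ) : loT c ^ n = loT (n * c) := by
  induction n with
  | zero => simp [loT_zero]
  | succ n ih => rw [pow_succ, ih, ← loT_add]; congr 1; push_cast; ring

theorem upT_inv (c : K) : (upT c)⁻¹ = upT (-c) := by
  rw [inv_eq_iff_mul_eq_one, ← upT_add, add_neg_cancel, upT_zero]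

theorem loT_inv (c : K) : (loT c)⁻¹ = loT (-c) := by
  rw [inv_eq_iff_mul_eq_one, ← loT_add, add_neg_cancel, loT_zero]

/-- Normal form of a pair of unipotent elements whose product is not unipotent. -/
theorem exists_conjSL_of_isUnip {u v : SL(2, K)} (hu : IsUnip u) (hv : IsUnip v)
    (huv : ¬ IsUnip (u * v)) :
    ∃ (g : GL (Fin 2) K) (s : K), s ≠ 0 ∧ conjSL g (upT 1) = u ∧ conjSL g (loT s) = v := by
  set N := (u : Matrix (Fin 2) (Fin 2) K) - 1 with hN
  set M := (v : Matrix (Fin 2) (Fin 2) K) - 1 with hM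
  have hN2 : N * N = 0 := hu
  have hM2 : M * M = 0 := hv
  have hu' : (u : Matrix (Fin 2) (Fin 2) K) = 1 + N := by rw [hN]; abel
  have hv' : (v : Matrix (Fin 2) (Fin 2) K) = 1 + M := by rw [hM]; abel
  have hNt : N.trace = 0 := by
    rw [hN, Matrix.trace_sub, isUnip_iff_trace.mp hu]; simp
  have hMt : M.trace = 0 := by
    rw [hM, Matrix.trace_sub, isUnip_iff_trace.mp hv]; simp
  set s := (N * M).trace with hs
  have hs0 : s ≠ 0 := by
    intro h0
    apply huv
    rw [isUnip_iff_trace, Matrix.SpecialLinearGroup.coe_mul, hu', hv', add_mul, mul_add, mul_add]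
    simp only [Matrix.trace_add, one_mul, mul_one, hNt, hMt, ← hs, h0]
    simp
  have hMd : M.det = 0 := by
    have := congrArg Matrix.det hM2
    rw [Matrix.det_mul, Matrix.det_zero] at this
    exact mul_self_eq_zero.mp this
  have hMNM : M * N * M = s • M := by
    rw [Matrix.det_fin_two] at hMd
    ext i j
    fin_cases i <;> fin_cases j <;>
      simp [hs, Matrix.mul_apply, Fin.sum_univ_two, Matrix.trace_fin_two]
    · linear_combination (- N 1 1) * hMd
    · linear_combination (N 0 1) * hMd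
    · linear_combination (N 1 0) * hMd
    · linear_combination (- N 0 0) * hMd
  have hM0 : M ≠ 0 := by
    intro h0; apply hs0; rw [hs, h0]; simp
  obtain ⟨w, hw⟩ : ∃ w, M *ᵥ w ≠ 0 := by
    by_contra hcon
    push Not at hcon
    exact hM0 (Matrix.ext_of_mulVec_single fun j => by rw [hcon, Matrix.zero_mulVec])
  set e := M *ᵥ w with he
  have he1 : M *ᵥ e = 0 := by rw [he, Matrix.mulVec_mulVec, hM2]; simp
  have he2 : M *ᵥ (N *ᵥ e) = s • e := by
    rw [he, Matrix.mulVec_mulVec, Matrix.mulVec_mulVec, hMNM, Matrix.smul_mulVec]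
  have he3 : N *ᵥ (N *ᵥ e) = 0 := by rw [Matrix.mulVec_mulVec, hN2]; simp
  let g : Matrix (Fin 2) (Fin 2) K := Matrix.of fun i j => ![N *ᵥ e, e] j i
  have hg : ∀ c : Fin 2 → K, g *ᵥ c = c 0 • (N *ᵥ e) + c 1 • e := by
    intro c
    ext i
    rw [Matrix.mulVec, dotProduct, Fin.sum_univ_two]
    simp only [g, Matrix.of_apply, Matrix.cons_val_zero, Matrix.cons_val_one, Pi.add_apply,
      Pi.smul_apply, smul_eq_mul, Matrix.cons_val_fin_one]
    ring
  have hdet : g.det ≠ 0 := by
    intro h0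
    obtain ⟨c, hc0, hc⟩ := Matrix.exists_mulVec_eq_zero_iff.mpr h0
    rw [hg] at hc
    have h1 := congrArg (fun x => M *ᵥ x) hc
    simp only [Matrix.mulVec_add, Matrix.mulVec_smul, he1, he2, smul_zero, add_zero,
      Matrix.mulVec_zero, smul_smul] at h1
    have hc0' : c 0 = 0 := by
      rcases smul_eq_zero.mp h1 with h | h
      · exact (mul_eq_zero.mp h).resolve_right hs0
      · exact absurd h hw
    rw [hc0', zero_smul, zero_add] at hc
    have hc1 : c 1 = 0 := (smul_eq_zero.mp hc).resolve_right hw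
    apply hc0
    ext i; fin_cases i <;> simp [hc0', hc1]
  refine ⟨Matrix.GeneralLinearGroup.mkOfDetNeZero g hdet, s, hs0, conjSL_eq_of_mul_eq ?_,
    conjSL_eq_of_mul_eq ?_⟩
  · apply Matrix.ext_of_mulVec_single
    intro j
    show ((u : Matrix (Fin 2) (Fin 2) K) * g) *ᵥ _ = (g * _) *ᵥ _
    rw [← Matrix.mulVec_mulVec, ← Matrix.mulVec_mulVec, hg, hg, hu']
    rw [Matrix.add_mulVec, Matrix.one_mulVec, Matrix.mulVec_add, Matrix.mulVec_smul,
      Matrix.mulVec_smul, he3]
    fin_cases j <;> simp [add_comm]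
  · apply Matrix.ext_of_mulVec_single
    intro j
    show ((v : Matrix (Fin 2) (Fin 2) K) * g) *ᵥ _ = (g * _) *ᵥ _
    rw [← Matrix.mulVec_mulVec, ← Matrix.mulVec_mulVec, hg, hg, hv']
    rw [Matrix.add_mulVec, Matrix.one_mulVec, Matrix.mulVec_add, Matrix.mulVec_smul,
      Matrix.mulVec_smul, he1, he2]
    fin_cases j <;> simp

theorem closure_upT_loT_zmod {p : ℕ} [Fact p.Prime] {r s : ZMod p} (hr : r ≠ 0) (hs : s ≠ 0) :
    Subgroup.closure {upT r, loT s} = ⊤ := by
  apply H7.sl_eq_top_of_transvection_mem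
  intro i j hij c
  have hu : upT c ∈ Subgroup.closure {upT r, loT s} := by
    have : upT c = upT r ^ (c / r).val := by
      rw [upT_pow, ZMod.natCast_zmod_val, div_mul_cancel₀ _ hr]
    rw [this]
    exact Subgroup.pow_mem _ (Subgroup.subset_closure (by simp)) _
  have hl : loT c ∈ Subgroup.closure {upT r, loT s} := by
    have : loT c = loT s ^ (c / s).val := by
      rw [loT_pow, ZMod.natCast_zmod_val, div_mul_cancel₀ _ hs]
    rw [this]
    exact Subgroup.pow_mem _ (Subgroup.subset_closure (by simp)) _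
  fin_cases i <;> fin_cases j
  · exact absurd rfl hij
  · convert hu using 1
    apply Subtype.ext
    rw [Matrix.SpecialLinearGroup.transvection_coe]
    ext a b; fin_cases a <;> fin_cases b <;> simp
  · convert hl using 1
    apply Subtype.ext
    rw [Matrix.SpecialLinearGroup.transvection_coe]
    ext a b; fin_cases a <;> fin_cases b <;> simp
  · exact absurd rfl hij

/-- The standard embedding of `SL(2, p)` in `SL(2, K)`, conjugated by `g`. -/
noncomputable def primeEmb (p : ℕ) [Fact p.Prime] [CharP K p] (g : GL (Fin 2) K) :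
    SL(2, ZMod p) →* SL(2, K) :=
  (conjSL g).comp (Matrix.SpecialLinearGroup.map (ZMod.castHom (dvd_refl p) K))

theorem primeEmb_injective (p : ℕ) [Fact p.Prime] [CharP K p] (g : GL (Fin 2) K) :
    Function.Injective (primeEmb p g) := by
  refine (conjSL_injective g).comp fun x y h => ?_
  ext i j
  apply (ZMod.castHom (dvd_refl p) K).injective
  exact congrFun (congrFun (congrArg Subtype.val h) i) j

theorem primeEmb_upT (p : ℕ) [Fact p.Prime] [CharP K p] (g : GL (Fin 2) K) (c : ZMod p) :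
    primeEmb p g (upT c) = conjSL g (upT (ZMod.castHom (dvd_refl p) K c)) := by
  show conjSL g _ = _
  congr 1
  ext i j
  fin_cases i <;> fin_cases j <;> simp [Matrix.SpecialLinearGroup.map_apply_coe]

theorem primeEmb_loT (p : ℕ) [Fact p.Prime] [CharP K p] (g : GL (Fin 2) K) (c : ZMod p) :
    primeEmb p g (loT c) = conjSL g (loT (ZMod.castHom (dvd_refl p) K c)) := by
  show conjSL g _ = _
  congr 1
  ext i j
  fin_cases i <;> fin_cases j <;> simp [Matrix.SpecialLinearGroup.map_apply_coe]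

theorem trace_upT_mul_loT (r s : K) :
    ((upT r * loT s : SL(2, K)) : Matrix (Fin 2) (Fin 2) K).trace = 2 + r * s := by
  simp [Matrix.trace_fin_two]; ring

/-- Two unipotent elements whose product has trace `2 + s` with `s` a nonzero element of the
prime field generate a conjugate of `SL(2, p)`. -/
theorem exists_primeEmb_of_isUnip {p : ℕ} [Fact p.Prime] [CharP K p] {u v : SL(2, K)}
    (hu : IsUnip u) (hv : IsUnip v) {s : ZMod p} (hs : s ≠ 0)
    (ht : ((u * v : SL(2, K)) : Matrix (Fin 2) (Fin 2) K).trace =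
      2 + ZMod.castHom (dvd_refl p) K s) :
    ∃ g : GL (Fin 2) K, primeEmb p g (upT 1) = u ∧ primeEmb p g (loT s) = v ∧
      (primeEmb p g).range = Subgroup.closure {u, v} := by
  have hs' : ZMod.castHom (dvd_refl p) K s ≠ 0 := by
    rwa [Ne, map_eq_zero_iff _ (ZMod.castHom (dvd_refl p) K).injective]
  obtain ⟨g, t, -, h1, h2⟩ := exists_conjSL_of_isUnip hu hv (by
    rw [isUnip_iff_trace, ht]; simpa using hs')
  have hts : t = ZMod.castHom (dvd_refl p) K s := by
    rw [← h1, ← h2, ← map_mul, trace_conjSL, trace_upT_mul_loT] at ht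
    linear_combination ht
  have e1 : primeEmb p g (upT 1) = u := by rw [primeEmb_upT, map_one, h1]
  have e2 : primeEmb p g (loT s) = v := by rw [primeEmb_loT, ← hts, h2]
  refine ⟨g, e1, e2, ?_⟩
  rw [MonoidHom.range_eq_map, ← closure_upT_loT_zmod one_ne_zero hs, MonoidHom.map_closure,
    Set.image_pair, e1, e2]

theorem nonempty_closure_equiv_of_isUnip {p : ℕ} [Fact p.Prime] [CharP K p] {u v : SL(2, K)}
    (hu : IsUnip u) (hv : IsUnip v) {s : ZMod p} (hs : s ≠ 0)
    (ht : ((u * v : SL(2, K)) : Matrix (Fin 2) (Fin 2) K).trace =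
      2 + ZMod.castHom (dvd_refl p) K s) :
    Nonempty (Subgroup.closure {u, v} ≃* SL(2, ZMod p)) := by
  obtain ⟨g, -, -, h⟩ := exists_primeEmb_of_isUnip hu hv hs ht
  exact ⟨(MulEquiv.subgroupCongr h.symm).trans
    (MonoidHom.ofInjective (primeEmb_injective p g)).symm⟩

/-- An element `x` with `x`, `x u`, `x v` unipotent, for a nondegenerate unipotent pair
`u`, `v`, is trivial. -/
theorem eq_one_of_isUnip_mul {u v x : SL(2, K)} (hu : IsUnip u) (hv : IsUnip v)
    (huv : ¬ IsUnip (u * v)) (hx : IsUnip x) (hxu : IsUnip (x * u)) (hxv : IsUnip (x * v)) :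
    x = 1 := by
  obtain ⟨g, s, hs, rfl, rfl⟩ := exists_conjSL_of_isUnip hu hv huv
  obtain ⟨y, rfl⟩ : ∃ y, conjSL g y = x := ⟨_, conjSL_conjSL_inv g x⟩
  rw [← map_mul, isUnip_iff_trace, trace_conjSL] at hxu hxv
  rw [isUnip_iff_trace, trace_conjSL] at hx
  have hd := y.det_coe
  rw [Matrix.det_fin_two] at hd
  simp [Matrix.trace_fin_two, Matrix.mul_apply, Fin.sum_univ_two] at hx hxu hxv
  have h10 : (y : Matrix (Fin 2) (Fin 2) K) 1 0 = 0 := by linear_combination hxu - hx
  have h01 : (y : Matrix (Fin 2) (Fin 2) K) 0 1 = 0 := by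
    apply mul_right_cancel₀ hs
    linear_combination hxv - hx
  have h00 : (y : Matrix (Fin 2) (Fin 2) K) 0 0 = 1 := by
    rw [← sub_eq_zero]
    apply pow_eq_zero_iff (two_ne_zero) |>.mp
    rw [h10] at hd
    linear_combination (y : Matrix (Fin 2) (Fin 2) K) 0 0 * hx - hd
  have h11 : (y : Matrix (Fin 2) (Fin 2) K) 1 1 = 1 := by linear_combination hx - h00
  have : y = 1 := by
    ext i j
    fin_cases i <;> fin_cases j <;> simp [h00, h01, h10, h11]
  rw [this, map_one]

end Mat

end H12
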