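import Mathlib
import Cfsg.Agent.H12.SL2Mat
import Cfsg.Agent.H2.Cores

/-!
Finite subgroups of `SL(2, K)` in odd characteristic `p`: a subgroup with abelian Sylow
2-subgroups is `p`-closed, and a `p'`-subgroup normalized but not centralized by a unipotent
element forces `p = 3` and a subgroup `SL(2, 3)` (Kurzweil-Stellmacher 8.6.12, 8.6.13).
Also the relation "`G` involves `Y`".
-/

set_option autoImplicit false

namespace H12

open MatrixGroups Subgroup

section Involves

/-- `G` has a section isomorphic to `Y`. -/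
def Involves (G : Type*) [Group G] (Y : Type*) [Group Y] : Prop :=
  ∃ (K : Subgroup G) (f : K →* Y), Function.Surjective f

variable {G G' Y Y' : Type*} [Group G] [Group G'] [Group Y] [Group Y']

theorem Involves.of_surjective (π : G →* G') (hπ : Function.Surjective π) (h : Involves G' Y) :
    Involves G Y := by
  obtain ⟨K, f, hf⟩ := h
  exact ⟨K.comap π, f.comp (π.subgroupComap K),
    hf.comp (π.subgroupComap_surjective_of_surjective K hπ)⟩

theorem Involves.of_injective (ι : G' →* G) (hι : Function.Injective ι) (h : Involves G' Y) :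
    Involves G Y := by
  obtain ⟨K, f, hf⟩ := h
  exact ⟨K.map ι, f.comp (K.equivMapOfInjective ι hι).symm.toMonoidHom,
    hf.comp (K.equivMapOfInjective ι hι).symm.surjective⟩

theorem Involves.of_subgroup {H : Subgroup G} (h : Involves H Y) : Involves G Y :=
  h.of_injective H.subtype H.subtype_injective

theorem Involves.of_le {H H' : Subgroup G} (hle : H ≤ H') (h : Involves H Y) : Involves H' Y :=
  h.of_injective (inclusion hle) (inclusion_injective hle)

theorem Involves.of_range (φ : G →* G') (h : Involves φ.range Y) : Involves G Y :=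
  h.of_surjective φ.rangeRestrict φ.rangeRestrict_surjective

theorem Involves.of_map {H : Subgroup G} (φ : G →* G') (h : Involves (H.map φ) Y) :
    Involves H Y :=
  h.of_surjective (φ.subgroupMap H) (φ.subgroupMap_surjective H)

theorem Involves.of_equiv (e : G ≃* Y) : Involves G Y :=
  ⟨⊤, e.toMonoidHom.comp (⊤ : Subgroup G).subtype, e.surjective.comp fun x => ⟨⟨x, trivial⟩, rfl⟩⟩

theorem Involves.trans (h : Involves G Y) (h' : Involves Y Y') : Involves G Y' := by
  obtain ⟨K, f, hf⟩ := h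
  exact (h'.of_surjective f hf).of_subgroup

theorem Involves.of_quotient {K L : Subgroup G} [(L.subgroupOf K).Normal]
    (e : (K ⧸ L.subgroupOf K) ≃* Y) : Involves K Y :=
  (Involves.of_equiv e).of_surjective (QuotientGroup.mk' _) (QuotientGroup.mk'_surjective _)

theorem Involves.exists_section (h : Involves G Y) :
    ∃ (K L : Subgroup G) (_ : (L.subgroupOf K).Normal), Nonempty ((K ⧸ L.subgroupOf K) ≃* Y) := by
  obtain ⟨K, f, hf⟩ := h
  have e : (f.ker.map K.subtype).subgroupOf K = f.ker :=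
    comap_map_eq_self_of_injective K.subtype_injective _
  refine ⟨K, f.ker.map K.subtype, by rw [e]; infer_instance, ⟨?_⟩⟩
  haveI : ((f.ker.map K.subtype).subgroupOf K).Normal := by rw [e]; infer_instance
  exact (QuotientGroup.quotientMulEquivOfEq e).trans
    (QuotientGroup.quotientKerEquivOfSurjective f hf)

theorem involves_iff_exists_section :
    Involves G Y ↔ ∃ (K L : Subgroup G) (_ : (L.subgroupOf K).Normal),
      Nonempty ((K ⧸ L.subgroupOf K) ≃* Y) :=
  ⟨Involves.exists_section, fun ⟨_, _, _, ⟨e⟩⟩ => (Involves.of_quotient e).of_subgroup⟩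

theorem Involves.exists_section_le {H : Subgroup G} (h : Involves H Y) :
    ∃ (K L : Subgroup G) (_ : (L.subgroupOf K).Normal), K ≤ H ∧
      Nonempty ((K ⧸ L.subgroupOf K) ≃* Y) := by
  obtain ⟨K, f, hf⟩ := h
  let e := K.equivMapOfInjective H.subtype H.subtype_injective
  let f' : K.map H.subtype →* Y := f.comp e.symm.toMonoidHom
  have hf' : Function.Surjective f' := hf.comp e.symm.surjective
  have e' : (f'.ker.map (K.map H.subtype).subtype).subgroupOf (K.map H.subtype) = f'.ker :=
    comap_map_eq_self_of_injective (K.map H.subtype).subtype_injective _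
  refine ⟨K.map H.subtype, f'.ker.map (K.map H.subtype).subtype, by rw [e']; infer_instance,
    map_subtype_le K, ⟨?_⟩⟩
  haveI : ((f'.ker.map (K.map H.subtype).subtype).subgroupOf (K.map H.subtype)).Normal := by
    rw [e']; infer_instance
  exact (QuotientGroup.quotientMulEquivOfEq e').trans
    (QuotientGroup.quotientKerEquivOfSurjective f' hf')

theorem Involves.card_dvd [Finite G] (h : Involves G Y) : Nat.card Y ∣ Nat.card G := by
  obtain ⟨K, f, hf⟩ := h
  exact (card_dvd_of_surjective f hf).trans K.card_subgroup_dvd_card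

end Involves

section General

variable {G : Type*} [Group G]

theorem mem_of_pow_mem_of_coprime {C : Subgroup G} {g : G} {m n : ℕ} (hmn : m.Coprime n)
    (hm : g ^ m ∈ C) (hn : g ^ n ∈ C) : g ∈ C := by
  have h := Nat.gcd_eq_gcd_ab m n
  rw [hmn.gcd_eq_one] at h
  have : g = (g ^ m) ^ (Nat.gcdA m n) * (g ^ n) ^ (Nat.gcdB m n) := by
    rw [← zpow_natCast, ← zpow_natCast, ← zpow_mul, ← zpow_mul, ← zpow_add, ← h]
    simp
  rw [this]
  exact C.mul_mem (C.zpow_mem hm _) (C.zpow_mem hn _)

theorem isPGroup_zpowers_of_pow_eq_one {p : ℕ} {a : G} {k : ℕ} (ha : a ^ p ^ k = 1) :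
    IsPGroup p (zpowers a) := by
  rintro ⟨x, n, rfl⟩
  refine ⟨k, Subtype.ext ?_⟩
  show (a ^ n) ^ p ^ k = 1
  rw [← zpow_natCast, ← zpow_mul, mul_comm, zpow_mul, zpow_natCast, ha, one_zpow]

theorem isPGroup_closure_pair_of_commute {p : ℕ} {a b : G} (hab : a * b = b * a)
    (ha : a ^ p = 1) (hb : b ^ p = 1) : IsPGroup p (closure ({a, b} : Set G)) := by
  have hcomm : ∀ x ∈ ({a, b} : Set G), ∀ y ∈ ({a, b} : Set G), x * y = y * x := by
    rintro x (rfl | rfl) y (rfl | rfl) <;> simp [hab]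
  haveI := isMulCommutative_closure hcomm
  rintro ⟨x, hx⟩
  refine ⟨1, Subtype.ext ?_⟩
  show x ^ p ^ 1 = 1
  rw [pow_one]
  induction hx using closure_induction with
  | mem x hx => rcases hx with rfl | rfl <;> assumption
  | one => simp
  | mul x y hx hy ihx ihy =>
    have : Commute x y := congrArg Subtype.val (mul_comm' (⟨x, hx⟩ : closure ({a, b} : Set G)) ⟨y, hy⟩)
    rw [this.mul_pow, ihx, ihy, mul_one]
  | inv x hx ih => rw [inv_pow, ih, inv_one]

theorem abelian_two_subgroups_of_sylow [Finite G] (T : Sylow 2 G) (hT : IsMulCommutative T)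
    (U : Subgroup G) (hU : IsPGroup 2 U) : IsMulCommutative U := by
  obtain ⟨T', hT'⟩ := hU.exists_le_sylow
  obtain ⟨g, rfl⟩ := MulAction.exists_smul_eq G T T'
  refine ⟨⟨fun x y => Subtype.ext ?_⟩⟩
  have hx := hT' x.2
  have hy := hT' y.2
  rw [Sylow.coe_subgroup_smul, Subgroup.mem_pointwise_smul_iff_inv_smul_mem] at hx hy
  have := congrArg Subtype.val (mul_comm' (⟨_, hx⟩ : T) ⟨_, hy⟩)
  apply (MulAut.conj g)⁻¹.injective
  rw [coe_mul, coe_mul, map_mul, map_mul]
  exact this

theorem abelian_two_subgroups_of_surjective [Finite G] {G' : Type*} [Group G'] (f : G →* G')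
    (hf : Function.Surjective f) (h : ∀ U : Subgroup G, IsPGroup 2 U → IsMulCommutative U)
    (U : Subgroup G') (hU : IsPGroup 2 U) : IsMulCommutative U := by
  haveI : Finite G' := Finite.of_surjective f hf
  obtain ⟨T⟩ : Nonempty (Sylow 2 G) := inferInstance
  refine abelian_two_subgroups_of_sylow (T.mapSurjective hf) ?_ U hU
  haveI := h T T.isPGroup'
  exact Subgroup.map_isMulCommutative T f

theorem abelian_two_subgroups_of_injective {G' : Type*} [Group G'] (f : G' →* G)
    (hf : Function.Injective f) (h : ∀ U : Subgroup G, IsPGroup 2 U → IsMulCommutative U)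
    (U : Subgroup G') (hU : IsPGroup 2 U) : IsMulCommutative U := by
  haveI := h (U.map f) (hU.map f)
  refine ⟨⟨fun x y => Subtype.ext (hf ?_)⟩⟩
  have := congrArg Subtype.val (mul_comm' (⟨f x, mem_map_of_mem f x.2⟩ : U.map f)
    ⟨f y, mem_map_of_mem f y.2⟩)
  simpa using this

/-- A `p`-group normalizing a `p'`-group normalizes a Sylow `r`-subgroup of it. -/
theorem exists_sylow_normalized_of_isPGroup {p : ℕ} [Fact p.Prime] {A R : Subgroup G}
    [Finite R] (hA : IsPGroup p A) (hR : (Nat.card R).Coprime p)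
    (hAR : A ≤ normalizer (R : Set G)) (r : ℕ) [Fact r.Prime] :
    ∃ P : Sylow r R, A ≤ normalizer (((P : Subgroup R).map R.subtype : Subgroup G) : Set G) := by
  let φ : A →* MulAut R := R.normalizerMonoidHom.comp (inclusion hAR)
  letI : MulAction A (Sylow r R) := MulAction.compHom _ φ
  have hnd : ¬ p ∣ Nat.card (Sylow r R) := by
    intro h
    obtain ⟨P⟩ : Nonempty (Sylow r R) := inferInstance
    have h1 := h.trans (P.card_dvd_index.trans (index_dvd_card _))
    exact (Fact.out : p.Prime).coprime_iff_not_dvd.mp hR.symm h1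
  obtain ⟨P, hP⟩ := hA.nonempty_fixed_point_of_prime_not_dvd_card (Sylow r R) hnd
  refine ⟨P, fun a ha => ?_⟩
  have key : ∀ a : A, ∀ x ∈ (P : Subgroup R).map R.subtype,
      (a : G) * x * (a : G)⁻¹ ∈ (P : Subgroup R).map R.subtype := by
    rintro a _ ⟨x, hx, rfl⟩
    have h1 : φ a • P = P := hP a
    have h2 : φ a • x ∈ (φ a • P : Sylow r R) := Subgroup.smul_mem_pointwise_smul x (φ a) _ hx
    rw [h1] at h2
    exact ⟨_, h2, rfl⟩
  rw [mem_normalizer_iff]
  intro x
  refine ⟨key ⟨a, ha⟩ x, fun hx => ?_⟩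
  have := key ⟨a, ha⟩⁻¹ _ hx
  simpa [mul_assoc] using this

end General

section SL2

variable {K : Type*} [Field K] {p : ℕ} [Fact p.Prime] [CharP K p]

theorem two_ne_zero_of_char (hp : p ≠ 2) : (2 : K) ≠ 0 := by
  intro h
  have : ((2 : ℕ) : K) = 0 := by exact_mod_cast h
  rw [CharP.cast_eq_zero_iff K p] at this
  exact hp ((Nat.prime_dvd_prime_iff_eq Fact.out Nat.prime_two).mp this)

theorem sq_mem_centralizer_of_normalizes (hp : p ≠ 2) {A : Subgroup SL(2, K)}
    (hA : IsMulCommutative A) (hcop : ∀ z ∈ A, (orderOf z).Coprime p) {g : SL(2, K)}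
    (hg : g ∈ normalizer (A : Set SL(2, K))) : g ^ 2 ∈ centralizer (A : Set SL(2, K)) := by
  have h2 : (2 : K) ≠ 0 := two_ne_zero_of_char hp
  by_cases hs : ∀ z ∈ A, IsScal (z : Matrix (Fin 2) (Fin 2) K)
  · intro z hz
    exact Subtype.ext ((hs z hz).commute _)
  push Not at hs
  obtain ⟨z, hz, hzs⟩ := hs
  have hy : g * z * g⁻¹ ∈ A := (mem_normalizer_iff.mp hg z).mp hz
  have hc : g * z * g⁻¹ * z = z * (g * z * g⁻¹) :=
    congrArg Subtype.val (mul_comm' (⟨_, hy⟩ : A) ⟨z, hz⟩)
  have h4 : (z : Matrix (Fin 2) (Fin 2) K).trace ^ 2 ≠ 4 := fun h =>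
    hzs (isScal_of_trace_sq h2 (hcop z hz) h)
  have hgz : g ^ 2 * z = z * g ^ 2 := by
    rcases eq_or_mul_eq_one_of_commute h2 hzs hc (trace_conj g z) h4 with h | h
    · have : g * z = z * g := by rw [← mul_inv_eq_iff_eq_mul, h]
      rw [sq, mul_assoc, this, ← mul_assoc, this, mul_assoc]
    · have h' : g * z⁻¹ * g⁻¹ = z := by
        rw [← inv_inj]
        calc (g * z⁻¹ * g⁻¹)⁻¹ = g * z * g⁻¹ := by group
          _ = z⁻¹ := h
      calc g ^ 2 * z = g * (g * z * g⁻¹) * g⁻¹ * g ^ 2 := by rw [sq]; group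
        _ = z * g ^ 2 := by rw [h, h']
  intro x hx
  apply Subtype.ext
  refine commute_of_commute_nonscalar hzs ?_ (congrArg Subtype.val hgz)
  exact congrArg Subtype.val (congrArg Subtype.val (mul_comm' (⟨x, hx⟩ : A) ⟨z, hz⟩))

omit [Fact p.Prime] [CharP K p] in
theorem isMulCommutative_of_isPGroup_odd {r : ℕ} [Fact r.Prime] (hr : r ≠ 2)
    {R : Subgroup SL(2, K)} [Finite R] (hR : IsPGroup r R) : IsMulCommutative R := by
  rcases subsingleton_or_nontrivial R with h | h
  · exact ⟨⟨fun x y => Subsingleton.elim _ _⟩⟩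
  haveI := hR.center_nontrivial
  obtain ⟨z, hz⟩ := exists_ne (1 : center R)
  have hzs : ¬ IsScal ((z : R) : SL(2, K)).1 := by
    intro hs
    have h1 := sq_eq_one_of_isScal hs
    have h2 : z ^ 2 = 1 := by
      rw [sq]; exact Subtype.ext (Subtype.ext h1)
    obtain ⟨k, hk⟩ := (hR.to_subgroup (center R)) z
    apply hz
    have hc : (2 : ℕ).Coprime (r ^ k) :=
      ((Nat.coprime_primes Nat.prime_two Fact.out).mpr hr.symm).pow_right k
    have := mem_of_pow_mem_of_coprime (C := ⊥) hc h2 hk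
    exact this
  refine ⟨⟨fun x y => Subtype.ext (Subtype.ext ?_)⟩⟩
  refine commute_of_commute_nonscalar hzs ?_ ?_
  · exact congrArg (fun t : R => (t : SL(2, K)).1) (mem_center_iff.mp z.2 x)
  · exact congrArg (fun t : R => (t : SL(2, K)).1) (mem_center_iff.mp z.2 y)

/-- A finite subgroup of `SL(2, K)`, `K` of odd characteristic `p`, with abelian Sylow
2-subgroups has a normal Sylow `p`-subgroup. -/
theorem sylow_normal_of_abelian_two (hp : p ≠ 2) :
    ∀ (n : ℕ) (G : Type _) [Group G] [Finite G] (f : G →* SL(2, K)), Function.Injective f →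
      Nat.card G = n → (∀ T : Subgroup G, IsPGroup 2 T → IsMulCommutative T) →
      ∀ P : Sylow p G, (P : Subgroup G).Normal := by
  intro n
  induction n using Nat.strong_induction_on with
  | _ n ih =>
  intro G _ _ f hf hn h2 P
  by_cases hP : (P : Subgroup G) = ⊤
  · rw [hP]; infer_instance
  obtain ⟨r, hr, hrp, hrd, hr2⟩ : ∃ r : ℕ, r.Prime ∧ r ≠ p ∧ r ∣ Nat.card G ∧
      (r = 2 ∨ (r ≠ 2 ∧ ¬ 2 ∣ Nat.card G)) := by
    by_cases he : 2 ∣ Nat.card G
    · exact ⟨2, Nat.prime_two, hp.symm, he, Or.inl rfl⟩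
    · have h1 : (P : Subgroup G).index ≠ 1 := fun h => hP (index_eq_one.mp h)
      obtain ⟨r, hr, hrd⟩ := Nat.exists_prime_and_dvd h1
      have hrd' := hrd.trans (index_dvd_card _)
      refine ⟨r, hr, ?_, hrd', Or.inr ⟨?_, he⟩⟩
      · rintro rfl; exact P.not_dvd_index hrd
      · rintro rfl; exact he hrd'
  haveI := Fact.mk hr
  obtain ⟨R⟩ : Nonempty (Sylow r G) := inferInstance
  have hRc : IsMulCommutative ((R : Subgroup G).map f) := by
    rcases hr2 with rfl | ⟨h, -⟩
    · haveI := h2 R R.isPGroup'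
      exact Subgroup.map_isMulCommutative _ f
    · haveI : Finite ((R : Subgroup G).map f) :=
        Finite.of_surjective _ (f.subgroupMap_surjective R)
      exact isMulCommutative_of_isPGroup_odd h (R.isPGroup'.map f)
  have hNC : normalizer ((R : Subgroup G) : Set G) ≤ centralizer ((R : Subgroup G) : Set G) := by
    intro g hg
    have hsq : g ^ 2 ∈ centralizer ((R : Subgroup G) : Set G) := by
      have h1 := sq_mem_centralizer_of_normalizes hp hRc (g := f g) (by
        rintro _ ⟨z, hz, rfl⟩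
        obtain ⟨k, hk⟩ := R.isPGroup' ⟨z, hz⟩
        have : f z ^ r ^ k = 1 := by rw [← map_pow, show z ^ r ^ k = 1 from congrArg Subtype.val hk, map_one]
        exact Nat.Coprime.coprime_dvd_left (orderOf_dvd_of_pow_eq_one this)
          (((Nat.coprime_primes hr Fact.out).mpr hrp).pow_left k))
        (le_normalizer_map f (mem_map_of_mem f hg))
      intro x hx
      apply hf
      rw [map_mul, map_mul, map_pow]
      exact h1 (f x) (mem_map_of_mem f hx)
    rcases hr2 with rfl | ⟨-, h⟩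
    · obtain ⟨k, m, hm, hkm⟩ := Nat.exists_eq_two_pow_mul_odd (orderOf_pos g).ne'
      refine mem_of_pow_mem_of_coprime (Nat.coprime_two_left.mpr hm) hsq ?_
      have h3 : IsPGroup 2 (zpowers (g ^ m)) :=
        isPGroup_zpowers_of_pow_eq_one (k := k) (by
          rw [← pow_mul, mul_comm, ← hkm, pow_orderOf_eq_one])
      have h4 : g ^ m ∈ (R : Subgroup G) := by
        have h5 := h3.inf_normalizer_sylow R
        have : g ^ m ∈ zpowers (g ^ m) ⊓ normalizer ((R : Subgroup G) : Set G) :=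
          ⟨mem_zpowers _, Subgroup.pow_mem _ hg m⟩
        exact (h5 ▸ this).2
      haveI := h2 R R.isPGroup'
      exact le_centralizer _ h4
    · refine mem_of_pow_mem_of_coprime ((Nat.Prime.coprime_iff_not_dvd Nat.prime_two).mpr h) hsq ?_
      rw [pow_card_eq_one']; exact one_mem _
  have hc := MonoidHom.ker_transferSylow_isComplement' R hNC
  set N := (MonoidHom.transferSylow R hNC).ker with hN
  have hidx : N.index = Nat.card R := hc.symm.index_eq_card
  have hNt : N ≠ ⊤ := by
    intro h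
    rw [h, index_top] at hidx
    have := R.ne_bot_of_dvd_card hrd
    exact this (card_eq_one.mp hidx.symm)
  have hPN : (P : Subgroup G) ≤ N := by
    apply H2.le_of_card_coprime_index
    rw [hidx]
    obtain ⟨k, hk⟩ := IsPGroup.iff_card.mp P.isPGroup'
    obtain ⟨l, hl⟩ := IsPGroup.iff_card.mp R.isPGroup'
    rw [hk, hl]
    exact Nat.Coprime.pow k l ((Nat.coprime_primes Fact.out hr).mpr hrp.symm)
  have h1 := ih _ (hn ▸ H2.card_lt_of_ne_top hNt) N (f.comp N.subtype)
    (hf.comp N.subtype_injective) rfl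
    (abelian_two_subgroups_of_injective N.subtype N.subtype_injective h2) (P.subtype hPN)
  have h3 := (P.subtype hPN).characteristic_of_normal h1
  have h4 : ((P.subtype hPN : Subgroup N).map N.subtype).Normal := inferInstance
  rwa [Sylow.coe_subtype, map_subgroupOf_eq_of_le hPN] at h4

omit [Fact p.Prime] in
theorem not_isUnip_mul_of_not_isPGroup {u v : SL(2, K)} (hu : IsUnip u) (hv : IsUnip v)
    (h : ¬ IsPGroup p (closure ({u, v} : Set SL(2, K)))) : ¬ IsUnip (u * v) := fun huv =>
  h (isPGroup_closure_pair_of_commute (commute_of_isUnip hu hv huv) hu.pow_char hv.pow_char)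

theorem isUnip_of_mem_isPGroup {P : Subgroup SL(2, K)} (hP : IsPGroup p P) {x : SL(2, K)}
    (hx : x ∈ P) : IsUnip x := by
  obtain ⟨k, hk⟩ := hP ⟨x, hx⟩
  exact isUnip_of_pow_char_pow (p := p) (k := k) (congrArg Subtype.val hk)

/-- A `p`-subgroup normalized by a nondegenerate unipotent pair is trivial. -/
theorem eq_bot_of_normalized_by_isUnip {u v : SL(2, K)} (hu : IsUnip u) (hv : IsUnip v)
    (huv : ¬ IsUnip (u * v)) {N : Subgroup SL(2, K)} (hN : IsPGroup p N)
    (huN : u ∈ normalizer (N : Set SL(2, K))) (hvN : v ∈ normalizer (N : Set SL(2, K))) :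
    N = ⊥ := by
  rw [eq_bot_iff]
  intro x hx
  have key : ∀ w : SL(2, K), IsUnip w → w ∈ normalizer (N : Set SL(2, K)) → IsUnip (x * w) := by
    intro w hw hwN
    have h1 : IsPGroup p (zpowers w) :=
      isPGroup_zpowers_of_pow_eq_one (k := 1) (by rw [pow_one]; exact hw.pow_char)
    have h2 := h1.to_sup_of_normal_right' hN (zpowers_le.mpr hwN)
    exact isUnip_of_mem_isPGroup h2
      (mul_mem (mem_sup_right hx) (mem_sup_left (mem_zpowers w)))
  exact eq_one_of_isUnip_mul hu hv huv (isUnip_of_mem_isPGroup hN hx) (key u hu huN) (key v hv hvN)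

theorem isScal_of_commute_isUnip (hp : p ≠ 2) {a z : SL(2, K)} (ha : IsUnip a) (ha1 : a ≠ 1)
    (hz : (orderOf z).Coprime p) (h : z * a = a * z) :
    IsScal (z : Matrix (Fin 2) (Fin 2) K) := by
  have h2 : (2 : K) ≠ 0 := two_ne_zero_of_char hp
  have hat := isUnip_iff_trace.mp ha
  have has : ¬ IsScal (a : Matrix (Fin 2) (Fin 2) K) := by
    intro hs
    rcases eq_one_or_neg_one_of_isScal hs with h1 | h1
    · exact ha1 (Subtype.ext h1)
    · rw [h1] at hat
      simp only [Matrix.trace_neg, Matrix.trace_one, Fintype.card_fin, Nat.cast_ofNat] at hat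
      apply mul_ne_zero h2 h2
      linear_combination -hat
  obtain ⟨α, β, hab⟩ := exists_eq_of_commute has (congrArg Subtype.val h)
  apply isScal_of_trace_sq h2 hz
  have hd := z.det_coe
  have had := a.det_coe
  rw [hab] at hd ⊢
  simp only [Matrix.det_fin_two, Matrix.trace_fin_two, Matrix.add_apply, Matrix.smul_apply,
    Matrix.one_apply, smul_eq_mul] at hd had hat ⊢
  simp at hd ⊢
  linear_combination 4 * hd - 4 * β ^ 2 * had + β ^ 2 *
    ((a : Matrix (Fin 2) (Fin 2) K) 0 0 + (a : Matrix (Fin 2) (Fin 2) K) 1 1 + 2) * hat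

/-- An abelian `p'`-subgroup normalized by a nontrivial unipotent element consists of scalars. -/
theorem isScal_of_abelian_normalized (hp : p ≠ 2) {a : SL(2, K)} (ha : IsUnip a) (ha1 : a ≠ 1)
    {A : Subgroup SL(2, K)} (hA : IsMulCommutative A) (hcop : ∀ z ∈ A, (orderOf z).Coprime p)
    (haA : a ∈ normalizer (A : Set SL(2, K))) {z : SL(2, K)} (hz : z ∈ A) :
    IsScal (z : Matrix (Fin 2) (Fin 2) K) := by
  have h1 := sq_mem_centralizer_of_normalizes hp hA hcop haA
  have h2 : a ∈ centralizer (A : Set SL(2, K)) :=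
    mem_of_pow_mem_of_coprime ((Nat.coprime_primes Nat.prime_two Fact.out).mpr hp.symm) h1
      (by rw [ha.pow_char]; exact one_mem _)
  exact isScal_of_commute_isUnip hp ha ha1 (hcop z hz) (h2 z hz)

/-- Kurzweil-Stellmacher 8.6.12. -/
theorem sl_two_three_of_normalized (hp : p ≠ 2) {a : SL(2, K)} (ha : IsUnip a) (ha1 : a ≠ 1)
    {R : Subgroup SL(2, K)} [Finite R] (hR : (Nat.card R).Coprime p)
    (haR : a ∈ normalizer (R : Set SL(2, K))) (hx : ∃ x ∈ R, x * a ≠ a * x) :
    p = 3 ∧ ∃ x ∈ R, ∃ g : GL (Fin 2) K, primeEmb p g (upT 1) = a ∧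
      primeEmb p g (loT (-2)) = x * a⁻¹ * x⁻¹ ∧
      (primeEmb p g).range = closure {a, x * a⁻¹ * x⁻¹} := by
  have h2 : (2 : K) ≠ 0 := two_ne_zero_of_char hp
  have hA : IsPGroup p (zpowers a) :=
    isPGroup_zpowers_of_pow_eq_one (k := 1) (by rw [pow_one]; exact ha.pow_char)
  have hcop : ∀ z ∈ R, (orderOf z).Coprime p := fun z hz =>
    Nat.Coprime.coprime_dvd_left (R.orderOf_dvd_natCard hz) hR
  -- a Sylow subgroup normalized by `a` with a nonscalar element
  obtain ⟨R₀, r, hr, hR₀R, hR₀, haR₀, y, hy, hys⟩ : ∃ (R₀ : Subgroup SL(2, K)) (r : ℕ)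
      (_ : Fact r.Prime), R₀ ≤ R ∧ IsPGroup r R₀ ∧ a ∈ normalizer (R₀ : Set SL(2, K)) ∧
      ∃ y ∈ R₀, ¬ IsScal (y : Matrix (Fin 2) (Fin 2) K) := by
    by_contra hcon
    push Not at hcon
    obtain ⟨x, hx, hxa⟩ := hx
    have : R ≤ centralizer {a} := by
      rw [← subgroupOf_eq_top]
      apply H2.eq_top_of_forall_sylow_le
      intro r hr
      obtain ⟨P, hP⟩ := exists_sylow_normalized_of_isPGroup hA hR (zpowers_le.mpr haR) r
      refine ⟨P, fun z hz => ?_⟩
      have := hcon _ r hr (map_subtype_le _) (P.isPGroup'.map _) (hP (mem_zpowers a)) z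
        (mem_map_of_mem _ hz)
      rw [mem_subgroupOf, mem_centralizer_singleton_iff]
      exact Subtype.ext (this.commute _)
    exact hxa (mem_centralizer_singleton_iff.mp (this hx))
  haveI : Finite R₀ := Finite.of_injective _ (inclusion_injective hR₀R)
  haveI := hR₀.isNilpotent
  have hnorm : ∀ (C : Subgroup R₀) [C.Characteristic],
      a ∈ normalizer ((C.map R₀.subtype : Subgroup SL(2, K)) : Set SL(2, K)) := by
    intro C _
    have key : ∀ b ∈ normalizer (R₀ : Set SL(2, K)), ∀ x ∈ C.map R₀.subtype,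
        b * x * b⁻¹ ∈ C.map R₀.subtype := by
      rintro b hb _ ⟨x, hx, rfl⟩
      exact ⟨R₀.normalizerMonoidHom ⟨b, hb⟩ x,
        (characteristic_iff_le_comap.mp ‹_› (R₀.normalizerMonoidHom ⟨b, hb⟩)) hx, rfl⟩
    rw [mem_normalizer_iff]
    intro x
    refine ⟨key a haR₀ x, fun hx => ?_⟩
    simpa [mul_assoc] using key a⁻¹ (inv_mem haR₀) _ hx
  have hZ : ∀ z : R₀, z ∈ center R₀ → IsScal ((z : SL(2, K)) : Matrix (Fin 2) (Fin 2) K) := by
    intro z hz
    exact isScal_of_abelian_normalized hp ha ha1 (A := (center R₀).map R₀.subtype)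
      (Subgroup.map_isMulCommutative _ _) (fun z hz => hcop z (hR₀R (map_subtype_le _ hz)))
      (hnorm _) (mem_map_of_mem _ hz)
  -- the second centre
  let Z₂ : Subgroup R₀ := (center (R₀ ⧸ center R₀)).comap (QuotientGroup.mk' _)
  have hZ₂c : Z₂.Characteristic := Characteristic.comap_quotient_mk centerCharacteristic
  have hZ₂ : ∀ z ∈ Z₂.map R₀.subtype, IsScal (z : Matrix (Fin 2) (Fin 2) K) ∨
      (z : Matrix (Fin 2) (Fin 2) K).trace = 0 := by
    rintro _ ⟨z, hz, rfl⟩
    by_cases hzc : z ∈ center R₀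
    · exact Or.inl (hZ z hzc)
    right
    rw [mem_center_iff] at hzc
    push Not at hzc
    obtain ⟨g, hg⟩ := hzc
    have h1 : g * z * g⁻¹ * z⁻¹ ∈ center R₀ := by
      have := mem_center_iff.mp hz (g : R₀ ⧸ center R₀)
      rw [← QuotientGroup.eq_one_iff]
      simp only [QuotientGroup.mk_mul, QuotientGroup.mk_inv]
      rw [QuotientGroup.mk'_apply] at this
      rw [this]; group
    rcases eq_one_or_neg_one_of_isScal (hZ _ h1) with h | h
    · exfalso
      apply hg
      have : g * z * g⁻¹ * z⁻¹ = 1 := Subtype.ext (Subtype.ext h)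
      calc g * z = g * z * g⁻¹ * z⁻¹ * (z * g) := by group
        _ = z * g := by rw [this, one_mul]
    · have h3 := trace_conj (g : SL(2, K)) (z : SL(2, K))
      have h4 : (g : SL(2, K)) * z * (g : SL(2, K))⁻¹ =
          ((g * z * g⁻¹ * z⁻¹ : R₀) : SL(2, K)) * z := by simp
      rw [h4, Matrix.SpecialLinearGroup.coe_mul, h, neg_mul, one_mul, Matrix.trace_neg] at h3
      apply mul_left_cancel₀ h2
      show 2 * ((z : SL(2, K)) : Matrix (Fin 2) (Fin 2) K).trace = _
      linear_combination -h3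
  obtain ⟨x, hx, hxs⟩ : ∃ x ∈ Z₂.map R₀.subtype, ¬ IsScal (x : Matrix (Fin 2) (Fin 2) K) := by
    have hnt : Nontrivial (R₀ ⧸ center R₀) := by
      rw [QuotientGroup.nontrivial_iff]
      intro h
      exact hys (hZ ⟨y, hy⟩ (h ▸ mem_top _))
    haveI := (hR₀.to_quotient (center R₀)).center_nontrivial
    obtain ⟨⟨w, hw⟩, hw1⟩ := exists_ne (1 : center (R₀ ⧸ center R₀))
    obtain ⟨x, rfl⟩ := QuotientGroup.mk'_surjective _ w
    refine ⟨x, mem_map_of_mem _ hw, fun hs => hw1 (Subtype.ext ?_)⟩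
    show (x : R₀ ⧸ center R₀) = 1
    rw [QuotientGroup.eq_one_iff, mem_center_iff]
    intro g
    exact Subtype.ext (Subtype.ext (hs.commute _).symm)
  have hxR : x ∈ R := hR₀R (map_subtype_le _ hx)
  have hun : ∀ i : ℕ, IsUnip (a ^ i) := fun i =>
    isUnip_of_pow_char_pow (p := p) (k := 1) (by
      rw [pow_one, ← pow_mul, mul_comm, pow_mul, ha.pow_char, one_pow])
  have htr : ∀ i : ℕ, a ^ i ≠ 1 →
      ((a ^ i * (x * a⁻¹ * x⁻¹) ^ i : SL(2, K)) : Matrix (Fin 2) (Fin 2) K).trace = 0 := by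
    intro i hi
    have e : a ^ i * (x * a⁻¹ * x⁻¹) ^ i = (a ^ i * x * (a ^ i)⁻¹) * x⁻¹ := by
      rw [conj_pow, inv_pow]; group
    have hmem : a ^ i * (x * a⁻¹ * x⁻¹) ^ i ∈ Z₂.map R₀.subtype := by
      rw [e]
      exact mul_mem ((mem_normalizer_iff.mp (pow_mem (hnorm Z₂) i) x).mp hx) (inv_mem hx)
    refine (hZ₂ _ hmem).resolve_left fun hs => ?_
    rcases eq_one_or_neg_one_of_isScal hs with h | h
    · apply hxs
      apply isScal_of_commute_isUnip hp (hun i) hi (hcop x hxR)
      have h' : a ^ i * (x * a⁻¹ * x⁻¹) ^ i = 1 := Subtype.ext h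
      rw [e] at h'
      calc x * a ^ i = (a ^ i * x * (a ^ i)⁻¹) * x⁻¹ * (x * a ^ i) := by rw [h', one_mul]
        _ = a ^ i * x := by group
    · have h3 := trace_conj x (a ^ i)
      have h4 : a ^ i = (a ^ i * (x * a⁻¹ * x⁻¹) ^ i) * (x * a ^ i * x⁻¹) := by
        rw [e]; group
      have h5 := isUnip_iff_trace.mp (hun i)
      have h6 := h5
      rw [h4, Matrix.SpecialLinearGroup.coe_mul, h, neg_mul, one_mul, Matrix.trace_neg, h3,
        h5] at h6
      apply mul_ne_zero h2 h2
      linear_combination -h6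
  have hb : IsUnip (x * a⁻¹ * x⁻¹) :=
    isUnip_of_pow_char_pow (p := p) (k := 1) (by
      rw [pow_one, conj_pow, inv_pow, ha.pow_char]; group)
  have h1 := htr 1 (by rwa [pow_one])
  rw [pow_one, pow_one] at h1
  have hs : (-2 : ZMod p) ≠ 0 := neg_ne_zero.mpr (two_ne_zero_of_char hp)
  obtain ⟨g, e1, e2, e3⟩ := exists_primeEmb_of_isUnip ha hb hs (by
    rw [h1, map_neg, map_ofNat]; ring)
  refine ⟨?_, x, hxR, g, e1, e2, e3⟩
  have h4 := htr 2 (by
    intro h
    exact ha1 (mem_of_pow_mem_of_coprime (C := ⊥)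
      ((Nat.coprime_primes Nat.prime_two Fact.out).mpr hp.symm) h ha.pow_char))
  rw [← e2, ← e1, ← map_pow, ← map_pow, upT_pow, loT_pow, primeEmb_upT, primeEmb_loT, ← map_mul,
    trace_conjSL, trace_upT_mul_loT] at h4
  simp only [Nat.cast_ofNat, mul_one, map_mul, map_neg, map_ofNat] at h4
  have h3 : ((3 : ℕ) : K) = 0 := by
    apply mul_left_cancel₀ h2
    push_cast
    linear_combination -h4
  rw [CharP.cast_eq_zero_iff K p] at h3
  exact (Nat.prime_dvd_prime_iff_eq Fact.out Nat.prime_three).mp h3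

end SL2

end H12
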