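import Mathlib
import Cfsg.Prelude.Def_Local
import Cfsg.Agent.H12.SL2Sub
import Cfsg.Agent.H2.Frattini
import Cfsg.Agent.H3.PNil

/-!
`p`-separable groups in a section-closed formulation.
-/

set_option autoImplicit false

namespace H12

open Subgroup Cfsg

variable {G : Type*} [Group G]

/-- Every nontrivial section has a nontrivial normal `p`-subgroup or normal `p'`-subgroup. -/
def PSep (p : ℕ) (G : Type*) [Group G] : Prop :=
  ∀ (K : Subgroup G) (N : Subgroup K) [N.Normal], N ≠ ⊤ →
    pCore p (K ⧸ N) ≠ ⊥ ∨ pPrimeCore p (K ⧸ N) ≠ ⊥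

theorem PSep.core_ne_bot {p : ℕ} (h : PSep p G) {Y : Type*} [Group Y] (hY : Involves G Y)
    [Nontrivial Y] : pCore p Y ≠ ⊥ ∨ pPrimeCore p Y ≠ ⊥ := by
  obtain ⟨K, f, hf⟩ := hY
  have e := QuotientGroup.quotientKerEquivOfSurjective f hf
  have hne : f.ker ≠ ⊤ := by
    intro h1
    obtain ⟨y, hy⟩ := exists_ne (1 : Y)
    obtain ⟨x, rfl⟩ := hf y
    exact hy (h1 ▸ mem_top x : x ∈ f.ker)
  rcases h K f.ker hne with h1 | h1
  · left
    rw [← H2.map_pCore_equiv p e]
    rwa [Ne, map_eq_bot_iff_of_injective _ e.injective]
  · right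
    rw [← H2.map_pPrimeCore_equiv p e]
    rwa [Ne, map_eq_bot_iff_of_injective _ e.injective]

theorem PSep.of_involves {p : ℕ} (h : PSep p G) {Y : Type*} [Group Y] (hY : Involves G Y) :
    PSep p Y := by
  intro K N _ hN
  have : Nontrivial (K ⧸ N) := QuotientGroup.nontrivial_iff.mpr hN
  exact h.core_ne_bot (hY.trans (((Involves.of_equiv (MulEquiv.refl _)).of_surjective
    (QuotientGroup.mk' N) (QuotientGroup.mk'_surjective N)).of_subgroup))

theorem involves_self (G : Type*) [Group G] : Involves G G := Involves.of_equiv (MulEquiv.refl G)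

theorem involves_subgroup (H : Subgroup G) : Involves G H := (involves_self H).of_subgroup

theorem involves_quotient (N : Subgroup G) [N.Normal] : Involves G (G ⧸ N) :=
  (involves_self _).of_surjective (QuotientGroup.mk' N) (QuotientGroup.mk'_surjective N)

theorem involves_map {G' : Type*} [Group G'] (f : G →* G') (H : Subgroup G) :
    Involves G (H.map f) := ((involves_self _).of_map f).of_subgroup

theorem involves_range {G' : Type*} [Group G'] (f : G →* G') : Involves G f.range :=
  (involves_self _).of_range f

theorem PSep.subgroup {p : ℕ} (h : PSep p G) (H : Subgroup G) : PSep p H :=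
  h.of_involves (involves_subgroup H)

theorem PSep.quotient {p : ℕ} (h : PSep p G) (N : Subgroup G) [N.Normal] : PSep p (G ⧸ N) :=
  h.of_involves (involves_quotient N)

theorem PSep.map {p : ℕ} (h : PSep p G) {G' : Type*} [Group G'] (f : G →* G') (H : Subgroup G) :
    PSep p (H.map f) := h.of_involves (involves_map f H)

theorem pSep_of_isPSolvable [Finite G] {p : ℕ} (h : IsPSolvable p G) : PSep p G := by
  obtain ⟨n, H, h0, hn, hmono, hnorm, hstep⟩ := h
  intro K N _ hN
  let f : K →* K ⧸ N := QuotientGroup.mk' N
  have hf : Function.Surjective f := QuotientGroup.mk'_surjective N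
  by_contra hcon
  push Not at hcon
  obtain ⟨h1, h2⟩ := hcon
  have key : ∀ i : Fin (n + 1), ((H i).subgroupOf K).map f = ⊥ := by
    intro i
    induction i using Fin.induction with
    | zero => rw [h0]; simp
    | succ i ih =>
      have := hnorm i.succ
      have := hnorm i.castSucc
      have hnormal : (((H i.succ).subgroupOf K).map f).Normal :=
        Normal.map inferInstance f hf
      have hdvd : Nat.card (((H i.succ).subgroupOf K).map f) ∣
          (H i.castSucc).relIndex (H i.succ) := by
        rw [← relIndex_ker]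
        have e1 : (H i.castSucc).subgroupOf K ≤ f.ker := (Subgroup.map_eq_bot_iff _).mp ih
        refine (relIndex_dvd_of_le_left _ e1).trans ?_
        rw [← relIndex_map_map_of_injective _ _ K.subtype_injective, subgroupOf_map_subtype,
          subgroupOf_map_subtype, ← inf_relIndex_right, inf_inf_inf_comm, inf_idem,
          inf_eq_left.mpr (hmono i.castSucc_le_succ)]
        have e2 : H i.castSucc ⊓ K = H i.castSucc ⊓ (H i.succ ⊓ K) := by
          rw [← inf_assoc, inf_eq_left.mpr (hmono i.castSucc_le_succ)]
        rw [e2, inf_relIndex_right]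
        have e3 := relIndex_dvd_index_of_normal ((H i.castSucc).subgroupOf (H i.succ))
          ((H i.succ ⊓ K).subgroupOf (H i.succ))
        rwa [relIndex_subgroupOf inf_le_left] at e3
      rcases hstep i with ⟨m, hm⟩ | hc
      · rw [eq_bot_iff, ← h1]
        exact H2.le_pCore hnormal (isPGroup_iff_card_dvd_pow.mpr ⟨m, hm ▸ hdvd⟩)
      · rw [eq_bot_iff, ← h2]
        exact H2.le_pPrimeCore hnormal (Nat.Coprime.coprime_dvd_left hdvd hc)
  have := key (Fin.last n)
  rw [hn, top_subgroupOf, Subgroup.map_eq_bot_iff, QuotientGroup.ker_mk', top_le_iff] at this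
  exact hN this

theorem pSep_of_isSolvable [Finite G] (p : ℕ) [Fact p.Prime] [Group.IsSolvable G] :
    PSep p G := by
  intro K N _ hN
  have : Nontrivial (K ⧸ N) := QuotientGroup.nontrivial_iff.mpr hN
  by_contra hcon
  push Not at hcon
  have h1 := H2.centralizer_pCore_le hcon.2
  rw [hcon.1] at h1
  have : (⊤ : Subgroup (K ⧸ N)) = ⊥ := by
    rw [eq_bot_iff]
    refine le_trans ?_ h1
    rw [le_centralizer_iff]; simp
  exact absurd this top_ne_bot

theorem pSep_of_isPGroup {p : ℕ} (h : IsPGroup p G) : PSep p G := by
  intro K N _ hN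
  have : Nontrivial (K ⧸ N) := QuotientGroup.nontrivial_iff.mpr hN
  left
  rw [H2.pCore_eq_top_iff.mpr ((h.to_subgroup K).to_quotient N)]
  exact top_ne_bot

theorem pSep_of_coprime [Finite G] {p : ℕ} (h : (Nat.card G).Coprime p) : PSep p G := by
  intro K N _ hN
  have : Nontrivial (K ⧸ N) := QuotientGroup.nontrivial_iff.mpr hN
  right
  rw [H2.pPrimeCore_eq_top_iff.mpr (Nat.Coprime.coprime_dvd_left
    ((card_quotient_dvd_card N).trans K.card_subgroup_dvd_card) h)]
  exact top_ne_bot

theorem PSep.of_normal_quotient [Finite G] {p : ℕ} (M : Subgroup G) [M.Normal] (h1 : PSep p M)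
    (h2 : PSep p (G ⧸ M)) : PSep p G := by
  intro K N _ hN
  have : Nontrivial (K ⧸ N) := QuotientGroup.nontrivial_iff.mpr hN
  let f : K →* K ⧸ N := QuotientGroup.mk' N
  have hf : Function.Surjective f := QuotientGroup.mk'_surjective N
  by_cases hM : (M.subgroupOf K).map f = ⊥
  · apply h2.core_ne_bot
    have hle : ((QuotientGroup.mk' M).comp K.subtype).ker ≤ f.ker := by
      rw [← MonoidHom.comap_ker, QuotientGroup.ker_mk']
      exact (Subgroup.map_eq_bot_iff _).mp hM
    let g := (QuotientGroup.mk' M).comp K.subtype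
    refine ⟨g.range, (QuotientGroup.lift _ f hle).comp
      (QuotientGroup.quotientKerEquivRange g).symm.toMonoidHom, ?_⟩
    have hs : Function.Surjective (QuotientGroup.lift _ f hle) := by
      intro y
      obtain ⟨x, rfl⟩ := hf y
      exact ⟨x, rfl⟩
    exact hs.comp (QuotientGroup.quotientKerEquivRange g).symm.surjective
  · have hnt := (nontrivial_iff_ne_bot _).mpr hM
    have hn : ((M.subgroupOf K).map f).Normal := Normal.map inferInstance f hf
    have hinv : Involves M ((M.subgroupOf K).map f) := by
      have e1 : Involves (M.subgroupOf K) ((M.subgroupOf K).map f) := (involves_self _).of_map f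
      refine e1.of_injective ((K.subtype.comp (M.subgroupOf K).subtype).codRestrict M
        (fun x => x.2)) ?_
      intro x y hxy
      exact Subtype.ext (Subtype.ext (congrArg (fun t : M => (t : G)) hxy))
    rcases h1.core_ne_bot hinv with h | h
    · left
      intro h0
      apply h
      have := H2.map_subtype_pCore_le p ((M.subgroupOf K).map f)
      rwa [h0, le_bot_iff, map_eq_bot_iff_of_injective _ (subtype_injective _)] at this
    · right
      intro h0
      apply h
      have := H2.map_subtype_pPrimeCore_le p ((M.subgroupOf K).map f)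
      rwa [h0, le_bot_iff, map_eq_bot_iff_of_injective _ (subtype_injective _)] at this

theorem PSep.centralizer_pCore_le [Finite G] {p : ℕ} [Fact p.Prime] (h : PSep p G)
    (hO : pPrimeCore p G = ⊥) : centralizer (pCore p G : Set G) ≤ pCore p G := by
  set O := pCore p G with hOdef
  set C := centralizer (O : Set G) with hC
  let π := QuotientGroup.mk' O
  by_contra hcon
  have hnt : Nontrivial (C.map π) := by
    rw [nontrivial_iff_ne_bot, Ne, Subgroup.map_eq_bot_iff, QuotientGroup.ker_mk']
    exact hcon
  have hCn : (C.map π).Normal := Normal.map inferInstance π (QuotientGroup.mk'_surjective O)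
  rcases h.core_ne_bot (involves_map π C) with h1 | h1
  · apply h1
    have := H2.map_subtype_pCore_le p (C.map π)
    rw [H2.pCore_quotient_pCore, le_bot_iff, map_eq_bot_iff_of_injective _ (subtype_injective _)]
      at this
    exact this
  · apply h1
    set Mb := (pPrimeCore p (C.map π)).map (C.map π).subtype with hMb
    have hMbc : (Nat.card Mb).Coprime p := by
      rw [hMb, H2.card_map_subtype]; exact H2.pPrimeCore_coprime p _
    set M := Mb.comap π ⊓ C with hM
    have hnpc : HasNormalPComplement p M := by
      obtain ⟨P⟩ : Nonempty (Sylow p M) := inferInstance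
      apply H3.hasNPC_of_normalizer_le_centralizer P
      intro g _ x hx
      have hxO : (x : G) ∈ O := by
        rw [← QuotientGroup.eq_one_iff]
        obtain ⟨k, hk⟩ := P.isPGroup' ⟨x, hx⟩
        have hk' : (π x) ^ p ^ k = 1 := by
          rw [← map_pow, show (x : G) ^ p ^ k = 1 from congrArg (fun t : P => ((t : M) : G)) hk,
            map_one]
        exact H3.eq_one_of_pow_eq_one_of_coprime (pow_orderOf_eq_one _) hk'
          ((H3.orderOf_coprime_of_mem hMbc x.2.1).pow_right k)
      exact Subtype.ext (g.2.2 x hxO)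
    have h2 : (pResidual p M).map M.subtype ≤ ⊥ := by
      rw [← hO]
      exact H2.le_pPrimeCore inferInstance (H3.hasNPC_subgroup_iff.mp hnpc)
    rw [le_bot_iff, map_eq_bot_iff_of_injective _ (subtype_injective _),
      H3.pResidual_eq_bot_iff] at h2
    have h3 : M ≤ O := H2.le_pCore inferInstance h2
    rw [← map_eq_bot_iff_of_injective _ (subtype_injective _), eq_bot_iff]
    intro y hy
    obtain ⟨x, hx, rfl⟩ := map_subtype_le _ hy
    exact (QuotientGroup.eq_one_iff x).mpr (h3 ⟨hy, hx⟩)

theorem PSep.centralizer_pPrimeCore_le [Finite G] {p : ℕ} [Fact p.Prime] (h : PSep p G)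
    (hO : pCore p G = ⊥) : centralizer (pPrimeCore p G : Set G) ≤ pPrimeCore p G := by
  set O := pPrimeCore p G with hOdef
  set C := centralizer (O : Set G) with hC
  let π := QuotientGroup.mk' O
  by_contra hcon
  have hnt : Nontrivial (C.map π) := by
    rw [nontrivial_iff_ne_bot, Ne, Subgroup.map_eq_bot_iff, QuotientGroup.ker_mk']
    exact hcon
  have hCn : (C.map π).Normal := Normal.map inferInstance π (QuotientGroup.mk'_surjective O)
  rcases h.core_ne_bot (involves_map π C) with h1 | h1
  · apply h1
    set Mb := (pCore p (C.map π)).map (C.map π).subtype with hMb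
    have hMbc : IsPGroup p Mb := (H2.pCore_isPGroup p _).map _
    set M := Mb.comap π ⊓ C with hM
    obtain ⟨P⟩ : Nonempty (Sylow p M) := inferInstance
    have hq : IsPGroup p (M ⧸ O.subgroupOf M) := by
      intro y
      obtain ⟨x, rfl⟩ := QuotientGroup.mk_surjective y
      obtain ⟨k, hk⟩ := hMbc ⟨π x, x.2.1⟩
      refine ⟨k, ?_⟩
      rw [← QuotientGroup.mk_pow, QuotientGroup.eq_one_iff, mem_subgroupOf,
        ← QuotientGroup.eq_one_iff]
      exact congrArg Subtype.val hk
    have hsup := H2.sylow_sup_eq_top_of_isPGroup_quotient P hq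
    have hPn : (P : Subgroup M).Normal := by
      rw [← normalizer_eq_top_iff, eq_top_iff, ← hsup, sup_le_iff]
      refine ⟨le_normalizer, fun g hg => centralizer_le_normalizer _ fun x hx => ?_⟩
      exact Subtype.ext (x.2.2 g hg).symm
    have h2 : (P : Subgroup M).map M.subtype ≤ ⊥ := by
      rw [← hO, ← H2.pCore_eq_sylow_of_normal P hPn]
      exact H2.map_subtype_pCore_le p M
    rw [le_bot_iff, map_eq_bot_iff_of_injective _ (subtype_injective _)] at h2
    rw [h2, bot_sup_eq, subgroupOf_eq_top] at hsup
    rw [← map_eq_bot_iff_of_injective _ (subtype_injective _), eq_bot_iff]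
    intro y hy
    obtain ⟨x, hx, rfl⟩ := map_subtype_le _ hy
    exact (QuotientGroup.eq_one_iff x).mpr (hsup ⟨hy, hx⟩)
  · apply h1
    have := H2.map_subtype_pPrimeCore_le p (C.map π)
    rw [H2.pPrimeCore_quotient_pPrimeCore, le_bot_iff,
      map_eq_bot_iff_of_injective _ (subtype_injective _)] at this
    exact this

end H12
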