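import Mathlib
import Cfsg.Prelude.Def_PLocal
import Cfsg.Agent.H12.PSep
import Cfsg.Agent.H6.BaerSuzuki
import Cfsg.Agent.H1.Coprime

/-!
Quadratic action on elementary abelian `p`-groups and `p`-stability
(Kurzweil-Stellmacher 9.1).
-/

set_option autoImplicit false

namespace H12

open MatrixGroups Subgroup Cfsg

variable {G : Type*} [Group G]

section QuadInvolved

/-- `G` involves a subgroup of some `SL(2, q)`, `q` a power of `p`, generated by two unipotent
elements that do not lie in a common `p`-subgroup. -/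
def QuadInvolved (p : ℕ) (G : Type*) [Group G] : Prop :=
  ∃ (K : Type) (_ : Field K) (_ : Finite K) (_ : CharP K p) (u v : SL(2, K)),
    IsUnip u ∧ IsUnip v ∧ ¬ IsUnip (u * v) ∧ Involves G (closure ({u, v} : Set SL(2, K)))

theorem QuadInvolved.of_involves {p : ℕ} {Y : Type*} [Group Y] (h : QuadInvolved p Y)
    (hY : Involves G Y) : QuadInvolved p G := by
  obtain ⟨K, _, _, _, u, v, hu, hv, huv, hi⟩ := h
  exact ⟨K, inferInstance, inferInstance, inferInstance, u, v, hu, hv, huv, hY.trans hi⟩

theorem Involves.abelian_two [Finite G] {Y : Type*} [Group Y] (hY : Involves G Y)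
    (h : ∀ U : Subgroup G, IsPGroup 2 U → IsMulCommutative U) :
    ∀ U : Subgroup Y, IsPGroup 2 U → IsMulCommutative U := by
  obtain ⟨K, f, hf⟩ := hY
  exact abelian_two_subgroups_of_surjective f hf
    (abelian_two_subgroups_of_injective K.subtype K.subtype_injective h)

theorem isUnip_ne_one_of_not_isUnip_mul {K : Type*} [Field K] {u v : SL(2, K)}
    (hv : IsUnip v) (huv : ¬ IsUnip (u * v)) : u ≠ 1 := by
  rintro rfl
  exact huv (by rwa [one_mul])

theorem pCore_closure_isUnip_eq_bot {K : Type*} [Field K] {p : ℕ} [Fact p.Prime] [CharP K p]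
    {u v : SL(2, K)} (hu : IsUnip u) (hv : IsUnip v) (huv : ¬ IsUnip (u * v)) :
    pCore p (closure ({u, v} : Set SL(2, K))) = ⊥ := by
  have hn := H1.le_normalizer_map_subtype (le_normalizer (H := closure ({u, v} : Set SL(2, K))))
    (pCore p (closure ({u, v} : Set SL(2, K))))
  have := eq_bot_of_normalized_by_isUnip hu hv huv ((H2.pCore_isPGroup p _).map _)
    (hn (subset_closure (by simp))) (hn (subset_closure (by simp)))
  rwa [map_eq_bot_iff_of_injective _ (subtype_injective _)] at this

theorem not_normal_sylow_closure_isUnip {K : Type*} [Field K] {p : ℕ} [Fact p.Prime] [CharP K p]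
    {u v : SL(2, K)} (hu : IsUnip u) (hv : IsUnip v) (huv : ¬ IsUnip (u * v))
    [Finite (closure ({u, v} : Set SL(2, K)))] (P : Sylow p (closure ({u, v} : Set SL(2, K)))) :
    ¬ (P : Subgroup (closure ({u, v} : Set SL(2, K)))).Normal := by
  intro hP
  have h1 := H2.pCore_eq_sylow_of_normal P hP
  rw [pCore_closure_isUnip_eq_bot hu hv huv] at h1
  let u' : closure ({u, v} : Set SL(2, K)) := ⟨u, subset_closure (by simp)⟩
  have h2 : IsPGroup p (zpowers u') :=
    isPGroup_zpowers_of_pow_eq_one (k := 1) (by rw [pow_one]; exact Subtype.ext hu.pow_char)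
  have h3 : zpowers u' ⊓ normalizer ((P : Subgroup (closure ({u, v} : Set SL(2, K)))) :
      Set (closure ({u, v} : Set SL(2, K)))) = zpowers u' ⊓ P := h2.inf_normalizer_sylow P
  rw [normalizer_eq_top, inf_top_eq, ← h1, inf_bot_eq, zpowers_eq_bot] at h3
  exact isUnip_ne_one_of_not_isUnip_mul hv huv (congrArg Subtype.val h3)

theorem QuadInvolved.not_abelian_two [Finite G] {p : ℕ} [Fact p.Prime] (hp : p ≠ 2)
    (h : QuadInvolved p G) : ¬ ∀ U : Subgroup G, IsPGroup 2 U → IsMulCommutative U := by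
  obtain ⟨K, _, _, _, u, v, hu, hv, huv, hi⟩ := h
  intro h2
  obtain ⟨P⟩ : Nonempty (Sylow p (closure ({u, v} : Set SL(2, K)))) := inferInstance
  exact not_normal_sylow_closure_isUnip hu hv huv P
    (sylow_normal_of_abelian_two hp _ _ (Subgroup.subtype _) (subtype_injective _) rfl
      (hi.abelian_two h2) P)

theorem QuadInvolved.three_of_pSep {p : ℕ} [Fact p.Prime] (hp : p ≠ 2)
    (h : QuadInvolved p G) (hs : PSep p G) : p = 3 ∧ Involves G SL(2, ZMod 3) := by
  obtain ⟨K, _, _, _, u, v, hu, hv, huv, hi⟩ := h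
  set L := closure ({u, v} : Set SL(2, K)) with hL
  have huL : u ∈ L := subset_closure (by simp)
  have hC := (hs.of_involves hi).centralizer_pPrimeCore_le (pCore_closure_isUnip_eq_bot hu hv huv)
  have hu1 := isUnip_ne_one_of_not_isUnip_mul hv huv
  obtain ⟨h3, x, hx, g, -, -, hg⟩ := sl_two_three_of_normalized hp hu hu1
    (R := (pPrimeCore p L).map L.subtype)
    (by rw [H2.card_map_subtype]; exact H2.pPrimeCore_coprime p L)
    (H1.le_normalizer_map_subtype le_normalizer _ huL) (by
      by_contra hcon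
      push Not at hcon
      have h1 : (⟨u, huL⟩ : L) ∈ pPrimeCore p L :=
        hC fun x hx => Subtype.ext (hcon x (mem_map_of_mem _ hx))
      have h2 := H3.orderOf_coprime_of_mem (H2.pPrimeCore_coprime p L) h1
      exact hu1 (congrArg Subtype.val (H3.eq_one_of_pow_eq_one_of_coprime
        (pow_orderOf_eq_one (⟨u, huL⟩ : L)) (Subtype.ext hu.pow_char) h2)))
  refine ⟨h3, hi.trans ?_⟩
  subst h3
  have hle : (primeEmb 3 g).range ≤ L := by
    rw [hg, closure_le]
    have hxL : x ∈ L := map_subtype_le _ hx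
    rintro y (rfl | rfl)
    · exact huL
    · exact mul_mem (mul_mem hxL (inv_mem huL)) (inv_mem hxL)
  exact (Involves.of_equiv (MonoidHom.ofInjective (primeEmb_injective 3 g)).symm).of_le hle

theorem not_quadInvolved_of_abelian_two [Finite G] {p : ℕ} [Fact p.Prime] (hp : p ≠ 2)
    (h : ∀ T : Sylow 2 G, IsMulCommutative T) : ¬ QuadInvolved p G := fun hq => by
  obtain ⟨T⟩ : Nonempty (Sylow 2 G) := inferInstance
  exact hq.not_abelian_two hp (abelian_two_subgroups_of_sylow T (h T))

theorem not_quadInvolved_of_odd [Finite G] {p : ℕ} [Fact p.Prime] (hp : p ≠ 2)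
    (h : Odd (Nat.card G)) : ¬ QuadInvolved p G := fun hq => by
  refine hq.not_abelian_two hp fun U hU => ?_
  rw [H2.IsPGroup.eq_bot_of_coprime hU (Nat.Coprime.coprime_dvd_left U.card_subgroup_dvd_card
    (Nat.coprime_two_right.mpr h))]
  infer_instance

theorem not_quadInvolved_of_pSep {p : ℕ} [Fact p.Prime] (hp : 5 ≤ p)
    (h : PSep p G) : ¬ QuadInvolved p G := fun hq => by
  have := (hq.three_of_pSep (by omega) h).1
  omega

end QuadInvolved

section Action

variable {V : Type*} [Group V]

/-- `a` acts quadratically on `V` through `α`. -/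
def IsQuad (α : G →* MulAut V) (a : G) : Prop := ∀ v : V, α a (α a v * v⁻¹) = α a v * v⁻¹

theorem IsQuad.inv {α : G →* MulAut V} {a : G} (h : IsQuad α a) : IsQuad α a⁻¹ := by
  intro v
  have h1 := h (α a⁻¹ v)
  have h2 : α a (α a⁻¹ v) = v := by rw [map_inv]; simp
  rw [h2] at h1
  have h3 : α a⁻¹ v * v⁻¹ = (v * (α a⁻¹ v)⁻¹)⁻¹ := by group
  rw [h3, map_inv (α a⁻¹)]
  congr 1
  conv_lhs => rw [← h1]
  rw [map_inv α]; simp

theorem IsQuad.conj {α : G →* MulAut V} {a : G} (h : IsQuad α a) (g : G) :
    IsQuad α (g * a * g⁻¹) := by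
  intro v
  have h1 := congrArg (α g) (h (α g⁻¹ v))
  simpa using h1

theorem IsQuad.comp {G' : Type*} [Group G'] {α : G →* MulAut V} {f : G' →* G} {a : G'}
    (h : IsQuad α (f a)) : IsQuad (α.comp f) a := h

theorem exists_dual_zmod_ne_zero {A : Type*} [AddCommGroup A] {p : ℕ} [Fact p.Prime]
    [Module (ZMod p) A] {v : A} (hv : v ≠ 0) : ∃ f : Module.Dual (ZMod p) A, f v ≠ 0 :=
  Module.Projective.exists_dual_ne_zero (ZMod p) hv

theorem exists_addMonoidHom_ne_zero' {A : Type*} [AddCommGroup A] {p : ℕ} [Fact p.Prime]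
    (hA : ∀ x : A, p • x = 0) (K : Type*) [Field K] [CharP K p] {v : A} (hv : v ≠ 0) :
    ∃ f : A →+ K, f v ≠ 0 := by
  letI : Module (ZMod p) A := AddCommGroup.zmodModule hA
  obtain ⟨f, hf⟩ := exists_dual_zmod_ne_zero (p := p) hv
  refine ⟨(ZMod.castHom (dvd_refl p) K).toAddMonoidHom.comp f.toAddMonoidHom, ?_⟩
  exact (map_ne_zero_iff _ (ZMod.castHom (dvd_refl p) K).injective).mpr hf

theorem exists_addMonoidHom_ne_zero {p : ℕ} [Fact p.Prime] [IsMulCommutative V]
    (hV : ∀ v : V, v ^ p = 1) (K : Type*) [Field K] [CharP K p] {v : V} (hv : v ≠ 1) :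
    ∃ f : Additive V →+ K, f (Additive.ofMul v) ≠ 0 := by
  let _ : CommGroup V := { (inferInstance : Group V) with mul_comm := mul_comm' }
  exact exists_addMonoidHom_ne_zero' (A := Additive V) (fun x => hV x.toMul) K hv

/-- The dual representation of an action on a group, with values in a field. -/
def dualRep (K : Type*) [Field K] (α : G →* MulAut V) : Representation K G (Additive V →+ K) where
  toFun g :=
    { toFun := fun f => f.comp (MonoidHom.toAdditive (α g⁻¹).toMonoidHom)
      map_add' := fun _ _ => rfl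
      map_smul' := fun _ _ => rfl }
  map_one' := by ext f v; simp
  map_mul' g h := by ext f v; simp

theorem dualRep_apply (K : Type*) [Field K] (α : G →* MulAut V) (g : G) (f : Additive V →+ K)
    (v : V) : dualRep K α g f (Additive.ofMul v) = f (Additive.ofMul (α g⁻¹ v)) := rfl

theorem dualRep_quad (K : Type*) [Field K] {α : G →* MulAut V} {a : G} (h : IsQuad α a) :
    (dualRep K α a - 1) * (dualRep K α a - 1) = 0 := by
  refine LinearMap.ext fun f => AddMonoidHom.ext fun v => ?_
  have h1 := congrArg (fun x => f (Additive.ofMul x)) (h.inv v.toMul)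
  simp only [map_mul, map_inv (α a⁻¹), ofMul_mul, ofMul_inv, map_add, map_neg] at h1
  show (f (Additive.ofMul (α a⁻¹ (α a⁻¹ v.toMul))) - f (Additive.ofMul (α a⁻¹ v.toMul))) -
    (f (Additive.ofMul (α a⁻¹ v.toMul)) - f (Additive.ofMul v.toMul)) = 0
  linear_combination h1

theorem eq_one_of_dualRep_eq_one {p : ℕ} [Fact p.Prime] [IsMulCommutative V]
    (hV : ∀ v : V, v ^ p = 1) (K : Type*) [Field K] [CharP K p] {α : G →* MulAut V} {g : G}
    (h : dualRep K α g = 1) : α g = 1 := by
  rw [← inv_eq_one, ← map_inv]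
  ext v
  by_contra hne
  obtain ⟨f, hf⟩ := exists_addMonoidHom_ne_zero hV K (v := α g⁻¹ v * v⁻¹)
    (fun e => hne (mul_inv_eq_one.mp e))
  apply hf
  have := dualRep_apply K α g f v
  rw [h] at this
  rw [ofMul_mul, ofMul_inv, map_add, map_neg, ← this]
  simp

/-- A finite field of characteristic `p` over which `X ^ m - 1` splits. -/
theorem exists_finite_field_splits (p : ℕ) [Fact p.Prime] (m : ℕ) :
    ∃ (K : Type) (_ : Field K) (_ : Finite K) (_ : CharP K p),
      ((Polynomial.X : Polynomial K) ^ m - 1).Splits := by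
  let q : Polynomial (ZMod p) := Polynomial.X ^ m - 1
  refine ⟨q.SplittingField, inferInstance, Module.finite_of_finite (ZMod p), inferInstance, ?_⟩
  simpa [q] using Polynomial.SplittingField.splits q

theorem exists_sl_two_of_action [Finite G] [Finite V] {p : ℕ} [Fact p.Prime] [IsMulCommutative V]
    (hV : ∀ v : V, v ^ p = 1) (α : G →* MulAut V) {a b : G} (hab : closure {a, b} = ⊤)
    (ha : IsQuad α a) (hb : IsQuad α b) (hnp : ¬ IsPGroup p α.range) :
    ∃ (K : Type) (_ : Field K) (_ : Finite K) (_ : CharP K p) (φ : G →* SL(2, K)),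
      IsUnip (φ a) ∧ IsUnip (φ b) ∧ ¬ IsUnip (φ a * φ b) ∧ α.ker ≤ φ.ker := by
  obtain ⟨K, _, _, _, hK⟩ := exists_finite_field_splits p (orderOf (a * b))
  have : Finite (Additive V →+ K) := DFunLike.finite _
  obtain ⟨φ, h1, h2, h3, h4⟩ := exists_sl_two_of_quadratic_pair (p := p) hab
    (q := (Polynomial.X : Polynomial K) ^ orderOf (a * b) - 1)
    (by simpa using Polynomial.X_pow_sub_C_ne_zero (orderOf_pos (a * b)) (1 : K)) hK _ _
    (dualRep K α) rfl (dualRep_quad K ha) (dualRep_quad K hb)
    (by rw [map_sub, map_pow, Polynomial.aeval_X, map_one, ← map_pow, pow_orderOf_eq_one,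
      map_one, sub_self])
    (by
      by_contra hcon
      push Not at hcon
      apply hnp
      rintro ⟨_, g, rfl⟩
      obtain ⟨k, hk⟩ := hcon g
      refine ⟨k, Subtype.ext ?_⟩
      rw [← map_pow] at hk
      have := eq_one_of_dualRep_eq_one hV K hk
      rw [map_pow] at this
      exact this)
  refine ⟨K, inferInstance, inferInstance, inferInstance, φ, h2, h3,
    not_isUnip_mul_of_not_isPGroup (p := p) h2 h3 ?_, fun g hg => h4 g ?_⟩
  · rwa [MonoidHom.range_eq_map, ← hab, MonoidHom.map_closure, Set.image_pair] at h1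
  · refine LinearMap.ext fun f => AddMonoidHom.ext fun v => ?_
    show f (Additive.ofMul (α g⁻¹ v.toMul)) = f v
    rw [map_inv, (MonoidHom.mem_ker.mp hg)]; rfl

theorem closure_pair_subtype_eq_top (a b : G) :
    closure ({⟨a, subset_closure (by simp)⟩, ⟨b, subset_closure (by simp)⟩} :
      Set (closure ({a, b} : Set G))) = ⊤ := by
  apply map_injective (subtype_injective _)
  rw [MonoidHom.map_closure, ← MonoidHom.range_eq_map, range_subtype, Set.image_pair]
  rfl

theorem quadInvolved_of_action [Finite G] [Finite V] {p : ℕ} [Fact p.Prime] [IsMulCommutative V]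
    (hV : ∀ v : V, v ^ p = 1) (α : G →* MulAut V) {a b : G}
    (ha : IsQuad α a) (hb : IsQuad α b) (hnp : ¬ IsPGroup p (closure ({α a, α b} : Set (MulAut V)))) :
    QuadInvolved p (closure ({a, b} : Set G)) := by
  obtain ⟨K, _, _, _, φ, h1, h2, h3, -⟩ := exists_sl_two_of_action hV
    (α.comp (closure ({a, b} : Set G)).subtype) (closure_pair_subtype_eq_top a b) ha hb (by
      rwa [MonoidHom.range_comp, range_subtype, MonoidHom.map_closure, Set.image_pair])
  refine ⟨K, inferInstance, inferInstance, inferInstance, _, _, h1, h2, h3, ?_⟩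
  rw [← Set.image_pair, ← MonoidHom.map_closure, closure_pair_subtype_eq_top,
    ← MonoidHom.range_eq_map]
  exact involves_range φ

/-- A quadratically acting element of a faithful group lies in `O_p`, unless an `SL(2, q)`-type
section is involved. -/
theorem mem_pCore_of_isQuad [Finite G] [Finite V] {p : ℕ} [Fact p.Prime] [IsMulCommutative V]
    (hV : ∀ v : V, v ^ p = 1) (hG : ¬ QuadInvolved p G) {α : G →* MulAut V}
    (hα : Function.Injective α) {a : G} (ha : IsQuad α a) : a ∈ pCore p G := by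
  obtain ⟨N, hN, hNp, haN⟩ := H6.baer_suzuki_elem (p := p) a (fun g => by
    by_contra hcon
    apply hG
    refine (quadInvolved_of_action hV α ha (ha.conj g) fun h => hcon ?_).of_involves
      (involves_subgroup _)
    rw [← Set.image_pair, ← MonoidHom.map_closure] at h
    exact h.of_equiv (equivMapOfInjective _ α hα).symm)
  exact H2.le_pCore hN hNp haN

theorem mk_mem_pCore_of_isQuad [Finite G] [Finite V] {p : ℕ} [Fact p.Prime] [IsMulCommutative V]
    (hV : ∀ v : V, v ^ p = 1) (hG : ¬ QuadInvolved p G) {α : G →* MulAut V}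
    (C : Subgroup G) [C.Normal] (hC : C = α.ker) {a : G} (ha : IsQuad α a) :
    (a : G ⧸ C) ∈ pCore p (G ⧸ C) := by
  subst hC
  exact mem_pCore_of_isQuad hV (fun h => hG (h.of_involves (involves_quotient _)))
    (QuotientGroup.kerLift_injective α) ha

end Action

section Ambient

/-- The action by conjugation of `H` on a subgroup `V` that it normalizes. -/
def conjAct' {V H : Subgroup G} (hHV : H ≤ normalizer (V : Set G)) : H →* MulAut V :=
  V.normalizerMonoidHom.comp (inclusion hHV)

theorem coe_conjAct' {V H : Subgroup G} (hHV : H ≤ normalizer (V : Set G)) (h : H) (v : V) :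
    (conjAct' hHV h v : G) = h * v * (h : G)⁻¹ := rfl

theorem ker_conjAct' {V H : Subgroup G} (hHV : H ≤ normalizer (V : Set G)) :
    (conjAct' hHV).ker = (centralizer (V : Set G)).subgroupOf H := by
  ext h
  rw [MonoidHom.mem_ker, mem_subgroupOf, mem_centralizer_iff, MulEquiv.ext_iff]
  constructor
  · intro hh v hv
    have := congrArg Subtype.val (hh ⟨v, hv⟩)
    rw [coe_conjAct', mul_inv_eq_iff_eq_mul] at this
    exact this.symm
  · intro hh v
    apply Subtype.ext
    rw [coe_conjAct', mul_inv_eq_iff_eq_mul]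
    exact (hh v v.2).symm

theorem conjAct'_injective {V H : Subgroup G} (hHV : H ≤ normalizer (V : Set G))
    (hf : H ⊓ centralizer (V : Set G) = ⊥) : Function.Injective (conjAct' hHV) := by
  rw [← MonoidHom.ker_eq_bot_iff, ker_conjAct', subgroupOf_eq_bot, disjoint_iff, inf_comm, hf]

theorem commute_of_commutator_commutator_eq_bot {V A B : Subgroup G} (h : ⁅⁅V, A⁆, B⁆ = ⊥)
    {v a b : G} (hv : v ∈ V) (ha : a ∈ A) (hb : b ∈ B) :
    b * (a * v * a⁻¹ * v⁻¹) * b⁻¹ = a * v * a⁻¹ * v⁻¹ := by
  have h1 : a * v * a⁻¹ * v⁻¹ ∈ ⁅V, A⁆ := by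
    rw [commutator_comm]; exact commutator_mem_commutator ha hv
  rw [mul_inv_eq_iff_eq_mul]
  exact (commutator_eq_bot_iff_le_centralizer.mp h h1 b hb)

theorem isQuad_conjAct' {V H : Subgroup G} (hHV : H ≤ normalizer (V : Set G)) {a : H}
    (h : ⁅⁅V, zpowers (a : G)⁆, zpowers (a : G)⁆ = ⊥) : IsQuad (conjAct' hHV) a := fun v =>
  Subtype.ext (commute_of_commutator_commutator_eq_bot h v.2 (mem_zpowers _) (mem_zpowers _))

theorem IsElementaryAbelian.pow_eq_one {p : ℕ} {V : Subgroup G} (hV : IsElementaryAbelian p V)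
    (v : V) : v ^ p = 1 := Subtype.ext (hV.2 v v.2)

/-- Ambient form: a quadratic element of a faithful group lies in `O_p`. -/
theorem mem_map_pCore_of_quadratic [Finite G] {p : ℕ} [Fact p.Prime] {V H : Subgroup G}
    (hV : IsElementaryAbelian p V) (hHV : H ≤ normalizer (V : Set G))
    (hf : H ⊓ centralizer (V : Set G) = ⊥) (hH : ¬ QuadInvolved p H) {a : G} (haH : a ∈ H)
    (hq : ⁅⁅V, zpowers a⁆, zpowers a⁆ = ⊥) : a ∈ (pCore p H).map H.subtype := by
  have := hV.1
  exact mem_map_of_mem H.subtype (mem_pCore_of_isQuad (IsElementaryAbelian.pow_eq_one hV) hH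
    (conjAct'_injective hHV hf) (a := ⟨a, haH⟩) (isQuad_conjAct' hHV hq))

theorem quadInvolved_of_pair [Finite G] {p : ℕ} [Fact p.Prime] {V : Subgroup G}
    (hV : IsElementaryAbelian p V) {a b : G}
    (hHV : closure {a, b} ≤ normalizer (V : Set G))
    (hf : closure {a, b} ⊓ centralizer (V : Set G) = ⊥)
    (ha : ⁅⁅V, zpowers a⁆, zpowers a⁆ = ⊥) (hb : ⁅⁅V, zpowers b⁆, zpowers b⁆ = ⊥)
    (hnp : ¬ IsPGroup p (closure ({a, b} : Set G))) :
    QuadInvolved p (closure ({a, b} : Set G)) := by
  have := hV.1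
  refine (quadInvolved_of_action (IsElementaryAbelian.pow_eq_one hV) (conjAct' hHV)
    (a := ⟨a, subset_closure (by simp)⟩) (b := ⟨b, subset_closure (by simp)⟩)
    (isQuad_conjAct' hHV ha) (isQuad_conjAct' hHV hb) fun h => hnp ?_).of_involves
      (involves_subgroup _)
  rw [← Set.image_pair, ← MonoidHom.map_closure, closure_pair_subtype_eq_top,
    ← MonoidHom.range_eq_map] at h
  exact h.of_equiv (MonoidHom.ofInjective (conjAct'_injective hHV hf)).symm

end Ambient

end H12
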