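import Mathlib
import Cfsg.Agent.H12.QuadAction

/-!
Commutator calculus for actions on abelian groups, and `p`-stability of groups that do not
involve an `SL(2, q)`-type section.
-/

set_option autoImplicit false

namespace H12

open MatrixGroups Subgroup Cfsg

variable {G : Type*} [Group G]

section Commutators

theorem comm_mem_commutator {V A : Subgroup G} {v a : G} (hv : v ∈ V) (ha : a ∈ A) :
    a * v * a⁻¹ * v⁻¹ ∈ ⁅V, A⁆ := by
  rw [commutator_comm]; exact commutator_mem_commutator ha hv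

theorem commutator_le_iff' {V A R : Subgroup G} :
    ⁅V, A⁆ ≤ R ↔ ∀ a ∈ A, ∀ v ∈ V, a * v * a⁻¹ * v⁻¹ ∈ R := by
  rw [commutator_comm, commutator_le]; rfl

theorem commutator_closure_le {V R : Subgroup G} {s : Set G}
    (hsR : s ⊆ normalizer (R : Set G)) (h : ∀ g ∈ s, ∀ v ∈ V, g * v * g⁻¹ * v⁻¹ ∈ R) :
    ⁅V, closure s⁆ ≤ R := by
  rw [commutator_le_iff']
  intro g hg
  have hN : closure s ≤ normalizer (R : Set G) := (closure_le _).mpr hsR
  induction hg using closure_induction with
  | mem x hx => exact h x hx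
  | one => intro v _; simp
  | mul x y hx hy ihx ihy =>
    intro v hv
    have : x * y * v * (x * y)⁻¹ * v⁻¹ = x * (y * v * y⁻¹ * v⁻¹) * x⁻¹ * (x * v * x⁻¹ * v⁻¹) := by
      group
    rw [this]
    exact R.mul_mem ((mem_normalizer_iff.mp (hN hx) _).mp (ihy v hv)) (ihx v hv)
  | inv x hx ih =>
    intro v hv
    have : x⁻¹ * v * x⁻¹⁻¹ * v⁻¹ = x⁻¹ * (x * v * x⁻¹ * v⁻¹)⁻¹ * x⁻¹⁻¹ := by group
    rw [this]
    exact (mem_normalizer_iff.mp (inv_mem (hN hx)) _).mp (R.inv_mem (ih v hv))

theorem le_normalizer_of_commutator_le_of_le {V A R : Subgroup G} (hRV : R ≤ V)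
    (h : ⁅V, A⁆ ≤ R) : A ≤ normalizer (R : Set G) :=
  le_normalizer_iff_commutator_le_left.mpr ((commutator_mono hRV le_rfl).trans h)

theorem commutator_le_self_of_le_normalizer {V A : Subgroup G} (h : A ≤ normalizer (V : Set G)) :
    ⁅V, A⁆ ≤ V := le_normalizer_iff_commutator_le_left.mp h

theorem commutator_iSup_le {ι : Sort*} {V R : Subgroup G} {A : ι → Subgroup G}
    (hN : ∀ i, A i ≤ normalizer (R : Set G)) (h : ∀ i, ⁅V, A i⁆ ≤ R) : ⁅V, ⨆ i, A i⁆ ≤ R := by
  rw [iSup_eq_closure]
  apply commutator_closure_le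
  · exact Set.iUnion_subset hN
  · intro g hg v hv
    obtain ⟨i, hi⟩ := Set.mem_iUnion.mp hg
    exact h i (comm_mem_commutator hv hi)

theorem commutator_sup_le {V R A B : Subgroup G} (hA : A ≤ normalizer (R : Set G))
    (hB : B ≤ normalizer (R : Set G)) (h1 : ⁅V, A⁆ ≤ R) (h2 : ⁅V, B⁆ ≤ R) : ⁅V, A ⊔ B⁆ ≤ R := by
  rw [sup_eq_iSup]
  exact commutator_iSup_le (fun b => by cases b <;> assumption) (fun b => by cases b <;> assumption)

theorem commutator_iSup_eq {ι : Sort*} {V : Subgroup G} {A : ι → Subgroup G}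
    (hN : ∀ i, A i ≤ normalizer (V : Set G)) : ⁅V, ⨆ i, A i⁆ = ⨆ i, ⁅V, A i⁆ := by
  refine le_antisymm (commutator_iSup_le (fun i => ?_) fun i => le_iSup (fun i => ⁅V, A i⁆) i)
    (iSup_le fun i => commutator_mono le_rfl (le_iSup A i))
  exact le_normalizer_of_commutator_le_of_le
    (iSup_le fun j => commutator_le_self_of_le_normalizer (hN j)) (le_iSup (fun i => ⁅V, A i⁆) i)

theorem commutator_sup_eq {V A B : Subgroup G} (hA : A ≤ normalizer (V : Set G))
    (hB : B ≤ normalizer (V : Set G)) : ⁅V, A ⊔ B⁆ = ⁅V, A⁆ ⊔ ⁅V, B⁆ := by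
  have hle : ⁅V, A⁆ ⊔ ⁅V, B⁆ ≤ V :=
    sup_le (commutator_le_self_of_le_normalizer hA) (commutator_le_self_of_le_normalizer hB)
  exact le_antisymm (commutator_sup_le (le_normalizer_of_commutator_le_of_le hle le_sup_left)
    (le_normalizer_of_commutator_le_of_le hle le_sup_right) le_sup_left le_sup_right)
    (sup_le (commutator_mono le_rfl le_sup_left) (commutator_mono le_rfl le_sup_right))

theorem le_normalizer_of_le_of_comm {V U W : Subgroup G} (hV : IsMulCommutative V) (hU : U ≤ V)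
    (hW : W ≤ V) : U ≤ normalizer (W : Set G) :=
  (hU.trans ((le_centralizer V).trans (centralizer_le hW))).trans (centralizer_le_normalizer _)

theorem le_centralizer_of_le_of_comm {V U W : Subgroup G} (hV : IsMulCommutative V) (hU : U ≤ V)
    (hW : W ≤ V) : U ≤ centralizer (W : Set G) :=
  hU.trans ((le_centralizer V).trans (centralizer_le hW))

theorem sup_commutator_eq_of_comm {V U W A : Subgroup G} (hV : IsMulCommutative V) (hU : U ≤ V)
    (hW : W ≤ V) (hA : A ≤ normalizer (V : Set G)) : ⁅U ⊔ W, A⁆ = ⁅U, A⁆ ⊔ ⁅W, A⁆ := by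
  have hle : ⁅U, A⁆ ⊔ ⁅W, A⁆ ≤ V :=
    sup_le ((commutator_mono hU le_rfl).trans (commutator_le_self_of_le_normalizer hA))
      ((commutator_mono hW le_rfl).trans (commutator_le_self_of_le_normalizer hA))
  refine le_antisymm ?_
    (sup_le (commutator_mono le_sup_left le_rfl) (commutator_mono le_sup_right le_rfl))
  rw [commutator_comm]
  refine commutator_sup_le (le_normalizer_of_le_of_comm hV hU hle)
    (le_normalizer_of_le_of_comm hV hW hle) ?_ ?_
  · rw [commutator_comm]; exact le_sup_left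
  · rw [commutator_comm]; exact le_sup_right

theorem commutator_eq_bot_iff' {V A : Subgroup G} : ⁅V, A⁆ = ⊥ ↔ A ≤ centralizer (V : Set G) := by
  rw [commutator_comm, commutator_eq_bot_iff_le_centralizer]

theorem conj_pow_eq_of_commute {a v : G} (h : a * (a * v * a⁻¹ * v⁻¹) * a⁻¹ = a * v * a⁻¹ * v⁻¹)
    (n : ℕ) : a ^ n * v * (a ^ n)⁻¹ = (a * v * a⁻¹ * v⁻¹) ^ n * v := by
  induction n with
  | zero => simp
  | succ n ih =>
    have h1 : a ^ (n + 1) * v * (a ^ (n + 1))⁻¹ = a * (a ^ n * v * (a ^ n)⁻¹) * a⁻¹ := by group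
    have h2 : a * (a * v * a⁻¹ * v⁻¹) ^ n * a⁻¹ = (a * v * a⁻¹ * v⁻¹) ^ n := by
      rw [← conj_pow, h]
    rw [h1, ih, pow_succ]
    calc a * ((a * v * a⁻¹ * v⁻¹) ^ n * v) * a⁻¹
        = (a * (a * v * a⁻¹ * v⁻¹) ^ n * a⁻¹) * (a * v * a⁻¹) := by group
      _ = _ := by rw [h2]; group

theorem pow_mem_centralizer_of_quadratic {p : ℕ} {V : Subgroup G} (hV : ∀ v ∈ V, v ^ p = 1)
    {a : G} (ha : a ∈ normalizer (V : Set G)) {A : Subgroup G} (haA : a ∈ A)
    (hq : ⁅⁅V, A⁆, A⁆ = ⊥) : a ^ p ∈ centralizer (V : Set G) := by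
  intro v hv
  have h := conj_pow_eq_of_commute (commute_of_commutator_commutator_eq_bot hq hv haA haA) p
  rw [hV _ (V.mul_mem ((mem_normalizer_iff.mp ha v).mp hv) (V.inv_mem hv)), one_mul,
    mul_inv_eq_iff_eq_mul] at h
  exact h.symm

theorem commutator_le_centralizer_of_quadratic {V A : Subgroup G} (hq : ⁅⁅V, A⁆, A⁆ = ⊥) :
    ⁅A, A⁆ ≤ centralizer (V : Set G) := by
  rw [← commutator_eq_bot_iff_le_centralizer]
  exact commutator_commutator_eq_bot_of_rotate (by rwa [commutator_comm A V]) hq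

/-- A group acting quadratically and faithfully on a group of exponent `p` is a `p`-group. -/
theorem isPGroup_of_quadratic {p : ℕ} {V A : Subgroup G} (hV : ∀ v ∈ V, v ^ p = 1)
    (hA : A ≤ normalizer (V : Set G)) (hf : A ⊓ centralizer (V : Set G) = ⊥)
    (hq : ⁅⁅V, A⁆, A⁆ = ⊥) : IsPGroup p A := by
  intro a
  refine ⟨1, Subtype.ext ?_⟩
  have : (a : G) ^ p ∈ A ⊓ centralizer (V : Set G) :=
    ⟨A.pow_mem a.2 p, pow_mem_centralizer_of_quadratic hV (hA a.2) a.2 hq⟩
  rw [hf] at this
  simpa using this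

/-- The map `v ↦ [a, v]` on an abelian subgroup normalized by `a`. -/
def commHom (V : Subgroup G) [IsMulCommutative V] (a : G) (ha : a ∈ normalizer (V : Set G)) :
    V →* G where
  toFun v := a * v * a⁻¹ * (v : G)⁻¹
  map_one' := by simp
  map_mul' v w := by
    have h1 : a * w * a⁻¹ * (w : G)⁻¹ * (v : G)⁻¹ = (v : G)⁻¹ * (a * w * a⁻¹ * (w : G)⁻¹) :=
      congrArg Subtype.val (mul_comm' (⟨a * w * a⁻¹ * (w : G)⁻¹,
        V.mul_mem ((mem_normalizer_iff.mp ha w).mp w.2) (V.inv_mem w.2)⟩ : V) v⁻¹)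
    calc a * ((v * w : V) : G) * a⁻¹ * ((v * w : V) : G)⁻¹
        = a * v * a⁻¹ * (a * w * a⁻¹ * (w : G)⁻¹ * (v : G)⁻¹) := by rw [coe_mul]; group
      _ = _ := by rw [h1]; group

theorem commHom_apply (V : Subgroup G) [IsMulCommutative V] (a : G)
    (ha : a ∈ normalizer (V : Set G)) (v : V) : commHom V a ha v = a * v * a⁻¹ * (v : G)⁻¹ := rfl

theorem centralizer_zpowers (a : G) : centralizer (zpowers a : Set G) = centralizer {a} := by
  rw [zpowers_eq_closure, centralizer_closure]

theorem ker_commHom (V : Subgroup G) [IsMulCommutative V] (a : G)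
    (ha : a ∈ normalizer (V : Set G)) :
    (commHom V a ha).ker = (centralizer (zpowers a : Set G)).subgroupOf V := by
  ext v
  rw [MonoidHom.mem_ker, commHom_apply, mem_subgroupOf, centralizer_zpowers,
    mem_centralizer_singleton_iff, mul_inv_eq_one, mul_inv_eq_iff_eq_mul, eq_comm]

theorem range_commHom (V : Subgroup G) [IsMulCommutative V] (a : G)
    (ha : a ∈ normalizer (V : Set G)) : (commHom V a ha).range = ⁅V, zpowers a⁆ := by
  refine le_antisymm ?_ ?_
  · rintro _ ⟨v, rfl⟩
    exact comm_mem_commutator v.2 (mem_zpowers a)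
  · rw [zpowers_eq_closure]
    apply commutator_closure_le
    · rw [Set.singleton_subset_iff, SetLike.mem_coe, mem_normalizer_iff]
      intro x
      constructor
      · rintro ⟨v, rfl⟩
        refine ⟨⟨a * v * a⁻¹, (mem_normalizer_iff.mp ha v).mp v.2⟩, ?_⟩
        simp only [commHom_apply]; group
      · rintro ⟨v, hv⟩
        refine ⟨⟨a⁻¹ * v * a⁻¹⁻¹, (mem_normalizer_iff.mp (inv_mem ha) v).mp v.2⟩, ?_⟩
        simp only [commHom_apply] at hv ⊢
        calc _ = a⁻¹ * (a * v * a⁻¹ * (v : G)⁻¹) * a := by group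
          _ = x := by rw [hv]; group
    · rintro _ rfl v hv
      exact ⟨⟨v, hv⟩, rfl⟩

theorem card_commutator_zpowers_eq_relIndex (V : Subgroup G) [IsMulCommutative V] {a : G}
    (ha : a ∈ normalizer (V : Set G)) :
    Nat.card (⁅V, zpowers a⁆ : Subgroup G) = (centralizer (zpowers a : Set G)).relIndex V := by
  rw [← range_commHom V a ha, ← index_ker, ker_commHom]; rfl

theorem card_inf_centralizer_mul_card_commutator (V : Subgroup G) [IsMulCommutative V] {a : G}
    (ha : a ∈ normalizer (V : Set G)) :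
    Nat.card (V ⊓ centralizer (zpowers a : Set G) : Subgroup G) *
      Nat.card (⁅V, zpowers a⁆ : Subgroup G) = Nat.card V := by
  rw [card_commutator_zpowers_eq_relIndex V ha, inf_comm, H2.card_inf_mul_relIndex]

end Commutators

section Stable

theorem mk_mem_pCore_iff {p : ℕ} {C : Subgroup G} [C.Normal] {a : G} :
    (a : G ⧸ C) ∈ pCore p (G ⧸ C) ↔
      ∃ D : Subgroup G, D.Normal ∧ a ∈ D ∧ ∀ d ∈ D, ∃ k : ℕ, d ^ p ^ k ∈ C := by
  constructor
  · intro h
    refine ⟨(pCore p (G ⧸ C)).comap (QuotientGroup.mk' C), inferInstance, h, fun d hd => ?_⟩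
    obtain ⟨k, hk⟩ := H2.pCore_isPGroup p (G ⧸ C) ⟨d, hd⟩
    exact ⟨k, (QuotientGroup.eq_one_iff _).mp (congrArg Subtype.val hk)⟩
  · rintro ⟨D, hD, ha, h⟩
    refine H2.le_pCore (hD.map (QuotientGroup.mk' C) (QuotientGroup.mk'_surjective C)) ?_
      (mem_map_of_mem _ ha)
    rintro ⟨_, d, hd, rfl⟩
    obtain ⟨k, hk⟩ := h d hd
    exact ⟨k, Subtype.ext ((QuotientGroup.eq_one_iff _).mpr hk)⟩

theorem ker_conjNormal (V : Subgroup G) [V.Normal] :
    (MulAut.conjNormal : G →* MulAut V).ker = centralizer (V : Set G) := by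
  ext h
  rw [MonoidHom.mem_ker, mem_centralizer_iff, MulEquiv.ext_iff]
  constructor
  · intro hh v hv
    have := congrArg Subtype.val (hh ⟨v, hv⟩)
    rw [MulAut.conjNormal_apply, mul_inv_eq_iff_eq_mul] at this
    exact this.symm
  · intro hh v
    apply Subtype.ext
    rw [MulAut.conjNormal_apply, mul_inv_eq_iff_eq_mul]
    exact (hh v v.2).symm

theorem isQuad_conjNormal {V : Subgroup G} [V.Normal] {a : G}
    (h : ⁅⁅V, zpowers a⁆, zpowers a⁆ = ⊥) : IsQuad (MulAut.conjNormal : G →* MulAut V) a :=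
  fun v => Subtype.ext
    (commute_of_commutator_commutator_eq_bot h v.2 (mem_zpowers _) (mem_zpowers _))

variable [Finite G] {p : ℕ} [Fact p.Prime]

theorem isPStableOn_of_elementary (hG : ¬ QuadInvolved p G) (V : Subgroup G) [V.Normal]
    (hV : IsElementaryAbelian p V) : IsPStableOn p V := by
  intro a ha
  have := hV.1
  exact mk_mem_pCore_of_isQuad (IsElementaryAbelian.pow_eq_one hV) hG _ (ker_conjNormal V).symm
    (isQuad_conjNormal ha)

theorem isPStableOnSection_of_elementary (hG : ¬ QuadInvolved p G) (K N : Subgroup G) [K.Normal]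
    [N.Normal] (hV : IsElementaryAbelian p (K.map (QuotientGroup.mk' N))) :
    IsPStableOnSection p K N := by
  intro a ha
  have hn : (K.map (QuotientGroup.mk' N)).Normal :=
    Normal.map inferInstance _ (QuotientGroup.mk'_surjective N)
  have h := isPStableOn_of_elementary (fun h => hG (h.of_involves (involves_quotient N))) _ hV
    (QuotientGroup.mk' N a) (by
      rw [← MonoidHom.map_zpowers, ← map_commutator, ← map_commutator, Subgroup.map_eq_bot_iff,
        QuotientGroup.ker_mk']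
      exact ha)
  set C := centralizer ((K.map (QuotientGroup.mk' N) : Subgroup (G ⧸ N)) : Set (G ⧸ N)) with hC
  refine ⟨((pCore p _).comap (QuotientGroup.mk' C)).comap (QuotientGroup.mk' N), inferInstance,
    comap_mono (H2.le_comap_mk' C _), ?_, h⟩
  obtain ⟨k, hk⟩ := IsPGroup.iff_card.mp (H2.pCore_isPGroup p ((G ⧸ N) ⧸ C))
  refine ⟨k, ?_⟩
  rw [sectionKernel, relIndex_comap, H2.map_comap_mk', ← hC, H2.relIndex_eq_card_map_mk',
    H2.map_comap_mk', hk]

omit [Fact p.Prime] in
theorem mem_sectionKernel_iff {K N : Subgroup G} [N.Normal] {g : G} :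
    g ∈ sectionKernel K N ↔ ∀ k ∈ K, g * k * g⁻¹ * k⁻¹ ∈ N := by
  rw [sectionKernel, mem_comap, mem_centralizer_iff]
  constructor
  · intro h k hk
    have := h _ (mem_map_of_mem (QuotientGroup.mk' N) hk)
    rw [← QuotientGroup.eq_one_iff]
    simp only [QuotientGroup.mk'_apply] at this
    simp only [QuotientGroup.mk_mul, QuotientGroup.mk_inv]
    rw [← this]; group
  · rintro h _ ⟨k, hk, rfl⟩
    have := (QuotientGroup.eq_one_iff _).mpr (h k hk)
    simp only [QuotientGroup.mk_mul, QuotientGroup.mk_inv] at this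
    simp only [QuotientGroup.mk'_apply]
    calc (k : G ⧸ N) * g = ((g : G ⧸ N) * k * (g : G ⧸ N)⁻¹ * (k : G ⧸ N)⁻¹) * (k * g) := by
          rw [this, one_mul]
      _ = _ := by group

theorem isElementaryAbelian_map_frattini {P : Subgroup G} [P.Normal] (hP : IsPGroup p P) :
    IsElementaryAbelian p (P.map (QuotientGroup.mk' ((frattini P).map P.subtype))) := by
  constructor
  · rw [← commutator_self_eq_bot_iff, ← map_commutator, Subgroup.map_eq_bot_iff,
      QuotientGroup.ker_mk', ← map_subtype_commutator]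
    exact map_mono (H2.IsPGroup.commutator_le_frattini hP)
  · rintro _ ⟨x, hx, rfl⟩
    rw [← map_pow, QuotientGroup.mk'_apply, QuotientGroup.eq_one_iff]
    exact ⟨⟨x, hx⟩ ^ p, H2.IsPGroup.pow_mem_frattini hP _, rfl⟩

/-- An element acting trivially on the Frattini quotient of a `p`-group acts as a
`p`-element. -/
theorem exists_pow_mem_centralizer_of_frattini {P : Subgroup G} (hP : IsPGroup p P) {g : G}
    (hg : g ∈ normalizer (P : Set G))
    (h : ∀ k ∈ P, g * k * g⁻¹ * k⁻¹ ∈ (frattini P).map P.subtype) :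
    ∃ k : ℕ, g ^ p ^ k ∈ centralizer (P : Set G) := by
  obtain ⟨k, hk⟩ := H3.exists_pow_orderOf_coprime p g
  refine ⟨k, H1.le_centralizer_of_frattini (zpowers (g ^ p ^ k)) P
    (zpowers_le.mpr (pow_mem hg _)) ?_ ?_ (mem_zpowers _)⟩
  · obtain ⟨l, hl⟩ := IsPGroup.iff_card.mp (hP.to_subgroup (frattini P))
    rw [hl, Nat.card_zpowers]
    exact hk.pow_right l
  · have h1 : ⁅P, zpowers g⁆ ≤ (frattini P).map P.subtype := by
      rw [zpowers_eq_closure]
      refine commutator_closure_le ?_ ?_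
      · rintro _ rfl
        exact H1.le_normalizer_map_subtype le_rfl _ hg
      · rintro _ rfl; exact h
    intro a ha x hx
    exact h1 (comm_mem_commutator hx (zpowers_le.mpr (pow_mem (mem_zpowers g) _) ha))

/-- A group without `SL(2, q)`-type sections acts `p`-stably on each normal `p`-subgroup. -/
theorem isPStableOn_of_isPGroup (hG : ¬ QuadInvolved p G) (P : Subgroup G) [P.Normal]
    (hP : IsPGroup p P) : IsPStableOn p P := by
  intro a ha
  obtain ⟨D, hD, hle, ⟨k, hk⟩, haD⟩ := isPStableOnSection_of_elementary hG P _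
    (isElementaryAbelian_map_frattini hP) a (by rw [ha]; exact bot_le)
  refine mk_mem_pCore_iff.mpr ⟨D, hD, haD, fun d hd => ?_⟩
  have hn : (sectionKernel P ((frattini P).map P.subtype)).Normal := by
    unfold sectionKernel
    have : (P.map (QuotientGroup.mk' ((frattini P).map P.subtype))).Normal :=
      Normal.map inferInstance _ (QuotientGroup.mk'_surjective _)
    infer_instance
  have h1 : d ^ p ^ k ∈ sectionKernel P ((frattini P).map P.subtype) := by
    rw [← hk]; exact pow_relIndex_mem _ hd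
  obtain ⟨l, hl⟩ := exists_pow_mem_centralizer_of_frattini hP (le_normalizer_of_normal (mem_top _))
    (mem_sectionKernel_iff.mp h1)
  exact ⟨k + l, by rwa [pow_add, pow_mul]⟩

omit [Finite G] in
theorem centralizer_subgroupOf_eq {P N : Subgroup G} (h : P ≤ N) :
    centralizer ((P.subgroupOf N : Subgroup N) : Set N) = (centralizer (P : Set G)).subgroupOf N := by
  ext x
  rw [mem_subgroupOf, mem_centralizer_iff, mem_centralizer_iff]
  exact ⟨fun hx y hy => congrArg Subtype.val (hx ⟨y, h hy⟩ hy),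
    fun hx y hy => Subtype.ext (hx y hy)⟩

/-- `p`-stability in the form with an acting subgroup and an arbitrary `p`-subgroup. -/
theorem map_le_pCore_of_quadratic (hG : ¬ QuadInvolved p G) {P A : Subgroup G}
    (hP : IsPGroup p P) (hq : ⁅⁅P, A⁆, A⁆ = ⊥) :
    (A.subgroupOf (normalizer (P : Set G))).map
        (QuotientGroup.mk' ((centralizer (P : Set G)).subgroupOf (normalizer (P : Set G))))
      ≤ pCore p _ := by
  rintro _ ⟨a, ha, rfl⟩
  have h := isPStableOn_of_isPGroup (G := normalizer (P : Set G))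
    (fun h => hG (h.of_involves (involves_subgroup _))) (P.subgroupOf _) hP.comap_subtype a (by
      rw [← map_eq_bot_iff_of_injective _ (subtype_injective _), map_commutator, map_commutator,
        map_subgroupOf_eq_of_le le_normalizer, MonoidHom.map_zpowers, eq_bot_iff, ← hq]
      exact commutator_mono (commutator_mono le_rfl (zpowers_le.mpr ha)) (zpowers_le.mpr ha))
  rw [QuotientGroup.mk'_apply, mk_mem_pCore_iff]
  rw [mk_mem_pCore_iff, centralizer_subgroupOf_eq le_normalizer] at h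
  exact h

theorem isPStable_of_not_quadInvolved (hp : p ≠ 2) (hO : pCore p G ≠ ⊥)
    (hG : ¬ QuadInvolved p G) : IsPStable p G :=
  ⟨(Fact.out : p.Prime).odd_of_ne_two hp, hO,
    fun _ _ _ hP _ _ _ hq => map_le_pCore_of_quadratic hG hP hq⟩

theorem isActionPStable_of_not_quadInvolved (hG : ¬ QuadInvolved p G) : IsActionPStable p G := by
  refine ⟨fun V _ hV => isPStableOn_of_elementary hG V hV,
    isPStableOnSection_of_elementary hG _ _
      (isElementaryAbelian_map_frattini (H2.pCore_isPGroup p G)), fun S V _ hV => ?_⟩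
  refine isPStableOn_of_isPGroup (fun h => hG (h.of_involves (involves_subgroup _))) V ?_
  exact (S.isPGroup'.to_le (hV.trans (map_subtype_le _))).of_equiv
    (equivMapOfInjective _ _ (subtype_injective _)).symm

end Stable

end H12
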