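import Mathlib
import Cfsg.Agent.H12.PStable
import Cfsg.Agent.H13.Basic
import Cfsg.Agent.H3.Fusion
import Cfsg.Agent.H2.MinNormal

/-! The Thompson subgroup `J` (elementary abelian version): basic API. -/

open Subgroup Cfsg Pointwise

namespace H12

variable {G : Type*} [Group G] {G' : Type*} [Group G'] {p : ℕ}

/-! ### elementary abelian subgroups -/

theorem isEA_iff {A : Subgroup G} :
    IsElementaryAbelian p A ↔ (∀ x ∈ A, ∀ y ∈ A, x * y = y * x) ∧ ∀ a ∈ A, a ^ p = 1 := by
  rw [IsElementaryAbelian, H13.isMulCommutative_iff_forall_mem]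

theorem isEA_iff' {A : Subgroup G} :
    IsElementaryAbelian p A ↔ A ≤ centralizer (A : Set G) ∧ ∀ a ∈ A, a ^ p = 1 := by
  rw [isEA_iff]
  refine and_congr_left fun _ => ⟨fun h x hx => ?_, fun h x hx y hy => ?_⟩
  · exact mem_centralizer_iff.2 fun y hy => h y hy x hx
  · exact (mem_centralizer_iff.1 (h hx) y hy).symm

theorem ea_comm {A : Subgroup G} (h : IsElementaryAbelian p A) {x y : G} (hx : x ∈ A)
    (hy : y ∈ A) : x * y = y * x := (isEA_iff.1 h).1 x hx y hy

theorem ea_le_centralizer {A : Subgroup G} (h : IsElementaryAbelian p A) :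
    A ≤ centralizer (A : Set G) := (isEA_iff'.1 h).1

theorem ea_of_le {A B : Subgroup G} (h : IsElementaryAbelian p A) (hB : B ≤ A) :
    IsElementaryAbelian p B :=
  isEA_iff.2 ⟨fun _ hx _ hy => ea_comm h (hB hx) (hB hy), fun a ha => h.2 a (hB ha)⟩

theorem ea_bot : IsElementaryAbelian p (⊥ : Subgroup G) :=
  isEA_iff.2 ⟨fun x hx y hy => by rw [mem_bot.1 hx, mem_bot.1 hy],
    fun a ha => by rw [mem_bot.1 ha, one_pow]⟩

theorem ea_map {A : Subgroup G} (h : IsElementaryAbelian p A) (f : G →* G') :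
    IsElementaryAbelian p (A.map f) := by
  refine isEA_iff.2 ⟨?_, ?_⟩
  · rintro _ ⟨x, hx, rfl⟩ _ ⟨y, hy, rfl⟩
    rw [← map_mul, ← map_mul, ea_comm h hx hy]
  · rintro _ ⟨x, hx, rfl⟩
    rw [← map_pow, h.2 x hx, map_one]

theorem eq_of_map_eq_of_inf_ker {H : Subgroup G} {f : G →* G'} (hf : H ⊓ f.ker = ⊥) {x y : G}
    (hx : x ∈ H) (hy : y ∈ H) (h : f x = f y) : x = y := by
  have : x * y⁻¹ ∈ H ⊓ f.ker :=
    mem_inf.2 ⟨mul_mem hx (inv_mem hy), by simp [MonoidHom.mem_ker, h]⟩
  rw [hf, mem_bot] at this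
  exact mul_inv_eq_one.1 this

theorem ea_of_map {A : Subgroup G} {f : G →* G'} (hf : A ⊓ f.ker = ⊥)
    (h : IsElementaryAbelian p (A.map f)) : IsElementaryAbelian p A := by
  refine isEA_iff.2 ⟨fun x hx y hy => ?_, fun x hx => ?_⟩
  · refine eq_of_map_eq_of_inf_ker hf (mul_mem hx hy) (mul_mem hy hx) ?_
    rw [map_mul, map_mul]
    exact ea_comm h (mem_map_of_mem f hx) (mem_map_of_mem f hy)
  · refine eq_of_map_eq_of_inf_ker hf (pow_mem hx _) (one_mem _) ?_
    rw [map_pow, map_one]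
    exact h.2 _ (mem_map_of_mem f hx)

theorem ea_subgroupOf {A : Subgroup G} (h : IsElementaryAbelian p A) (H : Subgroup G) :
    IsElementaryAbelian p (A.subgroupOf H) :=
  isEA_iff.2 ⟨fun _ hx _ hy => Subtype.ext (ea_comm h hx hy),
    fun a ha => Subtype.ext (h.2 a ha)⟩

theorem ea_conj {A : Subgroup G} (h : IsElementaryAbelian p A) (g : G) :
    IsElementaryAbelian p (MulAut.conj g • A : Subgroup G) := ea_map h _

theorem ea_isPGroup {A : Subgroup G} (h : IsElementaryAbelian p A) : IsPGroup p A :=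
  H2.isPGroup_of_forall_pow_eq_one h.2

theorem ea_sup {A B : Subgroup G} (hA : IsElementaryAbelian p A) (hB : IsElementaryAbelian p B)
    (h : A ≤ centralizer (B : Set G)) : IsElementaryAbelian p (A ⊔ B) := by
  have hn := H13.le_normalizer_of_le_centralizer h
  have hc : ∀ a ∈ A, ∀ b ∈ B, Commute a b := fun a ha b hb =>
    (mem_centralizer_iff.1 (h ha) b hb).symm
  refine isEA_iff.2 ⟨fun x hx y hy => ?_, fun x hx => ?_⟩
  · obtain ⟨a, ha, b, hb, rfl⟩ := (H13.mem_sup_of_le_normalizer hn).1 hx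
    obtain ⟨a', ha', b', hb', rfl⟩ := (H13.mem_sup_of_le_normalizer hn).1 hy
    have h1 : Commute a a' := ea_comm hA ha ha'
    have h2 : Commute b b' := ea_comm hB hb hb'
    exact ((h1.mul_right (hc a ha b' hb')).mul_left ((hc a' ha' b hb).symm.mul_right h2))
  · obtain ⟨a, ha, b, hb, rfl⟩ := (H13.mem_sup_of_le_normalizer hn).1 hx
    rw [(hc a ha b hb).mul_pow, hA.2 a ha, hB.2 b hb, one_mul]

theorem ea_zpowers {x : G} (h : x ^ p = 1) : IsElementaryAbelian p (zpowers x) := by
  refine ⟨inferInstance, ?_⟩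
  rintro _ ⟨k, rfl⟩
  show (x ^ k) ^ p = 1
  rw [← zpow_natCast, ← zpow_mul, mul_comm, zpow_mul, zpow_natCast, h, one_zpow]

/-- a subgroup of an abelian group generated by elements of exponent `p` -/
theorem ea_closure {s : Set G} (hc : ∀ x ∈ s, ∀ y ∈ s, x * y = y * x) (hp : ∀ x ∈ s, x ^ p = 1) :
    IsElementaryAbelian p (closure s) := by
  have h1 : closure s ≤ centralizer (closure s : Set G) := by
    rw [closure_le]
    intro x hx
    have : closure s ≤ centralizer {x} := by
      rw [closure_le]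
      intro y hy
      exact mem_centralizer_singleton_iff.2 (hc y hy x hx)
    exact mem_centralizer_iff.2 fun y hy => mem_centralizer_singleton_iff.1 (this hy)
  refine isEA_iff'.2 ⟨h1, fun x hx => ?_⟩
  induction hx using closure_induction with
  | mem x hx => exact hp x hx
  | one => exact one_pow _
  | mul x y hx hy ihx ihy =>
    have : Commute x y := (mem_centralizer_iff.1 (h1 hy) x hx)
    rw [this.mul_pow, ihx, ihy, one_mul]
  | inv x _ ih => rw [inv_pow, ih, inv_one]

theorem ea_iSup {ι : Sort*} {A : ι → Subgroup G} {V : Subgroup G} (hV : IsMulCommutative V)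
    (hAV : ∀ i, A i ≤ V) (hA : ∀ i, ∀ a ∈ A i, a ^ p = 1) :
    IsElementaryAbelian p (⨆ i, A i) := by
  rw [iSup_eq_closure]
  refine ea_closure ?_ ?_
  · intro x hx y hy
    obtain ⟨i, hi⟩ := Set.mem_iUnion.1 hx
    obtain ⟨j, hj⟩ := Set.mem_iUnion.1 hy
    exact H13.isMulCommutative_iff_forall_mem.1 hV x (hAV i hi) y (hAV j hj)
  · intro x hx
    obtain ⟨i, hi⟩ := Set.mem_iUnion.1 hx
    exact hA i x hi

/-! ### `Ω₁` -/

theorem omega_le (H : Subgroup G) : omegaOne p H ≤ H := (closure_le _).2 fun _ hx => hx.1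

theorem mem_omega {H : Subgroup G} {x : G} (hx : x ∈ H) (hp : x ^ p = 1) : x ∈ omegaOne p H :=
  subset_closure ⟨hx, hp⟩

theorem omega_le_iff {H K : Subgroup G} : omegaOne p H ≤ K ↔ ∀ x ∈ H, x ^ p = 1 → x ∈ K :=
  (closure_le _).trans ⟨fun h _ hx hp => h ⟨hx, hp⟩, fun h x hx => h x hx.1 hx.2⟩

theorem omega_mono {H K : Subgroup G} (h : H ≤ K) : omegaOne p H ≤ omegaOne p K :=
  omega_le_iff.2 fun _ hx hp => mem_omega (h hx) hp

theorem ea_omega {H : Subgroup G} (h : H ≤ centralizer (H : Set G)) :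
    IsElementaryAbelian p (omegaOne p H) :=
  ea_closure (fun _ hx _ hy => mem_centralizer_iff.1 (h hy.1) _ hx.1) fun _ hx => hx.2

theorem inf_centralizer_le_centralizer (H : Subgroup G) :
    H ⊓ centralizer (H : Set G) ≤ centralizer ((H ⊓ centralizer (H : Set G) : Subgroup G) : Set G) :=
  fun _ hx => mem_centralizer_iff.2 fun y hy => mem_centralizer_iff.1 hx.2 y hy.1

theorem ea_omega_center (H : Subgroup G) :
    IsElementaryAbelian p (omegaOne p (H ⊓ centralizer (H : Set G))) :=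
  ea_omega (inf_centralizer_le_centralizer H)

theorem mem_omega_iff {H : Subgroup G} (h : H ≤ centralizer (H : Set G)) {x : G} :
    x ∈ omegaOne p H ↔ x ∈ H ∧ x ^ p = 1 :=
  ⟨fun hx => ⟨omega_le H hx, (ea_omega h).2 x hx⟩, fun hx => mem_omega hx.1 hx.2⟩

theorem mem_omega_center_iff {H : Subgroup G} {x : G} :
    x ∈ omegaOne p (H ⊓ centralizer (H : Set G)) ↔
      x ∈ H ∧ x ∈ centralizer (H : Set G) ∧ x ^ p = 1 := by
  rw [mem_omega_iff (inf_centralizer_le_centralizer H), mem_inf, and_assoc]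

theorem map_omega_le (H : Subgroup G) (f : G →* G') :
    (omegaOne p H).map f ≤ omegaOne p (H.map f) := by
  rw [map_le_iff_le_comap, omega_le_iff]
  intro x hx hp
  exact mem_omega (mem_map_of_mem f hx) (by rw [← map_pow, hp, map_one])

theorem map_omega {H : Subgroup G} {f : G →* G'} (hf : H ⊓ f.ker = ⊥) :
    (omegaOne p H).map f = omegaOne p (H.map f) := by
  refine le_antisymm (map_omega_le H f) (omega_le_iff.2 ?_)
  rintro _ ⟨x, hx, rfl⟩ hp
  refine mem_map_of_mem f (mem_omega hx ?_)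
  exact eq_of_map_eq_of_inf_ker hf (pow_mem hx _) (one_mem _) (by rw [map_pow, hp, map_one])

theorem map_inf_centralizer {H : Subgroup G} {f : G →* G'} (hf : H ⊓ f.ker = ⊥) :
    (H ⊓ centralizer (H : Set G)).map f = H.map f ⊓ centralizer (H.map f : Set G') := by
  refine le_antisymm (le_inf (map_mono inf_le_left)
    ((map_mono inf_le_right).trans (H13.map_centralizer_le f H))) ?_
  rintro _ ⟨⟨x, hx, rfl⟩, hc⟩
  refine mem_map_of_mem f ⟨hx, mem_centralizer_iff.2 fun y hy => ?_⟩
  refine eq_of_map_eq_of_inf_ker hf (mul_mem hy hx) (mul_mem hx hy) ?_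
  rw [map_mul, map_mul]
  exact mem_centralizer_iff.1 hc _ (mem_map_of_mem f hy)

theorem inf_ker_eq_bot_of_injective {f : G →* G'} (hf : Function.Injective f) (H : Subgroup G) :
    H ⊓ f.ker = ⊥ := by
  rw [(MonoidHom.ker_eq_bot_iff f).2 hf, inf_bot_eq]

theorem conj_omega (g : G) (H : Subgroup G) :
    MulAut.conj g • omegaOne p H = omegaOne p (MulAut.conj g • H) :=
  map_omega (inf_ker_eq_bot_of_injective (MulAut.conj g).injective H)

theorem normalizer_le_normalizer_omega (H : Subgroup G) :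
    normalizer (H : Set G) ≤ normalizer (omegaOne p H : Set G) := fun g hg => by
  rw [← H3.conj_smul_eq_iff] at hg ⊢
  rw [conj_omega, hg]

theorem normalizer_le_normalizer_omega_center (H : Subgroup G) :
    normalizer (H : Set G) ≤ normalizer (omegaOne p (H ⊓ centralizer (H : Set G)) : Set G) :=
  (H13.le_normalizer_inf le_rfl (H13.normalizer_le_normalizer_centralizer H)).trans
    (normalizer_le_normalizer_omega _)

theorem omega_ne_bot [Finite G] [hp : Fact p.Prime] {H : Subgroup G} (hH : IsPGroup p H)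
    (h : H ≠ ⊥) : omegaOne p H ≠ ⊥ := by
  obtain ⟨k, hk⟩ := IsPGroup.iff_card.1 hH
  have hk0 : k ≠ 0 := by
    rintro rfl
    exact h (card_eq_one.1 (by simpa using hk))
  obtain ⟨x, hx, ho⟩ := H2.exists_mem_orderOf_eq_prime hp.out (hk ▸ dvd_pow_self p hk0 : p ∣ Nat.card H)
  intro hb
  have : x ∈ omegaOne p H := mem_omega hx (ho ▸ pow_orderOf_eq_one x)
  rw [hb, mem_bot] at this
  rw [this, orderOf_one] at ho
  exact hp.out.one_lt.ne ho

theorem omega_center_ne_bot [Finite G] [hp : Fact p.Prime] {H : Subgroup G} (hH : IsPGroup p H)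
    (h : H ≠ ⊥) : omegaOne p (H ⊓ centralizer (H : Set G)) ≠ ⊥ :=
  omega_ne_bot (hH.to_le inf_le_left) (H2.inf_centralizer_ne_bot_of_isPGroup hH hH le_normalizer h)

theorem map_subtype_center (H : Subgroup G) :
    (center H).map H.subtype = H ⊓ centralizer (H : Set G) := by
  ext x
  constructor
  · rintro ⟨y, hy, rfl⟩
    exact ⟨y.2, mem_centralizer_iff.2 fun z hz =>
      congrArg Subtype.val (mem_center_iff.1 hy ⟨z, hz⟩)⟩
  · rintro ⟨hx, hc⟩
    exact ⟨⟨x, hx⟩, mem_center_iff.2 fun z => Subtype.ext (mem_centralizer_iff.1 hc z z.2), rfl⟩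

theorem top_inf_centralizer_top : (⊤ : Subgroup G) ⊓ centralizer ((⊤ : Subgroup G) : Set G) =
    center G := by
  rw [top_inf_eq, coe_top, centralizer_univ]

/-! ### maximal elementary abelian subgroups -/

/-- `A` is an elementary abelian subgroup of `H` of maximal order. -/
def MaxEA (p : ℕ) (H A : Subgroup G) : Prop :=
  A ≤ H ∧ IsElementaryAbelian p A ∧
    ∀ B : Subgroup G, B ≤ H → IsElementaryAbelian p B → Nat.card B ≤ Nat.card A

theorem MaxEA.le {H A : Subgroup G} (h : MaxEA p H A) : A ≤ H := h.1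
theorem MaxEA.ea {H A : Subgroup G} (h : MaxEA p H A) : IsElementaryAbelian p A := h.2.1
theorem MaxEA.card_le {H A B : Subgroup G} (h : MaxEA p H A) (hB : B ≤ H)
    (hB' : IsElementaryAbelian p B) : Nat.card B ≤ Nat.card A := h.2.2 B hB hB'

theorem maxEA_top_iff {A : Subgroup G} : MaxEA p ⊤ A ↔ A ∈ maxElementaryAbelianSubgroups p G :=
  ⟨fun h => ⟨h.ea, fun B hB => h.card_le le_top hB⟩,
    fun h => ⟨le_top, h.1, fun B _ hB => h.2 B hB⟩⟩

theorem MaxEA.of_le {H K A : Subgroup G} (h : MaxEA p H A) (hA : A ≤ K) (hK : K ≤ H) :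
    MaxEA p K A := ⟨hA, h.ea, fun _ hB hB' => h.card_le (hB.trans hK) hB'⟩

theorem MaxEA.of_card_le {H A B : Subgroup G} (h : MaxEA p H A) (hB : B ≤ H)
    (hB' : IsElementaryAbelian p B) (hc : Nat.card A ≤ Nat.card B) : MaxEA p H B :=
  ⟨hB, hB', fun _ hC hC' => (h.card_le hC hC').trans hc⟩

theorem MaxEA.card_eq {H A B : Subgroup G} (h : MaxEA p H A) (h' : MaxEA p H B) :
    Nat.card A = Nat.card B := le_antisymm (h'.card_le h.le h.ea) (h.card_le h'.le h'.ea)

/-- transfer of maximality from a subgroup containing a maximal one -/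
theorem MaxEA.trans {H K A B : Subgroup G} (h : MaxEA p H A) (hA : A ≤ K) (hK : K ≤ H)
    (hB : MaxEA p K B) : MaxEA p H B :=
  h.of_card_le (hB.le.trans hK) hB.ea (hB.card_le hA h.ea)

theorem MaxEA.eq_of_le [Finite G] {H A B : Subgroup G} (h : MaxEA p H A) (hAB : A ≤ B)
    (hB : B ≤ H) (hB' : IsElementaryAbelian p B) : B = A :=
  (eq_of_le_of_card_ge hAB (h.card_le hB hB')).symm

theorem MaxEA.mem_of_centralizer [Finite G] {H A : Subgroup G} (h : MaxEA p H A) {x : G}
    (hx : x ∈ H) (hc : x ∈ centralizer (A : Set G)) (hp : x ^ p = 1) : x ∈ A := by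
  have h1 : IsElementaryAbelian p (zpowers x ⊔ A) :=
    ea_sup (ea_zpowers hp) h.ea (zpowers_le.2 hc)
  have := h.eq_of_le le_sup_right (sup_le (zpowers_le.2 hx) h.le) h1
  rw [← this]
  exact mem_sup_left (mem_zpowers x)

theorem MaxEA.le_of_centralizer [Finite G] {H A B : Subgroup G} (h : MaxEA p H A)
    (hB : B ≤ H) (hc : B ≤ centralizer (A : Set G)) (hp : ∀ b ∈ B, b ^ p = 1) : B ≤ A :=
  fun b hb => h.mem_of_centralizer (hB hb) (hc hb) (hp b hb)

theorem MaxEA.omega_center_le [Finite G] {H A : Subgroup G} (h : MaxEA p H A) :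
    omegaOne p (H ⊓ centralizer (H : Set G)) ≤ A :=
  omega_le_iff.2 fun _ hx hp => h.mem_of_centralizer hx.1 (H13.centralizer_anti h.le hx.2) hp

theorem exists_maxEA [Finite G] (p : ℕ) (H : Subgroup G) : ∃ A, MaxEA p H A := by
  obtain ⟨A, hA, hmax⟩ := Set.exists_max_image {B : Subgroup G | B ≤ H ∧ IsElementaryAbelian p B}
    (fun B => Nat.card B) (Set.toFinite _) ⟨⊥, bot_le, ea_bot⟩
  exact ⟨A, hA.1, hA.2, fun B hB hB' => hmax B ⟨hB, hB'⟩⟩

theorem card_map_of_inf_ker {A : Subgroup G} {f : G →* G'} (hf : A ⊓ f.ker = ⊥) :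
    Nat.card (A.map f) = Nat.card A := by
  refine (Nat.card_eq_of_bijective (fun x : A => (⟨f x, mem_map_of_mem f x.2⟩ : A.map f))
    ⟨fun x y h => Subtype.ext (eq_of_map_eq_of_inf_ker hf x.2 y.2 (congrArg Subtype.val h)), ?_⟩).symm
  rintro ⟨_, x, hx, rfl⟩
  exact ⟨⟨x, hx⟩, rfl⟩

theorem inf_ker_eq_bot_of_le {A H : Subgroup G} {f : G →* G'} (hf : H ⊓ f.ker = ⊥) (h : A ≤ H) :
    A ⊓ f.ker = ⊥ := eq_bot_iff.2 (hf ▸ inf_le_inf_right _ h)

theorem map_inf_comap_eq {H : Subgroup G} {f : G →* G'} {B : Subgroup G'} (h : B ≤ H.map f) :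
    (H ⊓ B.comap f).map f = B := by
  refine le_antisymm ((map_mono inf_le_right).trans (map_comap_le _ _)) fun b hb => ?_
  obtain ⟨x, hx, rfl⟩ := h hb
  exact mem_map_of_mem f ⟨hx, hb⟩

theorem MaxEA.map {H A : Subgroup G} {f : G →* G'} (hf : H ⊓ f.ker = ⊥) (h : MaxEA p H A) :
    MaxEA p (H.map f) (A.map f) := by
  refine ⟨map_mono h.le, ea_map h.ea f, fun B hB hB' => ?_⟩
  have e := map_inf_comap_eq hB
  have hk : (H ⊓ B.comap f) ⊓ f.ker = ⊥ := inf_ker_eq_bot_of_le hf inf_le_left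
  rw [card_map_of_inf_ker (inf_ker_eq_bot_of_le hf h.le), ← e, card_map_of_inf_ker hk]
  exact h.card_le inf_le_left (ea_of_map hk (e.symm ▸ hB'))

theorem MaxEA.of_map {H A : Subgroup G} {f : G →* G'} (hf : H ⊓ f.ker = ⊥) (hA : A ≤ H)
    (h : MaxEA p (H.map f) (A.map f)) : MaxEA p H A := by
  refine ⟨hA, ea_of_map (inf_ker_eq_bot_of_le hf hA) h.ea, fun B hB hB' => ?_⟩
  rw [← card_map_of_inf_ker (inf_ker_eq_bot_of_le hf hA),
    ← card_map_of_inf_ker (inf_ker_eq_bot_of_le hf hB)]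
  exact h.card_le (map_mono hB) (ea_map hB' f)

theorem MaxEA.conj {H A : Subgroup G} (h : MaxEA p H A) (g : G) :
    MaxEA p (MulAut.conj g • H) (MulAut.conj g • A) :=
  h.map (inf_ker_eq_bot_of_injective (MulAut.conj g).injective H)

theorem MaxEA.conj_of_mem_normalizer {H A : Subgroup G} (h : MaxEA p H A) {g : G}
    (hg : g ∈ normalizer (H : Set G)) : MaxEA p H (MulAut.conj g • A) := by
  have := h.conj g
  rwa [H3.conj_smul_eq_iff.2 hg] at this

theorem MaxEA.conj_top {A : Subgroup G} (h : MaxEA p ⊤ A) (g : G) :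
    MaxEA p ⊤ (MulAut.conj g • A) := h.conj_of_mem_normalizer (le_normalizer (mem_top g))

/-! ### the Thompson subgroup -/

theorem thompsonSubgroup_eq_sSup : thompsonSubgroup p G = sSup {A | MaxEA p (⊤ : Subgroup G) A} := by
  rw [thompsonSubgroup]
  congr 1
  ext A
  exact maxEA_top_iff.symm

theorem map_sSup_maxEA {H : Subgroup G} {f : G →* G'} (hf : H ⊓ f.ker = ⊥) :
    (sSup {A | MaxEA p H A}).map f = sSup {A | MaxEA p (H.map f) A} := by
  apply le_antisymm
  · rw [map_le_iff_le_comap, sSup_le_iff]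
    intro A hA
    rw [← map_le_iff_le_comap]
    exact le_sSup (MaxEA.map hf hA)
  · rw [sSup_le_iff]
    intro B hB
    have e := map_inf_comap_eq (MaxEA.le hB)
    rw [← e]
    exact map_mono (le_sSup (MaxEA.of_map hf inf_le_left (e.symm ▸ hB)))

theorem J_eq_sSup (H : Subgroup G) : thompsonSubgroupOf p H = sSup {A | MaxEA p H A} := by
  rw [thompsonSubgroupOf, thompsonSubgroup_eq_sSup,
    map_sSup_maxEA (inf_ker_eq_bot_of_injective H.subtype_injective _), ← MonoidHom.range_eq_map,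
    range_subtype]

theorem J_top : thompsonSubgroupOf p (⊤ : Subgroup G) = thompsonSubgroup p G := by
  rw [J_eq_sSup, thompsonSubgroup_eq_sSup]

theorem map_J {H : Subgroup G} {f : G →* G'} (hf : H ⊓ f.ker = ⊥) :
    (thompsonSubgroupOf p H).map f = thompsonSubgroupOf p (H.map f) := by
  rw [J_eq_sSup, J_eq_sSup, map_sSup_maxEA hf]

theorem map_thompsonSubgroup {f : G →* G'} (hf : Function.Injective f) :
    (thompsonSubgroup p G).map f = thompsonSubgroupOf p f.range := by
  rw [← J_top, map_J (inf_ker_eq_bot_of_injective hf _), MonoidHom.range_eq_map]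

theorem MaxEA.le_J {H A : Subgroup G} (h : MaxEA p H A) : A ≤ thompsonSubgroupOf p H := by
  rw [J_eq_sSup]; exact le_sSup h

theorem J_le_iff {H K : Subgroup G} :
    thompsonSubgroupOf p H ≤ K ↔ ∀ A, MaxEA p H A → A ≤ K := by
  rw [J_eq_sSup, sSup_le_iff]; rfl

theorem J_le (H : Subgroup G) : thompsonSubgroupOf p H ≤ H := J_le_iff.2 fun _ h => h.le

theorem conj_J (g : G) (H : Subgroup G) :
    MulAut.conj g • thompsonSubgroupOf p H = thompsonSubgroupOf p (MulAut.conj g • H) :=
  map_J (inf_ker_eq_bot_of_injective (MulAut.conj g).injective H)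

theorem normalizer_le_normalizer_J (H : Subgroup G) :
    normalizer (H : Set G) ≤ normalizer (thompsonSubgroupOf p H : Set G) := fun g hg => by
  rw [← H3.conj_smul_eq_iff] at hg ⊢
  rw [conj_J, hg]

theorem le_normalizer_J (H : Subgroup G) : H ≤ normalizer (thompsonSubgroupOf p H : Set G) :=
  le_normalizer.trans (normalizer_le_normalizer_J H)

instance thompsonSubgroup_characteristic (p : ℕ) (G : Type*) [Group G] :
    (thompsonSubgroup p G).Characteristic := by
  rw [characteristic_iff_map_eq]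
  intro e
  rw [map_thompsonSubgroup e.injective, MonoidHom.range_eq_top.2 e.surjective, J_top]

instance J_normal (p : ℕ) (H : Subgroup G) [H.Normal] : (thompsonSubgroupOf p H).Normal := by
  rw [← normalizer_eq_top_iff, eq_top_iff]
  exact (normalizer_eq_top H).ge.trans (normalizer_le_normalizer_J H)

theorem MaxEA.J_le_J {H K A : Subgroup G} (h : MaxEA p H A) (hA : A ≤ K) (hK : K ≤ H) :
    thompsonSubgroupOf p K ≤ thompsonSubgroupOf p H :=
  J_le_iff.2 fun _ hB => (h.trans hA hK hB).le_J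

theorem J_eq_of_le [Finite G] {H K : Subgroup G} (hJ : thompsonSubgroupOf p H ≤ K) (hK : K ≤ H) :
    thompsonSubgroupOf p K = thompsonSubgroupOf p H := by
  obtain ⟨A, hA⟩ := exists_maxEA p H
  refine le_antisymm (hA.J_le_J (hA.le_J.trans hJ) hK) (J_le_iff.2 fun B hB => ?_)
  exact (hB.of_le (hB.le_J.trans hJ) hK).le_J

theorem J_J [Finite G] (H : Subgroup G) :
    thompsonSubgroupOf p (thompsonSubgroupOf p H) = thompsonSubgroupOf p H :=
  J_eq_of_le le_rfl (J_le H)

theorem maxEA_iff_of_J_le [Finite G] {H K A : Subgroup G} (hJ : thompsonSubgroupOf p H ≤ K)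
    (hK : K ≤ H) : MaxEA p K A ↔ MaxEA p H A := by
  obtain ⟨B, hB⟩ := exists_maxEA p H
  exact ⟨fun h => hB.trans (hB.le_J.trans hJ) hK h, fun h => h.of_le (h.le_J.trans hJ) hK⟩

theorem mem_J_of_centralizer [Finite G] {H : Subgroup G} {x : G} (hx : x ∈ H)
    (hc : x ∈ centralizer (thompsonSubgroupOf p H : Set G)) (hp : x ^ p = 1) :
    x ∈ thompsonSubgroupOf p H := by
  obtain ⟨A, hA⟩ := exists_maxEA p H
  exact hA.le_J (hA.mem_of_centralizer hx (H13.centralizer_anti hA.le_J hc) hp)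

theorem omega_center_le_J [Finite G] (H : Subgroup G) :
    omegaOne p (H ⊓ centralizer (H : Set G)) ≤ thompsonSubgroupOf p H := by
  obtain ⟨A, hA⟩ := exists_maxEA p H
  exact hA.omega_center_le.trans hA.le_J

theorem omega_center_le_omega_center_J [Finite G] (H : Subgroup G) :
    omegaOne p (H ⊓ centralizer (H : Set G)) ≤
      omegaOne p (thompsonSubgroupOf p H ⊓ centralizer (thompsonSubgroupOf p H : Set G)) :=
  omega_le_iff.2 fun _ hx hp => mem_omega
    ⟨omega_center_le_J H (mem_omega hx hp), H13.centralizer_anti (J_le H) hx.2⟩ hp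

theorem MaxEA.omega_center_J_le [Finite G] {H A : Subgroup G} (h : MaxEA p H A) :
    omegaOne p (thompsonSubgroupOf p H ⊓ centralizer (thompsonSubgroupOf p H : Set G)) ≤ A :=
  (h.of_le h.le_J (J_le H)).omega_center_le

theorem J_ne_bot_of_dvd [Finite G] [hp : Fact p.Prime] {H : Subgroup G} (h : p ∣ Nat.card H) :
    thompsonSubgroupOf p H ≠ ⊥ := by
  obtain ⟨x, hx, ho⟩ := H2.exists_mem_orderOf_eq_prime hp.out h
  intro hb
  have : x ∈ thompsonSubgroupOf p H :=
    mem_J_of_centralizer hx (by rw [hb]; exact mem_centralizer_iff.2 fun y hy => by rw [mem_bot.1 hy]; simp) (ho ▸ pow_orderOf_eq_one x)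
  rw [hb, mem_bot] at this
  rw [this, orderOf_one] at ho
  exact hp.out.one_lt.ne ho

theorem J_ne_bot [Finite G] [hp : Fact p.Prime] {H : Subgroup G} (hH : IsPGroup p H) (h : H ≠ ⊥) :
    thompsonSubgroupOf p H ≠ ⊥ := fun hb =>
  omega_center_ne_bot hH h (eq_bot_iff.2 (hb ▸ omega_center_le_J H))

theorem map_omegaCenterThompson {f : G →* G'} (hf : Function.Injective f) :
    (omegaCenterThompson p G).map f = omegaOne p (thompsonSubgroupOf p f.range ⊓
      centralizer (thompsonSubgroupOf p f.range : Set G')) := by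
  rw [omegaCenterThompson, map_omega (inf_ker_eq_bot_of_injective hf _),
    map_inf_centralizer (inf_ker_eq_bot_of_injective hf _), map_thompsonSubgroup hf]

theorem map_subtype_omegaCenterThompson (H : Subgroup G) :
    (omegaCenterThompson p H).map H.subtype = omegaOne p (thompsonSubgroupOf p H ⊓
      centralizer (thompsonSubgroupOf p H : Set G)) := by
  rw [map_omegaCenterThompson H.subtype_injective, range_subtype]

theorem map_omega_center {f : G →* G'} (hf : Function.Injective f) :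
    (omegaOne p (center G)).map f = omegaOne p (f.range ⊓ centralizer (f.range : Set G')) := by
  rw [← top_inf_centralizer_top, map_omega (inf_ker_eq_bot_of_injective hf _),
    map_inf_centralizer (inf_ker_eq_bot_of_injective hf _), MonoidHom.range_eq_map]

variable [Finite G] [hp : Fact p.Prime]

/-- a relative Sylow subgroup contains a maximal elementary abelian subgroup -/
theorem exists_maxEA_le_relSylow {H S : Subgroup G} (hS : IsPGroup p S)
    (hi : ¬ p ∣ S.relIndex H) : ∃ A, MaxEA p H A ∧ A ≤ S := by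
  obtain ⟨A, hA⟩ := exists_maxEA p H
  obtain ⟨c, hc, hle⟩ := H3.exists_conj_smul_le_of_relIndex hS hi (ea_isPGroup hA.ea) hA.le
  exact ⟨_, hA.conj_of_mem_normalizer (le_normalizer hc), hle⟩

theorem exists_maxEA_le_sylow (S : Sylow p G) : ∃ A : Subgroup G, MaxEA p ⊤ A ∧ A ≤ S :=
  exists_maxEA_le_relSylow S.2 (by rw [relIndex_top_right]; exact S.not_dvd_index)

theorem MaxEA.of_sylow {S : Sylow p G} {A : Subgroup G} (h : MaxEA p S A) : MaxEA p ⊤ A := by
  obtain ⟨B, hB, hBS⟩ := exists_maxEA_le_sylow S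
  exact hB.trans hBS le_top h

theorem J_sylow_le (S : Sylow p G) : thompsonSubgroupOf p (S : Subgroup G) ≤ thompsonSubgroup p G := by
  rw [← J_top]
  exact J_le_iff.2 fun _ h => h.of_sylow.le_J

theorem thompsonSubgroup_eq_iSup :
    thompsonSubgroup p G = ⨆ S : Sylow p G, thompsonSubgroupOf p (S : Subgroup G) := by
  refine le_antisymm ?_ (iSup_le J_sylow_le)
  rw [← J_top, J_le_iff]
  intro A hA
  obtain ⟨S, hS⟩ := (ea_isPGroup hA.ea).exists_le_sylow
  exact (hA.of_le hS le_top).le_J.trans (le_iSup (fun S : Sylow p G =>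
    thompsonSubgroupOf p (S : Subgroup G)) S)

theorem thompsonSubgroup_le_of_normal (S : Sylow p G) {N : Subgroup G} [N.Normal]
    (h : thompsonSubgroupOf p (S : Subgroup G) ≤ N) : thompsonSubgroup p G ≤ N := by
  rw [thompsonSubgroup_eq_iSup, iSup_le_iff]
  intro T
  obtain ⟨g, rfl⟩ := MulAction.exists_smul_eq G S T
  rw [Sylow.coe_subgroup_smul, ← conj_J]
  exact H3.conj_smul_le_iff.2 fun x hx => Normal.conj_mem inferInstance x (h hx) g

/-- Frattini argument for `J(S)`. -/
theorem frattini_J (S : Sylow p G) {N : Subgroup G} [N.Normal]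
    (h : thompsonSubgroupOf p (S : Subgroup G) ≤ N) (g : G) :
    ∃ l ∈ N, l * g ∈ normalizer (thompsonSubgroupOf p (S : Subgroup G) : Set G) := by
  have hi : ¬ p ∣ ((S : Subgroup G) ⊓ N).relIndex N := by
    rw [inf_relIndex_right]
    exact H3.sylow_not_dvd_relIndex_of_normal S N
  obtain ⟨l, hl, hn⟩ := H13.frattini_rel (S.2.to_le inf_le_left) inf_le_right hi
    (g := g) (by rw [normalizer_eq_top]; trivial)
  refine ⟨l, hl, ?_⟩
  rw [← J_eq_of_le (le_inf (J_le _) h) inf_le_left]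
  exact normalizer_le_normalizer_J _ hn

theorem sup_normalizer_J_eq_top (S : Sylow p G) {N : Subgroup G} [N.Normal]
    (h : thompsonSubgroupOf p (S : Subgroup G) ≤ N) :
    N ⊔ normalizer (thompsonSubgroupOf p (S : Subgroup G) : Set G) = ⊤ := by
  rw [eq_top_iff]
  intro g _
  obtain ⟨l, hl, hn⟩ := frattini_J S h g
  have : g = l⁻¹ * (l * g) := by group
  rw [this]
  exact mul_mem (mem_sup_left (inv_mem hl)) (mem_sup_right hn)

end H12
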