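import Mathlib
import Cfsg.Agent.H12.Thompson
import Cfsg.Agent.H2.Frattini

/-! Thompson / Timmesfeld replacement (Kurzweil–Stellmacher 9.2) and Thompson factorization. -/

open Subgroup Cfsg Pointwise

namespace H12

variable {G : Type*} [Group G] {p : ℕ}

/-- the measure `|B| |C_V(B)|` -/
noncomputable abbrev meas (V B : Subgroup G) : ℕ :=
  Nat.card B * Nat.card ↥(V ⊓ centralizer (B : Set G))

theorem meas_pos [Finite G] (V B : Subgroup G) : 0 < meas V B :=
  Nat.mul_pos Nat.card_pos Nat.card_pos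

theorem commutator_le_of_le_of_normalizer {V U A : Subgroup G} (hAV : A ≤ normalizer (V : Set G))
    (hU : U ≤ V) : ⁅U, A⁆ ≤ V :=
  (commutator_mono hU le_rfl).trans (commutator_le_self_of_le_normalizer hAV)

theorem le_centralizer_symm {A B : Subgroup G} (h : A ≤ centralizer (B : Set G)) :
    B ≤ centralizer (A : Set G) := le_centralizer_iff.1 h

theorem centralizer_sup' (A B : Subgroup G) :
    centralizer ((A ⊔ B : Subgroup G) : Set G) = centralizer (A : Set G) ⊓ centralizer (B : Set G) :=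
  le_antisymm (le_inf (H13.centralizer_anti le_sup_left) (H13.centralizer_anti le_sup_right))
    (H13.le_centralizer_sup inf_le_left inf_le_right)

theorem replace_cyclic [Finite G] {V A : Subgroup G} (hV : IsMulCommutative V)
    (hAV : A ≤ normalizer (V : Set G)) (hab : ⁅A, A⁆ ≤ centralizer (V : Set G)) {u : G}
    (hu : u ∈ V) :
    meas V A ≤ Nat.card ↥(A ⊓ centralizer ((⁅zpowers u, A⁆ : Subgroup G) : Set G)) *
      Nat.card ↥(⁅zpowers u, A⁆ ⊔ (V ⊓ centralizer (A : Set G))) := by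
  set X := ⁅zpowers u, A⁆ with hX
  set Y := V ⊓ centralizer (A : Set G) with hY
  set B := A ⊓ centralizer (X : Set G) with hB
  have hc := H13.isMulCommutative_iff_forall_mem.1 hV
  have huV : zpowers u ≤ V := zpowers_le.2 hu
  have key : ∀ c ∈ A, c * u * c⁻¹ * u⁻¹ ∈ Y → c ∈ B := by
    intro c hc' h
    refine ⟨hc', ?_⟩
    have hcV := hAV hc'
    have hcY : c ∈ normalizer (Y : Set G) :=
      H13.le_normalizer_of_le_centralizer (le_centralizer_symm inf_le_right) hc'
    have h1 : ⁅zpowers u, zpowers c⁆ ≤ Y := by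
      rw [zpowers_eq_closure c]
      refine commutator_closure_le (by simpa using hcY) ?_
      rintro d hd v hv
      rw [Set.mem_singleton_iff.1 hd]
      have : zpowers u ≤ ((Y.comap (commHom V c hcV)).map V.subtype) :=
        zpowers_le.2 ⟨⟨u, hu⟩, by simpa [commHom_apply] using h, rfl⟩
      obtain ⟨w, hw, rfl⟩ := this hv
      simpa [commHom_apply] using hw
    have h2 : ⁅⁅zpowers u, zpowers c⁆, A⁆ = ⊥ := by
      rw [commutator_eq_bot_iff']
      exact le_centralizer_symm (h1.trans inf_le_right)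
    have h3 : ⁅⁅zpowers c, A⁆, zpowers u⁆ = ⊥ := by
      rw [commutator_eq_bot_iff']
      exact le_centralizer_symm (((commutator_mono (zpowers_le.2 hc') le_rfl).trans hab).trans
        (H13.centralizer_anti huV))
    have h4 := commutator_commutator_eq_bot_of_rotate h2 h3
    rw [commutator_eq_bot_iff', commutator_comm A] at h4
    exact h4 (mem_zpowers c)
  have hinj : B.relIndex A ≤ Y.relIndex (X ⊔ Y) := by
    let φ : A ⧸ B.subgroupOf A → ↥(X ⊔ Y) ⧸ Y.subgroupOf (X ⊔ Y) := fun q =>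
      ((⟨(q.out : G) * u * (q.out : G)⁻¹ * u⁻¹,
        mem_sup_left (comm_mem_commutator (mem_zpowers u) q.out.2)⟩ : ↥(X ⊔ Y)) : _ ⧸ _)
    refine Nat.card_le_card_of_injective φ fun q q' h => ?_
    have h1 := QuotientGroup.eq.1 h
    rw [mem_subgroupOf] at h1
    rw [← q.out_eq', ← q'.out_eq', QuotientGroup.eq, mem_subgroupOf]
    set a : G := (q.out).1
    set b : G := (q'.out).1
    have ha : a ∈ A := q.out.2
    have hb : b ∈ A := q'.out.2
    refine key _ (mul_mem (inv_mem ha) hb) ?_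
    change (a * u * a⁻¹ * u⁻¹)⁻¹ * (b * u * b⁻¹ * u⁻¹) ∈ Y at h1
    have haY : a ∈ normalizer (Y : Set G) :=
      H13.le_normalizer_of_le_centralizer (le_centralizer_symm inf_le_right) ha
    have huY : u ∈ normalizer (Y : Set G) := le_normalizer_of_le_of_comm hV huV inf_le_left
      (mem_zpowers u)
    have h2 := H13.conj_mem_of_mem_normalizer huY (H13.conj_mem_of_mem_normalizer' haY
      (H13.conj_mem_of_mem_normalizer' huY h1))
    convert h2 using 1
    change a⁻¹ * b * u * (a⁻¹ * b)⁻¹ * u⁻¹ = _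
    group
  calc meas V A = Nat.card B * B.relIndex A * Nat.card Y := by
        rw [H2.card_mul_relIndex (inf_le_left : B ≤ A)]
    _ ≤ Nat.card B * Y.relIndex (X ⊔ Y) * Nat.card Y := by gcongr
    _ = _ := by
        rw [mul_assoc, mul_comm (Y.relIndex _), H2.card_mul_relIndex (le_sup_right : Y ≤ X ⊔ Y)]

theorem replace_le [Finite G] {V A : Subgroup G} (hV : IsMulCommutative V)
    (hAV : A ≤ normalizer (V : Set G)) (hab : ⁅A, A⁆ ≤ centralizer (V : Set G))
    (hmax : ∀ B ≤ A, meas V B ≤ meas V A) {U : Subgroup G} (hU : U ≤ V) :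
    meas V A ≤ Nat.card ↥(A ⊓ centralizer ((⁅U, A⁆ : Subgroup G) : Set G)) *
      Nat.card ↥(⁅U, A⁆ ⊔ (V ⊓ centralizer (A : Set G))) := by
  set Y := V ⊓ centralizer (A : Set G) with hY
  let S : Set (Subgroup G) := {W | W ≤ U ∧ meas V A ≤
    Nat.card ↥(A ⊓ centralizer ((⁅W, A⁆ : Subgroup G) : Set G)) * Nat.card ↥(⁅W, A⁆ ⊔ Y)}
  have hcyc : ∀ u ∈ U, zpowers u ∈ S := fun u hu =>
    ⟨zpowers_le.2 hu, replace_cyclic hV hAV hab (hU hu)⟩
  have hS : sSup S ∈ S := by
    refine H2.sSup_mem_of_sup_closed S (by simpa using hcyc 1 (one_mem _)) ?_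
    rintro W₁ ⟨hW₁, h₁⟩ W₂ ⟨hW₂, h₂⟩
    refine ⟨sup_le hW₁ hW₂, ?_⟩
    rw [sup_commutator_eq_of_comm hV (hW₁.trans hU) (hW₂.trans hU) hAV, centralizer_sup']
    set X₁ := ⁅W₁, A⁆
    set X₂ := ⁅W₂, A⁆
    have hX₁ : X₁ ≤ V := commutator_le_of_le_of_normalizer hAV (hW₁.trans hU)
    have hX₂ : X₂ ≤ V := commutator_le_of_le_of_normalizer hAV (hW₂.trans hU)
    set A₁ := A ⊓ centralizer (X₁ : Set G)
    set A₂ := A ⊓ centralizer (X₂ : Set G)
    have e1 : A ⊓ (centralizer (X₁ : Set G) ⊓ centralizer (X₂ : Set G)) = A₁ ⊓ A₂ :=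
      inf_inf_distrib_left _ _ _
    have e2 : X₁ ⊔ X₂ ⊔ Y = (X₁ ⊔ Y) ⊔ (X₂ ⊔ Y) := sup_sup_distrib_right _ _ _
    rw [e1, e2]
    have hn : A₁ ≤ normalizer (A₂ : Set G) := inf_le_left.trans (H13.le_normalizer_inf le_normalizer
      (H13.le_normalizer_centralizer (normalizer_commutator_ge_right W₂ A)))
    have c1 := H2.card_sup_mul_card_inf hn
    have c2 := H2.card_sup_mul_card_inf (le_normalizer_of_le_of_comm hV
      (sup_le hX₁ inf_le_left : X₁ ⊔ Y ≤ V) (sup_le hX₂ inf_le_left : X₂ ⊔ Y ≤ V))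
    have hle : (X₁ ⊔ Y) ⊓ (X₂ ⊔ Y) ≤ V ⊓ centralizer ((A₁ ⊔ A₂ : Subgroup G) : Set G) := by
      refine le_inf (inf_le_left.trans (sup_le hX₁ inf_le_left)) (H13.le_centralizer_sup ?_ ?_)
      · exact inf_le_left.trans (sup_le (le_centralizer_symm inf_le_right)
          (inf_le_right.trans (H13.centralizer_anti inf_le_left)))
      · exact inf_le_right.trans (sup_le (le_centralizer_symm inf_le_right)
          (inf_le_right.trans (H13.centralizer_anti inf_le_left)))
    have c3 : Nat.card ↥(A₁ ⊔ A₂) * Nat.card ↥((X₁ ⊔ Y) ⊓ (X₂ ⊔ Y)) ≤ meas V A :=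
      (Nat.mul_le_mul_left _ (card_le_of_le hle)).trans (hmax _ (sup_le inf_le_left inf_le_left))
    refine Nat.le_of_mul_le_mul_left ?_ (meas_pos V A)
    calc meas V A * meas V A ≤ (Nat.card A₁ * Nat.card ↥(X₁ ⊔ Y)) *
          (Nat.card A₂ * Nat.card ↥(X₂ ⊔ Y)) := Nat.mul_le_mul h₁ h₂
      _ = (Nat.card A₁ * Nat.card A₂) * (Nat.card ↥(X₁ ⊔ Y) * Nat.card ↥(X₂ ⊔ Y)) := by ring
      _ = (Nat.card ↥(A₁ ⊔ A₂) * Nat.card ↥((X₁ ⊔ Y) ⊓ (X₂ ⊔ Y))) *
          (Nat.card ↥(A₁ ⊓ A₂) * Nat.card ↥((X₁ ⊔ Y) ⊔ (X₂ ⊔ Y))) := by rw [← c1, ← c2]; ring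
      _ ≤ _ := Nat.mul_le_mul_right _ c3
  have : sSup S = U :=
    le_antisymm hS.1 fun u hu => le_sSup (hcyc u hu) (mem_zpowers u)
  rw [this] at hS
  exact hS.2

theorem replace_eq [Finite G] {V A : Subgroup G} (hV : IsMulCommutative V)
    (hAV : A ≤ normalizer (V : Set G)) (hab : ⁅A, A⁆ ≤ centralizer (V : Set G))
    (hmax : ∀ B ≤ A, meas V B ≤ meas V A) {U : Subgroup G} (hU : U ≤ V) :
    V ⊓ centralizer ((A ⊓ centralizer ((⁅U, A⁆ : Subgroup G) : Set G) : Subgroup G) : Set G) =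
        ⁅U, A⁆ ⊔ (V ⊓ centralizer (A : Set G)) ∧
      meas V A = meas V (A ⊓ centralizer ((⁅U, A⁆ : Subgroup G) : Set G)) := by
  have h1 := replace_le hV hAV hab hmax hU
  have h2 := hmax (A ⊓ centralizer ((⁅U, A⁆ : Subgroup G) : Set G)) inf_le_left
  have hle : ⁅U, A⁆ ⊔ (V ⊓ centralizer (A : Set G)) ≤
      V ⊓ centralizer ((A ⊓ centralizer ((⁅U, A⁆ : Subgroup G) : Set G) : Subgroup G) : Set G) :=
    sup_le (le_inf (commutator_le_of_le_of_normalizer hAV hU) (le_centralizer_symm inf_le_right))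
      (inf_le_inf_left _ (H13.centralizer_anti inf_le_left))
  have h3 := eq_of_le_of_card_ge hle (Nat.le_of_mul_le_mul_left (h2.trans h1) Nat.card_pos)
  refine ⟨h3.symm, le_antisymm ?_ h2⟩
  rw [h3] at h1
  exact h1

/-- If `A / C_A(V)` is a `p`-group then `A = P C_A(V)` for a `p`-subgroup `P`. -/
theorem exists_isPGroup_sup_centralizer [Finite G] [Fact p.Prime] {V A : Subgroup G}
    (hAV : A ≤ normalizer (V : Set G)) (h : ∀ a ∈ A, ∃ k, a ^ p ^ k ∈ centralizer (V : Set G)) :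
    ∃ P ≤ A, IsPGroup p P ∧ P ⊔ (A ⊓ centralizer (V : Set G)) = A := by
  haveI : ((centralizer (V : Set G)).subgroupOf A).Normal :=
    normal_subgroupOf_of_le_normalizer (H13.le_normalizer_centralizer hAV)
  obtain ⟨S⟩ : Nonempty (Sylow p A) := inferInstance
  have hq : IsPGroup p (A ⧸ (centralizer (V : Set G)).subgroupOf A) := by
    intro q
    obtain ⟨a, rfl⟩ := QuotientGroup.mk_surjective q
    obtain ⟨k, hk⟩ := h a a.2
    exact ⟨k, by rw [← QuotientGroup.mk_pow, QuotientGroup.eq_one_iff]; exact hk⟩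
  have := congrArg (map A.subtype) (H2.sylow_sup_eq_top_of_isPGroup_quotient S hq)
  rw [Subgroup.map_sup, subgroupOf_map_subtype, ← MonoidHom.range_eq_map, range_subtype, inf_comm] at this
  exact ⟨_, map_subtype_le _, S.2.map _, this⟩

theorem commutator_lt_of_pow_mem_centralizer [Finite G] [Fact p.Prime] {V A W : Subgroup G}
    (hAV : A ≤ normalizer (V : Set G)) (h : ∀ a ∈ A, ∃ k, a ^ p ^ k ∈ centralizer (V : Set G))
    (hWV : W ≤ V) (hW : IsPGroup p W) (hAW : A ≤ normalizer (W : Set G)) (h1 : W ≠ ⊥) :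
    ⁅W, A⁆ < W := by
  obtain ⟨P, hPA, hP, he⟩ := exists_isPGroup_sup_centralizer hAV h
  have hlt := H13.commutator_lt_of_isPGroup hW hP (hPA.trans hAW) h1
  refine lt_of_le_of_lt ?_ hlt
  rw [← he]
  refine commutator_sup_le (normalizer_commutator_ge_right _ _) ?_ le_rfl ?_
  · exact H13.le_normalizer_of_le_centralizer
      (inf_le_right.trans (H13.centralizer_anti (hlt.le.trans hWV)))
  · rw [commutator_eq_bot_iff'.2 (inf_le_right.trans (H13.centralizer_anti hWV))]
    exact bot_le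

theorem inf_centralizer_ne_bot_of_pow_mem_centralizer [Finite G] [Fact p.Prime]
    {V A W : Subgroup G} (hAV : A ≤ normalizer (V : Set G))
    (h : ∀ a ∈ A, ∃ k, a ^ p ^ k ∈ centralizer (V : Set G))
    (hWV : W ≤ V) (hW : IsPGroup p W) (hAW : A ≤ normalizer (W : Set G)) (h1 : W ≠ ⊥) :
    W ⊓ centralizer (A : Set G) ≠ ⊥ := by
  obtain ⟨P, hPA, hP, he⟩ := exists_isPGroup_sup_centralizer hAV h
  have := H2.inf_centralizer_ne_bot_of_isPGroup hP hW (hPA.trans hAW) h1
  refine fun hb => this (eq_bot_iff.2 (hb ▸ le_inf inf_le_left ?_))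
  rw [← he]
  exact H13.le_centralizer_sup inf_le_right
    (inf_le_left.trans (le_centralizer_symm (inf_le_right.trans (H13.centralizer_anti hWV))))

theorem bestOffender_of_meas_eq {V A B : Subgroup G} (hA : IsBestOffenderOn p V A) (hB : B ≤ A)
    (h : meas V A ≤ meas V B) : IsBestOffenderOn p V B :=
  ⟨fun C hC => (hA.1 C (hC.trans hB)).trans h, (commutator_mono hB hB).trans hA.2.1,
    fun b hb => hA.2.2 b (hB hb)⟩

theorem timmesfeld [Finite G] [Fact p.Prime] {V A : Subgroup G} (hV : IsElementaryAbelian p V)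
    (hAV : A ≤ normalizer (V : Set G)) (hA : IsBestOffenderOn p V A) {U : Subgroup G}
    (hU : U ≤ V) :
    IsBestOffenderOn p V (A ⊓ centralizer ((⁅U, A⁆ : Subgroup G) : Set G)) ∧
      V ⊓ centralizer ((A ⊓ centralizer ((⁅U, A⁆ : Subgroup G) : Set G) : Subgroup G) : Set G) =
        ⁅U, A⁆ ⊔ (V ⊓ centralizer (A : Set G)) ∧
      (⁅V, A⁆ ≠ ⊥ → ⁅V, A ⊓ centralizer ((⁅U, A⁆ : Subgroup G) : Set G)⁆ ≠ ⊥) := by
  obtain ⟨h1, h2⟩ := replace_eq hV.1 hAV hA.2.1 hA.1 hU
  refine ⟨bestOffender_of_meas_eq hA inf_le_left h2.le, h1, fun hne hb => ?_⟩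
  rw [commutator_eq_bot_iff'] at hb
  rw [inf_eq_left.2 (le_centralizer_symm hb)] at h1
  have hX : ⁅V, A⁆ ≤ V := commutator_le_self_of_le_normalizer hAV
  have hlt := commutator_lt_of_pow_mem_centralizer (p := p) hAV
    (fun a ha => ⟨1, by simpa using hA.2.2 a ha⟩) hX (ea_isPGroup (ea_of_le hV hX))
    (normalizer_commutator_ge_right _ _) hne
  refine hlt.not_ge ?_
  calc ⁅V, A⁆ = ⁅⁅U, A⁆ ⊔ (V ⊓ centralizer (A : Set G)), A⁆ := by rw [← h1]
    _ = ⁅⁅U, A⁆, A⁆ := by
      rw [sup_commutator_eq_of_comm hV.1 (commutator_le_of_le_of_normalizer hAV hU) inf_le_left hAV,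
        (commutator_eq_bot_iff' (V := V ⊓ centralizer (A : Set G))).2
          (le_centralizer_symm inf_le_right), sup_bot_eq]
    _ ≤ _ := commutator_mono (commutator_mono hU le_rfl) le_rfl

theorem MaxEA.inf_centralizer [Finite G] {H V A : Subgroup G} (hA : MaxEA p H A) (hVH : V ≤ H)
    (hV : IsElementaryAbelian p V) : V ⊓ centralizer (A : Set G) = V ⊓ A :=
  le_antisymm (le_inf inf_le_left (hA.le_of_centralizer (inf_le_left.trans hVH) inf_le_right
    fun b hb => hV.2 b hb.1)) (inf_le_inf_left _ (ea_le_centralizer hA.ea))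

theorem MaxEA.bestOffender [Finite G] {H V A : Subgroup G} (hA : MaxEA p H A) (hVH : V ≤ H)
    (hV : IsElementaryAbelian p V) : IsBestOffenderOn p V A := by
  refine ⟨fun B hB => ?_, ?_, fun a ha => by rw [hA.ea.2 a ha]; exact one_mem _⟩
  · have hc : B ≤ centralizer ((V ⊓ centralizer (B : Set G) : Subgroup G) : Set G) :=
      le_centralizer_symm inf_le_right
    rw [← H2.card_sup_mul_card_inf (H13.le_normalizer_of_le_centralizer hc)]
    refine Nat.mul_le_mul (hA.card_le (sup_le (hB.trans hA.le) (inf_le_left.trans hVH))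
      (ea_sup (ea_of_le hA.ea hB) (ea_of_le hV inf_le_left) hc)) (card_le_of_le ?_)
    exact le_inf (inf_le_right.trans inf_le_left)
      (inf_le_left.trans (hB.trans (ea_le_centralizer hA.ea)))
  · rw [commutator_eq_bot_iff'.2 (ea_le_centralizer hA.ea)]
    exact bot_le

theorem MaxEA.replace [Finite G] [Fact p.Prime] {H V A : Subgroup G} (hA : MaxEA p H A)
    (hVH : V ≤ H) (hV : IsElementaryAbelian p V) (hAV : A ≤ normalizer (V : Set G)) :
    MaxEA p H (⁅V, A⁆ ⊔ (A ⊓ centralizer ((⁅V, A⁆ : Subgroup G) : Set G))) ∧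
      ⁅⁅V, ⁅V, A⁆ ⊔ (A ⊓ centralizer ((⁅V, A⁆ : Subgroup G) : Set G))⁆,
        ⁅V, A⁆ ⊔ (A ⊓ centralizer ((⁅V, A⁆ : Subgroup G) : Set G))⁆ = ⊥ ∧
      (⁅V, A⁆ ≠ ⊥ → ⁅V, ⁅V, A⁆ ⊔ (A ⊓ centralizer ((⁅V, A⁆ : Subgroup G) : Set G))⁆ ≠ ⊥) := by
  have hbo := hA.bestOffender hVH hV
  obtain ⟨h1, h2⟩ := replace_eq hV.1 hAV hbo.2.1 hbo.1 le_rfl
  have h3 := (timmesfeld hV hAV hbo le_rfl).2.2
  set X := ⁅V, A⁆ with hXd
  set B := A ⊓ centralizer (X : Set G) with hBd
  have hX : X ≤ V := commutator_le_self_of_le_normalizer hAV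
  have hXB : X ≤ centralizer (B : Set G) := le_centralizer_symm inf_le_right
  refine ⟨hA.of_card_le (sup_le (hX.trans hVH) (inf_le_left.trans hA.le))
    (ea_sup (ea_of_le hV hX) (ea_of_le hA.ea inf_le_left) hXB) ?_, ?_, fun hne hb => h3 hne ?_⟩
  · have c1 := H2.card_sup_mul_card_inf (H13.le_normalizer_of_le_centralizer hXB)
    have c2 := H2.card_sup_mul_card_inf (le_normalizer_of_le_of_comm hV.1 hX
      (inf_le_left : V ⊓ A ≤ V))
    have e : X ⊓ (V ⊓ A) = X ⊓ B := by
      refine le_antisymm (le_inf inf_le_left (le_inf (inf_le_right.trans inf_le_right) ?_))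
        (le_inf inf_le_left (le_inf (inf_le_left.trans hX) (inf_le_right.trans inf_le_left)))
      exact le_centralizer_of_le_of_comm hV.1 (inf_le_left.trans hX) hX
    unfold meas at h2
    rw [h1, hA.inf_centralizer hVH hV] at h2
    rw [e] at c2
    refine Nat.le_of_mul_le_mul_right (le_of_eq ?_)
      (Nat.mul_pos (Nat.card_pos (α := ↥(V ⊓ A))) (Nat.card_pos (α := ↥(X ⊓ B))))
    calc Nat.card A * (Nat.card ↥(V ⊓ A) * Nat.card ↥(X ⊓ B))
        = Nat.card B * (Nat.card ↥(X ⊔ V ⊓ A) * Nat.card ↥(X ⊓ B)) := by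
          rw [← mul_assoc, h2, mul_assoc]
      _ = (Nat.card X * Nat.card B) * Nat.card ↥(V ⊓ A) := by rw [c2]; ring
      _ = _ := by rw [← c1]; ring
  · have : ⁅V, X ⊔ B⁆ ≤ X := by
      refine commutator_sup_le le_normalizer (H13.le_normalizer_of_le_centralizer inf_le_right) ?_
        (commutator_mono le_rfl inf_le_left)
      rw [commutator_eq_bot_iff'.2 (le_centralizer_of_le_of_comm hV.1 hX le_rfl)]
      exact bot_le
    rw [commutator_eq_bot_iff']
    exact (sup_le (le_centralizer_of_le_of_comm hV.1 hX hX) inf_le_right).trans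
      (H13.centralizer_anti this)
  · exact eq_bot_iff.2 (hb ▸ commutator_mono le_rfl le_sup_right)

/-! ### Sylow fixed points and Thompson factorization -/

theorem pCore_quotient_eq_bot_of_iSup [Finite G] [Fact p.Prime] {V : Subgroup G} [V.Normal]
    (hgen : V ≤ ⨆ S : Sylow p G, V ⊓ centralizer ((S : Subgroup G) : Set G)) :
    pCore p (G ⧸ centralizer (V : Set G)) = ⊥ := by
  rw [eq_bot_iff]
  intro q hq
  obtain ⟨d, rfl⟩ := QuotientGroup.mk_surjective q
  rw [mem_bot, QuotientGroup.eq_one_iff]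
  refine le_centralizer_symm (hgen.trans (iSup_le fun S => ?_)) (mem_zpowers d)
  have := H2.pCore_le_sylow (S.mapSurjective (QuotientGroup.mk'_surjective
    (centralizer (V : Set G)))) hq
  obtain ⟨s, hs, he⟩ := this
  have h1 : s⁻¹ * d ∈ centralizer (V : Set G) := QuotientGroup.eq.1 he
  refine le_centralizer_symm (zpowers_le.2 ?_)
  have : d = s * (s⁻¹ * d) := by group
  rw [this]
  exact mul_mem (le_centralizer_symm inf_le_right hs) (H13.centralizer_anti inf_le_left h1)

/-- `⟨Ω₁(Z(S)) : S ∈ Syl_p(G)⟩`. -/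
abbrev ZV (p : ℕ) (G : Type*) [Group G] : Subgroup G :=
  ⨆ S : Sylow p G, omegaOne p ((S : Subgroup G) ⊓ centralizer ((S : Subgroup G) : Set G))

theorem omega_center_le_ZV (S : Sylow p G) :
    omegaOne p ((S : Subgroup G) ⊓ centralizer ((S : Subgroup G) : Set G)) ≤ ZV p G :=
  le_iSup (fun S : Sylow p G =>
    omegaOne p ((S : Subgroup G) ⊓ centralizer ((S : Subgroup G) : Set G))) S

theorem conj_omega_center (g : G) (H : Subgroup G) :
    MulAut.conj g • omegaOne p (H ⊓ centralizer (H : Set G)) =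
      omegaOne p (MulAut.conj g • H ⊓ centralizer ((MulAut.conj g • H : Subgroup G) : Set G)) := by
  rw [conj_omega, H3.conj_smul_inf, H3.conj_smul_centralizer]

instance ZV_characteristic (p : ℕ) (G : Type*) [Group G] : (ZV p G).Characteristic := by
  rw [characteristic_iff_map_le]
  intro e
  rw [Subgroup.map_iSup]
  refine iSup_le fun S => ?_
  rw [map_omega (inf_ker_eq_bot_of_injective e.injective _),
    map_inf_centralizer (inf_ker_eq_bot_of_injective e.injective _)]
  exact omega_center_le_ZV ((e : MulAut G) • S)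

theorem ZV_le_of_centralizer_le (hc : centralizer (pCore p G : Set G) ≤ pCore p G) :
    ZV p G ≤ pCore p G ⊓ centralizer (pCore p G : Set G) := by
  refine iSup_le fun S => (omega_le _).trans ?_
  have : (S : Subgroup G) ⊓ centralizer ((S : Subgroup G) : Set G) ≤
      centralizer (pCore p G : Set G) :=
    inf_le_right.trans (H13.centralizer_anti (H2.pCore_le_sylow S))
  exact le_inf (this.trans hc) this

theorem isMulCommutative_inf_centralizer (H : Subgroup G) :
    IsMulCommutative ↥(H ⊓ centralizer (H : Set G)) :=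
  H13.isMulCommutative_iff_forall_mem.2 fun x hx _ hy => mem_centralizer_iff.1 hy.2 x hx.1

theorem ea_ZV (hc : centralizer (pCore p G : Set G) ≤ pCore p G) :
    IsElementaryAbelian p (ZV p G) :=
  ea_iSup (isMulCommutative_inf_centralizer _)
    (fun S => (omega_center_le_ZV S).trans (ZV_le_of_centralizer_le hc))
    fun _ => (ea_omega_center _).2

theorem pCore_quotient_ZV [Finite G] [Fact p.Prime] :
    pCore p (G ⧸ centralizer (ZV p G : Set G)) = ⊥ :=
  pCore_quotient_eq_bot_of_iSup (iSup_mono fun S =>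
    le_inf (omega_center_le_ZV S) ((omega_le _).trans inf_le_right))

theorem eq_of_pCore_quotient_eq_bot [Finite G] {C D : Subgroup G} [C.Normal]
    (h : pCore p (G ⧸ C) = ⊥) (hD : D.Normal) (hCD : C ≤ D) {k : ℕ} (hk : C.relIndex D = p ^ k) :
    D = C := by
  refine le_antisymm (fun d hd => ?_) hCD
  have : (d : G ⧸ C) ∈ pCore p (G ⧸ C) := by
    refine mk_mem_pCore_iff.2 ⟨D, hD, hd, fun x hx => ⟨k, ?_⟩⟩
    rw [← hk]
    exact pow_relIndex_mem C hx
  rwa [h, mem_bot, QuotientGroup.eq_one_iff] at this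

theorem le_of_pCore_quotient_eq_bot {C D : Subgroup G} [C.Normal]
    (h : pCore p (G ⧸ C) = ⊥) (hD : D.Normal) (hk : ∀ d ∈ D, ∃ k, d ^ p ^ k ∈ C) :
    D ≤ C := fun d hd => by
  have : (d : G ⧸ C) ∈ pCore p (G ⧸ C) := mk_mem_pCore_iff.2 ⟨D, hD, hd, hk⟩
  rwa [h, mem_bot, QuotientGroup.eq_one_iff] at this

theorem le_centralizer_omega_center (H : Subgroup G) :
    H ≤ centralizer (omegaOne p (H ⊓ centralizer (H : Set G)) : Set G) :=
  le_centralizer_symm ((omega_le _).trans inf_le_right)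

theorem factorizable_iff [Finite G] [Fact p.Prime] (hO : pPrimeCore p G = ⊥) :
    IsThompsonFactorizable p G ↔ thompsonSubgroup p G ≤ centralizer (ZV p G : Set G) := by
  constructor
  · intro h
    refine le_centralizer_symm (iSup_le fun S => le_centralizer_symm ?_)
    rw [thompsonSubgroup_eq_iSup]
    refine iSup_le fun T => ?_
    obtain ⟨g, rfl⟩ := MulAction.exists_smul_eq G S T
    obtain ⟨x, hx, c, hc, n, hn, rfl⟩ := h S g
    rw [hO, mem_bot] at hx
    rw [hx, one_mul, Sylow.coe_subgroup_smul, ← conj_J, ← H3.conj_smul_conj_smul,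
      H3.conj_smul_eq_iff.2 hn]
    exact H3.conj_smul_le_of_le_of_mem ((J_le _).trans (le_centralizer_omega_center _)) hc
  · intro h S g
    obtain ⟨l, hl, hn⟩ := frattini_J S ((J_sylow_le S).trans h) g
    exact ⟨1, one_mem _, l⁻¹, H13.centralizer_anti (omega_center_le_ZV S) (inv_mem hl), _, hn,
      by group⟩

theorem factorizable_iff_quotient [Finite G] [Fact p.Prime] :
    IsThompsonFactorizable p G ↔ IsThompsonFactorizable p (G ⧸ pPrimeCore p G) := by
  set f := QuotientGroup.mk' (pPrimeCore p G) with hf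
  have hs : Function.Surjective f := QuotientGroup.mk'_surjective _
  have hk : (Nat.card f.ker).Coprime p := by
    rw [QuotientGroup.ker_mk']; exact H2.pPrimeCore_coprime p G
  have hS : ∀ S : Sylow p G, (S : Subgroup G) ⊓ f.ker = ⊥ := fun S =>
    H13.inf_eq_bot_of_isPGroup_of_coprime S.2 hk
  have e1 : ∀ S : Sylow p G, centralizer (omegaOne p ((S : Subgroup G).map f ⊓
      centralizer ((S : Subgroup G).map f : Set (G ⧸ pPrimeCore p G))) : Set (G ⧸ pPrimeCore p G)) =
      (centralizer (omegaOne p ((S : Subgroup G) ⊓ centralizer ((S : Subgroup G) : Set G)) :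
        Set G)).map f := fun S => by
    rw [← map_inf_centralizer (hS S),
      ← map_omega (inf_ker_eq_bot_of_le (hS S) inf_le_left),
      H13.centralizer_map_of_coprime_ker hs hk (ea_isPGroup (ea_omega_center _))]
  have e2 : ∀ S : Sylow p G, normalizer (thompsonSubgroupOf p ((S : Subgroup G).map f) :
      Set (G ⧸ pPrimeCore p G)) =
      (normalizer (thompsonSubgroupOf p (S : Subgroup G) : Set G)).map f := fun S => by
    rw [← map_J (hS S),
      H13.normalizer_map_of_coprime_ker hs hk (S.2.to_le (J_le _))]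
  constructor
  · intro h T q
    obtain ⟨S, rfl⟩ := Sylow.mapSurjective_surjective hs p T
    obtain ⟨g, rfl⟩ := hs q
    obtain ⟨x, hx, c, hc, n, hn, rfl⟩ := h S g
    rw [Sylow.coe_mapSurjective, e1, e2]
    refine ⟨1, one_mem _, f c, mem_map_of_mem f hc, f n, mem_map_of_mem f hn, ?_⟩
    rw [map_mul, map_mul, show f x = 1 from (QuotientGroup.eq_one_iff x).2 hx]
  · intro h S g
    obtain ⟨x, hx, c, hc, n, hn, he⟩ := h (S.mapSurjective hs) (f g)
    rw [Sylow.coe_mapSurjective, e1] at hc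
    rw [Sylow.coe_mapSurjective, e2] at hn
    obtain ⟨c, hc, rfl⟩ := hc
    obtain ⟨n, hn, rfl⟩ := hn
    rw [H2.pPrimeCore_quotient_pPrimeCore, mem_bot] at hx
    refine ⟨g * (c * n)⁻¹, (QuotientGroup.eq_one_iff _).1 ?_, c, hc, n, hn, by group⟩
    change f _ = 1
    rw [map_mul, he, hx, map_inv, map_mul]; group

end H12
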