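import Mathlib
import Cfsg.Agent.H12.Replace
import Cfsg.Agent.H13.PConstrained

/-! Stellmacher's characteristic subgroup `W(S)` (Kurzweil–Stellmacher 9.4). -/

open Subgroup Cfsg Pointwise

namespace H12

universe u

section general

variable {G : Type*} [Group G] {p : ℕ}

theorem quadratic_of_le_sup {V A B : Subgroup G} (hB : B ≤ normalizer (V : Set G))
    (hA : A ≤ B ⊔ centralizer (V : Set G)) (h : ⁅⁅V, B⁆, B⁆ = ⊥) : ⁅⁅V, A⁆, A⁆ = ⊥ := by
  have hX : ⁅V, B⁆ ≤ V := commutator_le_self_of_le_normalizer hB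
  have h1 : ⁅V, A⁆ ≤ ⁅V, B⁆ := by
    refine (commutator_mono le_rfl hA).trans (commutator_sup_le
      (normalizer_commutator_ge_right _ _)
      (H13.le_normalizer_of_le_centralizer (H13.centralizer_anti hX)) le_rfl ?_)
    rw [commutator_eq_bot_iff'.2 le_rfl]; exact bot_le
  rw [commutator_eq_bot_iff'] at h ⊢
  exact (hA.trans (sup_le h (H13.centralizer_anti hX))).trans (H13.centralizer_anti h1)

theorem quadratic_map_iff {G' : Type*} [Group G'] {f : G →* G'} (hf : Function.Injective f)
    {V A B : Subgroup G} : ⁅⁅V.map f, A.map f⁆, B.map f⁆ = ⊥ ↔ ⁅⁅V, A⁆, B⁆ = ⊥ := by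
  rw [← map_commutator, ← map_commutator, map_eq_bot_iff_of_injective _ hf]

theorem quadratic_conj {V : Subgroup G} {a g : G} (hg : g ∈ normalizer (V : Set G))
    (h : ⁅⁅V, zpowers a⁆, zpowers a⁆ = ⊥) :
    ⁅⁅V, zpowers (g * a * g⁻¹)⁆, zpowers (g * a * g⁻¹)⁆ = ⊥ := by
  have := (quadratic_map_iff (f := (MulAut.conj g).toMonoidHom) (MulAut.conj g).injective).2 h
  rw [MonoidHom.map_zpowers, H3.map_conj_eq, H3.conj_smul_eq_iff.2 hg] at this
  exact this

theorem quadratic_mono {V V' A A' B B' : Subgroup G} (hV : V' ≤ V) (hA : A' ≤ A) (hB : B' ≤ B)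
    (h : ⁅⁅V, A⁆, B⁆ = ⊥) : ⁅⁅V', A'⁆, B'⁆ = ⊥ :=
  eq_bot_iff.2 (h ▸ commutator_mono (commutator_mono hV hA) hB)

theorem exists_mem_sylow_of_mk_mem_pCore [Finite G] [Fact p.Prime] {C : Subgroup G} [C.Normal]
    (S : Sylow p G) {d : G} (hd : (d : G ⧸ C) ∈ pCore p (G ⧸ C)) :
    ∃ s ∈ (S : Subgroup G), s⁻¹ * d ∈ C := by
  obtain ⟨s, hs, he⟩ := H2.pCore_le_sylow (S.mapSurjective (QuotientGroup.mk'_surjective C)) hd
  exact ⟨s, hs, QuotientGroup.eq.1 he⟩

/-- `C_G(O_p(G)/Φ(O_p(G))) ≤ O_p(G)` in characteristic `p`. -/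
theorem mem_pCore_of_stableOnSection [Finite G] [Fact p.Prime]
    (hc : centralizer (pCore p G : Set G) ≤ pCore p G) {D : Subgroup G} (hD : D.Normal)
    {k : ℕ} (hk : (sectionKernel (pCore p G)
      ((frattini ↥(pCore p G)).map (pCore p G).subtype)).relIndex D = p ^ k) :
    D ≤ pCore p G := by
  refine H2.le_pCore hD (H13.isPGroup_iff_forall_mem.2 fun x hx => ?_)
  haveI : (sectionKernel (pCore p G)
      ((frattini ↥(pCore p G)).map (pCore p G).subtype)).Normal := by
    unfold sectionKernel; infer_instance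
  have h1 := pow_relIndex_mem (sectionKernel (pCore p G)
      ((frattini ↥(pCore p G)).map (pCore p G).subtype)) hx
  rw [hk, mem_sectionKernel_iff] at h1
  obtain ⟨l, hl⟩ := exists_pow_mem_centralizer_of_frattini (H2.pCore_isPGroup p G)
    (by rw [normalizer_eq_top]; trivial) h1
  obtain ⟨m, hm⟩ := H13.isPGroup_iff_forall_mem.1 (H2.pCore_isPGroup p G) _ (hc hl)
  exact ⟨k + l + m, by rw [pow_add, pow_add, pow_mul, pow_mul, hm]⟩

theorem isSylow_subgroupOf [Finite G] [Fact p.Prime] {T H : Subgroup G} (hT : IsPGroup p T)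
    (hi : ¬ p ∣ T.relIndex H) : ∃ P : Sylow p H, (P : Subgroup H) = T.subgroupOf H :=
  ⟨hT.comap_subtype.toSylow hi, rfl⟩

end general

variable {p : ℕ} {S : Type u} [Group S]

theorem omega_center_le_W : omegaOne p (center S) ≤ stableNormalClosure p S :=
  le_sInf fun _ hW => hW.1

theorem W_le {W : Subgroup S} (h1 : omegaOne p (center S) ≤ W)
    (h2 : ∀ (H : Type u) [Group H] (τ : S →* H), IsStableEmbedding p τ → (W.map τ).Normal) :
    stableNormalClosure p S ≤ W := sInf_le ⟨h1, h2⟩

theorem omega_center_le_omegaCenterThompson [Finite S] :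
    omegaOne p (center S) ≤ omegaCenterThompson p S := by
  rw [← top_inf_centralizer_top, omegaCenterThompson, ← J_top]
  exact omega_center_le_omega_center_J ⊤

theorem normal_map_omegaCenterThompson {H : Type u} [Group H] {τ : S →* H}
    (hτ : IsStableEmbedding p τ) : ((omegaCenterThompson p S).map τ).Normal := by
  have := hτ.2.2.2.2.1
  rw [map_thompsonSubgroup hτ.1] at this
  rw [map_omegaCenterThompson hτ.1, ← normalizer_eq_top_iff, eq_top_iff]
  exact (normalizer_eq_top _).ge.trans (normalizer_le_normalizer_omega_center _)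

theorem W_le_omegaCenterThompson [Finite S] :
    stableNormalClosure p S ≤ omegaCenterThompson p S :=
  W_le omega_center_le_omegaCenterThompson fun _ _ _ hτ => normal_map_omegaCenterThompson hτ

theorem normal_map_W [Finite S] {H : Type u} [Group H] {τ : S →* H}
    (hτ : IsStableEmbedding p τ) : ((stableNormalClosure p S).map τ).Normal := by
  constructor
  rintro _ ⟨x, hx, rfl⟩ h
  obtain ⟨y, -, hy⟩ := (normal_map_omegaCenterThompson hτ).conj_mem _
    (mem_map_of_mem τ (W_le_omegaCenterThompson hx)) h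
  refine ⟨y, mem_sInf.2 fun W hW => ?_, hy⟩
  obtain ⟨z, hz, hz'⟩ := (hW.2 H τ hτ).conj_mem _ (mem_map_of_mem τ (mem_sInf.1 hx W hW)) h
  rwa [← hτ.1 (hz'.trans hy.symm)]

theorem IsStableEmbedding.comp_equiv {S' H : Type u} [Group S'] [Group H] {τ : S →* H}
    (hτ : IsStableEmbedding p τ) (η : S' ≃* S) : IsStableEmbedding p (τ.comp η.toMonoidHom) := by
  obtain ⟨h1, h2, ⟨P, hP⟩, h4, h5, h6⟩ := hτ
  have hi : Function.Injective (τ.comp η.toMonoidHom) := h1.comp η.injective
  have hr : (τ.comp η.toMonoidHom).range = τ.range := by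
    rw [MonoidHom.range_comp, MonoidHom.range_eq_top.2 η.surjective, ← MonoidHom.range_eq_map]
  refine ⟨hi, h2, ⟨P, hP.trans hr.symm⟩, h4, ?_, fun V _ hV => h6 V ?_⟩
  · rwa [map_thompsonSubgroup hi, hr, ← map_thompsonSubgroup h1]
  · rwa [map_omegaCenterThompson hi, hr, ← map_omegaCenterThompson h1] at hV

theorem map_W_le {S' : Type u} [Group S'] (η : S ≃* S') :
    (stableNormalClosure p S).map η.toMonoidHom ≤ stableNormalClosure p S' := by
  refine le_sInf fun W' hW' => ?_
  rw [map_le_iff_le_comap, comap_equiv_eq_map_symm']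
  refine W_le ?_ fun H _ τ hτ => ?_
  · have := map_omega_center (p := p) (f := η.symm.toMonoidHom) η.symm.injective
    rw [MonoidHom.range_eq_top.2 η.symm.surjective, top_inf_centralizer_top] at this
    rw [← this]
    exact map_mono hW'.1
  · rw [map_map]
    exact hW'.2 H _ (IsStableEmbedding.comp_equiv hτ η.symm)

theorem map_W {S' : Type u} [Group S'] (η : S ≃* S') :
    (stableNormalClosure p S).map η.toMonoidHom = stableNormalClosure p S' := by
  refine le_antisymm (map_W_le η) fun x hx => ?_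
  exact ⟨η.symm x, map_W_le η.symm (mem_map_of_mem _ hx), by simp⟩

instance W_characteristic (p : ℕ) (S : Type u) [Group S] :
    (stableNormalClosure p S).Characteristic :=
  characteristic_iff_map_eq.2 fun e => map_W e

theorem W_ne_bot [Finite S] [Fact p.Prime] (hS : IsPGroup p S) [Nontrivial S] :
    stableNormalClosure p S ≠ ⊥ := fun hb => by
  refine omega_center_ne_bot (p := p) (H := (⊤ : Subgroup S)) (hS.to_subgroup ⊤) top_ne_bot ?_
  rw [top_inf_centralizer_top]
  exact eq_bot_iff.2 (hb ▸ omega_center_le_W)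

theorem mem_centralizer_W_of_quadratic [Finite S] [Fact p.Prime] {x : S}
    (hq : ⁅⁅stableNormalClosure p S, zpowers x⁆, zpowers x⁆ = ⊥) :
    x ∈ centralizer (stableNormalClosure p S : Set S) := by
  set W := stableNormalClosure p S with hW
  let X : Set S := {y | ⁅⁅W, zpowers y⁆, zpowers y⁆ = ⊥}
  have key : W ≤ W ⊓ centralizer X := by
    refine W_le (le_inf omega_center_le_W ((omega_le _).trans (center_le_centralizer X))) ?_
    intro H _ τ hτ
    haveI hn := normal_map_W hτ
    haveI := hτ.2.1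
    obtain ⟨P, hP⟩ := hτ.2.2.1
    have hst := hτ.2.2.2.2.2 (W.map τ) (map_mono W_le_omegaCenterThompson)
    let XH : Set H := {h | ⁅⁅W.map τ, zpowers h⁆, zpowers h⁆ = ⊥}
    have e : (W ⊓ centralizer X).map τ = W.map τ ⊓ centralizer XH := by
      apply le_antisymm
      · rintro _ ⟨w, ⟨hw, hw'⟩, rfl⟩
        refine ⟨mem_map_of_mem τ hw, mem_centralizer_iff.2 fun h hh => ?_⟩
        obtain ⟨s, hs, hc⟩ := exists_mem_sylow_of_mk_mem_pCore P (hst h hh)
        rw [hP] at hs
        obtain ⟨y, rfl⟩ := hs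
        have hy : y ∈ X := by
          refine (quadratic_map_iff hτ.1).1 ?_
          rw [MonoidHom.map_zpowers]
          refine quadratic_of_le_sup (by rw [normalizer_eq_top]; exact le_top) (zpowers_le.2 ?_) hh
          have : τ y = h * ((τ y)⁻¹ * h)⁻¹ := by group
          rw [this]
          exact mul_mem (mem_sup_left (mem_zpowers h)) (mem_sup_right (inv_mem hc))
        have h1 : τ y * τ w = τ w * τ y := by
          rw [← map_mul, ← map_mul, mem_centralizer_iff.1 hw' y hy]
        have h2 := mem_centralizer_iff.1 hc _ (mem_map_of_mem τ hw)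
        calc h * τ w = τ y * (((τ y)⁻¹ * h) * τ w) := by group
          _ = (τ y * τ w) * ((τ y)⁻¹ * h) := by rw [← h2]; group
          _ = τ w * h := by rw [h1]; group
      · rintro _ ⟨⟨w, hw, rfl⟩, hw'⟩
        refine mem_map_of_mem τ ⟨hw, mem_centralizer_iff.2 fun y hy => hτ.1 ?_⟩
        rw [map_mul, map_mul]
        refine mem_centralizer_iff.1 hw' _ ?_
        have := (quadratic_map_iff hτ.1).2 hy
        rwa [MonoidHom.map_zpowers] at this
    rw [e]
    constructor
    rintro v ⟨hv, hv'⟩ g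
    refine ⟨hn.conj_mem v hv g, mem_centralizer_iff.2 fun h hh => ?_⟩
    have := mem_centralizer_iff.1 hv' _ (quadratic_conj (g := g⁻¹)
      (by rw [normalizer_eq_top]; trivial) hh)
    calc h * (g * v * g⁻¹) = g * (g⁻¹ * h * g⁻¹⁻¹ * v) * g⁻¹ := by group
      _ = _ := by rw [this]; group
  exact mem_centralizer_iff.2 fun w hw => (mem_centralizer_iff.1 (key hw).2 x hq).symm

/-! ### ambient version -/

variable {G : Type u} [Group G]

/-- `W(T)` for a subgroup `T`, viewed in the ambient group. -/
abbrev WOf (p : ℕ) (T : Subgroup G) : Subgroup G := (stableNormalClosure p T).map T.subtype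

theorem WOf_le (T : Subgroup G) : WOf p T ≤ T := map_subtype_le _

theorem map_WOf {G' : Type u} [Group G'] {T : Subgroup G} {f : G →* G'} (hf : T ⊓ f.ker = ⊥) :
    (WOf p T).map f = WOf p (T.map f) := by
  have hb : Function.Bijective (f.subgroupMap T) := by
    refine ⟨fun x y h => Subtype.ext (eq_of_map_eq_of_inf_ker hf x.2 y.2
      (congrArg Subtype.val h)), f.subgroupMap_surjective T⟩
  rw [WOf, WOf, ← map_W (MulEquiv.ofBijective _ hb), map_map, map_map]
  rfl

theorem conj_WOf (g : G) (T : Subgroup G) :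
    MulAut.conj g • WOf p T = WOf p (MulAut.conj g • T) :=
  map_WOf (inf_ker_eq_bot_of_injective (MulAut.conj g).injective T)

theorem normalizer_le_normalizer_WOf (T : Subgroup G) :
    normalizer (T : Set G) ≤ normalizer (WOf p T : Set G) := fun g hg => by
  rw [← H3.conj_smul_eq_iff] at hg ⊢
  rw [conj_WOf, hg]

theorem WOf_le_omega [Finite G] (T : Subgroup G) : WOf p T ≤
    omegaOne p (thompsonSubgroupOf p T ⊓ centralizer (thompsonSubgroupOf p T : Set G)) := by
  rw [← map_subtype_omegaCenterThompson]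
  exact map_mono W_le_omegaCenterThompson

theorem ea_WOf [Finite G] (T : Subgroup G) : IsElementaryAbelian p (WOf p T) :=
  ea_of_le (ea_omega_center _) (WOf_le_omega T)

theorem WOf_ne_bot [Finite G] [Fact p.Prime] {T : Subgroup G} (hT : IsPGroup p T) (h : T ≠ ⊥) :
    WOf p T ≠ ⊥ := by
  haveI := (nontrivial_iff_ne_bot T).2 h
  rw [Ne, map_eq_bot_iff_of_injective _ T.subtype_injective]
  exact W_ne_bot hT

theorem mem_centralizer_WOf [Finite G] [Fact p.Prime] {T : Subgroup G} {x : G} (hx : x ∈ T)
    (hq : ⁅⁅WOf p T, zpowers x⁆, zpowers x⁆ = ⊥) : x ∈ centralizer (WOf p T : Set G) := by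
  have h1 : zpowers x = (zpowers (⟨x, hx⟩ : T)).map T.subtype := by
    rw [MonoidHom.map_zpowers]; rfl
  rw [h1, quadratic_map_iff T.subtype_injective] at hq
  exact H13.map_centralizer_le T.subtype _ (mem_map_of_mem _ (mem_centralizer_W_of_quadratic hq))

theorem le_centralizer_normalClosure {W A : Subgroup G}
    (h : ∀ g : G, ∀ a ∈ A, g⁻¹ * a * g ∈ centralizer (W : Set G)) :
    A ≤ centralizer (normalClosure (W : Set G) : Set G) := by
  refine le_centralizer_symm ((closure_le _).2 fun x hx => ?_)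
  obtain ⟨w, hw, hc⟩ := Group.mem_conjugatesOfSet_iff.1 hx
  obtain ⟨g, rfl⟩ := isConj_iff.1 hc
  refine mem_centralizer_iff.2 fun a ha => ?_
  have := mem_centralizer_iff.1 (h g a ha) w hw
  calc a * (g * w * g⁻¹) = g * (g⁻¹ * a * g * w) * g⁻¹ := by group
    _ = _ := by rw [← this]; group

theorem normal_WOf [Finite G] [Fact p.Prime] (hst : IsActionPStable p G)
    (hc : centralizer (pCore p G : Set G) ≤ pCore p G) (S : Sylow p G) :
    (WOf p (S : Subgroup G)).Normal := by
  set W := WOf p (S : Subgroup G) with hW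
  have hea : IsElementaryAbelian p W := ea_WOf _
  have hOS : pCore p G ≤ S := H2.pCore_le_sylow S
  have hON : pCore p G ≤ normalizer (W : Set G) :=
    hOS.trans (le_normalizer.trans (normalizer_le_normalizer_WOf _))
  have hWO : W ≤ pCore p G := fun w hw => by
    obtain ⟨D, hD, -, ⟨k, hk⟩, hwD⟩ := hst.2.1 w (by
      have h1 : ⁅pCore p G, zpowers w⁆ ≤ W := by
        rw [commutator_comm]
        exact (commutator_mono (zpowers_le.2 hw) le_rfl).trans
          (commutator_le_self_of_le_normalizer hON)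
      rw [commutator_eq_bot_iff'.2 (le_centralizer_of_le_of_comm hea.1 (zpowers_le.2 hw) h1)]
      exact bot_le)
    exact mem_pCore_of_stableOnSection hc hD hk hwD
  set V := normalClosure (W : Set G) with hV
  have hWV : W ≤ V := le_normalClosure
  have hVO : V ≤ pCore p G := normalClosure_le_normal hWO
  -- conjugates of `W` centralize `W`
  have hconj : ∀ g : G, ∀ w ∈ W, g⁻¹ * w * g ∈ centralizer (W : Set G) := by
    intro g w hw
    have hwO : g⁻¹ * w * g ∈ pCore p G := by
      simpa using Normal.conj_mem inferInstance w (hWO hw) g⁻¹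
    refine mem_centralizer_WOf (hOS hwO) ?_
    have hea' := ea_conj hea g⁻¹
    have hz : zpowers (g⁻¹ * w * g) ≤ MulAut.conj g⁻¹ • W :=
      zpowers_le.2 (H3.mem_conj_smul.2 (by simpa [mul_assoc] using hw))
    have hN : W ≤ normalizer ((MulAut.conj g⁻¹ • W : Subgroup G) : Set G) := by
      rw [← H3.conj_smul_normalizer]
      intro x hx
      refine H3.mem_conj_smul.2 (hON ?_)
      simpa using Normal.conj_mem inferInstance x (hWO hx) g
    have h1 : ⁅W, zpowers (g⁻¹ * w * g)⁆ ≤ MulAut.conj g⁻¹ • W := by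
      rw [commutator_comm]
      exact (commutator_mono hz le_rfl).trans (commutator_le_self_of_le_normalizer hN)
    exact commutator_eq_bot_iff'.2 (le_centralizer_of_le_of_comm hea'.1 hz h1)
  have hVea : IsElementaryAbelian p V := by
    have h1 : W ≤ centralizer (V : Set G) := le_centralizer_normalClosure hconj
    have h2 : V ≤ centralizer (V : Set G) := normalClosure_le_normal h1
    refine ea_closure (fun x hx y hy =>
      mem_centralizer_iff.1 (h2 (subset_closure hy)) x (subset_closure hx)) fun x hx => ?_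
    obtain ⟨w, hw, hc⟩ := Group.mem_conjugatesOfSet_iff.1 hx
    obtain ⟨g, rfl⟩ := isConj_iff.1 hc
    rw [conj_pow, hea.2 w hw]; simp
  -- `J(S)` centralizes `V`
  have hJ : thompsonSubgroupOf p (S : Subgroup G) ≤ centralizer (V : Set G) := by
    rw [J_le_iff]
    intro A hA
    by_contra hne
    obtain ⟨hA', hq, hne'⟩ := hA.replace (hVO.trans hOS) hVea
      (by rw [normalizer_eq_top]; exact le_top)
    set B := ⁅V, A⁆ ⊔ (A ⊓ centralizer ((⁅V, A⁆ : Subgroup G) : Set G))
    refine hne' (fun h => hne (commutator_eq_bot_iff'.1 h)) (commutator_eq_bot_iff'.2 ?_)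
    refine le_centralizer_normalClosure fun g a ha => ?_
    set D := (pCore p (G ⧸ centralizer (V : Set G))).comap
      (QuotientGroup.mk' (centralizer (V : Set G)))
    have hqa : ⁅⁅V, zpowers a⁆, zpowers a⁆ = ⊥ :=
      quadratic_mono le_rfl (zpowers_le.2 ha) (zpowers_le.2 ha) hq
    have haD : a ∈ D := hst.1 V hVea a hqa
    have hi : ¬ p ∣ ((S : Subgroup G) ⊓ D).relIndex D := by
      rw [inf_relIndex_right]
      exact H3.sylow_not_dvd_relIndex_of_normal S D
    obtain ⟨l, hl, hn⟩ := H13.frattini_rel (S.2.to_le inf_le_left) inf_le_right hi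
      (g := g⁻¹) (by rw [normalizer_eq_top]; trivial)
    obtain ⟨s, hs, hsc⟩ := exists_mem_sylow_of_mk_mem_pCore S hl
    -- `n = s⁻¹ l g⁻¹` maps `a` into `S`
    have h1 : (l * g⁻¹) * a * (l * g⁻¹)⁻¹ ∈ (S : Subgroup G) :=
      (H13.conj_mem_of_mem_normalizer hn ⟨hA'.le ha, haD⟩).1
    have h2 : (s⁻¹ * l * g⁻¹) * a * (s⁻¹ * l * g⁻¹)⁻¹ ∈ (S : Subgroup G) := by
      have := mul_mem (mul_mem (inv_mem hs) h1) hs
      convert this using 1; group
    have h3 := mem_centralizer_WOf h2 (quadratic_mono hWV le_rfl le_rfl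
      (quadratic_conj (by rw [normalizer_eq_top]; trivial) hqa))
    have h4 := H13.centralizer_anti hWV hsc
    have := mul_mem (mul_mem (inv_mem h4) h3) h4
    convert this using 1; group
  -- `W` is normal in `M = N(J(S))`
  set M := normalizer (thompsonSubgroupOf p (S : Subgroup G) : Set G) with hM
  have hSM : (S : Subgroup G) ≤ M := le_normalizer_J _
  have hτ : IsStableEmbedding p (inclusion hSM) := by
    have hi := inclusion_injective hSM
    refine ⟨hi, inferInstance, ⟨S.subtype hSM, ?_⟩,
      H13.centralizer_pCore_le_of_pCore_le hc (hOS.trans hSM), ?_, fun U _ hU => hst.2.2 S U ?_⟩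
    · rw [Sylow.coe_subtype, inclusion_range]
    · have : (thompsonSubgroup p S).map (inclusion hSM) =
          (thompsonSubgroupOf p (S : Subgroup G)).subgroupOf M := by
        apply map_injective M.subtype_injective
        rw [map_map, subgroupOf_map_subtype, inf_eq_left.2 le_normalizer]
        rfl
      rw [this]
      exact normal_in_normalizer
    · refine (map_mono hU).trans ?_
      rw [map_map]
      exact le_rfl
  have hMW : M ≤ normalizer (W : Set G) := by
    haveI := normal_map_W hτ
    have := H13.le_normalizer_map_subtype ((stableNormalClosure p S).map (inclusion hSM))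
    rwa [map_map] at this
  rw [← normalizer_eq_top_iff, eq_top_iff, ← sup_normalizer_J_eq_top S hJ]
  exact sup_le (H13.le_normalizer_of_le_centralizer (H13.centralizer_anti hWV)) hMW

theorem pPrimeCore_sup_normalizer_WOf [Finite G] [Fact p.Prime] (hG : ¬ QuadInvolved p G)
    (hs : PSep p G) (S : Sylow p G) :
    pPrimeCore p G ⊔ normalizer (WOf p (S : Subgroup G) : Set G) = ⊤ := by
  set f := QuotientGroup.mk' (pPrimeCore p G) with hf
  have hsurj : Function.Surjective f := QuotientGroup.mk'_surjective _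
  have hk : (Nat.card f.ker).Coprime p := by
    rw [QuotientGroup.ker_mk']; exact H2.pPrimeCore_coprime p G
  have hn := normal_WOf (isActionPStable_of_not_quadInvolved
    (fun h => hG (h.of_involves (involves_quotient _))))
    ((hs.quotient _).centralizer_pCore_le (H2.pPrimeCore_quotient_pPrimeCore p G))
    (S.mapSurjective hsurj)
  rw [Sylow.coe_mapSurjective, ← map_WOf (H13.inf_eq_bot_of_isPGroup_of_coprime S.2 hk),
    ← normalizer_eq_top_iff, H13.normalizer_map_of_coprime_ker hsurj hk (S.2.to_le (WOf_le _))]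
    at hn
  have := congrArg (comap f) hn
  rwa [comap_map_eq, comap_top, QuotientGroup.ker_mk', sup_comm] at this

end H12
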