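import Mathlib
import Cfsg.Prelude.Def_Classical
import Cfsg.Prelude.Def_LieRecognition
import Cfsg.Agent.H7.SpSuSimple

/-! A concrete model of `SU₃(q)`, `q` even: root group, Weyl element, isotropic points. -/

set_option autoImplicit false

namespace H12
namespace U3

open Matrix

variable {F : Type*} [Field F] [Fintype F] [CharP F 2] {q : ℕ} (hF : Fintype.card F = q ^ 2)

local notation "σ" => H15.frob hF

omit [CharP F 2] in
theorem ss (x : F) : σ (σ x) = x := H15.frob_frob hF x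

/-- pairs `(x, y)` with `y + y^q = x^(q+1)` -/
@[ext] structure Uq where
  x : F
  y : F
  rel : y + σ y = x * σ x

variable {hF}

instance : Mul (Uq hF) := ⟨fun a b => ⟨a.x + b.x, a.y + b.y + a.x * σ b.x, by
  have h1 := a.rel; have h2 := b.rel
  simp only [map_add, map_mul, ss]
  grind⟩⟩

instance : One (Uq hF) := ⟨⟨0, 0, by simp⟩⟩

instance : Inv (Uq hF) := ⟨fun a => ⟨a.x, σ a.y, by
  have h1 := a.rel
  rw [ss]; grind⟩⟩

@[simp] theorem mul_x (a b : Uq hF) : (a * b).x = a.x + b.x := rfl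
@[simp] theorem mul_y (a b : Uq hF) : (a * b).y = a.y + b.y + a.x * σ b.x := rfl
@[simp] theorem one_x : (1 : Uq hF).x = 0 := rfl
@[simp] theorem one_y : (1 : Uq hF).y = 0 := rfl
@[simp] theorem inv_x (a : Uq hF) : a⁻¹.x = a.x := rfl
@[simp] theorem inv_y (a : Uq hF) : a⁻¹.y = σ a.y := rfl

instance : Group (Uq hF) := Group.ofLeftAxioms
  (fun a b c => by ext <;> simp <;> ring)
  (fun a => by ext <;> simp)
  (fun a => by
    have h1 := a.rel
    ext <;> simp <;> grind)

instance : Finite (Uq hF) :=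
  Finite.of_injective (fun a : Uq hF => (a.x, a.y)) fun a b h => by
    ext
    · exact congrArg Prod.fst h
    · exact congrArg Prod.snd h

theorem exists_y (x : F) : ∃ y, y + σ y = x * σ x := by
  have h1 := H15.card_trace_eq hF (x * σ x) (by
    rw [← H15.frob_apply hF, map_mul, ss, mul_comm])
  have := H15.two_le_of_card_sq hF
  obtain ⟨b⟩ := (Nat.card_pos_iff.1 (h1 ▸ (by omega : 0 < q))).1
  exact ⟨b.1, b.2⟩

theorem card_Uq : Nat.card (Uq hF) = q ^ 3 := by
  have e : Uq hF ≃ Σ x : F, {y : F // y + y ^ q = x * σ x} :=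
    ⟨fun a => ⟨a.x, a.y, a.rel⟩, fun p => ⟨p.1, p.2.1, p.2.2⟩, fun _ => rfl, fun _ => rfl⟩
  rw [Nat.card_congr e, Nat.card_sigma]
  have : ∀ x : F, Nat.card {y : F // y + y ^ q = x * σ x} = q := fun x =>
    H15.card_trace_eq hF _ (by rw [← H15.frob_apply hF, map_mul, ss, mul_comm])
  simp only [this, Finset.sum_const, Finset.card_univ, hF, smul_eq_mul]
  ring

theorem y_ne_zero {a : Uq hF} (h : a ≠ 1) : a.y ≠ 0 := by
  intro h0
  apply h
  have h1 := a.rel
  rw [h0, map_zero, add_zero] at h1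
  ext
  · rcases mul_eq_zero.1 h1.symm with h2 | h2
    · exact h2
    · exact (map_eq_zero σ).1 h2
  · exact h0

theorem herm_eq (u v : Fin 3 → F) :
    Cfsg.hermForm 3 F q u v = u 0 * σ (v 0) + u 1 * σ (v 1) + u 2 * σ (v 2) := by
  simp [Cfsg.hermForm, Fin.sum_univ_three, H15.frob_apply]

/-- the matrix of a pair -/
def mat (a : Uq hF) : Matrix (Fin 3) (Fin 3) F :=
  !![1 + a.y, a.y, a.x; a.y, 1 + a.y, a.x; σ a.x, σ a.x, 1]

theorem mat_mul (a b : Uq hF) : mat (a * b) = mat a * mat b := by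
  ext i j
  fin_cases i <;> fin_cases j <;> simp [mat, Matrix.mul_apply, Fin.sum_univ_three] <;> grind

theorem mat_det (a : Uq hF) : (mat a).det = 1 := by
  simp [mat, Matrix.det_fin_three]
  grind

theorem mat_mem (a : Uq hF) :
    (⟨mat a, mat_det a⟩ : Matrix.SpecialLinearGroup (Fin 3) F) ∈ Cfsg.SU 3 F q := by
  intro u v
  show Cfsg.hermForm 3 F q (mat a *ᵥ u) (mat a *ᵥ v) = _
  have h1 := a.rel
  rw [herm_eq (hF := hF), herm_eq (hF := hF)]
  simp [mat, Matrix.mulVec, dotProduct, Fin.sum_univ_three, ss]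
  grind

/-- the root group in `SU₃(q)` -/
def toSU : Uq hF →* Cfsg.SU 3 F q :=
  MonoidHom.mk' (fun a => ⟨⟨mat a, mat_det a⟩, mat_mem a⟩)
    fun a b => Subtype.ext (Subtype.ext (mat_mul a b))

/-- coordinates with respect to the hyperbolic basis `f, w, e` -/
def vec (c α β γ : F) : Fin 3 → F := ![α * (1 + c) + γ, α * c + γ, β]

omit [Fintype F] in
theorem exists_vec (c : F) (v : Fin 3 → F) : ∃ α β γ, v = vec c α β γ :=
  ⟨v 0 + v 1, v 2, v 0 * c + v 1 * (c + 1), by
    ext i; fin_cases i <;> simp [vec] <;> grind⟩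

omit [Fintype F] in
theorem vec_inj {c α β γ α' β' γ' : F} (h : vec c α β γ = vec c α' β' γ') :
    α = α' ∧ β = β' ∧ γ = γ' := by
  have h0 := congrFun h 0
  have h1 := congrFun h 1
  have h2 := congrFun h 2
  simp [vec] at h0 h1 h2
  grind

omit [Fintype F] [CharP F 2] in
theorem smul_vec (l c α β γ : F) : l • vec c α β γ = vec c (l * α) (l * β) (l * γ) := by
  ext i; fin_cases i <;> simp [vec] <;> ring

omit [Fintype F] [CharP F 2] in
theorem vec_eq (c α β γ : F) :
    vec c α β γ = α • vec c 1 0 0 + β • vec c 0 1 0 + γ • vec c 0 0 1 := by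
  ext i; fin_cases i <;> simp [vec]

theorem herm_vec {c : F} (hc : σ c = c + 1) (α β γ α' β' γ' : F) :
    Cfsg.hermForm 3 F q (vec c α β γ) (vec c α' β' γ') = α * σ γ' + β * σ β' + γ * σ α' := by
  rw [herm_eq (hF := hF)]
  simp [vec, hc]
  grind

theorem exists_c : ∃ c : F, σ c = c + 1 := by
  obtain ⟨c, hc⟩ := exists_y (hF := hF) 1
  exact ⟨c, by simp at hc; grind⟩

/-- the action of an element of `SU₃(q)` on vectors -/
def act (g : Cfsg.SU 3 F q) (v : Fin 3 → F) : Fin 3 → F := (g.1.1 : Matrix _ _ F) *ᵥ v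

omit [Fintype F] [CharP F 2] in
theorem act_mul (g h : Cfsg.SU 3 F q) (v : Fin 3 → F) : act (g * h) v = act g (act h v) := by
  simp [act]

omit [Fintype F] [CharP F 2] in
theorem act_one (v : Fin 3 → F) : act (1 : Cfsg.SU 3 F q) v = v := by
  simp [act]

omit [Fintype F] [CharP F 2] in
theorem act_smul (g : Cfsg.SU 3 F q) (l : F) (v : Fin 3 → F) : act g (l • v) = l • act g v := by
  simp [act, Matrix.mulVec_smul]

omit [Fintype F] [CharP F 2] in
theorem act_add (g : Cfsg.SU 3 F q) (u v : Fin 3 → F) : act g (u + v) = act g u + act g v := by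
  simp [act, Matrix.mulVec_add]

omit [Fintype F] [CharP F 2] in
theorem act_inv_act (g : Cfsg.SU 3 F q) (v : Fin 3 → F) : act g⁻¹ (act g v) = v := by
  rw [← act_mul, inv_mul_cancel, act_one]

omit [Fintype F] [CharP F 2] in
theorem act_act_inv (g : Cfsg.SU 3 F q) (v : Fin 3 → F) : act g (act g⁻¹ v) = v := by
  rw [← act_mul, mul_inv_cancel, act_one]

omit [Fintype F] [CharP F 2] in
theorem herm_act (g : Cfsg.SU 3 F q) (u v : Fin 3 → F) :
    Cfsg.hermForm 3 F q (act g u) (act g v) = Cfsg.hermForm 3 F q u v := g.2 u v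

omit [Fintype F] [CharP F 2] in
theorem act_vec (g : Cfsg.SU 3 F q) (c α β γ : F) : act g (vec c α β γ) =
    α • act g (vec c 1 0 0) + β • act g (vec c 0 1 0) + γ • act g (vec c 0 0 1) := by
  rw [vec_eq, act_add, act_add, act_smul, act_smul, act_smul]

omit [Fintype F] in
theorem ext_act {g h : Cfsg.SU 3 F q} (c : F) (h1 : act g (vec c 1 0 0) = act h (vec c 1 0 0))
    (h2 : act g (vec c 0 1 0) = act h (vec c 0 1 0))
    (h3 : act g (vec c 0 0 1) = act h (vec c 0 0 1)) : g = h := by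
  apply Subtype.ext; apply Subtype.ext
  apply Matrix.toLin'.injective
  refine LinearMap.ext fun v => ?_
  obtain ⟨α, β, γ, rfl⟩ := exists_vec c v
  have : act g (vec c α β γ) = act h (vec c α β γ) := by
    rw [act_vec, act_vec h, h1, h2, h3]
  simpa [act] using this

theorem act_toSU (a : Uq hF) (c α β γ : F) :
    act (toSU a) (vec c α β γ) = vec c α (β + σ a.x * α) (γ + a.x * β + a.y * α) := by
  show mat a *ᵥ _ = _
  ext i
  fin_cases i <;> simp [mat, vec, Matrix.mulVec, dotProduct, Fin.sum_univ_three] <;> grind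

/-- the Weyl element -/
def tmat (c : F) : Matrix (Fin 3) (Fin 3) F :=
  !![1 + c + c ^ 2, c ^ 2, 0; 1 + c ^ 2, 1 + c + c ^ 2, 0; 0, 0, 1]

omit [Fintype F] in
theorem tmat_det (c : F) : (tmat c).det = 1 := by
  simp [tmat, Matrix.det_fin_three]
  grind

omit [Fintype F] in
theorem tmat_vec (c α β γ : F) : tmat c *ᵥ vec c α β γ = vec c γ β α := by
  ext i
  fin_cases i <;> simp [tmat, vec, Matrix.mulVec, dotProduct, Fin.sum_univ_three] <;> grind

/-- the Weyl element in `SU₃(q)` -/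
def tSU {c : F} (hc : σ c = c + 1) : Cfsg.SU 3 F q := ⟨⟨tmat c, tmat_det c⟩, by
  intro u v
  show Cfsg.hermForm 3 F q (tmat c *ᵥ u) (tmat c *ᵥ v) = _
  obtain ⟨α, β, γ, rfl⟩ := exists_vec c u
  obtain ⟨α', β', γ', rfl⟩ := exists_vec c v
  rw [tmat_vec, tmat_vec, herm_vec hc, herm_vec hc]
  ring⟩

theorem act_tSU {c : F} (hc : σ c = c + 1) (α β γ : F) :
    act (tSU hc) (vec c α β γ) = vec c γ β α := tmat_vec c α β γ

/-- the isotropic point attached to a pair -/
def pt (c : F) (a : Uq hF) : Fin 3 → F := vec c 1 (σ a.x) a.y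

theorem act_toSU_pt (c : F) (a b : Uq hF) : act (toSU a) (pt c b) = pt c (a * b) := by
  rw [pt, act_toSU, pt]
  congr 1 <;> simp <;> ring

theorem act_toSU_e (c : F) (a : Uq hF) : act (toSU a) (vec c 0 0 1) = vec c 0 0 1 := by
  rw [act_toSU]; simp

theorem pt_one (c : F) : pt c (1 : Uq hF) = vec c 1 0 0 := by simp [pt]

theorem isotropic {c : F} (hc : σ c = c + 1) {v : Fin 3 → F}
    (hv : Cfsg.hermForm 3 F q v v = 0) :
    (∃ l : F, v = l • vec c 0 0 1) ∨ ∃ (l : F) (a : Uq hF), v = l • pt c a := by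
  obtain ⟨α, β, γ, rfl⟩ := exists_vec c v
  rw [herm_vec hc] at hv
  by_cases h : α = 0
  · left
    subst h
    have : β = 0 := by
      simp only [zero_mul, map_zero, mul_zero, zero_add, add_zero] at hv
      rcases mul_eq_zero.1 hv with h2 | h2
      · exact h2
      · exact (map_eq_zero σ).1 h2
    exact ⟨γ, by rw [smul_vec, this]; simp⟩
  · right
    have h' : σ α ≠ 0 := (map_ne_zero σ).2 h
    refine ⟨α, ⟨σ (β / α), γ / α, ?_⟩, ?_⟩
    · simp only [map_div₀, ss]
      grind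
    · rw [pt, smul_vec]
      simp only [ss]
      congr 1 <;> field_simp

theorem act_w {c : F} (hc : σ c = c + 1) {g : Cfsg.SU 3 F q} {l : F}
    (h : act g (vec c 0 0 1) = l • vec c 0 0 1) :
    l ≠ 0 ∧ ∃ μ ν, μ ≠ 0 ∧ act g (vec c 0 1 0) = vec c 0 μ ν := by
  have hl : l ≠ 0 := by
    rintro rfl
    have := congrArg (act g⁻¹) h
    rw [act_inv_act, act_smul, zero_smul, ← zero_smul F (vec c 0 0 1), smul_vec] at this
    simpa using (vec_inj this).2.2
  obtain ⟨α, β, γ, e⟩ := exists_vec c (act g (vec c 0 1 0))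
  have h1 := herm_act g (vec c 0 1 0) (vec c 0 0 1)
  have h2 := herm_act g (vec c 0 1 0) (vec c 0 1 0)
  rw [e, h, smul_vec, herm_vec hc, herm_vec hc] at h1
  rw [e, herm_vec hc, herm_vec hc] at h2
  have hα : α = 0 := by simpa [hl] using h1
  subst hα
  refine ⟨hl, β, γ, ?_, e⟩
  rintro rfl
  simp at h2

theorem mem_range {c : F} (hc : σ c = c + 1) {g : Cfsg.SU 3 F q} {x : F}
    (h1 : act g (vec c 0 0 1) = vec c 0 0 1) (h2 : act g (vec c 0 1 0) = vec c 0 1 x) :
    g ∈ (toSU (hF := hF)).range := by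
  obtain ⟨α, β, γ, e⟩ := exists_vec c (act g (vec c 1 0 0))
  have k1 := herm_act g (vec c 1 0 0) (vec c 0 0 1)
  have k2 := herm_act g (vec c 1 0 0) (vec c 0 1 0)
  have k3 := herm_act g (vec c 1 0 0) (vec c 1 0 0)
  rw [e, h1, herm_vec hc, herm_vec hc] at k1
  rw [e, h2, herm_vec hc, herm_vec hc] at k2
  rw [e, herm_vec hc, herm_vec hc] at k3
  have hα : α = 1 := by simpa using k1
  subst hα
  have hβ : β = σ x := by simp at k2; grind
  subst hβ
  refine ⟨⟨x, γ, by simp [ss] at k3; grind⟩, ext_act c ?_ ?_ ?_⟩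
  · rw [e, act_toSU]; simp
  · rw [h2, act_toSU]; simp
  · rw [h1, act_toSU_e]

theorem conj_mem_range {c : F} (hc : σ c = c + 1) {g : Cfsg.SU 3 F q} {l : F}
    (h : act g (vec c 0 0 1) = l • vec c 0 0 1) (a : Uq hF) :
    g⁻¹ * toSU a * g ∈ (toSU (hF := hF)).range := by
  obtain ⟨hl, μ, ν, hμ, e⟩ := act_w hc h
  have h' : act g⁻¹ (vec c 0 0 1) = l⁻¹ • vec c 0 0 1 := by
    have := congrArg (act g⁻¹) h
    rw [act_inv_act, act_smul] at this
    rw [eq_inv_smul_iff₀ hl, ← this]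
  refine mem_range hc (x := a.x * μ * l⁻¹) ?_ ?_
  · rw [act_mul, act_mul, h, act_smul, act_smul, act_toSU_e, ← act_smul, ← h, act_inv_act]
  · rw [act_mul, act_mul, e, act_toSU]
    have : vec c 0 (μ + σ a.x * 0) (ν + a.x * μ + a.y * 0) =
        vec c 0 μ ν + (a.x * μ) • vec c 0 0 1 := by
      ext i; fin_cases i <;> simp [vec]
    rw [this, act_add, act_smul, h', ← e, act_inv_act]
    ext i; fin_cases i <;> simp [vec]

theorem exists_x_ne : ∃ a : Uq hF, a.x ≠ 0 := by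
  obtain ⟨y, hy⟩ := exists_y (hF := hF) 1
  exact ⟨⟨1, y, hy⟩, one_ne_zero⟩

theorem mem_center_of_fix {c : F} (hc : σ c = c + 1) {g : Cfsg.SU 3 F q}
    (h1 : ∃ l : F, act g (vec c 0 0 1) = l • vec c 0 0 1)
    (h2 : ∀ a : Uq hF, ∃ l : F, act g (pt c a) = l • pt c a) : g ∈ Subgroup.center _ := by
  obtain ⟨l, h1⟩ := h1
  obtain ⟨m, hm⟩ := h2 1
  rw [pt_one] at hm
  obtain ⟨a, ha⟩ := exists_x_ne (hF := hF)
  obtain ⟨k, hk⟩ := h2 a
  obtain ⟨hl, μ, ν, hμ, e⟩ := act_w hc h1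
  have hy : a.y ≠ 0 := y_ne_zero (by rintro rfl; exact ha rfl)
  have ha' : σ a.x ≠ 0 := (map_ne_zero σ).2 ha
  have k1 := herm_act g (vec c 1 0 0) (vec c 0 0 1)
  have k2 := herm_act g (vec c 0 1 0) (vec c 1 0 0)
  rw [hm, h1, smul_vec, smul_vec, herm_vec hc, herm_vec hc] at k1
  rw [hm, e, smul_vec, herm_vec hc, herm_vec hc] at k2
  have hm0 : m ≠ 0 := by rintro rfl; simp at k1
  have hν : ν = 0 := by simpa [hm0] using k2
  subst hν
  rw [pt, act_vec, hm, e, h1, smul_vec, smul_vec, smul_vec, smul_vec, smul_vec, smul_vec] at hk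
  have hk' : vec c m (σ a.x * μ) (a.y * l) = vec c (k * 1) (k * σ a.x) (k * a.y) := by
    rw [← hk]; ext i; fin_cases i <;> simp [vec]
  obtain ⟨e1, e2, e3⟩ := vec_inj hk'
  have e4 : μ = k := by grind
  have e5 : l = k := by grind
  have key : ∀ v, act g v = k • v := fun v => by
    obtain ⟨α, β, γ, rfl⟩ := exists_vec c v
    rw [act_vec, hm, e, h1, e4, e5, e1]
    ext i; fin_cases i <;> simp [vec] <;> ring
  rw [Subgroup.mem_center_iff]
  intro h
  refine ext_act c ?_ ?_ ?_ <;> rw [act_mul, act_mul, key, key, act_smul]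

theorem fix_of_mem_center {c : F} (hc : σ c = c + 1) {g : Cfsg.SU 3 F q}
    (hg : g ∈ Subgroup.center _) :
    ∃ l : F, act g (vec c 0 0 1) = l • vec c 0 0 1 ∧ ∀ a : Uq hF, act g (pt c a) = l • pt c a := by
  rw [Subgroup.mem_center_iff] at hg
  obtain ⟨α, β, γ, e⟩ := exists_vec c (act g (vec c 0 0 1))
  have key : ∀ a : Uq hF, vec c α (β + σ a.x * α) (γ + a.x * β + a.y * α) = vec c α β γ := by
    intro a
    rw [← act_toSU, ← e, ← act_mul, hg, act_mul, act_toSU_e]
  obtain ⟨a, ha⟩ := exists_x_ne (hF := hF)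
  have ha' : σ a.x ≠ 0 := (map_ne_zero σ).2 ha
  obtain ⟨-, e2, e3⟩ := vec_inj (key a)
  have hα : α = 0 := by grind
  have hβ : β = 0 := by grind
  subst hα hβ
  have e' : act g (vec c 0 0 1) = γ • vec c 0 0 1 := by rw [e, smul_vec]; simp
  refine ⟨γ, e', fun b => ?_⟩
  have : pt c b = act (toSU b * tSU hc) (vec c 0 0 1) := by
    rw [act_mul, act_tSU, ← pt_one (hF := hF), act_toSU_pt, mul_one]
  rw [this, ← act_mul, ← hg, act_mul, e', act_smul]

theorem eq_one_of_mem_center {a : Uq hF} (h : toSU a ∈ Subgroup.center (Cfsg.SU 3 F q)) :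
    a = 1 := by
  obtain ⟨c, hc⟩ := exists_c (hF := hF)
  obtain ⟨l, -, h2⟩ := fix_of_mem_center hc h
  have := h2 1
  rw [act_toSU_pt, mul_one, pt, pt, smul_vec] at this
  obtain ⟨-, e2, e3⟩ := vec_inj this
  ext
  · simpa using e2
  · simpa using e3

theorem eq_top {c : F} (hc : σ c = c + 1) (hq : q ≠ 2) {N : Subgroup (Cfsg.SU 3 F q)}
    (h1 : ∀ a : Uq hF, toSU a ∈ N) (h2 : tSU hc ∈ N) (h3 : Subgroup.center _ ≤ N) : N = ⊤ := by
  have hsimple := H7.psu_simple hF 3 le_rfl (by simp [hq])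
  set N0 := Subgroup.normalClosure ((toSU (hF := hF)).range : Set (Cfsg.SU 3 F q)) with hN0
  have hle : N0 ≤ N := by
    rw [hN0, Subgroup.normalClosure, Subgroup.closure_le]
    intro z hz
    obtain ⟨u, ⟨a, rfl⟩, hz⟩ := Group.mem_conjugatesOfSet_iff.1 hz
    obtain ⟨g, rfl⟩ := isConj_iff.1 hz
    have hiso : Cfsg.hermForm 3 F q (act g (vec c 0 0 1)) (act g (vec c 0 0 1)) = 0 := by
      rw [herm_act, herm_vec hc]; simp
    have : ∃ m ∈ N, ∃ l : F, act g (vec c 0 0 1) = l • act m (vec c 0 0 1) := by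
      rcases isotropic hc hiso with ⟨l, e⟩ | ⟨l, b, e⟩
      · exact ⟨1, N.one_mem, l, by rw [act_one, e]⟩
      · exact ⟨toSU b * tSU hc, N.mul_mem (h1 b) h2, l, by
          rw [act_mul, act_tSU, ← pt_one (hF := hF), act_toSU_pt, mul_one, e]⟩
    obtain ⟨m, hm, l, e⟩ := this
    have e' : act (m⁻¹ * g) (vec c 0 0 1) = l • vec c 0 0 1 := by
      rw [act_mul, e, act_smul, act_inv_act]
    have hl := (act_w hc e').1
    have e'' : act (m⁻¹ * g)⁻¹ (vec c 0 0 1) = l⁻¹ • vec c 0 0 1 := by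
      have := congrArg (act (m⁻¹ * g)⁻¹) e'
      rw [act_inv_act, act_smul] at this
      rw [eq_inv_smul_iff₀ hl, ← this]
    obtain ⟨b, hb⟩ := conj_mem_range hc e'' a
    have : g * toSU a * g⁻¹ = m * toSU b * m⁻¹ := by rw [hb]; group
    rw [this]
    exact N.mul_mem (N.mul_mem hm (h1 b)) (N.inv_mem hm)
  have hn : (N0.map (QuotientGroup.mk' (Subgroup.center _))).Normal :=
    Subgroup.Normal.map inferInstance _ (QuotientGroup.mk'_surjective _)
  rcases hn.eq_bot_or_eq_top with h | h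
  · exfalso
    obtain ⟨a, ha⟩ := exists_x_ne (hF := hF)
    rw [Subgroup.map_eq_bot_iff, QuotientGroup.ker_mk'] at h
    have := eq_one_of_mem_center (h (Subgroup.subset_normalClosure ⟨a, rfl⟩))
    exact ha (by rw [this]; rfl)
  · rw [eq_top_iff]
    intro g _
    have : QuotientGroup.mk' (Subgroup.center _) g ∈
        N0.map (QuotientGroup.mk' (Subgroup.center _)) := h ▸ Subgroup.mem_top _
    obtain ⟨k, hk, e⟩ := this
    have h4 : k⁻¹ * g ∈ Subgroup.center _ := QuotientGroup.eq.1 e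
    simpa using N.mul_mem (hle hk) (h3 h4)

end U3
end H12
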