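import Mathlib
import Cfsg.Agent.H12.PStable
import Cfsg.Agent.H11.Subnormal
import Cfsg.Agent.H13.Basic

/-! Kurzweil–Stellmacher 9.1.5. -/

open Subgroup Cfsg

namespace H12

variable {G : Type*} [Group G]

theorem le_map_pCore_of_sn {p : ℕ} {A H : Subgroup G} (h : H11.SN A H) (hA : IsPGroup p A) :
    A ≤ (pCore p H).map H.subtype := by
  have h1 := H2.le_pCore_of_isSubnormal h.isSubnormal_subgroupOf (hA.comap_subtype)
  intro a ha
  exact ⟨⟨a, h.le ha⟩, h1 (by simpa [mem_subgroupOf] using ha), rfl⟩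

theorem commutator_le_pCore_of_succ [Finite G] {p : ℕ} {V H E₁ E₂ : Subgroup G}
    (hV : ∀ v ∈ V, v ^ p = 1) (hHV : H ≤ normalizer (V : Set G))
    (hf : H ⊓ centralizer (V : Set G) = ⊥) (hs₁ : H11.SN E₁ H) (hs₂ : H11.SN E₂ H)
    (hc : ⁅⁅V, E₁⁆, E₂⁆ = ⊥) : ⁅E₁, E₂⁆ ≤ (pCore p H).map H.subtype := by
  have h₁ := hs₁.le
  have h₂ := hs₂.le
  have hN₁ : E₁ ≤ normalizer ((⁅V, E₁⁆ : Subgroup G) : Set G) :=
    H13.le_normalizer_commutator (h₁.trans hHV) le_normalizer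
  have hC₂ : E₂ ≤ centralizer ((⁅V, E₁⁆ : Subgroup G) : Set G) := commutator_eq_bot_iff'.1 hc
  have hN₂ : E₂ ≤ normalizer ((⁅V, E₁⁆ : Subgroup G) : Set G) :=
    H13.le_normalizer_of_le_centralizer hC₂
  have hA1 : ⁅E₁, E₂⁆ ≤ centralizer ((⁅V, E₁⁆ : Subgroup G) : Set G) := by
    rw [Subgroup.commutator_le]
    intro a ha b hb
    rw [commutatorElement_def]
    exact mul_mem (H13.conj_mem_of_mem_normalizer (H13.le_normalizer_centralizer hN₁ ha) (hC₂ hb))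
      (inv_mem (hC₂ hb))
  have hAE : ⁅E₁, E₂⁆ ≤ E₁ ⊔ E₂ := by
    rw [Subgroup.commutator_le]
    intro a ha b hb
    rw [commutatorElement_def]
    exact mul_mem (mul_mem (mul_mem (mem_sup_left ha) (mem_sup_right hb))
      (inv_mem (mem_sup_left ha))) (inv_mem (mem_sup_right hb))
  have hA2 : ⁅V, ⁅E₁, E₂⁆⁆ ≤ ⁅V, E₁⁆ := by
    rw [Subgroup.commutator_def E₁ E₂]
    apply commutator_closure_le
    · rintro _ ⟨a, ha, b, hb, rfl⟩
      rw [commutatorElement_def]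
      exact mul_mem (mul_mem (mul_mem (hN₁ ha) (hN₂ hb)) (inv_mem (hN₁ ha))) (inv_mem (hN₂ hb))
    · rintro _ ⟨a, ha, b, hb, rfl⟩ v hv
      have hv' : b⁻¹ * v * b ∈ V := H13.conj_mem_of_mem_normalizer' (hHV (h₂ hb)) hv
      have e1 := H13.conj_mem_of_mem_normalizer (hN₁ ha)
        (H13.conj_mem_of_mem_normalizer (hN₂ hb) (comm_mem_commutator hv' (inv_mem ha)))
      have e2 := comm_mem_commutator hv ha
      convert mul_mem e1 e2 using 1
      rw [commutatorElement_def]; group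
  have hq : ⁅⁅V, ⁅E₁, E₂⁆⁆, ⁅E₁, E₂⁆⁆ = ⊥ := by
    rw [commutator_eq_bot_iff']
    exact hA1.trans (H13.centralizer_anti hA2)
  have hEH : E₁ ⊔ E₂ ≤ H := sup_le h₁ h₂
  have hp : IsPGroup p (⁅E₁, E₂⁆ : Subgroup G) := by
    refine isPGroup_of_quadratic hV (hAE.trans (hEH.trans hHV)) ?_ hq
    exact eq_bot_iff.2 (hf ▸ inf_le_inf_right _ (hAE.trans hEH))
  refine le_map_pCore_of_sn ?_ hp
  refine (H11.SN.of_le_normalizer hAE (sup_le ?_ ?_)).trans (hs₁.sup hs₂)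
  · exact Subgroup.normalizer_commutator_ge_left E₁ E₂
  · exact Subgroup.normalizer_commutator_ge_right E₁ E₂

end H12
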