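import Mathlib
import Cfsg.Agent.H12.WS
import Cfsg.Agent.H12.Succ
import Cfsg.Agent.H1.CoprimeAbelian

/-! Failure of factorization modules (Kurzweil–Stellmacher 9.3), part 1: 9.3.1 and 9.3.4. -/

open Subgroup Cfsg Pointwise

namespace H12

variable {G : Type*} [Group G] {p : ℕ}

theorem mul_card_le_of_lt [Finite G] [hp : Fact p.Prime] {H K : Subgroup G} (hK : IsPGroup p K)
    (h : H < K) : p * Nat.card H ≤ Nat.card K := by
  obtain ⟨k, hk⟩ := IsPGroup.iff_card.1 hK
  obtain ⟨l, hl⟩ := IsPGroup.iff_card.1 (hK.to_le h.le)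
  have := H2.card_lt_of_lt h
  rw [hk, hl] at this ⊢
  rw [← pow_succ']
  exact Nat.pow_le_pow_right hp.out.pos ((Nat.pow_lt_pow_iff_right hp.out.one_lt).1 this)

theorem card_zpowers_eq_prime [hp : Fact p.Prime] {a : G} (h : a ^ p = 1) (h1 : a ≠ 1) :
    Nat.card (zpowers a) = p := by
  rw [Nat.card_zpowers]; exact orderOf_eq_prime h h1

theorem eq_bot_or_eq_of_card_prime {A B : Subgroup G} (hA : (Nat.card A).Prime) (h : B ≤ A) :
    B = ⊥ ∨ B = A := by
  rcases (Nat.dvd_prime hA).1 (card_dvd_of_le h) with h1 | h1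
  · exact Or.inl (card_eq_one.1 h1)
  · haveI : Finite A := Nat.finite_of_card_ne_zero hA.ne_zero
    exact Or.inr (eq_of_le_of_card_ge h h1.ge)

theorem eq_zpowers_of_card_prime {A : Subgroup G} (hA : (Nat.card A).Prime) {a : G} (ha : a ∈ A)
    (h1 : a ≠ 1) : A = zpowers a :=
  ((eq_bot_or_eq_of_card_prime hA (zpowers_le.2 ha)).resolve_left (by simpa using h1)).symm

theorem exists_eq_zpowers_of_card_prime {A : Subgroup G} (hA : (Nat.card A).Prime) :
    ∃ a ∈ A, a ≠ 1 ∧ A = zpowers a := by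
  have : A ≠ ⊥ := fun h => by rw [h, card_bot] at hA; exact Nat.not_prime_one hA
  obtain ⟨⟨a, ha⟩, h1⟩ := ne_bot_iff_exists_ne_one.1 this
  have h1' : a ≠ 1 := fun h => h1 (Subtype.ext h)
  exact ⟨a, ha, h1', eq_zpowers_of_card_prime hA ha h1'⟩

theorem isPGroup_of_card_eq {A : Subgroup G} (hA : Nat.card A = p) : IsPGroup p A :=
  IsPGroup.of_card (n := 1) (by rw [hA, pow_one])

theorem exists_iSupIndep_of_prime_card [Finite G] (𝒮 : Set (Subgroup G))
    (h : ∀ B ∈ 𝒮, (Nat.card B).Prime) :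
    ∃ (k : ℕ) (B : Fin k → Subgroup G), (∀ i, B i ∈ 𝒮) ∧ iSupIndep B ∧ ⨆ i, B i = sSup 𝒮 := by
  classical
  obtain ⟨F, ⟨hF, hsup⟩, hmin⟩ := Set.exists_min_image
    {F : Finset (Subgroup G) | (∀ B ∈ F, B ∈ 𝒮) ∧ sSup (F : Set (Subgroup G)) = sSup 𝒮}
    Finset.card (Set.toFinite _) ⟨(Set.toFinite 𝒮).toFinset, by simp, by simp⟩
  refine ⟨F.card, fun i => (F.equivFin.symm i : Subgroup G), fun i => hF _ (F.equivFin.symm i).2,
    fun i => ?_, ?_⟩
  · rw [disjoint_iff]
    rcases eq_bot_or_eq_of_card_prime (h _ (hF _ (F.equivFin.symm i).2)) (inf_le_left :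
      (F.equivFin.symm i : Subgroup G) ⊓ (⨆ j, ⨆ (_ : j ≠ i), (F.equivFin.symm j : Subgroup G)) ≤ _)
      with h1 | h1
    · exact h1
    · exfalso
      have h2 : (⨆ j, ⨆ (_ : j ≠ i), (F.equivFin.symm j : Subgroup G)) ≤
          sSup (F.erase (F.equivFin.symm i) : Set (Subgroup G)) := by
        refine iSup₂_le fun j hj => le_sSup ?_
        refine Finset.mem_coe.2 (Finset.mem_erase.2 ⟨fun he => hj ?_, (F.equivFin.symm j).2⟩)
        exact F.equivFin.symm.injective (Subtype.ext he)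
      have h3 := hmin (F.erase (F.equivFin.symm i)) ⟨fun B hB => hF B (Finset.mem_of_mem_erase hB),
        le_antisymm (sSup_le_sSup fun B hB => hF B (Finset.mem_of_mem_erase hB)) (by
          rw [← hsup]
          refine sSup_le fun B hB => ?_
          by_cases hBi : B = F.equivFin.symm i
          · rw [hBi]; exact (inf_eq_left.1 h1).trans h2
          · exact le_sSup (Finset.mem_coe.2 (Finset.mem_erase.2 ⟨hBi, hB⟩)))⟩
      exact (Finset.card_erase_lt_of_mem (F.equivFin.symm i).2).not_ge h3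
  · rw [← hsup]
    refine le_antisymm (iSup_le fun i => le_sSup (F.equivFin.symm i).2) (sSup_le fun B hB => ?_)
    exact le_iSup_of_le (F.equivFin ⟨B, hB⟩) (by simp)

theorem mem_of_coprime_of_mem_sup [Finite G] {R A : Subgroup G} (hAR : A ≤ normalizer (R : Set G))
    (hA : IsPGroup p A) {u : G} (hu : u ∈ A ⊔ R) (ho : (orderOf u).Coprime p) : u ∈ R := by
  obtain ⟨a, ha, r, hr, rfl⟩ := (H13.mem_sup_of_le_normalizer hAR).1 hu
  obtain ⟨k, hk⟩ := H13.isPGroup_iff_forall_mem.1 hA a ha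
  have key : ∀ n : ℕ, (a ^ n)⁻¹ * (a * r) ^ n ∈ R := by
    intro n
    induction n with
    | zero => simp
    | succ n ih =>
      have := mul_mem (H13.conj_mem_of_mem_normalizer' (hAR ha) ih) hr
      convert this using 1
      rw [pow_succ, pow_succ]; group
  have := key (p ^ k)
  rw [hk, inv_one, one_mul] at this
  exact mem_of_pow_mem_of_coprime (ho.pow_right k) (by rw [pow_orderOf_eq_one]; exact one_mem _)
    this

theorem le_of_isPGroup_of_le_sup [Finite G] [hp : Fact p.Prime] {Q A N : Subgroup G}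
    (hQ : (Nat.card Q).Coprime p) (hAQ : A ≤ normalizer (Q : Set G)) (hA : IsPGroup p A)
    (hN : IsPGroup p N) (hle : N ≤ A ⊔ Q) (hAN : A ≤ normalizer (N : Set G)) : N ≤ A := by
  have h1 := H2.card_sup_of_disjoint hAQ (H13.inf_eq_bot_of_isPGroup_of_coprime hA hQ)
  have h2 := H2.card_mul_relIndex (le_sup_left : A ≤ A ⊔ Q)
  have h3 : A.relIndex (A ⊔ Q) = Nat.card Q :=
    Nat.eq_of_mul_eq_mul_left Nat.card_pos (h2.trans h1)
  have := H13.eq_of_not_dvd_relIndex (L := A ⊔ Q) (by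
    rw [h3]; exact (Nat.Prime.coprime_iff_not_dvd hp.out).1 hQ.symm)
    (H13.isPGroup_sup_of_le_normalizer hA hN hAN) (sup_le le_sup_left hle) le_sup_left
  rw [← this]
  exact le_sup_right

theorem SN.exists_lt {H K : Subgroup G} (h : H11.SN H K) (hne : H ≠ K) :
    ∃ M, H ≤ M ∧ M < K ∧ K ≤ normalizer (M : Set G) := by
  induction h with
  | refl => exact absurd rfl hne
  | @tail B C h1 h2 ih =>
    rcases h2.1.eq_or_lt with he | hlt
    · subst he; exact ih hne
    · exact ⟨B, H11.SN.le h1, hlt, h2.2⟩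

/-- `O_{p'}(H)` in the ambient group -/
abbrev OP (p : ℕ) (H : Subgroup G) : Subgroup G := (pPrimeCore p H).map H.subtype

theorem OP_le (H : Subgroup G) : OP p H ≤ H := map_subtype_le _

theorem OP_coprime [Finite G] (H : Subgroup G) : (Nat.card (OP p H)).Coprime p := by
  rw [H2.card_map_subtype]; exact H2.pPrimeCore_coprime p H

theorem normalizer_le_normalizer_OP (H : Subgroup G) :
    normalizer (H : Set G) ≤ normalizer (OP p H : Set G) :=
  H3.normalizer_le_normalizer_map_of_characteristic _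

theorem le_normalizer_OP (H : Subgroup G) : H ≤ normalizer (OP p H : Set G) :=
  H13.le_normalizer_map_subtype _

/-- Hypotheses (S1), (S2) of Kurzweil–Stellmacher 9.3. -/
structure FF (p : ℕ) (V H : Subgroup G) : Prop where
  ea : IsElementaryAbelian p V
  norm : H ≤ normalizer (V : Set G)
  faith : H ⊓ centralizer (V : Set G) = ⊥
  s1 : H ⊓ centralizer (OP p H : Set G) ≤ OP p H

theorem FF.mk' {V H : Subgroup G} (hV : IsElementaryAbelian p V) (hHV : H ≤ normalizer (V : Set G))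
    (hf : H ⊓ centralizer (V : Set G) = ⊥)
    (hS1 : centralizer (pPrimeCore p H : Set H) ≤ pPrimeCore p H) : FF p V H := by
  refine ⟨hV, hHV, hf, fun x hx => ⟨⟨x, hx.1⟩, hS1 ?_, rfl⟩⟩
  exact mem_centralizer_iff.2 fun y hy =>
    Subtype.ext (mem_centralizer_iff.1 hx.2 _ (mem_map_of_mem _ hy))

theorem FF.eq_bot_of_le_centralizer {V H A : Subgroup G} (h : FF p V H) (hA : A ≤ H)
    (hc : A ≤ centralizer (V : Set G)) : A = ⊥ := eq_bot_iff.2 (h.faith ▸ le_inf hA hc)

theorem FF.ea_of_bestOffender {V H A : Subgroup G} (h : FF p V H) (hAH : A ≤ H)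
    (hA : IsBestOffenderOn p V A) : IsElementaryAbelian p A := by
  refine isEA_iff'.2 ⟨commutator_eq_bot_iff'.1 (h.eq_bot_of_le_centralizer
    ((commutator_le_self_of_le_normalizer le_normalizer).trans hAH) hA.2.1), fun a ha => ?_⟩
  exact mem_bot.1 (h.faith ▸ mem_inf.2 ⟨pow_mem (hAH ha) p, hA.2.2 a ha⟩)

theorem FF.eq_bot_of_isPGroup [Finite G] {V H A : Subgroup G} (h : FF p V H) (hAH : A ≤ H)
    (hA : IsPGroup p A) (hc : OP p H ≤ centralizer (A : Set G)) : A = ⊥ :=
  H13.eq_bot_of_isPGroup_of_le_coprime hA (OP_coprime H)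
    ((le_inf hAH (le_centralizer_symm hc)).trans h.s1)

/-- a `p`-subgroup of `H` normalized by `O_{p'}(H)` is trivial -/
theorem FF.eq_bot_of_normalized [Finite G] {V H N : Subgroup G} (h : FF p V H) (hNH : N ≤ H)
    (hN : IsPGroup p N) (hn : OP p H ≤ normalizer (N : Set G)) : N = ⊥ := by
  refine h.eq_bot_of_isPGroup hNH hN (commutator_eq_bot_iff'.1 (eq_bot_iff.2 ?_))
  rw [← H13.inf_eq_bot_of_isPGroup_of_coprime hN (OP_coprime H)]
  refine le_inf (commutator_le_self_of_le_normalizer hn) ?_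
  rw [commutator_comm]
  exact commutator_le_self_of_le_normalizer (hNH.trans (le_normalizer_OP H))

theorem FF.pCore_eq_bot [Finite G] {V H : Subgroup G} (h : FF p V H) :
    (pCore p H).map H.subtype = ⊥ :=
  h.eq_bot_of_normalized (map_subtype_le _) ((H2.pCore_isPGroup p H).map _)
    ((OP_le H).trans (H13.le_normalizer_map_subtype _))

/-- subgroups normalized by `O_{p'}(H)` act faithfully on `[V, L]` -/
theorem FF.inf_centralizer_commutator [Finite G] {V H L : Subgroup G} (h : FF p V H) (hL : L ≤ H)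
    (hn : OP p H ≤ normalizer (L : Set G)) :
    L ⊓ centralizer ((⁅V, L⁆ : Subgroup G) : Set G) = ⊥ := by
  refine h.eq_bot_of_normalized (inf_le_left.trans hL) ?_ (H13.le_normalizer_inf hn
    (H13.le_normalizer_centralizer (H13.le_normalizer_commutator ((OP_le H).trans h.norm) hn)))
  refine isPGroup_of_quadratic h.ea.2 (inf_le_left.trans (hL.trans h.norm))
    (h.eq_bot_of_le_centralizer (inf_le_left.trans (inf_le_left.trans hL)) inf_le_right) ?_
  exact commutator_eq_bot_iff'.2 (inf_le_right.trans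
    (H13.centralizer_anti (commutator_mono le_rfl inf_le_left)))

variable [Finite G] [hp : Fact p.Prime]

theorem FF.step {V H A B : Subgroup G} (h : FF p V H) (hAH : A ≤ H)
    (hA : IsBestOffenderOn p V A) (hBA : B ≤ A) {a : G} (ha : a ∈ A) (hle : A ≤ B ⊔ zpowers a)
    (hne : ¬ OP p H ⊓ centralizer (B : Set G) ≤ centralizer (A : Set G)) :
    Nat.card A ≤ p * Nat.card B ∧ meas V A ≤ meas V B := by
  have hea := h.ea_of_bestOffender hAH hA
  have h1 : Nat.card A ≤ p * Nat.card B := by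
    refine (card_le_of_le hle).trans ((Nat.le_of_dvd (Nat.mul_pos Nat.card_pos Nat.card_pos)
      (H2.card_sup_dvd_of_le_normalizer
        (le_normalizer_of_le_of_comm hea.1 hBA (zpowers_le.2 ha)))).trans ?_)
    rw [mul_comm, Nat.card_zpowers]
    exact Nat.mul_le_mul_right _ (orderOf_le_of_pow_eq_one hp.out.pos (hea.2 a ha))
  refine ⟨h1, ?_⟩
  have h2 : V ⊓ centralizer (A : Set G) < V ⊓ centralizer (B : Set G) := by
    refine lt_of_le_of_ne (inf_le_inf_left _ (H13.centralizer_anti hBA)) fun he => hne ?_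
    set C := OP p H ⊓ centralizer (B : Set G)
    have hAC : A ≤ normalizer (C : Set G) := H13.le_normalizer_inf
      (hAH.trans (le_normalizer_OP H))
      (H13.le_normalizer_centralizer (le_normalizer_of_le_of_comm hea.1 le_rfl hBA))
    have hR : ⁅C, A⁆ ≤ C := commutator_le_self_of_le_normalizer hAC
    have hRH : ⁅C, A⁆ ≤ H := hR.trans (inf_le_left.trans (OP_le H))
    have hCn : C ≤ normalizer ((centralizer ((V ⊓ centralizer (B : Set G) : Subgroup G) : Set G) :
        Subgroup G) : Set G) := H13.le_normalizer_centralizer (H13.le_normalizer_inf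
      (inf_le_left.trans ((OP_le H).trans h.norm))
      (H13.le_normalizer_centralizer (H13.le_normalizer_of_le_centralizer inf_le_right)))
    have hRc : ⁅C, A⁆ ≤ centralizer ((V ⊓ centralizer (B : Set G) : Subgroup G) : Set G) := by
      rw [commutator_comm]
      refine (commutator_mono ?_ le_rfl).trans (commutator_le_self_of_le_normalizer hCn)
      rw [← he]
      exact le_centralizer_symm inf_le_right
    have := H13.p_times_q (ea_isPGroup (ea_of_le hea hBA))
      ((OP_coprime H).coprime_dvd_left (card_dvd_of_le (hR.trans inf_le_left)))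
      (le_centralizer_symm (hR.trans inf_le_right)) V (ea_isPGroup h.ea)
      (hBA.trans (hAH.trans h.norm)) (hRH.trans h.norm) (le_centralizer_symm hRc)
    exact le_centralizer_symm (commutator_eq_bot_iff'.1 (h.eq_bot_of_le_centralizer hRH this))
  have h3 := mul_card_le_of_lt ((ea_isPGroup h.ea).to_le inf_le_left) h2
  calc meas V A ≤ (p * Nat.card B) * Nat.card ↥(V ⊓ centralizer (A : Set G)) :=
        Nat.mul_le_mul_right _ h1
    _ = Nat.card B * (p * Nat.card ↥(V ⊓ centralizer (A : Set G))) := by ring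
    _ ≤ _ := Nat.mul_le_mul_left _ h3

/-- best offenders of order `p` in `H` -/
def Off (p : ℕ) (V H A : Subgroup G) : Prop :=
  A ≤ H ∧ IsBestOffenderOn p V A ∧ Nat.card A = p

theorem FF.meas_eq_and_le_sSup {V H : Subgroup G} (h : FF p V H) (n : ℕ) :
    ∀ A : Subgroup G, Nat.card A = n → A ≤ H → IsBestOffenderOn p V A →
      meas V A = Nat.card V ∧ A ≤ sSup {B | B ≤ A ∧ Off p V H B} := by
  induction n using Nat.strong_induction_on with
  | _ n ih =>
  intro A hn hAH hA
  by_cases hA1 : A = ⊥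
  · subst hA1
    refine ⟨?_, bot_le⟩
    rw [meas, card_bot, one_mul, inf_eq_left.2 (le_centralizer_symm bot_le)]
  have hea := h.ea_of_bestOffender hAH hA
  haveI := hea.1
  have hAp := ea_isPGroup hea
  have hcop : (Nat.card A).Coprime (Nat.card (OP p H)) := by
    obtain ⟨k, hk⟩ := IsPGroup.iff_card.1 hAp
    rw [hk]; exact (OP_coprime H).symm.pow_left k
  -- for every nontrivial `B₀ ≤ A` there is a good hyperplane not containing `B₀`
  have key : ∀ B₀ ≤ A, B₀ ≠ ⊥ → ∃ B ≤ A, ¬ B₀ ≤ B ∧ (∃ a ∈ A, A ≤ B ⊔ zpowers a) ∧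
      Nat.card A ≤ p * Nat.card B ∧
      meas V A = Nat.card V ∧ B ≤ sSup {B | B ≤ A ∧ Off p V H B} := by
    intro B₀ hB₀ hB₀1
    by_contra hcon
    push Not at hcon
    refine hB₀1 (h.eq_bot_of_isPGroup (hB₀.trans hAH) (hAp.to_le hB₀) ?_)
    refine H1.le_of_centralizer_cocyclic_le A _ _ (hAH.trans (le_normalizer_OP H)) hcop ?_
    rintro B hBA ⟨a, ha, hle⟩
    by_contra hne
    have hB₀B : ¬ B₀ ≤ B := fun hle' => hne (inf_le_right.trans (H13.centralizer_anti hle'))
    obtain ⟨h1, h2⟩ := h.step hAH hA hBA ha hle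
      (fun hh => hne (hh.trans (H13.centralizer_anti hB₀)))
    have hlt : B < A := lt_of_le_of_ne hBA fun he => hB₀B (he ▸ hB₀)
    obtain ⟨h3, h4⟩ := ih _ (hn ▸ H2.card_lt_of_lt hlt) B rfl (hBA.trans hAH)
      (bestOffender_of_meas_eq hA hBA h2)
    refine hcon B hBA hB₀B ⟨a, ha, hle⟩ h1 ((le_antisymm h2 (hA.1 B hBA)).trans h3)
      (h4.trans (sSup_le_sSup fun C hC => ⟨hC.1.trans hBA, hC.2⟩))
  obtain ⟨B, hBA, -, ⟨a, ha, hle⟩, -, hm, hB⟩ := key A le_rfl hA1
  refine ⟨hm, ?_⟩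
  by_cases hB1 : B = ⊥
  · rw [hB1, bot_sup_eq] at hle
    have he : A = zpowers a := le_antisymm hle (zpowers_le.2 ha)
    refine le_sSup ⟨le_rfl, hAH, hA, ?_⟩
    rw [he]
    exact card_zpowers_eq_prime (hea.2 a ha) fun h1 => hA1 (by rw [he, h1, zpowers_one_eq_bot])
  · obtain ⟨B', hB'A, hBB', -, hc, -, hB'⟩ := key B hBA hB1
    have hlt : B' < B ⊔ B' := lt_of_le_of_ne le_sup_right fun he => hBB' (he ▸ le_sup_left)
    have := mul_card_le_of_lt (hAp.to_le (sup_le hBA hB'A)) hlt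
    exact (eq_of_le_of_card_ge (sup_le hBA hB'A) (hc.trans this)).ge.trans (sup_le hB hB')

theorem FF.meas_eq {V H A : Subgroup G} (h : FF p V H) (hAH : A ≤ H)
    (hA : IsBestOffenderOn p V A) : meas V A = Nat.card V :=
  (h.meas_eq_and_le_sSup _ A rfl hAH hA).1

theorem FF.eq_sSup {V H A : Subgroup G} (h : FF p V H) (hAH : A ≤ H)
    (hA : IsBestOffenderOn p V A) : sSup {B | B ≤ A ∧ Off p V H B} = A :=
  le_antisymm (sSup_le fun _ hB => hB.1) (h.meas_eq_and_le_sSup _ A rfl hAH hA).2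

omit [Finite G] in
theorem Off.ne_bot {V H A : Subgroup G} (hA : Off p V H A) : A ≠ ⊥ := fun h => by
  have := hA.2.2
  rw [h, card_bot] at this
  exact hp.out.one_lt.ne this

omit [Finite G] in
theorem Off.prime {V H A : Subgroup G} (hA : Off p V H A) : (Nat.card A).Prime :=
  hA.2.2 ▸ hp.out

omit [Finite G] hp in
theorem Off.isPGroup {V H A : Subgroup G} (hA : Off p V H A) : IsPGroup p A :=
  isPGroup_of_card_eq hA.2.2

omit [Finite G] in
theorem FF.commutator_ne_bot {V H A : Subgroup G} (h : FF p V H) (hA : Off p V H A) :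
    ⁅V, A⁆ ≠ ⊥ := fun hb =>
  hA.ne_bot (h.eq_bot_of_le_centralizer hA.1 (commutator_eq_bot_iff'.1 hb))

omit [Finite G] in
theorem Off.min {V H A : Subgroup G} (hA : Off p V H A) (B : Subgroup G) (hB : B ≤ A)
    (hne : ⁅V, B⁆ ≠ ⊥) : B = A :=
  (eq_bot_or_eq_of_card_prime hA.prime hB).resolve_left fun h => hne (by simp [h])

theorem FF.off_of_min {V H A : Subgroup G} (h : FF p V H) (hAH : A ≤ H)
    (hA : IsBestOffenderOn p V A) (hne : ⁅V, A⁆ ≠ ⊥)
    (hmin : ∀ B : Subgroup G, B ≤ A → IsBestOffenderOn p V B → ⁅V, B⁆ ≠ ⊥ → B = A) :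
    Off p V H A := by
  by_contra hcon
  refine hne ?_
  rw [← h.eq_sSup hAH hA, sSup_eq_bot.2, commutator_bot_right]
  rintro B ⟨hBA, hB⟩
  exact absurd (hmin B hBA hB.2.1 (h.commutator_ne_bot hB) ▸ hB) hcon

theorem FF.off_iff {V H A : Subgroup G} (h : FF p V H) : Off p V H A ↔
    A ≤ H ∧ IsBestOffenderOn p V A ∧ ⁅V, A⁆ ≠ ⊥ ∧
      ∀ B : Subgroup G, B ≤ A → IsBestOffenderOn p V B → ⁅V, B⁆ ≠ ⊥ → B = A :=
  ⟨fun hA => ⟨hA.1, hA.2.1, h.commutator_ne_bot hA, fun B hB _ hne => hA.min B hB hne⟩,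
    fun hA => h.off_of_min hA.1 hA.2.1 hA.2.2.1 hA.2.2.2⟩

theorem FF.relIndex_eq {V H A : Subgroup G} (h : FF p V H) (hA : Off p V H A) :
    (V ⊓ centralizer (A : Set G)).relIndex V = p := by
  have h1 := h.meas_eq hA.1 hA.2.1
  rw [meas, hA.2.2, ← H2.card_mul_relIndex (inf_le_left : V ⊓ centralizer (A : Set G) ≤ V),
    mul_comm] at h1
  exact (Nat.eq_of_mul_eq_mul_left Nat.card_pos h1).symm

theorem FF.card_commutator {V H A : Subgroup G} (h : FF p V H) (hA : Off p V H A) :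
    Nat.card (⁅V, A⁆ : Subgroup G) = p := by
  have h1 := h.relIndex_eq hA
  obtain ⟨a, ha, -, he⟩ := exists_eq_zpowers_of_card_prime hA.prime
  haveI := h.ea.1
  rw [inf_relIndex_left] at h1
  rw [← h1, he]
  exact card_commutator_zpowers_eq_relIndex V (h.norm (hA.1 ha))

theorem FF.quadratic {V H A : Subgroup G} (h : FF p V H) (hA : Off p V H A) :
    ⁅⁅V, A⁆, A⁆ = ⊥ := by
  have hc := h.card_commutator hA
  have := H13.commutator_lt_of_isPGroup (isPGroup_of_card_eq hc) hA.isPGroup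
    (normalizer_commutator_ge_right _ _) (h.commutator_ne_bot hA)
  exact (eq_bot_or_eq_of_card_prime (hc ▸ hp.out) this.le).resolve_right this.ne

omit [Finite G] hp in
theorem bestOffender_conj {V A : Subgroup G} (hA : IsBestOffenderOn p V A) {x : G}
    (hx : x ∈ normalizer (V : Set G)) : IsBestOffenderOn p V (MulAut.conj x • A) := by
  have hV := H3.conj_smul_eq_iff.2 hx
  have hm : ∀ B : Subgroup G, meas V (MulAut.conj x • B) = meas V B := fun B => by
    unfold meas
    rw [H3.card_conj_smul, ← H3.conj_smul_centralizer]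
    conv_lhs => rw [← hV, ← H3.conj_smul_inf, H3.card_conj_smul]
  have hC : MulAut.conj x • centralizer (V : Set G) = centralizer (V : Set G) := by
    rw [H3.conj_smul_centralizer, hV]
  refine ⟨fun B hB => ?_, ?_, fun a ha => ?_⟩
  · have h1 := hA.1 (MulAut.conj x⁻¹ • B) (by
      rw [← H3.conj_smul_le_conj_smul_iff (g := x), H3.conj_smul_conj_inv_smul]; exact hB)
    have h2 := hm (MulAut.conj x⁻¹ • B)
    rw [H3.conj_smul_conj_inv_smul] at h2
    exact h2.le.trans (h1.trans (hm A).ge)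
  · rw [← H3.conj_smul_commutator, ← hC]
    exact H3.conj_smul_mono hA.2.1
  · rw [← hC, H3.mem_conj_smul]
    have := hA.2.2 _ (H3.mem_conj_smul.1 ha)
    have e : (x⁻¹ * a * x) ^ p = x⁻¹ * a ^ p * x := by
      simpa using conj_pow (a := x⁻¹) (b := a) (i := p)
    rwa [e] at this

omit [Finite G] hp in
theorem Off.conj {V H A : Subgroup G} (hA : Off p V H A) {x : G}
    (hxV : x ∈ normalizer (V : Set G)) (hxH : x ∈ normalizer (H : Set G)) :
    Off p V H (MulAut.conj x • A) :=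
  ⟨(H3.conj_smul_mono hA.1).trans (H3.conj_smul_eq_iff.2 hxH).le, bestOffender_conj hA.2.1 hxV,
    (H3.card_conj_smul _ _).trans hA.2.2⟩

end H12
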