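import Mathlib
import Cfsg.Agent.H12.FF1

/-! Failure of factorization modules, part 2: Kurzweil–Stellmacher 9.3.4. -/

open Subgroup Cfsg Pointwise

namespace H12

variable {G : Type*} [Group G] {p : ℕ}

/-- `E` acts irreducibly on `W`. -/
def Irr (W E : Subgroup G) : Prop :=
  ∀ U : Subgroup G, U ≤ W → E ≤ normalizer (U : Set G) → U = ⊥ ∨ U = W

theorem Irr.conj {W E : Subgroup G} (h : Irr W E) (g : G) :
    Irr (MulAut.conj g • W) (MulAut.conj g • E) := by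
  intro U hU hE
  have := h (MulAut.conj g⁻¹ • U) (by
    rw [← H3.conj_smul_le_conj_smul_iff (g := g), H3.conj_smul_conj_inv_smul]; exact hU) (by
    rw [← H3.conj_smul_le_conj_smul_iff (g := g), H3.conj_smul_normalizer,
      H3.conj_smul_conj_inv_smul]; exact hE)
  rcases this with h1 | h1
  · left
    rw [← H3.conj_smul_conj_inv_smul g U, h1, smul_bot]
  · right
    rw [← h1, H3.conj_smul_conj_inv_smul]

theorem card_le_two_of_subset_pair {E : Subgroup G} {h : G} (hE : ∀ x ∈ E, x = 1 ∨ x = h) :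
    Nat.card E ≤ 2 := by
  have : (E : Set G) ⊆ {1, h} := fun x hx => hE x hx
  have h1 := Set.ncard_le_ncard this (Set.toFinite _)
  have h2 := Set.ncard_insert_le (1 : G) {h}
  rw [Set.ncard_singleton] at h2
  exact h1.trans h2

theorem commutator_eq_of_pair_aux [Finite G] {V H : Subgroup G} (hV : IsElementaryAbelian p V)
    (hHV : H ≤ normalizer (V : Set G)) (hf : H ⊓ centralizer (V : Set G) = ⊥)
    (hO : (pCore p H).map H.subtype = ⊥) (n : ℕ) :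
    ∀ E₁ E₂ : Subgroup G, Nat.card ↥(E₁ ⊔ E₂) = n → H11.SN E₁ H → H11.SN E₂ H →
      Irr ⁅V, E₁⁆ E₁ → Irr ⁅V, E₂⁆ E₂ → ¬ ⁅V, E₁⁆ ≤ ⁅V, E₂⁆ → ¬ ⁅V, E₂⁆ ≤ ⁅V, E₁⁆ →
      2 < Nat.card E₁ → 2 < Nat.card E₂ → ⁅E₁, E₂⁆ = ⊥ ∧ ⁅V, E₁⁆ ⊓ ⁅V, E₂⁆ = ⊥ := by
  induction n using Nat.strong_induction_on with
  | _ n ih =>
  -- a quadratically acting subnormal subgroup is trivial
  have hquad : ∀ N : Subgroup G, H11.SN N H → ⁅⁅V, N⁆, N⁆ = ⊥ → N = ⊥ := fun N hN hq =>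
    eq_bot_iff.2 (hO ▸ le_map_pCore_of_sn hN (isPGroup_of_quadratic hV.2 (hN.le.trans hHV)
      (eq_bot_iff.2 (hf ▸ inf_le_inf_right _ hN.le)) hq))
  -- consequences of the induction hypothesis when `E₂` does not normalize `V₁`
  have stepA : ∀ E₁ E₂ : Subgroup G, Nat.card ↥(E₁ ⊔ E₂) = n → H11.SN E₁ H → H11.SN E₂ H →
      Irr ⁅V, E₁⁆ E₁ → ¬ ⁅V, E₂⁆ ≤ ⁅V, E₁⁆ → 2 < Nat.card E₁ →
      ∀ h ∈ E₂, h ∉ normalizer ((⁅V, E₁⁆ : Subgroup G) : Set G) →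
        ⁅V, E₁⁆ ⊓ MulAut.conj h • ⁅V, E₁⁆ = ⊥ ∧
        E₁ ≤ centralizer ((MulAut.conj h • ⁅V, E₁⁆ : Subgroup G) : Set G) := by
    intro E₁ E₂ hn s₁ s₂ i₁ h21 c₁ h hh hN
    have hhV := hHV (s₂.le hh)
    have e : MulAut.conj h • ⁅V, E₁⁆ = ⁅V, MulAut.conj h • E₁⁆ := by
      rw [H3.conj_smul_commutator, H3.conj_smul_eq_iff.2 hhV]
    obtain ⟨M, hM1, hM2, hM3⟩ := SN.exists_lt (s₁.of_le le_sup_left (sup_le s₁.le s₂.le))
      (fun he => h21 (commutator_mono le_rfl (he ▸ le_sup_right)))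
    have hM4 : MulAut.conj h • E₁ ≤ M :=
      (H3.conj_smul_mono hM1).trans (H3.conj_smul_eq_iff.2 (hM3 (mem_sup_right hh))).le
    have s₁' : H11.SN (MulAut.conj h • E₁) H := by
      have := s₁.conj h
      rwa [H3.conj_smul_eq_of_mem (s₂.le hh)] at this
    have hne : ¬ MulAut.conj h • ⁅V, E₁⁆ ≤ ⁅V, E₁⁆ := fun hle =>
      hN (H3.mem_normalizer_of_conj_smul_le hle)
    obtain ⟨h1, h2⟩ := ih _ (hn ▸ (card_le_of_le (sup_le hM1 hM4)).trans_lt (H2.card_lt_of_lt hM2))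
      E₁ _ rfl s₁ s₁' i₁ (e ▸ i₁.conj h) (by
        rw [← e]
        intro hle
        exact hne (eq_of_le_of_card_ge hle (H3.card_conj_smul _ _).le).ge) (e ▸ hne) c₁
      (by rwa [H3.card_conj_smul])
    rw [← e] at h2
    refine ⟨h2, commutator_eq_bot_iff'.1 (eq_bot_iff.2 (h2 ▸ le_inf ?_ ?_))⟩
    · refine commutator_mono ?_ le_rfl
      rw [e]; exact commutator_le_self_of_le_normalizer (s₁'.le.trans hHV)
    · refine commutator_le_self_of_le_normalizer ?_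
      rw [e]
      refine H13.le_normalizer_commutator (s₁.le.trans hHV) ?_
      exact H13.le_normalizer_of_le_centralizer (commutator_eq_bot_iff_le_centralizer.1 h1)
  have stepB : ∀ E₁ E₂ : Subgroup G, Nat.card ↥(E₁ ⊔ E₂) = n → H11.SN E₁ H → H11.SN E₂ H →
      Irr ⁅V, E₁⁆ E₁ → ¬ ⁅V, E₁⁆ ≤ ⁅V, E₂⁆ → ¬ ⁅V, E₂⁆ ≤ ⁅V, E₁⁆ → 2 < Nat.card E₁ →
      ∀ h ∈ E₂, h ∉ normalizer ((⁅V, E₁⁆ : Subgroup G) : Set G) →
        ¬ E₁ ≤ normalizer ((⁅V, E₂⁆ : Subgroup G) : Set G) ∧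
        ∃ D ≤ ⁅V, E₂⁆, D ≤ MulAut.conj h • ⁅V, E₁⁆ ⊔ ⁅V, E₁⁆ ∧ D ⊓ ⁅V, E₁⁆ = ⊥ ∧
          Nat.card D = Nat.card (⁅V, E₁⁆ : Subgroup G) := by
    intro E₁ E₂ hn s₁ s₂ i₁ h12 h21 c₁ h hh hN
    obtain ⟨a1, a2⟩ := stepA E₁ E₂ hn s₁ s₂ i₁ h21 c₁ h hh hN
    have hhV := hHV (s₂.le hh)
    have hV₁ : ⁅V, E₁⁆ ≤ V := commutator_le_self_of_le_normalizer (s₁.le.trans hHV)
    have hV₂ : ⁅V, E₂⁆ ≤ V := commutator_le_self_of_le_normalizer (s₂.le.trans hHV)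
    set V₁ := ⁅V, E₁⁆ with hV₁d
    have hone : ∀ v ∈ V₁, h * v * h⁻¹ ∈ V₁ → v = 1 := fun v hv hv' => by
      have : h * v * h⁻¹ ∈ V₁ ⊓ MulAut.conj h • V₁ := ⟨hv', H3.conj_mem_conj_smul.2 hv⟩
      rw [a1, mem_bot] at this
      simpa using this
    haveI := hV.1
    refine ⟨fun hn' => h12 ?_, (V₁.subgroupOf V).map (commHom V h hhV), ?_, ?_, ?_, ?_⟩
    · have hE₁ : E₁ ≤ normalizer (V₁ : Set G) := normalizer_commutator_ge_right _ _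
      rcases i₁ ⁅V₁, E₁⁆ (commutator_le_self_of_le_normalizer hE₁)
        (normalizer_commutator_ge_right _ _) with h1 | h1
      · rw [hquad E₁ s₁ h1, card_bot] at c₁
        omega
      · rw [← h1, commutator_le_iff']
        intro e he v hv
        have hd : h * v⁻¹ * h⁻¹ * v⁻¹⁻¹ ∈ ⁅V, E₂⁆ := comm_mem_commutator (inv_mem (hV₁ hv)) hh
        have hu : h * v⁻¹ * h⁻¹ ∈ V := H13.conj_mem_of_mem_normalizer hhV (inv_mem (hV₁ hv))
        have h3 := H13.conj_mem_of_mem_normalizer' (le_normalizer_of_le_of_comm hV.1 le_rfl hV₂ hu)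
          (mul_mem (H13.conj_mem_of_mem_normalizer (hn' he) hd) (inv_mem hd))
        have h4 := mem_centralizer_iff.1 (a2 he) _ (H3.conj_mem_conj_smul.2 (inv_mem hv))
        convert h3 using 1
        calc e * v * e⁻¹ * v⁻¹
            = (h * v⁻¹ * h⁻¹)⁻¹ * ((h * v⁻¹ * h⁻¹) * e) * v * e⁻¹ * v⁻¹ := by group
          _ = _ := by rw [h4]; group
    · rintro _ ⟨v, -, rfl⟩
      exact comm_mem_commutator v.2 hh
    · rintro _ ⟨v, hv, rfl⟩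
      exact mul_mem (mem_sup_left (H3.conj_mem_conj_smul.2 hv)) (mem_sup_right (inv_mem hv))
    · rw [eq_bot_iff]
      rintro _ ⟨⟨v, hv, rfl⟩, hd⟩
      have := hone v hv (by simpa [commHom_apply] using mul_mem hd hv)
      rw [mem_bot, commHom_apply, this]; simp
    · rw [card_map_of_inf_ker, H2.card_subgroupOf_of_le hV₁]
      rw [eq_bot_iff]
      rintro v ⟨hv, hk⟩
      have hk' : h * v * h⁻¹ * (v : G)⁻¹ = 1 := hk
      exact Subtype.ext (hone v hv (by rw [mul_inv_eq_one.1 hk']; exact hv))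
  intro E₁ E₂ hn s₁ s₂ i₁ i₂ h12 h21 c₁ c₂
  have hV₁ : ⁅V, E₁⁆ ≤ V := commutator_le_self_of_le_normalizer (s₁.le.trans hHV)
  have hV₂ : ⁅V, E₂⁆ ≤ V := commutator_le_self_of_le_normalizer (s₂.le.trans hHV)
  have hn' : Nat.card ↥(E₂ ⊔ E₁) = n := by rwa [sup_comm]
  by_cases hN₂ : E₂ ≤ normalizer ((⁅V, E₁⁆ : Subgroup G) : Set G)
  · have hN₁ : E₁ ≤ normalizer ((⁅V, E₂⁆ : Subgroup G) : Set G) := by
      by_contra hcon
      obtain ⟨h, hh, hN⟩ := SetLike.not_le_iff_exists.1 hcon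
      exact (stepB E₂ E₁ hn' s₂ s₁ i₂ h21 h12 c₂ h hh hN).1 hN₂
    have h1 : ⁅V, E₁⁆ ⊓ ⁅V, E₂⁆ = ⊥ :=
      (i₁ _ inf_le_left (H13.le_normalizer_inf (normalizer_commutator_ge_right _ _)
        hN₁)).resolve_right fun he => h12 (inf_eq_left.1 he)
    refine ⟨eq_bot_iff.2 (hO ▸ commutator_le_pCore_of_succ hV.2 hHV hf s₁ s₂ ?_), h1⟩
    exact eq_bot_iff.2 (h1 ▸ le_inf (commutator_le_self_of_le_normalizer hN₂)
      (commutator_mono hV₁ le_rfl))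
  exfalso
  obtain ⟨h, hh, hN⟩ := SetLike.not_le_iff_exists.1 hN₂
  obtain ⟨h', hh', hN'⟩ := SetLike.not_le_iff_exists.1
    (stepB E₁ E₂ hn s₁ s₂ i₁ h12 h21 c₁ h hh hN).1
  obtain ⟨-, D', hD', -, -, hc'⟩ := stepB E₂ E₁ hn' s₂ s₁ i₂ h21 h12 c₂ h' hh' hN'
  have hcard : Nat.card (⁅V, E₂⁆ : Subgroup G) ≤ Nat.card (⁅V, E₁⁆ : Subgroup G) :=
    hc' ▸ card_le_of_le hD'
  set V₁ := ⁅V, E₁⁆ with hV₁d
  set V₂ := ⁅V, E₂⁆ with hV₂d
  have stepC : ∀ k ∈ E₂, k ∉ normalizer (V₁ : Set G) →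
      V₂ ≤ MulAut.conj k • V₁ ⊔ V₁ ∧ V₂ ⊓ V₁ = ⊥ := fun k hk hkN => by
    obtain ⟨-, D, hD1, hD2, hD3, hD4⟩ := stepB E₁ E₂ hn s₁ s₂ i₁ h12 h21 c₁ k hk hkN
    rw [eq_of_le_of_card_ge hD1 (hcard.trans hD4.ge)] at hD2 hD3
    exact ⟨hD2, hD3⟩
  have hE₂V₂ : E₂ ≤ normalizer (V₂ : Set G) := normalizer_commutator_ge_right _ _
  have hconjle : ∀ k ∈ E₂, MulAut.conj k • V₁ ≤ V₂ ⊔ V₁ := fun k hk =>
    H3.conj_smul_le_iff.2 fun v hv => by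
      have := mul_mem (mem_sup_left (comm_mem_commutator (hV₁ hv) hk) :
        k * v * k⁻¹ * v⁻¹ ∈ V₂ ⊔ V₁) (mem_sup_right hv)
      simpa using this
  -- `V₁ ^ k` does not depend on `k`
  have hC1 : V₁ ⊓ centralizer (E₁ : Set G) = ⊥ := by
    refine (i₁ _ inf_le_left (H13.le_normalizer_inf (normalizer_commutator_ge_right _ _)
      (H13.le_normalizer_centralizer le_normalizer))).resolve_right fun he => ?_
    rw [hquad E₁ s₁ (commutator_eq_bot_iff_le_centralizer.2 (inf_eq_left.1 he)), card_bot] at c₁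
    omega
  have stepD : ∀ k ∈ E₂, k ∉ normalizer (V₁ : Set G) →
      MulAut.conj k • V₁ = (V₂ ⊔ V₁) ⊓ centralizer (E₁ : Set G) := fun k hk hkN => by
    have a2 := le_centralizer_symm (stepA E₁ E₂ hn s₁ s₂ i₁ h21 c₁ k hk hkN).2
    have e : V₂ ⊔ V₁ = MulAut.conj k • V₁ ⊔ V₁ :=
      le_antisymm (sup_le (stepC k hk hkN).1 le_sup_right) (sup_le (hconjle k hk) le_sup_right)
    have hkV : MulAut.conj k • V₁ ≤ V := (hconjle k hk).trans (sup_le hV₂ hV₁)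
    rw [e, H13.inf_sup_of_le_normalizer (le_normalizer_of_le_of_comm hV.1 hkV hV₁) a2, hC1,
      sup_bot_eq]
  have h21' := (stepC h hh hN).2
  have hcent : ∀ k ∈ E₂, ∀ U ≤ V, V₂ ⊓ U = ⊥ → k ∈ normalizer (U : Set G) →
      k ∈ centralizer (U : Set G) := fun k hk U hU hd hkU => by
    refine commutator_eq_bot_iff'.1 (eq_bot_iff.2 (hd ▸ le_inf ?_ ?_)) (mem_zpowers k)
    · exact commutator_mono hU (zpowers_le.2 hk)
    · exact commutator_le_self_of_le_normalizer (zpowers_le.2 hkU)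
  have hfaith : E₂ ⊓ centralizer (V₂ : Set G) = ⊥ := by
    refine hquad _ ((H11.SN.of_le_normalizer inf_le_left (H13.le_normalizer_inf le_normalizer
      (H13.le_normalizer_centralizer hE₂V₂))).trans s₂) (commutator_eq_bot_iff'.2 ?_)
    exact inf_le_right.trans (H13.centralizer_anti (commutator_mono le_rfl inf_le_left))
  have hone : ∀ k ∈ E₂, k ∈ normalizer (V₁ : Set G) → k = 1 := fun k hk hkN => by
    have b1 := hcent k hk V₁ hV₁ h21' hkN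
    have b2 : k ∈ normalizer ((MulAut.conj h • V₁ : Subgroup G) : Set G) := by
      rw [← H3.conj_smul_eq_iff, H3.conj_smul_conj_smul, stepD h hh hN,
        stepD _ (mul_mem hk hh) fun hc => hN (by simpa using mul_mem (inv_mem hkN) hc)]
    have b3 := hcent k hk _ ((hconjle h hh).trans (sup_le hV₂ hV₁)) (by
      rw [← H3.conj_smul_eq_iff.2 (hE₂V₂ hh), ← H3.conj_smul_inf, h21', smul_bot]) b2
    have b4 : k ∈ centralizer (V₂ : Set G) := H13.centralizer_anti (stepC h hh hN).1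
      (H13.le_centralizer_sup (zpowers_le.2 b3) (zpowers_le.2 b1) (mem_zpowers k))
    exact mem_bot.1 (hfaith ▸ mem_inf.2 ⟨hk, b4⟩)
  refine (card_le_two_of_subset_pair (h := h) fun k hk => ?_).not_gt c₂
  by_cases hkN : k ∈ normalizer (V₁ : Set G)
  · exact Or.inl (hone k hk hkN)
  · right
    have := hone (h⁻¹ * k) (mul_mem (inv_mem hh) hk) (by
      rw [← H3.conj_smul_eq_iff, ← H3.conj_smul_conj_smul, stepD k hk hkN, ← stepD h hh hN,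
        H3.conj_inv_smul_conj_smul])
    exact (inv_mul_eq_one.1 this).symm

theorem commutator_eq_bot_of_irr [Finite G] {V H E₁ E₂ : Subgroup G}
    (hV : IsElementaryAbelian p V) (hHV : H ≤ normalizer (V : Set G))
    (hf : H ⊓ centralizer (V : Set G) = ⊥) (hO : (pCore p H).map H.subtype = ⊥)
    (s₁ : H11.SN E₁ H) (s₂ : H11.SN E₂ H) (i₁ : Irr ⁅V, E₁⁆ E₁) (i₂ : Irr ⁅V, E₂⁆ E₂)
    (h12 : ¬ ⁅V, E₁⁆ ≤ ⁅V, E₂⁆) (h21 : ¬ ⁅V, E₂⁆ ≤ ⁅V, E₁⁆) (c₁ : 2 < Nat.card E₁)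
    (c₂ : 2 < Nat.card E₂) : ⁅E₁, E₂⁆ = ⊥ ∧ ⁅V, E₁⁆ ⊓ ⁅V, E₂⁆ = ⊥ :=
  commutator_eq_of_pair_aux hV hHV hf hO _ E₁ E₂ rfl s₁ s₂ i₁ i₂ h12 h21 c₁ c₂

end H12
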