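import Mathlib
import Cfsg.Agent.H12.FF2
import Cfsg.Agent.H7.SL

/-! Failure of factorization modules, part 3: Kurzweil–Stellmacher 9.3.2, 9.3.3. -/

open Subgroup Cfsg Pointwise MatrixGroups

namespace H12

variable {G : Type*} [Group G] {p : ℕ} [hp : Fact p.Prime]

theorem card_addMonoidHom_zmod_aux {A : Type*} [AddCommGroup A] [Finite A] [Module (ZMod p) A] :
    Nat.card (A →+ ZMod p) = Nat.card A := by
  rw [Nat.card_congr (AddMonoidHom.toZModLinearMapEquiv p (M := A) (M₁ := ZMod p)).toEquiv,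
    Module.natCard_eq_pow_finrank (K := ZMod p) (V := A →ₗ[ZMod p] ZMod p),
    Module.natCard_eq_pow_finrank (K := ZMod p) (V := A)]
  congr 1
  exact Subspace.dual_finrank_eq

theorem card_addMonoidHom_zmod' {A : Type*} [AddCommGroup A] [Finite A]
    (hA : ∀ x : A, p • x = 0) : Nat.card (A →+ ZMod p) = Nat.card A := by
  letI : Module (ZMod p) A := AddCommGroup.zmodModule hA
  exact card_addMonoidHom_zmod_aux

theorem card_addMonoidHom_zmod {W : Type*} [Group W] [Finite W] [IsMulCommutative W]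
    (hW : ∀ w : W, w ^ p = 1) : Nat.card (Additive W →+ ZMod p) = Nat.card W := by
  let _ : CommGroup W := { (inferInstance : Group W) with mul_comm := mul_comm' }
  exact card_addMonoidHom_zmod' (A := Additive W) (fun x => hW x.toMul)

theorem exists_sl_two_zmod {W : Type*} [Group W] [Finite W] [IsMulCommutative W]
    (hW : ∀ w : W, w ^ p = 1) (hc : Nat.card W = p ^ 2) (α : G →* MulAut W) {s : Set G}
    (hs : closure s = ⊤) (hq : ∀ a ∈ s, IsQuad α a) :
    ∃ φ : G →* SL(2, ZMod p), (∀ g, φ g = 1 → α g = 1) ∧ ∀ a, IsQuad α a → IsUnip (φ a) := by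
  have : Finite (Additive W →+ ZMod p) := DFunLike.finite _
  have hr : Module.finrank (ZMod p) (Additive W →+ ZMod p) = 2 := by
    have h1 := card_addMonoidHom_zmod hW
    rw [Module.natCard_eq_pow_finrank (K := ZMod p), Nat.card_zmod, hc] at h1
    exact Nat.pow_right_injective hp.out.two_le h1
  let B := Module.finBasisOfFinrankEq (ZMod p) _ hr
  obtain ⟨φ, hφ⟩ := exists_sl_two_of_basis (dualRep (ZMod p) α) hs
    (fun a ha => dualRep_quad _ (hq a ha)) B
  refine ⟨φ, fun g hg => eq_one_of_dualRep_eq_one hW (ZMod p) ?_, fun a ha => ?_⟩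
  · apply (LinearMap.toMatrix B B).injective
    rw [← hφ, hg, LinearMap.toMatrix_one]; rfl
  · rw [IsUnip, hφ, ← LinearMap.toMatrix_one B, ← map_sub, ← LinearMap.toMatrix_mul,
      dualRep_quad _ ha, map_zero]

/-- `L` is generated by elements acting quadratically on `V`. -/
def QGen (V L : Subgroup G) : Prop :=
  L ≤ closure {g | g ∈ L ∧ ⁅⁅V, zpowers g⁆, zpowers g⁆ = ⊥}

omit hp in
theorem QGen.sup {V L M : Subgroup G} (h1 : QGen V L) (h2 : QGen V M) : QGen V (L ⊔ M) :=
  sup_le (h1.trans (closure_mono fun _ hg => ⟨mem_sup_left hg.1, hg.2⟩))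
    (h2.trans (closure_mono fun _ hg => ⟨mem_sup_right hg.1, hg.2⟩))

omit hp in
theorem qGen_of_quadratic {V A : Subgroup G} (h : ⁅⁅V, A⁆, A⁆ = ⊥) : QGen V A := fun _ ha =>
  subset_closure ⟨ha, quadratic_mono le_rfl (zpowers_le.2 ha) (zpowers_le.2 ha) h⟩

omit hp in
theorem qGen_commutator_sup {V O A : Subgroup G} (hO : O ≤ normalizer (V : Set G))
    (h : ⁅⁅V, A⁆, A⁆ = ⊥) : QGen V (⁅O, A⁆ ⊔ A) := by
  have h1 : A ≤ closure {g | g ∈ ⁅O, A⁆ ⊔ A ∧ ⁅⁅V, zpowers g⁆, zpowers g⁆ = ⊥} :=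
    (qGen_of_quadratic h).trans (closure_mono fun _ hg => ⟨mem_sup_right hg.1, hg.2⟩)
  refine sup_le (commutator_le.2 fun y hy a ha => ?_) h1
  rw [commutatorElement_def]
  refine mul_mem (subset_closure ⟨?_, quadratic_conj (hO hy)
    (quadratic_mono le_rfl (zpowers_le.2 ha) (zpowers_le.2 ha) h)⟩) (h1 (inv_mem ha))
  have := mul_mem (mem_sup_left (T := A) (commutator_mem_commutator hy ha)) (mem_sup_right ha)
  simpa [commutatorElement_def] using this

theorem exists_sl_two_of_qGen [Finite G] {V W L : Subgroup G} (hV : IsElementaryAbelian p V)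
    (hWV : W ≤ V) (hLW : L ≤ normalizer (W : Set G)) (hc : Nat.card W = p ^ 2)
    (hf : L ⊓ centralizer (W : Set G) = ⊥) (hq : QGen V L) :
    ∃ φ : L →* SL(2, ZMod p), Function.Injective φ ∧
      ∀ g : L, ⁅⁅V, zpowers (g : G)⁆, zpowers (g : G)⁆ = ⊥ → IsUnip (φ g) := by
  have hW := ea_of_le hV hWV
  haveI := hW.1
  have hs : closure {g : L | ⁅⁅V, zpowers (g : G)⁆, zpowers (g : G)⁆ = ⊥} = ⊤ := by
    apply map_injective L.subtype_injective
    rw [MonoidHom.map_closure, ← MonoidHom.range_eq_map, range_subtype]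
    refine le_antisymm ((closure_le _).2 ?_) (hq.trans (closure_mono ?_))
    · rintro _ ⟨g, -, rfl⟩; exact g.2
    · rintro g ⟨hg, hg'⟩; exact ⟨⟨g, hg⟩, hg', rfl⟩
  have hQ : ∀ g : L, ⁅⁅V, zpowers (g : G)⁆, zpowers (g : G)⁆ = ⊥ → IsQuad (conjAct' hLW) g :=
    fun g hg => isQuad_conjAct' hLW (quadratic_mono hWV le_rfl le_rfl hg)
  obtain ⟨φ, h1, h2⟩ := exists_sl_two_zmod (IsElementaryAbelian.pow_eq_one hW) hc (conjAct' hLW)
    hs hQ
  exact ⟨φ, (injective_iff_map_eq_one φ).2 fun g hg =>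
    (injective_iff_map_eq_one _).1 (conjAct'_injective hLW hf) g (h1 g hg),
    fun g hg => h2 g (hQ g hg)⟩

theorem closure_eq_top_of_isUnip {u v : SL(2, ZMod p)} (hu : IsUnip u) (hv : IsUnip v)
    (huv : ¬ IsUnip (u * v)) : Subgroup.closure {u, v} = ⊤ := by
  obtain ⟨g, -, -, h⟩ := exists_primeEmb_of_isUnip (p := p) hu hv
    (s := ((u * v : SL(2, ZMod p)) : Matrix (Fin 2) (Fin 2) (ZMod p)).trace - 2)
    (fun h => huv (isUnip_iff_trace.2 (sub_eq_zero.1 h))) (by simp)
  rw [← h, MonoidHom.range_eq_top]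
  exact Finite.surjective_of_injective (primeEmb_injective p g)

theorem pow_mem_centralizer_of_card_prime {U : Subgroup G} (hU : Nat.card U = p) {g : G}
    (hg : g ∈ normalizer (U : Set G)) : g ^ (p - 1) ∈ centralizer (U : Set G) := by
  haveI : Finite U := Nat.finite_of_card_ne_zero (hU ▸ hp.out.ne_zero)
  haveI := isCyclic_of_prime_card hU
  have h1 := IsCyclic.card_mulAut U
  rw [hU, Nat.totient_prime hp.out] at h1
  have h2 : (⟨g, mem_zpowers g⟩ : zpowers g) ^ (p - 1) ∈ (conjAct' (zpowers_le.2 hg)).ker := by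
    rw [MonoidHom.mem_ker, map_pow, ← h1, pow_card_eq_one']
  rw [ker_conjAct'] at h2
  exact h2

theorem irr_of_card_sq [Finite G] {W : Subgroup G} (hW : IsElementaryAbelian p W)
    (hc : Nat.card W = p ^ 2) {g : G} (hg : g ∈ normalizer (W : Set G))
    (ho : (orderOf g).Coprime p) (hne : g ^ (p - 1) ∉ centralizer (W : Set G)) :
    Irr W (zpowers g) := by
  intro U hU hgU
  by_contra hcon
  push Not at hcon
  apply hne
  haveI := hW.1
  have hUc : Nat.card U = p := by
    obtain ⟨i, hi, he⟩ := (Nat.dvd_prime_pow hp.out).1 (hc ▸ card_dvd_of_le hU)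
    interval_cases i
    · exact absurd (card_eq_one.1 he) hcon.1
    · rw [he, pow_one]
    · exact absurd (eq_of_le_of_card_ge hU (hc.trans he.symm).le) hcon.2
  set k := g ^ (p - 1) with hk
  have hkW : k ∈ normalizer (W : Set G) := pow_mem hg _
  have h1 := card_inf_centralizer_mul_card_commutator W hkW
  have h2 : U ≤ W ⊓ centralizer (zpowers k : Set G) :=
    le_inf hU (le_centralizer_symm (zpowers_le.2
      (pow_mem_centralizer_of_card_prime hUc (hgU (mem_zpowers g)))))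
  obtain ⟨m, hm⟩ := card_dvd_of_le h2
  rw [hm, hUc, hc, pow_two, mul_assoc] at h1
  have h3 := Nat.eq_of_mul_eq_mul_left hp.out.pos h1
  have hq : ⁅⁅W, zpowers k⁆, zpowers k⁆ = ⊥ := by
    rcases (Nat.dvd_prime hp.out).1 (Dvd.intro_left _ h3) with h4 | h4
    · rw [card_eq_one.1 h4, commutator_bot_left]
    · refine commutator_eq_bot_iff'.2 (zpowers_le.2 (pow_mem_centralizer_of_card_prime h4 ?_))
      refine H13.le_normalizer_commutator (zpowers_le.2 hg) ?_ (mem_zpowers g)
      exact le_normalizer_of_le_of_comm (V := zpowers g) inferInstance le_rfl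
        (zpowers_le.2 (pow_mem (mem_zpowers g) _))
  refine mem_of_pow_mem_of_coprime ho ?_
    (pow_mem_centralizer_of_quadratic hW.2 hkW (mem_zpowers k) hq)
  rw [hk, ← pow_mul, mul_comm, pow_mul, pow_orderOf_eq_one, one_pow]
  exact one_mem _

variable [Finite G] {V H A : Subgroup G} {x : G}

omit hp in
theorem FF.off_conj (h : FF p V H) (hA : Off p V H A) (hx : x ∈ H) :
    Off p V H (MulAut.conj x • A) := hA.conj (h.norm hx) (le_normalizer hx)

theorem Off.inf_conj_eq_bot (hA : Off p V H A) (hx : x ∈ OP p H)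
    (hxA : x ∉ centralizer (A : Set G)) : A ⊓ MulAut.conj x • A = ⊥ := by
  refine (eq_bot_or_eq_of_card_prime hA.prime inf_le_left).resolve_right fun he => hxA ?_
  have h1 := eq_of_le_of_card_ge (inf_eq_left.1 he) (H3.card_conj_smul _ _).le
  have h2 := H3.conj_smul_eq_iff.1 h1.symm
  refine commutator_eq_bot_iff'.1 (eq_bot_iff.2 ?_) (mem_zpowers x)
  rw [← H13.inf_eq_bot_of_isPGroup_of_coprime hA.isPGroup (OP_coprime H)]
  refine le_inf (commutator_le_self_of_le_normalizer (zpowers_le.2 h2)) ?_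
  rw [commutator_comm]
  exact (commutator_mono (zpowers_le.2 hx) le_rfl).trans
    (commutator_le_self_of_le_normalizer (hA.1.trans (le_normalizer_OP H)))

theorem FF.pair_faithful (h : FF p V H) (hA : Off p V H A) (hx : x ∈ OP p H)
    (hxA : x ∉ centralizer (A : Set G)) :
    (A ⊔ MulAut.conj x • A) ⊓
      centralizer ((⁅V, A ⊔ MulAut.conj x • A⁆ : Subgroup G) : Set G) = ⊥ := by
  have hB := h.off_conj hA (OP_le H hx)
  set B := MulAut.conj x • A with hBd
  have hEH : A ⊔ B ≤ H := sup_le hA.1 hB.1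
  set N := (A ⊔ B) ⊓ centralizer ((⁅V, A ⊔ B⁆ : Subgroup G) : Set G)
  have hN : IsPGroup p N := isPGroup_of_quadratic h.ea.2 (inf_le_left.trans (hEH.trans h.norm))
    (h.eq_bot_of_le_centralizer (inf_le_left.trans (inf_le_left.trans hEH)) inf_le_right)
    (commutator_eq_bot_iff'.2 (inf_le_right.trans
      (H13.centralizer_anti (commutator_mono le_rfl inf_le_left))))
  have hEN : A ⊔ B ≤ normalizer (N : Set G) := H13.le_normalizer_inf le_normalizer
    (H13.le_normalizer_centralizer (normalizer_commutator_ge_right _ _))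
  rw [eq_bot_iff, ← hA.inf_conj_eq_bot hx hxA]
  refine le_inf (le_of_isPGroup_of_le_sup (OP_coprime H) (hA.1.trans (le_normalizer_OP H))
    hA.isPGroup hN (inf_le_left.trans (sup_le le_sup_left ?_)) (le_sup_left.trans hEN))
    (le_of_isPGroup_of_le_sup (OP_coprime H) (hB.1.trans (le_normalizer_OP H))
    hB.isPGroup hN (inf_le_left.trans (sup_le ?_ le_sup_left)) (le_sup_right.trans hEN))
  · exact H3.conj_smul_le_of_le_of_mem le_sup_left (mem_sup_right hx)
  · exact (H3.conj_inv_smul_conj_smul x A).ge.trans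
      (H3.conj_smul_le_of_le_of_mem le_sup_left (mem_sup_right (inv_mem hx)))

theorem FF.pair_card (h : FF p V H) (hA : Off p V H A) (hx : x ∈ OP p H)
    (hxA : x ∉ centralizer (A : Set G)) :
    Nat.card (⁅V, A ⊔ MulAut.conj x • A⁆ : Subgroup G) = p ^ 2 := by
  have hB := h.off_conj hA (OP_le H hx)
  have hf := h.pair_faithful hA hx hxA
  set B := MulAut.conj x • A with hBd
  rw [commutator_sup_eq (hA.1.trans h.norm) (hB.1.trans h.norm)] at hf ⊢
  have c1 := h.card_commutator hA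
  have c2 := h.card_commutator hB
  rw [H2.card_sup_of_disjoint (le_normalizer_of_le_of_comm h.ea.1
    (commutator_le_self_of_le_normalizer (hA.1.trans h.norm))
    (commutator_le_self_of_le_normalizer (hB.1.trans h.norm))), c1, c2, pow_two]
  refine (eq_bot_or_eq_of_card_prime (c1 ▸ hp.out) inf_le_left).resolve_right fun he => ?_
  rw [sup_eq_right.2 (inf_eq_left.1 he),
    ← eq_of_le_of_card_ge (inf_eq_left.1 he) (c2.trans c1.symm).le] at hf
  exact hA.ne_bot (eq_bot_iff.2 (hf ▸ le_inf le_sup_left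
    (commutator_eq_bot_iff'.1 (h.quadratic hA))))

theorem Off.comm_ne_one (hA : Off p V H A) (hxA : x ∉ centralizer (A : Set G)) {a : G}
    (ha : a ∈ A) (ha1 : a ≠ 1) : x * a * x⁻¹ * a⁻¹ ≠ 1 := fun h1 => by
  apply hxA
  rw [eq_zpowers_of_card_prime hA.prime ha ha1, centralizer_zpowers,
    mem_centralizer_singleton_iff]
  rw [mul_inv_eq_one, mul_inv_eq_iff_eq_mul] at h1
  exact h1

omit hp [Finite G] in
theorem Off.comm_mem (hA : Off p V H A) (hx : x ∈ OP p H) {a : G} (ha : a ∈ A) :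
    x * a * x⁻¹ * a⁻¹ ∈ OP p H := by
  have := mul_mem hx (H13.conj_mem_of_mem_normalizer (le_normalizer_OP H (hA.1 ha)) (inv_mem hx))
  simpa [mul_assoc] using this

omit hp [Finite G] in
theorem comm_mem_pair {a : G} (ha : a ∈ A) (x : G) :
    x * a * x⁻¹ * a⁻¹ ∈ A ⊔ MulAut.conj x • A :=
  mul_mem (mem_sup_right (H3.conj_mem_conj_smul.2 ha)) (mem_sup_left (inv_mem ha))

theorem Off.comm_not_commute (hA : Off p V H A) (hx : x ∈ OP p H)
    (hxA : x ∉ centralizer (A : Set G)) {a : G} (ha : a ∈ A) (ha1 : a ≠ 1) :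
    ¬ Commute (x * a * x⁻¹ * a⁻¹) a := fun hc => by
  have hap : a ^ p = 1 := by
    have := pow_card_eq_one' (x := (⟨a, ha⟩ : A))
    rw [hA.2.2] at this
    exact congrArg Subtype.val this
  have h1 : Commute (x * a * x⁻¹) a⁻¹ := by
    simpa using (hc.mul_left (Commute.refl a)).inv_right
  refine hA.comm_ne_one hxA ha ha1 (H13.eq_one_of_pow_eq_one_of_coprime (k := 1) ?_
    (H13.orderOf_coprime_of_mem (OP_coprime H) (hA.comm_mem hx ha)))
  rw [pow_one, h1.mul_pow, conj_pow, inv_pow, hap]; simp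

theorem FF.pair_sl (h : FF p V H) (hA : Off p V H A) (hx : x ∈ OP p H)
    (hxA : x ∉ centralizer (A : Set G)) :
    ∃ φ : ↥(A ⊔ MulAut.conj x • A) →* SL(2, ZMod p), Function.Bijective φ ∧
      ∀ g : ↥(A ⊔ MulAut.conj x • A), (g : G) ∈ A → IsUnip (φ g) := by
  have hB := h.off_conj hA (OP_le H hx)
  obtain ⟨φ, h1, h2⟩ := exists_sl_two_of_qGen h.ea
    (commutator_le_self_of_le_normalizer ((sup_le hA.1 hB.1).trans h.norm))
    (normalizer_commutator_ge_right _ _) (h.pair_card hA hx hxA) (h.pair_faithful hA hx hxA)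
    ((qGen_of_quadratic (h.quadratic hA)).sup (qGen_of_quadratic (h.quadratic hB)))
  have h3 : ∀ g : ↥(A ⊔ MulAut.conj x • A), (g : G) ∈ A → IsUnip (φ g) := fun g hg =>
    h2 g (quadratic_mono le_rfl (zpowers_le.2 hg) (zpowers_le.2 hg) (h.quadratic hA))
  refine ⟨φ, ⟨h1, ?_⟩, h3⟩
  obtain ⟨a, ha, ha1, -⟩ := exists_eq_zpowers_of_card_prime hA.prime
  have hb : x * a * x⁻¹ ∈ MulAut.conj x • A := H3.conj_mem_conj_smul.2 ha
  have hu := h3 ⟨a, mem_sup_left ha⟩ ha
  have hv := h2 ⟨_, mem_sup_right hb⟩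
    (quadratic_mono le_rfl (zpowers_le.2 hb) (zpowers_le.2 hb) (h.quadratic hB))
  have := closure_eq_top_of_isUnip hu hv fun huv => hA.comm_not_commute hx hxA ha ha1 (by
    have h4 := commute_of_isUnip hu hv huv
    rw [← map_mul, ← map_mul] at h4
    have h5 : Commute a (x * a * x⁻¹) := congrArg Subtype.val (h1 h4)
    exact h5.symm.mul_left (Commute.refl a).inv_left)
  rw [← MonoidHom.range_eq_top, eq_top_iff, ← this, closure_le]
  rintro _ (rfl | rfl)
  · exact ⟨_, rfl⟩
  · exact ⟨_, rfl⟩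

theorem FF.pair_two_or_three (h : FF p V H) (hA : Off p V H A) (hx : x ∈ OP p H)
    (hxA : x ∉ centralizer (A : Set G)) : p = 2 ∨ p = 3 := by
  refine or_iff_not_imp_left.2 fun hp2 => ?_
  obtain ⟨φ, hφ, hu⟩ := h.pair_sl hA hx hxA
  obtain ⟨a, ha, ha1, -⟩ := exists_eq_zpowers_of_card_prime hA.prime
  refine (sl_two_three_of_normalized hp2 (hu ⟨a, mem_sup_left ha⟩ ha)
    (fun h1 => ha1 (congrArg Subtype.val ((injective_iff_map_eq_one φ).1 hφ.1 _ h1)))
    (R := ((OP p H).subgroupOf _).map φ) ?_ ?_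
    ⟨φ ⟨_, comm_mem_pair ha x⟩, mem_map_of_mem _ (hA.comm_mem hx ha), fun h1 => ?_⟩).1
  · refine (OP_coprime H).coprime_dvd_left ((card_map_dvd _ _).trans ?_)
    rw [H2.card_subgroupOf]
    exact card_dvd_of_le inf_le_left
  · exact le_normalizer_map φ (mem_map_of_mem φ (le_normalizer_comap _
      (le_normalizer_OP H (hA.1 ha))))
  · rw [← map_mul, ← map_mul] at h1
    exact hA.comm_not_commute hx hxA ha ha1 (congrArg Subtype.val (hφ.1 h1))

theorem FF.comm_sq_ne_one (h : FF p V H) (hA : Off p V H A) (hx : x ∈ OP p H)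
    (hxA : x ∉ centralizer (A : Set G)) {a : G} (ha : a ∈ A) (ha1 : a ≠ 1) :
    (x * a * x⁻¹ * a⁻¹) ^ 2 ≠ 1 := fun h1 => by
  by_cases hp2 : p = 2
  · subst hp2
    exact hA.comm_ne_one hxA ha ha1 (H13.eq_one_of_pow_eq_one_of_coprime (k := 1) h1
      (H13.orderOf_coprime_of_mem (OP_coprime H) (hA.comm_mem hx ha)))
  obtain ⟨φ, hφ, -⟩ := h.pair_sl hA hx hxA
  have h2 := isScal_of_sq_eq_one (two_ne_zero_of_char hp2) (z := φ ⟨_, comm_mem_pair ha x⟩) (by
    rw [← map_mul, ← map_one φ]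
    congr 1
    exact Subtype.ext ((pow_two _).symm.trans h1))
  have h3 : φ ⟨_, comm_mem_pair ha x⟩ * φ ⟨a, mem_sup_left ha⟩ =
      φ ⟨a, mem_sup_left ha⟩ * φ ⟨_, comm_mem_pair ha x⟩ := Subtype.ext (h2.commute _)
  rw [← map_mul, ← map_mul] at h3
  exact hA.comm_not_commute hx hxA ha ha1 (congrArg Subtype.val (hφ.1 h3))

theorem FF.pair_irr (h : FF p V H) (hA : Off p V H A) (hx : x ∈ OP p H)
    (hxA : x ∉ centralizer (A : Set G)) {a : G} (ha : a ∈ A) (ha1 : a ≠ 1) :
    ⁅V, zpowers (x * a * x⁻¹ * a⁻¹)⁆ = ⁅V, A ⊔ MulAut.conj x • A⁆ ∧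
      Irr ⁅V, A ⊔ MulAut.conj x • A⁆ (zpowers (x * a * x⁻¹ * a⁻¹)) ∧
      2 < Nat.card (zpowers (x * a * x⁻¹ * a⁻¹)) := by
  have hB := h.off_conj hA (OP_le H hx)
  have hc := comm_mem_pair ha x
  have h1 := hA.comm_ne_one hxA ha ha1
  have h2 := h.comm_sq_ne_one hA hx hxA ha ha1
  set c := x * a * x⁻¹ * a⁻¹
  have hi : Irr ⁅V, A ⊔ MulAut.conj x • A⁆ (zpowers c) := by
    refine irr_of_card_sq (ea_of_le h.ea
      (commutator_le_self_of_le_normalizer ((sup_le hA.1 hB.1).trans h.norm)))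
      (h.pair_card hA hx hxA) (normalizer_commutator_ge_right _ _ hc)
      (H13.orderOf_coprime_of_mem (OP_coprime H) (hA.comm_mem hx ha)) fun h3 => ?_
    have h4 := mem_bot.1 (h.pair_faithful hA hx hxA ▸ mem_inf.2 ⟨pow_mem hc _, h3⟩)
    rcases h.pair_two_or_three hA hx hxA with rfl | rfl
    · exact h1 (by simpa using h4)
    · exact h2 h4
  refine ⟨(hi _ (commutator_mono le_rfl (zpowers_le.2 hc))
    (normalizer_commutator_ge_right _ _)).resolve_left fun hb => h1 ?_, hi, ?_⟩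
  · exact zpowers_eq_bot.1 (h.eq_bot_of_le_centralizer (zpowers_le.2 (sup_le hA.1 hB.1 hc))
      (commutator_eq_bot_iff'.1 hb))
  · rw [Nat.card_zpowers]
    by_contra hle
    have h0 := orderOf_pos c
    have : orderOf c = 1 ∨ orderOf c = 2 := by omega
    rcases this with h3 | h3
    · exact h1 (orderOf_eq_one_iff.1 h3)
    · exact h2 (h3 ▸ pow_orderOf_eq_one c)

theorem FF.exists_not_mem_centralizer (h : FF p V H) (hA : Off p V H A) :
    ∃ x ∈ OP p H, x ∉ centralizer (A : Set G) :=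
  SetLike.not_le_iff_exists.1 fun hc => hA.ne_bot (h.eq_bot_of_isPGroup hA.1 hA.isPGroup hc)

theorem FF.two_or_three (h : FF p V H) (hA : Off p V H A) : p = 2 ∨ p = 3 := by
  obtain ⟨x, hx, hxA⟩ := h.exists_not_mem_centralizer hA
  exact h.pair_two_or_three hA hx hxA

omit [Finite G] in
theorem card_sl_two_zmod : Nat.card SL(2, ZMod p) = p * (p ^ 2 - 1) :=
  H7.card_sl_two (ZMod.card p)

theorem FF.isPGroup_commutator (h : FF p V H) (hA : Off p V H A) {r : ℕ} [hr : Fact r.Prime]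
    (hpr : p * r = 6) : IsPGroup r (⁅OP p H, A⁆ : Subgroup G) := by
  set O := OP p H with hO
  have hAO : A ≤ normalizer (O : Set G) := hA.1.trans (le_normalizer_OP H)
  obtain ⟨R, hR⟩ := exists_sylow_normalized_of_isPGroup hA.isPGroup (OP_coprime H) hAO r
  have hidx : (R : Subgroup O).index.Coprime ((centralizer (A : Set G)).subgroupOf O).index := by
    refine Nat.coprime_of_dvd fun q hq h1 h2 => ?_
    haveI := Fact.mk hq
    have hqr : q ≠ r := fun he => R.not_dvd_index (he ▸ h1)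
    have hqp : q ≠ p := fun he => (Nat.Prime.coprime_iff_not_dvd hp.out).1 (OP_coprime H).symm
      ((he ▸ h1 : p ∣ _).trans (index_dvd_card _))
    obtain ⟨T, hT⟩ := exists_sylow_normalized_of_isPGroup hA.isPGroup (OP_coprime H) hAO q
    refine T.not_dvd_index (h2.trans (index_dvd_of_le fun y hy => ?_))
    by_contra hyA
    obtain ⟨a, ha, ha1, -⟩ := exists_eq_zpowers_of_card_prime hA.prime
    obtain ⟨φ, hφ, -⟩ := h.pair_sl hA y.2 hyA
    have hyT : (y : G) ∈ (T : Subgroup O).map O.subtype := mem_map_of_mem _ hy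
    have hc : (y : G) * a * (y : G)⁻¹ * a⁻¹ ∈ (T : Subgroup O).map O.subtype := by
      have := mul_mem hyT (H13.conj_mem_of_mem_normalizer (hT ha) (inv_mem hyT))
      simpa [mul_assoc] using this
    obtain ⟨k, hk⟩ := H13.isPGroup_iff_forall_mem.1 (T.2.map O.subtype) _ hc
    obtain ⟨i, -, hi⟩ := (Nat.dvd_prime_pow hq).1 (orderOf_dvd_of_pow_eq_one hk)
    have hi0 : i ≠ 0 := by
      rintro rfl
      exact hA.comm_ne_one hyA ha ha1 (orderOf_eq_one_iff.1 hi)
    have hd := (hi ▸ dvd_pow_self q hi0).trans (orderOf_dvd_natCard _ (comm_mem_pair ha y))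
    rw [Nat.card_eq_of_bijective φ hφ, card_sl_two_zmod] at hd
    rcases h.two_or_three hA with rfl | rfl
    · obtain rfl : r = 3 := by omega
      rcases (Nat.Prime.dvd_mul hq).1 (show q ∣ 2 * 3 from hd) with h3 | h3
      · exact hqp ((Nat.prime_dvd_prime_iff_eq hq Nat.prime_two).1 h3)
      · exact hqr ((Nat.prime_dvd_prime_iff_eq hq Nat.prime_three).1 h3)
    · obtain rfl : r = 2 := by omega
      rcases (Nat.Prime.dvd_mul hq).1 (show q ∣ 3 * 2 ^ 3 from hd) with h3 | h3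
      · exact hqp ((Nat.prime_dvd_prime_iff_eq hq Nat.prime_three).1 h3)
      · exact hqr ((Nat.prime_dvd_prime_iff_eq hq Nat.prime_two).1 (hq.dvd_of_dvd_pow h3))
  refine (R.2.map O.subtype).to_le (commutator_le_iff'.2 fun a ha y hy => ?_)
  obtain ⟨t, ht, c, hc, he⟩ := H1.exists_mul_of_coprime_index _ _ hidx ⟨y, hy⟩
  have he' : y = t * c := congrArg Subtype.val he
  have htR : (t : G) ∈ (R : Subgroup O).map O.subtype := mem_map_of_mem _ ht
  have h1 := mem_centralizer_iff.1 hc a ha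
  have := mul_mem (H13.conj_mem_of_mem_normalizer (hR ha) htR) (inv_mem htR)
  convert this using 1
  rw [he']
  calc a * (t * c) * a⁻¹ * ((t : G) * c)⁻¹ = a * t * a⁻¹ * (a * c) * a⁻¹ * (c : G)⁻¹ * (t : G)⁻¹ := by
        group
    _ = _ := by
      rw [show a * (c : G) = c * a from h1]; group

theorem FF.not_comm_commutator (h : FF p V H) (hA : Off p V H A) (hp3 : p = 3) :
    ¬ IsMulCommutative (⁅OP p H, A⁆ : Subgroup G) := by
  intro hc
  subst hp3
  obtain ⟨x, hx, hxA⟩ := h.exists_not_mem_centralizer hA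
  obtain ⟨a, ha, ha1, -⟩ := exists_eq_zpowers_of_card_prime hA.prime
  have hB := h.off_conj hA (OP_le H hx)
  have hb : x * a * x⁻¹ ∈ MulAut.conj x • A := H3.conj_mem_conj_smul.2 ha
  have hle : closure {a, x * a * x⁻¹} ≤ A ⊔ ⁅OP 3 H, A⁆ := by
    rw [closure_le]
    rintro _ (rfl | rfl)
    · exact mem_sup_left ha
    · have := mul_mem (mem_sup_right (S := A) (commutator_mem_commutator hx ha)) (mem_sup_left ha)
      simpa [commutatorElement_def] using this
  have hH : closure {a, x * a * x⁻¹} ≤ H := by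
    rw [closure_le]
    rintro _ (rfl | rfl)
    · exact hA.1 ha
    · exact hB.1 hb
  have hcoprime : ∀ y ∈ closure {a, x * a * x⁻¹}, (orderOf y).Coprime 3 → y ∈ ⁅OP 3 H, A⁆ :=
    fun y hy ho => mem_of_coprime_of_mem_sup (normalizer_commutator_ge_right _ _) hA.isPGroup
      (hle hy) ho
  refine (quadInvolved_of_pair h.ea (hH.trans h.norm)
    (eq_bot_iff.2 (h.faith ▸ inf_le_inf_right _ hH))
    (quadratic_mono le_rfl (zpowers_le.2 ha) (zpowers_le.2 ha) (h.quadratic hA))
    (quadratic_mono le_rfl (zpowers_le.2 hb) (zpowers_le.2 hb) (h.quadratic hB))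
    fun h3 => hA.comm_ne_one hxA ha ha1 (H13.eq_one_of_mem_isPGroup_of_coprime h3
      (mul_mem (subset_closure (by simp)) (inv_mem (subset_closure (by simp))))
      (H13.orderOf_coprime_of_mem (OP_coprime H) (hA.comm_mem hx ha)))).not_abelian_two
    (by norm_num) fun U hU => ?_
  haveI : Fact (Nat.Prime 2) := ⟨Nat.prime_two⟩
  have hU' := H2.IsPGroup.card_coprime_of_ne (p := 3) hU (by norm_num)
  refine H13.isMulCommutative_iff_forall_mem.2 fun y hy z hz => Subtype.ext ?_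
  exact H13.isMulCommutative_iff_forall_mem.1 hc _
    (hcoprime y y.2 (by simpa using H13.orderOf_coprime_of_mem hU' hy)) _
    (hcoprime z z.2 (by simpa using H13.orderOf_coprime_of_mem hU' hz))

theorem FF.isNilpotent_commutator (h : FF p V H) (hA : Off p V H A) :
    Group.IsNilpotent (⁅OP p H, A⁆ : Subgroup G) := by
  haveI : Fact (Nat.Prime 2) := ⟨Nat.prime_two⟩
  haveI : Fact (Nat.Prime 3) := ⟨Nat.prime_three⟩
  rcases h.two_or_three hA with h1 | h1
  · exact (h.isPGroup_commutator hA (r := 3) (by rw [h1])).isNilpotent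
  · exact (h.isPGroup_commutator hA (r := 2) (by rw [h1])).isNilpotent

end H12
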