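import Mathlib
import Cfsg.Agent.H12.FF3

/-! Failure of factorization modules, part 4: Kurzweil–Stellmacher 9.3.5, 9.3.6. -/

open Subgroup Cfsg Pointwise MatrixGroups

namespace H12

variable {G : Type*} [Group G] {p : ℕ}

/-- `E = [O_{p'}(H), A] A` -/
abbrev EE (p : ℕ) (H A : Subgroup G) : Subgroup G := ⁅OP p H, A⁆ ⊔ A

variable {V H A B : Subgroup G} {x : G}

theorem commutator_OP_le (hA : A ≤ H) : ⁅OP p H, A⁆ ≤ OP p H :=
  commutator_le_self_of_le_normalizer (hA.trans (le_normalizer_OP H))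

theorem EE_le (hA : A ≤ H) : EE p H A ≤ H := sup_le ((commutator_OP_le hA).trans (OP_le H)) hA

theorem OP_le_normalizer_EE (H A : Subgroup G) : OP p H ≤ normalizer (EE p H A : Set G) := by
  refine le_normalizer_of_commutator_le_of_le le_rfl ?_
  rw [commutator_comm]
  refine commutator_sup_le (le_sup_left.trans le_normalizer) (le_sup_right.trans le_normalizer) ?_
    le_sup_left
  rw [commutator_comm]
  exact (commutator_le_self_of_le_normalizer (normalizer_commutator_ge_left _ _)).trans le_sup_left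

theorem pair_le_EE (hx : x ∈ OP p H) : A ⊔ MulAut.conj x • A ≤ EE p H A := by
  refine sup_le le_sup_right (H3.conj_smul_le_iff.2 fun a ha => ?_)
  have := mul_mem (mem_sup_left (T := A) (commutator_mem_commutator hx ha)) (mem_sup_right ha)
  simpa [commutatorElement_def] using this

theorem conj_EE {x : G} (hx : x ∈ normalizer (H : Set G)) (A : Subgroup G) :
    MulAut.conj x • EE p H A = EE p H (MulAut.conj x • A) := by
  rw [H3.conj_smul_sup, H3.conj_smul_commutator,
    H3.conj_smul_eq_iff.2 (normalizer_le_normalizer_OP H hx)]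

variable [Finite G] [hp : Fact p.Prime]

theorem FF.sn_zpowers (h : FF p V H) (hA : Off p V H A) {c : G} (hc : c ∈ ⁅OP p H, A⁆) :
    H11.SN (zpowers c) H :=
  ((H11.sn_of_isNilpotent (h.isNilpotent_commutator hA) (zpowers_le.2 hc)).trans
    (H11.SN.of_le_normalizer (commutator_OP_le hA.1) (normalizer_commutator_ge_left _ _))).trans
    (H11.SN.of_le_normalizer (OP_le H) (le_normalizer_OP H))

theorem FF.pair_eq_or_disjoint (h : FF p V H) (hA : Off p V H A) (hx : x ∈ OP p H)
    (hxA : x ∉ centralizer (A : Set G)) (hB : Off p V H B) {y : G} (hy : y ∈ OP p H)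
    (hyB : y ∉ centralizer (B : Set G)) :
    ⁅V, A ⊔ MulAut.conj x • A⁆ = ⁅V, B ⊔ MulAut.conj y • B⁆ ∨
      ⁅V, A ⊔ MulAut.conj x • A⁆ ⊓ ⁅V, B ⊔ MulAut.conj y • B⁆ = ⊥ := by
  obtain ⟨a, ha, ha1, -⟩ := exists_eq_zpowers_of_card_prime hA.prime
  obtain ⟨b, hb, hb1, -⟩ := exists_eq_zpowers_of_card_prime hB.prime
  obtain ⟨e1, i1, c1⟩ := h.pair_irr hA hx hxA ha ha1
  obtain ⟨e2, i2, c2⟩ := h.pair_irr hB hy hyB hb hb1
  have d1 := h.pair_card hA hx hxA
  have d2 := h.pair_card hB hy hyB
  refine or_iff_not_imp_left.2 fun hne => ?_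
  rw [← e1] at i1 d1 hne ⊢
  rw [← e2] at i2 d2 hne ⊢
  exact (commutator_eq_bot_of_irr h.ea h.norm h.faith h.pCore_eq_bot
    (h.sn_zpowers hA (commutator_mem_commutator hx ha))
    (h.sn_zpowers hB (commutator_mem_commutator hy hb)) i1 i2
    (fun hle => hne (eq_of_le_of_card_ge hle (d2.trans d1.symm).le))
    (fun hle => hne (eq_of_le_of_card_ge hle (d1.trans d2.symm).le).symm) c1 c2).2

theorem FF.commutator_EE (h : FF p V H) (hA : Off p V H A) (hx : x ∈ OP p H)
    (hxA : x ∉ centralizer (A : Set G)) : ⁅V, EE p H A⁆ = ⁅V, A ⊔ MulAut.conj x • A⁆ := by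
  refine le_antisymm ?_ (commutator_mono le_rfl (pair_le_EE hx))
  set W := ⁅V, A ⊔ MulAut.conj x • A⁆ with hW
  have hWV : W ≤ V := commutator_le_self_of_le_normalizer
    ((pair_le_EE hx).trans ((EE_le hA.1).trans h.norm))
  have hAW : ⁅V, A⁆ ≤ W := commutator_mono le_rfl le_sup_left
  have key : ∀ y ∈ OP p H, ⁅V, A ⊔ MulAut.conj y • A⁆ ≤ W := fun y hy => by
    by_cases hyA : y ∈ centralizer (A : Set G)
    · rw [H3.conj_smul_eq_iff.2 (centralizer_le_normalizer _ hyA), sup_idem]
      exact hAW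
    · refine ((h.pair_eq_or_disjoint hA hy hyA hA hx hxA).resolve_right fun hb => ?_).le
      exact h.commutator_ne_bot hA (eq_bot_iff.2 (hb ▸ le_inf
        (commutator_mono le_rfl le_sup_left) hAW))
  have h1 : EE p H A ≤ ⨆ y : OP p H, A ⊔ MulAut.conj (y : G) • A :=
    sup_le (commutator_le.2 fun y hy a ha =>
      le_iSup (fun y : OP p H => A ⊔ MulAut.conj (y : G) • A) ⟨y, hy⟩ (comm_mem_pair ha y))
      (le_iSup_of_le 1 le_sup_left)
  exact (commutator_mono le_rfl h1).trans (commutator_iSup_le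
    (fun y => le_normalizer_of_commutator_le_of_le hWV (key y y.2)) fun y => key y y.2)

theorem FF.card_commutator_EE (h : FF p V H) (hA : Off p V H A) :
    Nat.card (⁅V, EE p H A⁆ : Subgroup G) = p ^ 2 := by
  obtain ⟨x, hx, hxA⟩ := h.exists_not_mem_centralizer hA
  rw [h.commutator_EE hA hx hxA, h.pair_card hA hx hxA]

omit hp in
theorem FF.EE_faithful (h : FF p V H) (hA : A ≤ H) :
    EE p H A ⊓ centralizer ((⁅V, EE p H A⁆ : Subgroup G) : Set G) = ⊥ :=
  h.inf_centralizer_commutator (EE_le hA) (OP_le_normalizer_EE H A)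

theorem FF.qGen_EE (h : FF p V H) (hA : Off p V H A) : QGen V (EE p H A) :=
  qGen_commutator_sup ((OP_le H).trans h.norm) (h.quadratic hA)

theorem FF.card_le_of_qGen (h : FF p V H) {L : Subgroup G} (hL : L ≤ H)
    (hn : OP p H ≤ normalizer (L : Set G)) (hc : Nat.card (⁅V, L⁆ : Subgroup G) = p ^ 2)
    (hq : QGen V L) : Nat.card L ≤ Nat.card SL(2, ZMod p) := by
  obtain ⟨φ, hφ, -⟩ := exists_sl_two_of_qGen h.ea
    (commutator_le_self_of_le_normalizer (hL.trans h.norm)) (normalizer_commutator_ge_right _ _) hc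
    (h.inf_centralizer_commutator hL hn) hq
  exact Nat.card_le_card_of_injective φ hφ

theorem FF.EE_eq_pair (h : FF p V H) (hA : Off p V H A) (hx : x ∈ OP p H)
    (hxA : x ∉ centralizer (A : Set G)) : EE p H A = A ⊔ MulAut.conj x • A := by
  obtain ⟨φ, hφ, -⟩ := h.pair_sl hA hx hxA
  refine (eq_of_le_of_card_ge (pair_le_EE hx) ?_).symm
  rw [Nat.card_eq_of_bijective φ hφ]
  exact h.card_le_of_qGen (EE_le hA.1) (OP_le_normalizer_EE H A) (h.card_commutator_EE hA)
    (h.qGen_EE hA)

theorem FF.nonempty_EE_equiv (h : FF p V H) (hA : Off p V H A) :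
    Nonempty (EE p H A ≃* SL(2, ZMod p)) := by
  obtain ⟨x, hx, hxA⟩ := h.exists_not_mem_centralizer hA
  obtain ⟨φ, hφ, -⟩ := h.pair_sl hA hx hxA
  rw [h.EE_eq_pair hA hx hxA]
  exact ⟨MulEquiv.ofBijective φ hφ⟩

theorem FF.card_EE (h : FF p V H) (hA : Off p V H A) :
    Nat.card (EE p H A) = Nat.card SL(2, ZMod p) := by
  obtain ⟨e⟩ := h.nonempty_EE_equiv hA
  exact Nat.card_congr e.toEquiv

theorem FF.commutator_commutator_OP (h : FF p V H) (hA : Off p V H A) :
    ⁅V, ⁅OP p H, A⁆⁆ = ⁅V, EE p H A⁆ := by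
  refine le_antisymm (commutator_mono le_rfl le_sup_left) ?_
  obtain ⟨x, hx, hxA⟩ := h.exists_not_mem_centralizer hA
  obtain ⟨a, ha, ha1, -⟩ := exists_eq_zpowers_of_card_prime hA.prime
  rw [h.commutator_EE hA hx hxA, ← (h.pair_irr hA hx hxA ha ha1).1]
  exact commutator_mono le_rfl (zpowers_le.2 (commutator_mem_commutator hx ha))

theorem FF.coprime_of_le_OP (h : FF p V H) {Q : Subgroup G} (hQ : Q ≤ OP p H) :
    (Nat.card Q).Coprime (Nat.card V) := by
  obtain ⟨k, hk⟩ := IsPGroup.iff_card.1 (ea_isPGroup h.ea)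
  rw [hk]
  exact ((OP_coprime H).coprime_dvd_left (card_dvd_of_le hQ)).pow_right k

theorem FF.centralizer_inf_commutator (h : FF p V H) {Q : Subgroup G} (hQ : Q ≤ OP p H) :
    (V ⊓ centralizer (Q : Set G)) ⊓ ⁅V, Q⁆ = ⊥ := by
  haveI := h.ea.1
  exact H1.centralizer_inf_commutator_eq_bot Q V (hQ.trans ((OP_le H).trans h.norm))
    (h.coprime_of_le_OP hQ)

theorem FF.commutator_sup_centralizer (h : FF p V H) {Q : Subgroup G} (hQ : Q ≤ OP p H) :
    ⁅V, Q⁆ ⊔ (V ⊓ centralizer (Q : Set G)) = V := by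
  haveI := h.ea.1
  exact H1.commutator_sup_centralizer Q V (hQ.trans ((OP_le H).trans h.norm))
    (h.coprime_of_le_OP hQ) (Or.inr (H2.isSolvable_of_isMulCommutative V))

theorem FF.centralizer_commutator_OP (h : FF p V H) (hA : Off p V H A) :
    V ⊓ centralizer ((⁅OP p H, A⁆ : Subgroup G) : Set G) = V ⊓ centralizer (EE p H A : Set G) := by
  refine le_antisymm (le_inf inf_le_left (H13.le_centralizer_sup inf_le_right ?_))
    (inf_le_inf_left _ (H13.centralizer_anti le_sup_left))
  refine commutator_eq_bot_iff_le_centralizer.1 (eq_bot_iff.2 ?_)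
  rw [← h.centralizer_inf_commutator (commutator_OP_le hA.1), h.commutator_commutator_OP hA]
  exact le_inf (commutator_le_self_of_le_normalizer (H13.le_normalizer_inf (hA.1.trans h.norm)
    (H13.le_normalizer_centralizer (normalizer_commutator_ge_right _ _))))
    (commutator_mono inf_le_left le_sup_right)

theorem FF.commutator_EE_inf (h : FF p V H) (hA : Off p V H A) :
    ⁅V, EE p H A⁆ ⊓ (V ⊓ centralizer (EE p H A : Set G)) = ⊥ := by
  rw [← h.centralizer_commutator_OP hA, ← h.commutator_commutator_OP hA, inf_comm]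
  exact h.centralizer_inf_commutator (commutator_OP_le hA.1)

theorem FF.commutator_EE_sup (h : FF p V H) (hA : Off p V H A) :
    ⁅V, EE p H A⁆ ⊔ (V ⊓ centralizer (EE p H A : Set G)) = V := by
  rw [← h.centralizer_commutator_OP hA, ← h.commutator_commutator_OP hA]
  exact h.commutator_sup_centralizer (commutator_OP_le hA.1)

theorem FF.EE_le_centralizer_of_ne (h : FF p V H) (hA : Off p V H A) (hB : Off p V H B)
    (hne : EE p H A ≠ EE p H B) :
    EE p H B ≤ centralizer ((⁅V, EE p H A⁆ : Subgroup G) : Set G) := by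
  obtain ⟨x, hx, hxA⟩ := h.exists_not_mem_centralizer hA
  obtain ⟨y, hy, hyB⟩ := h.exists_not_mem_centralizer hB
  have h1 := h.pair_eq_or_disjoint hA hx hxA hB hy hyB
  rw [← h.commutator_EE hA hx hxA, ← h.commutator_EE hB hy hyB] at h1
  have hAV := (EE_le (p := p) hA.1).trans h.norm
  have hBV := (EE_le (p := p) hB.1).trans h.norm
  rcases h1 with h1 | h1
  · exfalso
    have h2 := h.card_le_of_qGen (sup_le (EE_le hA.1) (EE_le hB.1))
      (H13.le_normalizer_sup (OP_le_normalizer_EE H A) (OP_le_normalizer_EE H B))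
      (by rw [commutator_sup_eq hAV hBV, ← h1, sup_idem, h.card_commutator_EE hA])
      ((h.qGen_EE hA).sup (h.qGen_EE hB))
    exact hne ((eq_of_le_of_card_ge le_sup_left (h2.trans (h.card_EE hA).ge)).trans
      (eq_of_le_of_card_ge le_sup_right (h2.trans (h.card_EE hB).ge)).symm)
  · refine le_centralizer_symm (le_trans ?_ ((h.centralizer_commutator_OP hB).le.trans inf_le_right))
    have hW : ⁅V, EE p H A⁆ ≤ V := commutator_le_self_of_le_normalizer hAV
    refine le_inf hW (commutator_eq_bot_iff_le_centralizer.1 (eq_bot_iff.2 (h1 ▸ le_inf ?_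
      (commutator_mono hW le_sup_left))))
    exact commutator_le_self_of_le_normalizer ((commutator_OP_le hB.1).trans
      (H13.le_normalizer_commutator ((OP_le H).trans h.norm) (OP_le_normalizer_EE H A)))

theorem FF.commutator_EE_EE (h : FF p V H) (hA : Off p V H A) (hB : Off p V H B)
    (hne : EE p H A ≠ EE p H B) : ⁅EE p H A, EE p H B⁆ = ⊥ := by
  have h1 := commutator_eq_bot_iff'.2 (h.EE_le_centralizer_of_ne hA hB hne)
  have h2 := commutator_eq_bot_iff'.2 (h.EE_le_centralizer_of_ne hB hA hne.symm)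
  rw [commutator_comm V] at h2
  have h3 := commutator_commutator_eq_bot_of_rotate h2 h1
  refine h.eq_bot_of_le_centralizer ?_ (commutator_eq_bot_iff_le_centralizer.1 h3)
  exact (commutator_mono (EE_le hA.1) (EE_le hB.1)).trans
    (commutator_le_self_of_le_normalizer le_normalizer)

/-- Hypothesis (S3): `H` is generated by its best offenders. -/
def Gen (p : ℕ) (V H : Subgroup G) : Prop :=
  H ≤ ⨆ A : {A : Subgroup G // A ≤ H ∧ IsBestOffenderOn p V A}, (A : Subgroup G)

theorem FF.le_of_gen (h : FF p V H) (hg : Gen p V H) {K : Subgroup G}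
    (hK : ∀ A, Off p V H A → A ≤ K) : H ≤ K :=
  hg.trans (iSup_le fun A => (h.eq_sSup A.2.1 A.2.2).ge.trans (sSup_le fun B hB => hK B hB.2))

theorem FF.exists_off (h : FF p V H) (hg : Gen p V H) (h1 : H ≠ ⊥) : ∃ A, Off p V H A := by
  by_contra hcon
  exact h1 (eq_bot_iff.2 (h.le_of_gen hg fun A hA => absurd ⟨A, hA⟩ hcon))

theorem FF.le_normalizer_EE (h : FF p V H) (hg : Gen p V H) (hA : Off p V H A) :
    H ≤ normalizer (EE p H A : Set G) := by
  refine h.le_of_gen hg fun B hB => le_sup_right.trans (?_ : EE p H B ≤ _)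
  by_cases he : EE p H A = EE p H B
  · rw [he]; exact le_normalizer
  · exact H13.le_normalizer_of_le_centralizer
      (commutator_eq_bot_iff'.1 (h.commutator_EE_EE hA hB he))

theorem FF.le_normalizer_commutator_EE (h : FF p V H) (hg : Gen p V H) (hA : Off p V H A) :
    H ≤ normalizer ((⁅V, EE p H A⁆ : Subgroup G) : Set G) :=
  H13.le_normalizer_commutator h.norm (h.le_normalizer_EE hg hA)

omit hp in
theorem FF.EE_inf_centralizer (h : FF p V H) (hA : A ≤ H) :
    EE p H A ⊓ (H ⊓ centralizer ((⁅V, EE p H A⁆ : Subgroup G) : Set G)) = ⊥ :=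
  eq_bot_iff.2 (h.EE_faithful hA ▸ inf_le_inf_left _ inf_le_right)

theorem FF.EE_sup_centralizer (h : FF p V H) (hg : Gen p V H) (hA : Off p V H A) :
    EE p H A ⊔ (H ⊓ centralizer ((⁅V, EE p H A⁆ : Subgroup G) : Set G)) = H := by
  refine le_antisymm (sup_le (EE_le hA.1) inf_le_left) (h.le_of_gen hg fun B hB => ?_)
  refine le_sup_right.trans (?_ : EE p H B ≤ _)
  by_cases he : EE p H A = EE p H B
  · rw [he]; exact le_sup_left
  · exact (le_inf (EE_le hB.1) (h.EE_le_centralizer_of_ne hA hB he)).trans le_sup_right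

theorem FF.commutator_EE_centralizer (h : FF p V H) (hg : Gen p V H) (hA : Off p V H A) :
    ⁅EE p H A, H ⊓ centralizer ((⁅V, EE p H A⁆ : Subgroup G) : Set G)⁆ = ⊥ := by
  rw [eq_bot_iff, ← h.EE_inf_centralizer hA.1]
  refine le_inf (commutator_le_self_of_le_normalizer
    (inf_le_left.trans (h.le_normalizer_EE hg hA))) ?_
  rw [commutator_comm]
  exact commutator_le_self_of_le_normalizer ((EE_le hA.1).trans (H13.le_normalizer_inf
    le_normalizer (H13.le_normalizer_centralizer (h.le_normalizer_commutator_EE hg hA))))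

theorem FF.commutator_centralizer_le (h : FF p V H) (hg : Gen p V H) (hA : Off p V H A) :
    ⁅V, H ⊓ centralizer ((⁅V, EE p H A⁆ : Subgroup G) : Set G)⁆ ≤
      V ⊓ centralizer (EE p H A : Set G) := by
  refine le_inf (commutator_le_self_of_le_normalizer (inf_le_left.trans h.norm))
    (commutator_eq_bot_iff_le_centralizer.1 (commutator_commutator_eq_bot_of_rotate ?_ ?_))
  · rw [commutator_comm _ (EE p H A), h.commutator_EE_centralizer hg hA, commutator_bot_left]
  · rw [commutator_comm _ V]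
    exact commutator_eq_bot_iff'.2 inf_le_right

theorem FF.structure (h : FF p V H) (hg : Gen p V H) {P : Subgroup G → Prop}
    (hP : ∀ E, P E ↔ ∃ A, Off p V H A ∧ E = EE p H A) :
    iSupIndep (fun E : {E // P E} => (E : Subgroup G)) ∧
      (⨆ E : {E // P E}, (E : Subgroup G)) = H ∧
      iSupIndep (fun o : Option {E // P E} => o.elim (V ⊓ centralizer (H : Set G))
        (fun E => ⁅V, (E : Subgroup G)⁆)) ∧
      (V ⊓ centralizer (H : Set G)) ⊔ (⨆ E : {E // P E}, ⁅V, (E : Subgroup G)⁆) = V := by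
  have hne : ∀ E E' : {E // P E}, E' ≠ E → (E' : Subgroup G) ≤
      H ⊓ centralizer ((⁅V, (E : Subgroup G)⁆ : Subgroup G) : Set G) := by
    rintro ⟨E, hE⟩ ⟨E', hE'⟩ hne
    obtain ⟨A, hA, rfl⟩ := (hP E).1 hE
    obtain ⟨B, hB, rfl⟩ := (hP E').1 hE'
    exact le_inf (EE_le hB.1)
      (h.EE_le_centralizer_of_ne hA hB fun he => hne (Subtype.ext he.symm))
  refine ⟨fun E => ?_, le_antisymm (iSup_le fun E => ?_) (h.le_of_gen hg fun A hA => ?_),
    fun o => ?_, ?_⟩
  · obtain ⟨A, hA, he⟩ := (hP E).1 E.2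
    refine Disjoint.mono_right (iSup₂_le (hne E)) (disjoint_iff.2 ?_)
    dsimp only
    rw [he]
    exact h.EE_inf_centralizer hA.1
  · obtain ⟨A, hA, he⟩ := (hP E).1 E.2
    rw [he]; exact EE_le hA.1
  · exact le_iSup_of_le ⟨_, (hP _).2 ⟨A, hA, rfl⟩⟩ le_sup_right
  · cases o with
    | none =>
      refine Disjoint.mono (inf_le_inf_left _ (H13.centralizer_anti (OP_le H))) (iSup₂_le ?_)
        (disjoint_iff.2 (h.centralizer_inf_commutator le_rfl))
      rintro (_ | E) hE
      · exact absurd rfl hE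
      · obtain ⟨A, hA, he⟩ := (hP E).1 E.2
        dsimp only [Option.elim]
        rw [he, ← h.commutator_commutator_OP hA]
        exact commutator_mono le_rfl (commutator_OP_le hA.1)
    | some E =>
      obtain ⟨A, hA, he⟩ := (hP E).1 E.2
      refine Disjoint.mono_right (c := V ⊓ centralizer ((E : Subgroup G) : Set G)) (iSup₂_le ?_)
        (disjoint_iff.2 ?_)
      · rintro (_ | E') hE'
        · exact inf_le_inf_left _ (H13.centralizer_anti (he ▸ EE_le hA.1))
        · obtain ⟨B, hB, he'⟩ := (hP E').1 E'.2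
          refine le_inf (commutator_le_self_of_le_normalizer ((he' ▸ EE_le hB.1 :
            (E' : Subgroup G) ≤ H).trans h.norm)) (le_centralizer_symm ?_)
          exact (hne E' E fun hh => hE' (by rw [hh])).trans inf_le_right
      · dsimp only [Option.elim]
        rw [he]
        exact h.commutator_EE_inf hA
  · refine le_antisymm (sup_le inf_le_left (iSup_le fun E => ?_)) ?_
    · obtain ⟨A, hA, he⟩ := (hP E).1 E.2
      exact commutator_le_self_of_le_normalizer ((he ▸ EE_le hA.1 :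
        (E : Subgroup G) ≤ H).trans h.norm)
    · set Q := ⨆ A : {A // Off p V H A}, ⁅OP p H, (A : Subgroup G)⁆
      have hQ : Q ≤ OP p H := iSup_le fun A => commutator_OP_le A.2.1
      refine (h.commutator_sup_centralizer hQ).ge.trans (sup_le (le_sup_of_le_right ?_)
        (le_sup_of_le_left (le_inf inf_le_left (le_centralizer_symm ?_))))
      · rw [commutator_iSup_eq fun A => (commutator_OP_le A.2.1).trans ((OP_le H).trans h.norm)]
        exact iSup_le fun A => le_iSup_of_le ⟨_, (hP _).2 ⟨A, A.2, rfl⟩⟩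
          (commutator_mono le_rfl le_sup_left)
      · refine h.le_of_gen hg fun A hA => le_centralizer_symm ?_
        refine (inf_le_inf_left _ (H13.centralizer_anti (le_iSup (fun A : {A // Off p V H A} =>
          ⁅OP p H, (A : Subgroup G)⁆) ⟨A, hA⟩))).trans ?_
        exact (h.centralizer_commutator_OP hA).le.trans
          (inf_le_right.trans (H13.centralizer_anti le_sup_right))

end H12
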