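import Mathlib
import Cfsg.Agent.H12.FF4
import Cfsg.Agent.H3.Frobenius

/-! Failure of factorization, part 5: passing to the holomorph; Kurzweil–Stellmacher 9.3.7–9.3.10. -/

open Subgroup Cfsg Pointwise MatrixGroups

namespace H12

variable {G : Type*} [Group G] {Γ : Type*} [Group Γ] {p : ℕ}

/-! ### general lemmas -/

theorem exists_mul_mem_centralizer_of_orbit [Finite Γ] {X T R : Subgroup Γ} {e : Γ}
    (hT : ∀ x ∈ X, x * e * x⁻¹ ∈ T) (hc : ∀ x ∈ X, Commute e (x * e * x⁻¹))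
    (hR : ∀ x ∈ X, x * e * x⁻¹ = e ∨ x * e * x⁻¹ ∈ R) :
    ∃ r ∈ R, e * r ∈ T ⊓ centralizer (X : Set Γ) := by
  classical
  let s : Finset Γ := (Set.toFinite {y | ∃ x ∈ X, x * e * x⁻¹ = y}).toFinset
  have hs : ∀ y, y ∈ s ↔ ∃ x ∈ X, x * e * x⁻¹ = y := fun y => by simp [s]
  have hcomm : {y | y ∈ s.val}.Pairwise Commute := by
    intro y hy z hz _
    obtain ⟨a, ha, rfl⟩ := (hs y).1 hy
    obtain ⟨b, hb, rfl⟩ := (hs z).1 hz
    have := (hc _ (mul_mem (inv_mem ha) hb)).map (MulAut.conj a)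
    simp only [MulAut.conj_apply] at this
    convert this using 1
    group
  have he : e ∈ s.val := (hs e).2 ⟨1, one_mem _, by simp⟩
  refine ⟨(s.val.erase e).noncommProd
    (fun _ hx _ hy hxy ↦ hcomm (s.val.mem_of_mem_erase hx) (s.val.mem_of_mem_erase hy) hxy),
    multiset_noncommProd_mem R _ _ fun y hy => ?_, ?_⟩
  rotate_left
  · rw [Multiset.mul_noncommProd_erase s.val he hcomm]
    refine ⟨multiset_noncommProd_mem T _ _ fun y hy => ?_, mem_centralizer_iff.2 fun x hx => ?_⟩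
    · obtain ⟨a, ha, rfl⟩ := (hs y).1 hy
      exact hT a ha
    · have h1 := Multiset.map_noncommProd s.val hcomm (MulAut.conj x)
      have h2 : s.val.map (MulAut.conj x) = s.val := by
        have : s.map (MulAut.conj x).toEquiv.toEmbedding = s := by
          ext y
          simp only [Finset.mem_map, hs]
          constructor
          · rintro ⟨_, ⟨a, ha, rfl⟩, rfl⟩
            exact ⟨x * a, mul_mem hx ha, by simp [mul_assoc]⟩
          · rintro ⟨a, ha, rfl⟩
            exact ⟨_, ⟨x⁻¹ * a, mul_mem (inv_mem hx) ha, rfl⟩, by simp [mul_assoc]⟩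
        exact congrArg Finset.val this
      have h3 : ∀ (t : Multiset Γ) (_ : t = s.val) (ht), t.noncommProd ht =
          s.val.noncommProd hcomm := by
        rintro t rfl ht; rfl
      rw [h3 _ h2, MulAut.conj_apply, mul_inv_eq_iff_eq_mul] at h1
      exact h1
  · rw [← Finset.erase_val, ← Finset.mem_def, Finset.mem_erase] at hy
    obtain ⟨a, ha, rfl⟩ := (hs y).1 hy.2
    exact (hR a ha).resolve_left hy.1

theorem exists_hom_of_complement {Y : Type*} [Group Y] {E F H : Subgroup Γ} (hE : E ≤ H)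
    (hN : H ≤ normalizer (F : Set Γ)) (hi : E ⊓ F = ⊥) (hs : H ≤ E ⊔ F) (e : E ≃* Y) :
    ∃ ψ : H →* Y, ψ.ker = F.subgroupOf H ∧ ∀ y, ∃ x : E, ψ (inclusion hE x) = y := by
  haveI : (F.subgroupOf H).Normal := normal_subgroupOf_of_le_normalizer hN
  let π : E →* H ⧸ F.subgroupOf H := (QuotientGroup.mk' _).comp (inclusion hE)
  have hπ : Function.Bijective π := by
    refine ⟨(injective_iff_map_eq_one π).2 fun x hx => Subtype.ext ?_, fun q => ?_⟩
    · have : inclusion hE x ∈ F.subgroupOf H := (QuotientGroup.eq_one_iff _).1 hx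
      exact mem_bot.1 (hi ▸ mem_inf.2 ⟨x.2, this⟩)
    · obtain ⟨h, rfl⟩ := QuotientGroup.mk_surjective q
      obtain ⟨a, ha, b, hb, he⟩ := (H13.mem_sup_of_le_normalizer (hE.trans hN)).1 (hs h.2)
      refine ⟨⟨a, ha⟩, QuotientGroup.eq.2 ?_⟩
      change a⁻¹ * (h : Γ) ∈ F
      rw [← he]; simpa using hb
  let ε := MulEquiv.ofBijective π hπ
  refine ⟨e.toMonoidHom.comp (ε.symm.toMonoidHom.comp (QuotientGroup.mk' _)), ?_, fun y =>
    ⟨e.symm y, ?_⟩⟩
  · ext x
    simp [MonoidHom.mem_ker]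
  · change e (ε.symm (ε (e.symm y))) = y
    simp

theorem mem_centralizer_of_card_sq [Finite Γ] {W : Subgroup Γ} (hp : p = 2 ∨ p = 3)
    (hc : Nat.card W = p ^ 2) {q : ℕ} (hq : q.Prime) (hq2 : q ≠ 2) (hq3 : q ≠ 3) {x : Γ}
    (hx : x ∈ normalizer (W : Set Γ)) (hxq : x ^ q = 1) : x ∈ centralizer (W : Set Γ) := by
  have h1 := H3.card_modEq_card_inf_centralizer (k := 1) hq hx (by rwa [pow_one])
  have hpp : p.Prime := by rcases hp with rfl | rfl <;> norm_num
  obtain ⟨i, hi, he⟩ := (Nat.dvd_prime_pow hpp).1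
    (hc ▸ card_dvd_of_le (inf_le_left : W ⊓ centralizer {x} ≤ W))
  have h23 : ∀ a b : ℕ, ¬ q ∣ 2 ^ a * 3 ^ b := fun a b h => by
    rcases (Nat.Prime.dvd_mul hq).1 h with h | h
    · exact hq2 ((Nat.prime_dvd_prime_iff_eq hq Nat.prime_two).1 (hq.dvd_of_dvd_pow h))
    · exact hq3 ((Nat.prime_dvd_prime_iff_eq hq Nat.prime_three).1 (hq.dvd_of_dvd_pow h))
  have hi2 : i = 2 := by
    rw [hc, he] at h1
    have h2 := (Nat.modEq_iff_dvd' (Nat.pow_le_pow_right hpp.pos hi)).1 h1.symm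
    by_contra hne
    have : i = 0 ∨ i = 1 := by omega
    rcases hp with rfl | rfl <;> rcases this with rfl | rfl
    · exact h23 0 1 h2
    · exact h23 1 0 h2
    · exact h23 3 0 h2
    · exact h23 1 1 h2
  have := eq_of_le_of_card_ge (inf_le_left : W ⊓ centralizer {x} ≤ W) (by rw [hc, he, hi2])
  exact mem_centralizer_iff.2 fun w hw =>
    mem_centralizer_singleton_iff.1 ((inf_eq_left.1 this) hw)

/-! ### the holomorph -/

/-- `Γ` contains a copy of `V` on which `G / C_G(V)` acts. -/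
structure Hol (V : Subgroup G) (ι : V →* Γ) (ρ : G →* Γ) : Prop where
  inj : Function.Injective ι
  ker : ρ.ker = centralizer (V : Set G)
  conj : ∀ (g : G) (v w : V), (w : G) = g * v * g⁻¹ → ι w = ρ g * ι v * (ρ g)⁻¹

instance instFiniteHolomorph (V : Type*) [Group V] [Finite V] :
    Finite (V ⋊[MonoidHom.id (MulAut V)] MulAut V) :=
  Finite.of_equiv _ SemidirectProduct.equivProd.symm

theorem hol_semidirect (V : Subgroup G) [V.Normal] :
    Hol V (SemidirectProduct.inl : V →* V ⋊[MonoidHom.id (MulAut V)] MulAut V)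
      (SemidirectProduct.inr.comp MulAut.conjNormal) := by
  refine ⟨SemidirectProduct.inl_injective, ?_, fun g v w h => ?_⟩
  · rw [MonoidHom.ker_comp_of_injective _ _ SemidirectProduct.inr_injective, ker_conjNormal]
  · rw [← map_inv, MonoidHom.comp_apply, MonoidHom.comp_apply, map_inv,
      ← SemidirectProduct.inl_aut]
    congr 1
    exact Subtype.ext h

variable {V : Subgroup G} {ι : V →* Γ} {ρ : G →* Γ}

theorem Hol.map_mem_centralizer_iff [V.Normal] (h : Hol V ι ρ) {A : Subgroup G} (v : V) :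
    ι v ∈ centralizer (A.map ρ : Set Γ) ↔ (v : G) ∈ centralizer (A : Set G) := by
  rw [mem_centralizer_iff, mem_centralizer_iff]
  constructor
  · intro hv a ha
    have h1 := hv _ (mem_map_of_mem ρ ha)
    have h2 := h.conj a v ⟨_, Normal.conj_mem inferInstance _ v.2 a⟩ rfl
    rw [h1, mul_inv_cancel_right] at h2
    have h3 := congrArg Subtype.val (h.inj h2)
    exact mul_inv_eq_iff_eq_mul.1 h3
  · rintro hv _ ⟨a, ha, rfl⟩
    exact mul_inv_eq_iff_eq_mul.1 (h.conj a v v (by rw [hv a ha, mul_inv_cancel_right])).symm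

theorem Hol.range_inf_centralizer [V.Normal] (h : Hol V ι ρ) (A : Subgroup G) :
    ι.range ⊓ centralizer (A.map ρ : Set Γ) = ((centralizer (A : Set G)).subgroupOf V).map ι := by
  ext y
  constructor
  · rintro ⟨⟨v, rfl⟩, hv⟩
    exact mem_map_of_mem ι ((h.map_mem_centralizer_iff v).1 hv)
  · rintro ⟨v, hv, rfl⟩
    exact ⟨⟨v, rfl⟩, (h.map_mem_centralizer_iff v).2 hv⟩

theorem Hol.card_range_inf_centralizer [V.Normal] (h : Hol V ι ρ) (A : Subgroup G) :
    Nat.card ↥(ι.range ⊓ centralizer (A.map ρ : Set Γ)) =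
      Nat.card ↥(V ⊓ centralizer (A : Set G)) := by
  rw [h.range_inf_centralizer, card_map_of_injective h.inj, H2.card_subgroupOf, inf_comm]

theorem Hol.card_range (h : Hol V ι ρ) : Nat.card ι.range = Nat.card V :=
  Nat.card_congr (MonoidHom.ofInjective h.inj).symm.toEquiv

theorem Hol.ea (hV : IsElementaryAbelian p V) : IsElementaryAbelian p ι.range := by
  rw [MonoidHom.range_eq_map, ← subgroupOf_self]
  exact ea_map (ea_subgroupOf hV V) ι

theorem Hol.mem_normalizer [V.Normal] (h : Hol V ι ρ) (g : G) :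
    ρ g ∈ normalizer (ι.range : Set Γ) := by
  have key : ∀ g : G, ∀ y ∈ ι.range, ρ g * y * (ρ g)⁻¹ ∈ ι.range := by
    rintro g _ ⟨v, rfl⟩
    exact ⟨_, h.conj g v ⟨_, Normal.conj_mem inferInstance _ v.2 g⟩ rfl⟩
  refine mem_normalizer_iff.2 fun y => ⟨key g y, fun hy => ?_⟩
  simpa [mul_assoc] using key g⁻¹ _ hy

theorem Hol.map_le_normalizer [V.Normal] (h : Hol V ι ρ) (A : Subgroup G) :
    A.map ρ ≤ normalizer (ι.range : Set Γ) := by
  rintro _ ⟨a, -, rfl⟩
  exact h.mem_normalizer a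

theorem Hol.map_mem_centralizer_range_iff [V.Normal] (h : Hol V ι ρ) (g : G) :
    ρ g ∈ centralizer (ι.range : Set Γ) ↔ g ∈ centralizer (V : Set G) := by
  constructor
  · intro hg
    refine le_centralizer_symm (fun v hv => ?_) (mem_zpowers g)
    refine (h.map_mem_centralizer_iff (A := zpowers g) ⟨v, hv⟩).1 ?_
    rw [MonoidHom.map_zpowers]
    exact le_centralizer_symm (zpowers_le.2 hg) ⟨_, rfl⟩
  · intro hg
    rw [← h.ker, MonoidHom.mem_ker] at hg
    rw [hg]; exact one_mem _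

theorem Hol.map_inf_centralizer [V.Normal] (h : Hol V ι ρ) (A : Subgroup G) :
    A.map ρ ⊓ centralizer (ι.range : Set Γ) = ⊥ := by
  rw [eq_bot_iff]
  rintro _ ⟨⟨a, -, rfl⟩, ha⟩
  have := (h.map_mem_centralizer_range_iff a).1 ha
  rw [← h.ker] at this
  exact this

theorem card_map_mul_card_inf_ker (f : G →* Γ) (A : Subgroup G) :
    Nat.card (A.map f) * Nat.card ↥(A ⊓ f.ker) = Nat.card A := by
  rw [← relIndex_ker, mul_comm, inf_comm, H2.card_inf_mul_relIndex]

theorem Hol.meas_map [V.Normal] (h : Hol V ι ρ) (A : Subgroup G) :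
    meas ι.range (A.map ρ) * Nat.card ↥(A ⊓ centralizer (V : Set G)) = meas V A := by
  rw [meas, meas, h.card_range_inf_centralizer, ← h.ker, ← card_map_mul_card_inf_ker ρ A]
  ring

theorem Hol.bestOffender [Finite G] [V.Normal] (h : Hol V ι ρ) {A : Subgroup G}
    (hA : IsBestOffenderOn p V A) : IsBestOffenderOn p ι.range (A.map ρ) := by
  refine ⟨fun B hB => ?_, ?_, ?_⟩
  · have e := map_inf_comap_eq hB
    have h1 := h.meas_map (A ⊓ B.comap ρ)
    have h2 := h.meas_map A
    have e' : A ⊓ B.comap ρ ⊓ centralizer (V : Set G) = A ⊓ centralizer (V : Set G) := by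
      rw [inf_assoc, inf_eq_right.2 (h.ker.ge.trans (ker_le_comap ρ B))]
    rw [e, e'] at h1
    exact Nat.le_of_mul_le_mul_right (h1.le.trans ((hA.1 _ inf_le_left).trans h2.ge)) Nat.card_pos
  · rw [← map_commutator, (Subgroup.map_eq_bot_iff _).2 (h.ker ▸ hA.2.1)]
    exact bot_le
  · rintro _ ⟨a, ha, rfl⟩
    rw [← map_pow]
    exact (h.map_mem_centralizer_range_iff _).2 (hA.2.2 a ha)

theorem Hol.pCore_map_eq_bot [Finite G] (h : Hol V ι ρ) [V.Normal]
    (hO : pCore p (G ⧸ centralizer (V : Set G)) = ⊥) (J : Subgroup G) [J.Normal] :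
    pCore p (J.map ρ) = ⊥ := by
  rw [← map_eq_bot_iff_of_injective _ (J.map ρ).subtype_injective]
  set P := (pCore p (J.map ρ)).map (J.map ρ).subtype
  have hN : normalizer (J.map ρ : Set Γ) ≤ normalizer (P : Set Γ) :=
    H3.normalizer_le_normalizer_map_of_characteristic _
  have hD : (P.comap ρ).Normal := by
    constructor
    intro d hd g
    rw [mem_comap, map_mul, map_mul, map_inv]
    exact H13.conj_mem_of_mem_normalizer (hN (le_normalizer_map ρ
      (mem_map_of_mem ρ (by rw [normalizer_eq_top]; trivial)))) hd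
  have hle := le_of_pCore_quotient_eq_bot hO hD fun d hd => by
    obtain ⟨k, hk⟩ := H13.isPGroup_iff_forall_mem.1 ((H2.pCore_isPGroup p _).map _) _ hd
    exact ⟨k, by rw [← h.ker, MonoidHom.mem_ker, map_pow, hk]⟩
  rw [eq_bot_iff]
  intro y hy
  obtain ⟨j, -, rfl⟩ := map_subtype_le _ hy
  exact (h.ker ▸ hle hy : j ∈ ρ.ker)

theorem Hol.ff [Finite G] [Finite Γ] [Fact p.Prime] (h : Hol V ι ρ) [V.Normal]
    (hV : IsElementaryAbelian p V) (hs : PSep p G)
    (hO : pCore p (G ⧸ centralizer (V : Set G)) = ⊥) :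
    FF p ι.range ((thompsonSubgroup p G).map ρ) ∧ Gen p ι.range ((thompsonSubgroup p G).map ρ) := by
  refine ⟨FF.mk' (Hol.ea hV) (h.map_le_normalizer _) (h.map_inf_centralizer _)
    ((hs.map ρ _).centralizer_pPrimeCore_le (h.pCore_map_eq_bot hO _)), ?_⟩
  rw [Gen, map_le_iff_le_comap, ← J_top, J_le_iff]
  intro A hA
  rw [← map_le_iff_le_comap]
  exact le_iSup_of_le ⟨_, map_mono hA.le_J, h.bestOffender (hA.bestOffender le_top hV)⟩ le_rfl

/-- KS 9.3.10 -/
theorem commutator_omega_center_J_le [Finite G] [Fact p.Prime] (hs : PSep p G) (V : Subgroup G)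
    [V.Normal] (hV : IsElementaryAbelian p V) (hO : pCore p (G ⧸ centralizer (V : Set G)) = ⊥) :
    ⁅omegaOne p (centerThompsonOf p (centralizer (V : Set G))), thompsonSubgroup p G⁆ ≤ V := by
  have h := hol_semidirect V
  obtain ⟨hff, -⟩ := h.ff hV hs hO
  rw [thompsonSubgroup_eq_sSup, sSup_eq_iSup']
  refine commutator_iSup_le (fun A => by rw [normalizer_eq_top]; exact le_top) ?_
  rintro ⟨A, hA : MaxEA p ⊤ A⟩
  have h1 := hff.meas_eq (map_mono (J_top (p := p) (G := G) ▸ hA.le_J))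
    (h.bestOffender (hA.bestOffender le_top hV))
  have h2 := h.meas_map A
  rw [h1, h.card_range, meas, hA.inf_centralizer le_top hV] at h2
  set B := A ⊓ centralizer (V : Set G)
  have hVB : V ≤ centralizer (B : Set G) := le_centralizer_symm inf_le_right
  have h3 := H2.card_sup_mul_card_inf (H13.le_normalizer_of_le_centralizer hVB)
  have e : V ⊓ B = V ⊓ A := le_antisymm (inf_le_inf_left _ inf_le_left)
    (le_inf inf_le_left (le_inf inf_le_right (inf_le_left.trans (ea_le_centralizer hV))))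
  rw [e, h2] at h3
  have h4 : MaxEA p ⊤ (V ⊔ B) := hA.of_card_le le_top
    (ea_sup hV (ea_of_le hA.ea inf_le_left) hVB) (Nat.eq_of_mul_eq_mul_right Nat.card_pos h3).ge
  have h5 := (h4.of_le (sup_le (ea_le_centralizer hV) inf_le_right) le_top).omega_center_J_le
  refine (commutator_mono h5 le_rfl).trans ?_
  rw [commutator_comm]
  refine commutator_sup_le (by rw [normalizer_eq_top]; exact le_top)
    (by rw [normalizer_eq_top]; exact le_top) (commutator_le_right _ _) ?_
  rw [commutator_eq_bot_iff'.2 (inf_le_left.trans (ea_le_centralizer hA.ea))]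
  exact bot_le

theorem nonempty_quotient_equiv {Y : Type*} [Group Y] {D C : Subgroup G} (ψ : D →* Y)
    (hψ : Function.Surjective ψ) (hk : ψ.ker = C.subgroupOf D) :
    ∃ _ : (C.subgroupOf D).Normal, Nonempty ((D ⧸ C.subgroupOf D) ≃* Y) := by
  have : (C.subgroupOf D).Normal := hk ▸ inferInstance
  exact ⟨this, ⟨(QuotientGroup.quotientMulEquivOfEq hk.symm).trans
    (QuotientGroup.quotientKerEquivOfSurjective ψ hψ)⟩⟩

theorem Hol.exists_off [Finite G] [Finite Γ] [Fact p.Prime] (h : Hol V ι ρ) [V.Normal]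
    (hV : IsElementaryAbelian p V) (hs : PSep p G)
    (hO : pCore p (G ⧸ centralizer (V : Set G)) = ⊥)
    (hJ : ¬ thompsonSubgroup p G ≤ centralizer (V : Set G)) :
    ∃ A, Off p ι.range ((thompsonSubgroup p G).map ρ) A := by
  obtain ⟨hff, hg⟩ := h.ff hV hs hO
  exact hff.exists_off hg fun hb => hJ (h.ker ▸ (Subgroup.map_eq_bot_iff _).1 hb)

/-- KS 9.3.7 -/
theorem exists_sl_two_of_not_le_centralizer [Finite G] [Fact p.Prime] (hs : PSep p G)
    (V : Subgroup G) [V.Normal] (hV : IsElementaryAbelian p V)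
    (hO : pCore p (G ⧸ centralizer (V : Set G)) = ⊥)
    (hJ : ¬ thompsonSubgroup p G ≤ centralizer (V : Set G)) :
    (p = 2 ∨ p = 3) ∧ ∃ E : Subgroup G, centralizer (V : Set G) ≤ E ∧
      E ≤ thompsonSubgroup p G ⊔ centralizer (V : Set G) ∧
      thompsonSubgroup p G ⊔ centralizer (V : Set G) ≤ normalizer (E : Set G) ∧
      ∃ _ : ((centralizer (V : Set G)).subgroupOf E).Normal,
        Nonempty ((E ⧸ (centralizer (V : Set G)).subgroupOf E) ≃* SL(2, ZMod p)) := by
  have h := hol_semidirect V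
  obtain ⟨hff, hg⟩ := h.ff hV hs hO
  obtain ⟨A, hA⟩ := h.exists_off hV hs hO hJ
  obtain ⟨e⟩ := hff.nonempty_EE_equiv hA
  generalize (SemidirectProduct.inr.comp MulAut.conjNormal :
    G →* V ⋊[MonoidHom.id (MulAut V)] MulAut V) = ρ at h hff hg hA e
  refine ⟨hff.two_or_three hA, (EE p _ A).comap ρ, h.ker ▸ ker_le_comap _ _, ?_, ?_,
    nonempty_quotient_equiv (e.toMonoidHom.comp (ρ.subgroupComap _)) ?_ ?_⟩
  · rw [← h.ker, ← comap_map_eq]
    exact comap_mono (EE_le hA.1)
  · rw [← h.ker, ← comap_map_eq]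
    exact (comap_mono (hff.le_normalizer_EE hg hA)).trans (le_normalizer_comap ρ)
  · refine e.surjective.comp fun y => ?_
    obtain ⟨j, -, hj⟩ := EE_le hA.1 y.2
    exact ⟨⟨j, show ρ j ∈ _ from hj ▸ y.2⟩, Subtype.ext hj⟩
  · ext x
    rw [MonoidHom.mem_ker, mem_subgroupOf, ← h.ker, MonoidHom.mem_ker, MonoidHom.comp_apply]
    change e _ = 1 ↔ _
    rw [map_eq_one_iff _ e.injective, Subtype.ext_iff]
    rfl

end H12
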