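import Mathlib
import Cfsg.Agent.H12.FF5

/-! Failure of factorization, part 6: coprime operator groups (KS 9.3.8, 9.3.9). -/

open Subgroup Cfsg Pointwise MatrixGroups

namespace H12

section ambient

variable {Γ : Type*} [Group Γ] [Finite Γ] {p : ℕ} [hp : Fact p.Prime] {V H A X : Subgroup Γ}
  {q : ℕ}

theorem FF.centralizes_or_ne (h : FF p V H) (hA : Off p V H A) (hq : q.Prime)
    (hqH : ¬ q ∣ Nat.card H) {x : Γ} (hxV : x ∈ normalizer (V : Set Γ))
    (hxH : x ∈ normalizer (H : Set Γ)) (hxq : x ^ q = 1) :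
    (x ∈ centralizer (EE p H A : Set Γ) ∧
      x ∈ centralizer ((⁅V, EE p H A⁆ : Subgroup Γ) : Set Γ)) ∨
      EE p H A ≠ EE p H (MulAut.conj x • A) := by
  refine or_iff_not_imp_right.2 fun hne => ?_
  rw [not_not, ← conj_EE hxH] at hne
  have hxE := H3.conj_smul_eq_iff.1 hne.symm
  have hxW : x ∈ normalizer ((⁅V, EE p H A⁆ : Subgroup Γ) : Set Γ) :=
    H13.le_normalizer_commutator (zpowers_le.2 hxV) (zpowers_le.2 hxE) (mem_zpowers x)
  have hd : 6 ∣ Nat.card H := by
    refine Dvd.dvd.trans ?_ (card_dvd_of_le (EE_le (p := p) hA.1))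
    rw [h.card_EE hA, card_sl_two_zmod]
    rcases h.two_or_three hA with rfl | rfl <;> norm_num
  have h1 := mem_centralizer_of_card_sq (h.two_or_three hA) (h.card_commutator_EE hA) hq
    (fun h2 => hqH (h2 ▸ Dvd.dvd.trans (by norm_num) hd))
    (fun h2 => hqH (h2 ▸ Dvd.dvd.trans (by norm_num) hd)) hxW hxq
  refine ⟨commutator_eq_bot_iff'.1 (eq_bot_iff.2 (h.EE_faithful hA.1 ▸ le_inf
    (commutator_le_self_of_le_normalizer (zpowers_le.2 hxE)) ?_)) (mem_zpowers x), h1⟩
  rw [commutator_comm]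
  exact (commutator_mono (zpowers_le.2 h1) le_rfl).trans (commutator_le_self_of_le_normalizer
    (H13.le_normalizer_centralizer (normalizer_commutator_ge_right _ _)))

theorem FF.exists_diag (h : FF p V H) (hA : Off p V H A) (hq : q.Prime)
    (hqH : ¬ q ∣ Nat.card H) (hXV : X ≤ normalizer (V : Set Γ))
    (hXH : X ≤ normalizer (H : Set Γ)) (hXq : ∀ x ∈ X, x ^ q = 1) {e : Γ} (he : e ∈ EE p H A) :
    ∃ r ∈ H ⊓ centralizer ((⁅V, EE p H A⁆ : Subgroup Γ) : Set Γ),
      e * r ∈ H ⊓ centralizer (X : Set Γ) := by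
  have hmem : ∀ x ∈ X, x * e * x⁻¹ ∈ EE p H (MulAut.conj x • A) := fun x hx => by
    rw [← conj_EE (hXH hx)]; exact H3.conj_mem_conj_smul.2 he
  have hfix : ∀ x ∈ centralizer (EE p H A : Set Γ), x * e * x⁻¹ = e := fun x hx => by
    rw [← mem_centralizer_iff.1 hx e he, mul_inv_cancel_right]
  refine exists_mul_mem_centralizer_of_orbit
    (fun x hx => H13.conj_mem_of_mem_normalizer (hXH hx) (EE_le hA.1 he)) (fun x hx => ?_)
    fun x hx => ?_
  · rcases h.centralizes_or_ne hA hq hqH (hXV hx) (hXH hx) (hXq x hx) with h1 | h1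
    · rw [hfix x h1.1]
    · exact mem_centralizer_iff.1 (commutator_eq_bot_iff'.1 (h.commutator_EE_EE hA
        (hA.conj (hXV hx) (hXH hx)) h1) (hmem x hx)) e he
  · refine (h.centralizes_or_ne hA hq hqH (hXV hx) (hXH hx) (hXq x hx)).imp
      (fun h1 => hfix x h1.1) fun h1 => ?_
    have hB := hA.conj (hXV hx) (hXH hx)
    exact ⟨EE_le hB.1 (hmem x hx), h.EE_le_centralizer_of_ne hA hB h1 (hmem x hx)⟩

theorem FF.le_of_sylow_of_centralizer (h : FF p V H) (hg : Gen p V H) (hq : q.Prime)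
    (hqH : ¬ q ∣ Nat.card H) (hXV : X ≤ normalizer (V : Set Γ))
    (hXH : X ≤ normalizer (H : Set Γ)) (hXq : ∀ x ∈ X, x ^ q = 1) {P L : Subgroup Γ}
    (hP : IsPGroup p P) (hi : ¬ p ∣ P.relIndex H) (hPL : P ≤ L)
    (hCL : H ⊓ centralizer (X : Set Γ) ≤ L) : H ≤ L := by
  refine h.le_of_gen hg fun A hA a ha => ?_
  have hi' : ¬ p ∣ P.relIndex (EE p H A) := fun hd => hi (hd.trans
    ((H11.SN.of_le_normalizer (EE_le hA.1) (h.le_normalizer_EE hg hA)).relIndex_dvd P))
  obtain ⟨l, hl, hc⟩ := H13.exists_conj_mem_of_not_dvd_relIndex hP hi' hA.isPGroup le_sup_right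
  obtain ⟨r, hr, hd⟩ := h.exists_diag hA hq hqH hXV hXH hXq (inv_mem hl)
  have h1 := mem_centralizer_iff.1 (commutator_eq_bot_iff'.1 (h.commutator_EE_centralizer hg hA) hr)
    _ (mul_mem (mul_mem hl (mem_sup_right ha)) (inv_mem hl))
  have := mul_mem (mul_mem (hCL hd) (hPL (hc a ha))) (inv_mem (hCL hd))
  convert this using 1
  calc a = l⁻¹ * ((l * a * l⁻¹) * r) * r⁻¹ * l := by group
    _ = _ := by rw [h1]; group

theorem FF.exists_fixed_module (h : FF p V H) (hg : Gen p V H) (hA : Off p V H A) (hq : q.Prime)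
    (hqH : ¬ q ∣ Nat.card H) (hXV : X ≤ normalizer (V : Set Γ))
    (hXH : X ≤ normalizer (H : Set Γ)) (hXq : ∀ x ∈ X, x ^ q = 1) :
    ∃ W ≤ V ⊓ centralizer (X : Set Γ), Nat.card W = p ^ 2 ∧
      H ⊓ centralizer (X : Set Γ) ≤ normalizer (W : Set Γ) ∧
      ∃ ψ : ↥(H ⊓ centralizer (X : Set Γ)) →* SL(2, ZMod p), Function.Surjective ψ ∧
        ψ.ker = (centralizer (W : Set Γ)).subgroupOf _ := by
  set W₁ := ⁅V, EE p H A⁆ with hW₁
  have hconj : ∀ x ∈ X, MulAut.conj x • W₁ = ⁅V, EE p H (MulAut.conj x • A)⁆ := fun x hx => by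
    rw [H3.conj_smul_commutator, H3.conj_smul_eq_iff.2 (hXV hx), conj_EE (hXH hx)]
  set U := ⨆ x : X, MulAut.conj (x : Γ) • W₁ with hU
  set R := V ⊓ centralizer (EE p H A : Set Γ) with hR
  have hWV : ∀ B, Off p V H B → ⁅V, EE p H B⁆ ≤ V := fun B hB =>
    commutator_le_self_of_le_normalizer ((EE_le hB.1).trans h.norm)
  have hUV : U ≤ V := iSup_le fun x => by
    rw [hconj x x.2]; exact hWV _ (hA.conj (hXV x.2) (hXH x.2))
  have hHU : H ≤ normalizer (U : Set Γ) := fun g hg' => by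
    rw [← H3.conj_smul_eq_iff, hU, ← H3.map_conj_eq, Subgroup.map_iSup]
    refine iSup_congr fun x => ?_
    rw [H3.map_conj_eq, H3.conj_smul_eq_iff, hconj x x.2]
    exact h.le_normalizer_commutator_EE hg (hA.conj (hXV x.2) (hXH x.2)) hg'
  have hdiag : ∀ v ∈ W₁, ∃ r ∈ R, v * r ∈ U ⊓ centralizer (X : Set Γ) := fun v hv => by
    refine exists_mul_mem_centralizer_of_orbit (fun x hx => le_iSup
      (fun x : X => MulAut.conj (x : Γ) • W₁) ⟨x, hx⟩ (H3.conj_mem_conj_smul.2 hv))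
      (fun x hx => ea_comm h.ea (hWV A hA hv)
        (H13.conj_mem_of_mem_normalizer (hXV hx) (hWV A hA hv))) fun x hx => ?_
    refine (h.centralizes_or_ne hA hq hqH (hXV hx) (hXH hx) (hXq x hx)).imp (fun h1 => ?_)
      fun h1 => ?_
    · rw [← mem_centralizer_iff.1 h1.2 v hv, mul_inv_cancel_right]
    · have hB := hA.conj (hXV hx) (hXH hx)
      have : x * v * x⁻¹ ∈ ⁅V, EE p H (MulAut.conj x • A)⁆ :=
        hconj x hx ▸ H3.conj_mem_conj_smul.2 hv
      exact ⟨hWV _ hB this, le_centralizer_symm (h.EE_le_centralizer_of_ne hB hA h1.symm) this⟩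
  set W := U ⊓ centralizer (X : Set Γ) with hW
  have hWR : W ⊓ R = ⊥ := by
    set Q := ⨆ x : X, ⁅OP p H, MulAut.conj (x : Γ) • A⁆
    have hle : ∀ x : X, ⁅OP p H, MulAut.conj (x : Γ) • A⁆ ≤ OP p H := fun x =>
      commutator_OP_le (hA.conj (hXV x.2) (hXH x.2)).1
    rw [eq_bot_iff, ← h.centralizer_inf_commutator (iSup_le hle : Q ≤ OP p H)]
    refine le_inf (le_inf (inf_le_right.trans inf_le_left) (le_centralizer_symm (iSup_le fun x =>
      le_centralizer_symm fun w hw => ?_))) (inf_le_left.trans (inf_le_left.trans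
      (iSup_le fun x => ?_)))
    · refine H13.centralizer_anti (le_sup_left : _ ≤ EE p H (MulAut.conj (x : Γ) • A)) ?_
      change w ∈ centralizer (EE p H (MulAut.conj (x : Γ) • A) : Set Γ)
      rw [← conj_EE (hXH x.2), ← H3.conj_smul_centralizer, H3.mem_conj_smul,
        mul_assoc, ← mem_centralizer_iff.1 hw.1.2 x x.2, inv_mul_cancel_left]
      exact hw.2.2
    · rw [hconj x x.2, ← h.commutator_commutator_OP (hA.conj (hXV x.2) (hXH x.2))]
      exact commutator_mono le_rfl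
        (le_iSup (fun x : X => ⁅OP p H, MulAut.conj (x : Γ) • A⁆) x)
  have hWle : W ≤ V := inf_le_left.trans hUV
  have hsup : W ⊔ R = V := by
    refine le_antisymm (sup_le hWle inf_le_left)
      ((h.commutator_EE_sup hA).ge.trans (sup_le (fun v hv => ?_) le_sup_right))
    obtain ⟨r, hr, hvr⟩ := hdiag v hv
    simpa using mul_mem (mem_sup_left hvr : v * r ∈ W ⊔ R) (mem_sup_right (inv_mem hr))
  have c1 := H2.card_sup_of_disjoint (le_normalizer_of_le_of_comm h.ea.1 hWle inf_le_left) hWR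
  have c2 := H2.card_sup_of_disjoint (le_normalizer_of_le_of_comm h.ea.1 (hWV A hA) inf_le_left)
    (h.commutator_EE_inf hA)
  rw [hsup] at c1
  rw [h.commutator_EE_sup hA, h.card_commutator_EE hA] at c2
  obtain ⟨e⟩ := h.nonempty_EE_equiv hA
  obtain ⟨ψ, hψ, hψ'⟩ := exists_hom_of_complement (EE_le hA.1) (H13.le_normalizer_inf le_normalizer
    (H13.le_normalizer_centralizer (h.le_normalizer_commutator_EE hg hA)))
    (h.EE_inf_centralizer hA.1) (h.EE_sup_centralizer hg hA).ge e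
  refine ⟨W, inf_le_inf_right _ hUV, Nat.eq_of_mul_eq_mul_right Nat.card_pos (c1.symm.trans c2),
    H13.le_normalizer_inf (inf_le_left.trans hHU) (H13.le_normalizer_centralizer
      (H13.le_normalizer_of_le_centralizer inf_le_right)),
    ψ.comp (inclusion inf_le_left), fun y => ?_, ?_⟩
  · obtain ⟨x, rfl⟩ := hψ' y
    obtain ⟨r, hr, hd⟩ := h.exists_diag hA hq hqH hXV hXH hXq x.2
    refine ⟨⟨_, hd⟩, ?_⟩
    have h1 : ψ ⟨r, hr.1⟩ = 1 := by
      rw [← MonoidHom.mem_ker, hψ]; exact hr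
    rw [← mul_one (ψ (inclusion _ x)), ← h1, ← map_mul]
    rfl
  · ext d
    rw [MonoidHom.mem_ker, MonoidHom.comp_apply, ← MonoidHom.mem_ker, hψ, mem_subgroupOf,
      mem_subgroupOf]
    change (d : Γ) ∈ _ ↔ _
    constructor
    · intro hd
      refine H13.centralizer_anti (inf_le_left : W ≤ U) (le_centralizer_symm (iSup_le fun x =>
        le_centralizer_symm (zpowers_le.2 ?_)) (mem_zpowers _))
      rw [← H3.conj_smul_centralizer, H3.mem_conj_smul, mul_assoc,
        ← mem_centralizer_iff.1 d.2.2 x x.2, inv_mul_cancel_left]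
      exact hd.2
    · intro hd
      refine ⟨d.2.1, mem_centralizer_iff.2 fun v hv => ?_⟩
      obtain ⟨r, hr, hvr⟩ := hdiag v hv
      have h1 := mem_centralizer_iff.1 hd _ hvr
      have hdW := h.le_normalizer_commutator_EE hg hA d.2.1
      have hdR : (d : Γ) ∈ normalizer (R : Set Γ) := H13.le_normalizer_inf h.norm
        (H13.le_normalizer_centralizer (h.le_normalizer_EE hg hA)) d.2.1
      have h2 : v⁻¹ * (d * v * (d : Γ)⁻¹) ∈ W₁ ⊓ R := by
        refine mem_inf.2 ⟨mul_mem (inv_mem hv) (H13.conj_mem_of_mem_normalizer hdW hv), ?_⟩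
        have := mul_mem hr (inv_mem (H13.conj_mem_of_mem_normalizer hdR hr))
        convert this using 1
        calc v⁻¹ * (d * v * (d : Γ)⁻¹) = v⁻¹ * (d * (v * r)) * r⁻¹ * (d : Γ)⁻¹ := by group
          _ = _ := by rw [← h1]; group
      rw [h.commutator_EE_inf hA, mem_bot, inv_mul_eq_one, eq_mul_inv_iff_mul_eq] at h2
      exact h2

end ambient

section operator

universe u

variable {G : Type u} [Group G] [Finite G] {p q : ℕ} [hp : Fact p.Prime]

/-- Set-up for a coprime operator group `X` on `K`. -/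
theorem exists_hol_operator {K X : Subgroup G} (hXK : X ≤ normalizer (K : Set G))
    (hX : IsElementaryAbelian q X) (hq : q.Prime) (hqK : ¬ q ∣ Nat.card K) (V : Subgroup K)
    [V.Characteristic] (J : Subgroup K) [J.Characteristic] :
    ∃ (Γ : Type u) (_ : Group Γ) (_ : Finite Γ) (ι : V →* Γ) (ρ : K →* Γ) (Y : Subgroup Γ),
      Hol V ι ρ ∧ Y ≤ normalizer (ι.range : Set Γ) ∧ Y ≤ normalizer (J.map ρ : Set Γ) ∧
      (∀ y ∈ Y, y ^ q = 1) ∧
      (∀ v : V, ι v ∈ centralizer (Y : Set Γ) → ((v : K) : G) ∈ centralizer (X : Set G)) ∧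
      ∀ k : K, ρ k ∈ centralizer (Y : Set Γ) →
        ∃ n ∈ centralizer (V : Set K), ((n * k : K) : G) ∈ centralizer (X : Set G) := by
  have h := hol_semidirect V
  let α := conjAct' hXK
  let β : X →* V ⋊[MonoidHom.id (MulAut V)] MulAut V :=
    SemidirectProduct.inr.comp ((MulAut.characteristic V).comp α)
  have h1 : ∀ (x : X) (v : V), β x * SemidirectProduct.inl v * (β x)⁻¹ =
      SemidirectProduct.inl (MulAut.characteristic V (α x) v) := fun x v => by
    rw [← map_inv]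
    exact (SemidirectProduct.inl_aut (φ := MonoidHom.id (MulAut V)) _ v).symm.trans rfl |>.symm ▸
      (by simp [β])
  have h2 : ∀ (x : X) (k : K), β x * (SemidirectProduct.inr.comp MulAut.conjNormal) k * (β x)⁻¹ =
      (SemidirectProduct.inr.comp MulAut.conjNormal) (α x k) := fun x k => by
    simp only [β, MonoidHom.comp_apply, ← map_inv, ← map_mul]
    congr 1
    ext v
    simp [α, coe_conjAct', mul_assoc]
  refine ⟨_, _, inferInstance, _, _, β.range, h, ?_, ?_, ?_, ?_, ?_⟩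
  · rintro _ ⟨x, rfl⟩
    refine H13.mem_normalizer_of_finite ?_
    rintro _ ⟨v, rfl⟩
    exact ⟨_, (h1 x v).symm⟩
  · rintro _ ⟨x, rfl⟩
    refine H13.mem_normalizer_of_finite ?_
    rintro _ ⟨j, hj, rfl⟩
    exact ⟨_, characteristic_iff_le_comap.1 inferInstance (α x) hj, (h2 x j).symm⟩
  · rintro _ ⟨x, rfl⟩
    rw [← map_pow, show x ^ q = 1 from Subtype.ext (hX.2 x x.2), map_one]
  · intro v hv
    refine mem_centralizer_iff.2 fun x hx => ?_
    have h3 := h1 ⟨x, hx⟩ v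
    rw [mem_centralizer_iff.1 hv _ ⟨_, rfl⟩, mul_inv_cancel_right] at h3
    have h4 := congrArg (fun w : V => ((w : K) : G)) (SemidirectProduct.inl_injective h3)
    exact (eq_mul_inv_iff_mul_eq.1 h4).symm
  · intro k hk
    haveI := hX.1
    have hN : X ≤ normalizer ((centralizer (V : Set K)).map K.subtype : Set G) :=
      hXK.trans (H3.normalizer_le_normalizer_map_of_characteristic _)
    have hcop : (Nat.card X).Coprime
        (Nat.card ((centralizer (V : Set K)).map K.subtype)) := by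
      haveI := Fact.mk hq
      obtain ⟨m, hm⟩ := IsPGroup.iff_card.1 (ea_isPGroup hX)
      rw [hm]
      refine Nat.Coprime.pow_left m ((Nat.Prime.coprime_iff_not_dvd hq).2 fun hd => hqK ?_)
      exact hd.trans (card_dvd_of_le (map_subtype_le _))
    obtain ⟨_, ⟨n, hn, rfl⟩, hc⟩ := H1.exists_mul_mem_centralizer X _ hN hcop
      (Or.inl (H2.isSolvable_of_isMulCommutative X)) (k : G) fun a ha => by
        have h3 := h2 ⟨a, ha⟩ k
        rw [mem_centralizer_iff.1 hk _ ⟨_, rfl⟩, mul_inv_cancel_right] at h3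
        refine ⟨α ⟨a, ha⟩ k * k⁻¹, ?_, rfl⟩
        rw [← h.ker, SetLike.mem_coe, MonoidHom.mem_ker, map_mul, ← h3, map_inv, mul_inv_cancel]
    exact ⟨n, hn, hc⟩

theorem not_dvd_relIndex_map_sylow {Γ : Type*} [Group Γ] (ρ : G →* Γ) (S : Sylow p G)
    (J : Subgroup G) [J.Normal] : ¬ p ∣ ((S : Subgroup G).map ρ).relIndex (J.map ρ) := fun hd => by
  rw [← relIndex_comap] at hd
  exact H3.sylow_not_dvd_relIndex_of_normal S J
    (hd.trans (relIndex_dvd_of_le_left J (le_comap_map ρ _)))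

theorem operator_generation {K X : Subgroup G} (hXK : X ≤ normalizer (K : Set G))
    (hX : IsElementaryAbelian q X) (hq : q.Prime) (hqK : ¬ q ∣ Nat.card K) (hs : PSep p K)
    (hO : pPrimeCore p K = ⊥) (S : Sylow p K) :
    normalizer (thompsonSubgroupOf p (S : Subgroup K) : Set K) ⊔
      centralizer (omegaOne p ((S : Subgroup K) ⊓ centralizer ((S : Subgroup K) : Set K)) : Set K) ⊔
      (centralizer (X : Set G)).subgroupOf K = ⊤ := by
  obtain ⟨Γ, _, _, ι, ρ, Y, h, h1, h2, h3, -, h5⟩ :=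
    exists_hol_operator hXK hX hq hqK (ZV p K) (thompsonSubgroup p K)
  obtain ⟨hff, hg⟩ := h.ff (ea_ZV (hs.centralizer_pCore_le hO)) hs pCore_quotient_ZV
  set L := normalizer (thompsonSubgroupOf p (S : Subgroup K) : Set K) ⊔
      centralizer (omegaOne p ((S : Subgroup K) ⊓ centralizer ((S : Subgroup K) : Set K)) : Set K) ⊔
      (centralizer (X : Set G)).subgroupOf K
  have hCL : centralizer (ZV p K : Set K) ≤ L :=
    (H13.centralizer_anti (omega_center_le_ZV S)).trans (le_sup_right.trans le_sup_left)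
  have hle := hff.le_of_sylow_of_centralizer hg hq
    (fun hd => hqK (hd.trans ((card_map_dvd _ _).trans (card_subgroup_dvd_card _)))) h1 h2 h3
    (S.2.map ρ) (not_dvd_relIndex_map_sylow ρ S _) (L := L.map ρ)
    (map_mono ((le_normalizer_J _).trans (le_sup_left.trans le_sup_left))) (by
      rintro _ ⟨⟨k, -, rfl⟩, hk⟩
      obtain ⟨n, hn, hc⟩ := h5 k hk
      refine mem_map_of_mem ρ ?_
      simpa using mul_mem (inv_mem (hCL hn)) (mem_sup_right hc : n * k ∈ L))
  rw [map_le_iff_le_comap, comap_map_eq, h.ker, sup_eq_left.2 hCL] at hle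
  rw [eq_top_iff, ← sup_normalizer_J_eq_top S (J_sylow_le S)]
  exact sup_le hle (le_sup_left.trans le_sup_left)

theorem operator_fixed_points {K X : Subgroup G} (hXK : X ≤ normalizer (K : Set G))
    (hX : IsElementaryAbelian q X) (hq : q.Prime) (hqK : ¬ q ∣ Nat.card K) (hs : PSep p K)
    (hO : pPrimeCore p K = ⊥) (hnf : ¬ IsThompsonFactorizable p K) :
    (p = 2 ∨ p = 3) ∧ ∃ W D : Subgroup G, W ≤ K ⊓ centralizer (X : Set G) ∧
      D ≤ K ⊓ centralizer (X : Set G) ∧ IsElementaryAbelian p W ∧ Nat.card W = p ^ 2 ∧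
      D ≤ normalizer (W : Set G) ∧ ∃ _ : ((centralizer (W : Set G)).subgroupOf D).Normal,
        Nonempty ((D ⧸ (centralizer (W : Set G)).subgroupOf D) ≃* SL(2, ZMod p)) := by
  obtain ⟨Γ, _, _, ι, ρ, Y, h, h1, h2, h3, h4, h5⟩ :=
    exists_hol_operator hXK hX hq hqK (ZV p K) (thompsonSubgroup p K)
  have hV := ea_ZV (hs.centralizer_pCore_le hO)
  obtain ⟨hff, hg⟩ := h.ff hV hs pCore_quotient_ZV
  obtain ⟨A, hA⟩ := h.exists_off hV hs pCore_quotient_ZV (by rwa [← factorizable_iff hO])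
  obtain ⟨W, hW, hc, hn, ψ, hψ, hk⟩ := hff.exists_fixed_module hg hA hq
    (fun hd => hqK (hd.trans ((card_map_dvd _ _).trans (card_subgroup_dvd_card _)))) h1 h2 h3
  let Db := (thompsonSubgroup p K).map ρ ⊓ centralizer (Y : Set Γ)
  let V := ZV p K
  let W' : Subgroup G := ((W.comap ι).map V.subtype).map K.subtype
  let D : Subgroup K := (centralizer (X : Set G)).subgroupOf K ⊓ Db.comap ρ
  have hmemW : ∀ v : V, ((v : K) : G) ∈ W' ↔ ι v ∈ W := fun v => by
    constructor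
    · rintro ⟨_, ⟨w, hw, rfl⟩, he⟩
      rwa [← show w = v from Subtype.ext (Subtype.ext he)]
    · exact fun hv => ⟨_, ⟨v, hv, rfl⟩, rfl⟩
  have hDle : D.map K.subtype ≤ K := map_subtype_le _
  let π : D.map K.subtype →* Db := (ρ.comp (inclusion hDle)).codRestrict Db (by
    rintro ⟨_, d, hd, rfl⟩
    exact hd.2)
  refine ⟨hff.two_or_three hA, W', D.map K.subtype, le_inf (map_subtype_le _) ?_,
    le_inf hDle ?_, ea_map (ea_of_le hV (map_subtype_le _)) _, ?_, ?_,
    nonempty_quotient_equiv (ψ.comp π) (hψ.comp ?_) ?_⟩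
  · rintro _ ⟨_, ⟨v, hv, rfl⟩, rfl⟩
    exact h4 v (hW hv).2
  · rintro _ ⟨d, hd, rfl⟩
    exact hd.1
  · rw [H2.card_map_subtype, H2.card_map_subtype, ← card_map_of_injective h.inj,
      map_comap_eq_self (hW.trans inf_le_left), hc]
  · rintro _ ⟨d, hd, rfl⟩
    refine H13.mem_normalizer_of_finite ?_
    rintro _ ⟨_, ⟨v, hv, rfl⟩, rfl⟩
    have := (hmemW ⟨_, Normal.conj_mem inferInstance _ v.2 d⟩).2 (by
      rw [h.conj d v _ rfl]
      exact H13.conj_mem_of_mem_normalizer (hn hd.2) hv)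
    exact this
  · rintro ⟨_, ⟨k, hk, rfl⟩, hk'⟩
    obtain ⟨n, hn, hc⟩ := h5 k hk'
    have hn1 : ρ n = 1 := by rw [← MonoidHom.mem_ker, h.ker]; exact hn
    have he : ρ (n * k) = ρ k := by rw [map_mul, hn1, one_mul]
    refine ⟨⟨_, n * k, ⟨hc, ?_⟩, rfl⟩, Subtype.ext he⟩
    change ρ (n * k) ∈ Db
    rw [he]
    exact ⟨mem_map_of_mem ρ hk, hk'⟩
  · ext ⟨_, d, hd, rfl⟩
    rw [MonoidHom.mem_ker, MonoidHom.comp_apply, ← MonoidHom.mem_ker, hk, mem_subgroupOf,
      mem_subgroupOf]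
    change ρ d ∈ _ ↔ (d : G) ∈ _
    rw [mem_centralizer_iff, mem_centralizer_iff]
    constructor
    · rintro hd' _ ⟨_, ⟨v, hv, rfl⟩, rfl⟩
      have h6 := h.conj d v ⟨_, Normal.conj_mem inferInstance _ v.2 d⟩ rfl
      rw [← hd' _ hv, mul_inv_cancel_right] at h6
      have h7 := congrArg (fun w : V => ((w : K) : G)) (h.inj h6)
      exact (mul_inv_eq_iff_eq_mul.1 h7).symm
    · intro hd' w hw
      obtain ⟨v, rfl⟩ := (hW hw).1
      have h6 := hd' _ ((hmemW v).2 hw)
      exact eq_mul_inv_iff_mul_eq.1 (h.conj d v v (eq_mul_inv_iff_mul_eq.2 (Subtype.ext h6)))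

end operator

end H12
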