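import Mathlib
import Cfsg.Agent.H24.Base5

/-! Lemma W: an `f`-group with a coprime automorphism `α` fixing `φ`, with `C(α) = ⟨φ⟩`,
`C(φ) = ⟨φ⟩⟨x⟩`, `x^α = x^w`, `w² ≢ 1`, is `D⟨φ⟩` with `D` abelian and `α` acting on `D` as
the `w`-th power. -/

set_option autoImplicit false
open Subgroup

namespace H12

universe u

structure WH {P : Type u} [Group P] (f m v : ℕ) (α : P →* P) (φ x : P) : Prop where
  pg : IsPGroup f P
  am : ∀ g, α^[m] g = g
  wm : ∀ g : P, g ^ ((v + 1) ^ m) = g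
  aφ : α φ = φ
  ax : α x = x ^ (v + 1)
  xf : x ^ f = 1
  φx : φ * x = x * φ
  fix : ∀ g, α g = g → g ∈ zpowers φ
  cen : ∀ g, g * φ = φ * g → ∃ c ∈ zpowers φ, ∃ y ∈ zpowers x, g = c * y

section basic
variable {P : Type u} [Group P] {f m v : ℕ}

theorem pg_root (hf : f.Prime) (hP : IsPGroup f P) {e : ℕ} (he : ¬ f ∣ e) (g : P) :
    ∃ k : ℕ, (g ^ e) ^ k = g := by
  haveI := Fact.mk hf
  obtain ⟨n, hn⟩ := IsPGroup.iff_orderOf.mp hP g
  refine exists_pow_eq_self_of_coprime ?_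
  rw [hn]
  exact Nat.Coprime.pow_right _ ((hf.coprime_iff_not_dvd.mpr he).symm)

theorem pg_eq_one (hf : f.Prime) (hP : IsPGroup f P) {e : ℕ} (he : ¬ f ∣ e) {g : P}
    (h : g ^ e = 1) : g = 1 := by
  obtain ⟨k, hk⟩ := pg_root hf hP he g
  rw [← hk, h, one_pow]

theorem pg_root' (hf : f.Prime) (hP : IsPGroup f P) {e : ℕ} (he : ¬ f ∣ e) {Z : Subgroup P}
    {g : P} (hg : g ∈ Z) : ∃ s ∈ Z, s ^ e = g := by
  obtain ⟨k, hk⟩ := pg_root hf hP he g
  exact ⟨g ^ k, pow_mem hg k, by rw [← pow_mul, mul_comm, pow_mul, hk]⟩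

theorem comm_pow_of_central {a b κ : P} (hκ : κ ∈ center P) (h : a * b = κ * (b * a)) (i j : ℕ) :
    a ^ i * b ^ j = κ ^ (i * j) * (b ^ j * a ^ i) := by
  have hc : ∀ (n : ℕ) (g : P), g * κ ^ n = κ ^ n * g := fun n g =>
    mem_center_iff.mp (pow_mem hκ n) g
  have h1 : ∀ j : ℕ, a * b ^ j = κ ^ j * (b ^ j * a) := by
    intro j
    induction j with
    | zero => simp
    | succ j ih =>
      calc a * b ^ (j + 1) = (a * b ^ j) * b := by rw [pow_succ, mul_assoc]
        _ = κ ^ j * b ^ j * (a * b) := by rw [ih]; group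
        _ = κ ^ j * (b ^ j * κ ^ 1) * (b * a) := by rw [h]; group
        _ = κ ^ (j + 1) * (b ^ (j + 1) * a) := by rw [hc]; group
  induction i with
  | zero => simp
  | succ i ih =>
    calc a ^ (i + 1) * b ^ j = a * (a ^ i * b ^ j) := by rw [pow_succ', mul_assoc]
      _ = (a * κ ^ (i * j)) * b ^ j * a ^ i := by rw [ih]; group
      _ = κ ^ (i * j) * (a * b ^ j) * a ^ i := by rw [hc]; group
      _ = κ ^ ((i + 1) * j) * (b ^ j * a ^ (i + 1)) := by rw [h1]; group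

variable {α : P →* P} {φ x : P}

theorem WH.aφ' (H : WH f m v α φ x) {c : P} (hc : c ∈ zpowers φ) : α c = c := by
  obtain ⟨k, rfl⟩ := hc
  simp only [map_zpow, H.aφ]

theorem WH.ax' (H : WH f m v α φ x) {y : P} (hy : y ∈ zpowers x) : α y = y ^ (v + 1) := by
  obtain ⟨k, rfl⟩ := hy
  simp only [map_zpow, H.ax]
  rw [← zpow_natCast, ← zpow_natCast, ← zpow_mul, ← zpow_mul, mul_comm]

theorem WH.comm (H : WH f m v α φ x) {c y : P} (hc : c ∈ zpowers φ) (hy : y ∈ zpowers x) :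
    c * y = y * c := by
  obtain ⟨k, rfl⟩ := hc
  obtain ⟨l, rfl⟩ := hy
  exact (Commute.zpow_zpow H.φx k l).eq

theorem WH.iter (hf : f.Prime) (hm : ¬ f ∣ m) (H : WH f m v α φ x) {c g : P} (hc : α c = c)
    (h : α g = c * g) : c = 1 := by
  have h1 : ∀ k : ℕ, α^[k] g = c ^ k * g := by
    intro k
    induction k with
    | zero => simp
    | succ k ih => rw [Function.iterate_succ_apply', ih, map_mul, map_pow, hc, h]; group
  have h2 := h1 m
  rw [H.am] at h2
  exact pg_eq_one hf H.pg hm (by simpa using h2.symm)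

theorem WH.map_center (hm : ¬ f ∣ m) (H : WH f m v α φ x) {z : P} (hz : z ∈ center P) :
    α z ∈ center P := by
  obtain ⟨n, rfl⟩ : ∃ n, m = n + 1 := Nat.exists_eq_succ_of_ne_zero (by rintro rfl; simp at hm)
  rw [mem_center_iff] at hz ⊢
  intro g
  rw [← H.am g, Function.iterate_succ_apply', ← map_mul, ← map_mul, hz]

theorem mem_zpowers_of_prime [Finite P] (hf : f.Prime) (hx : x ^ f = 1) {y : P}
    (hy : y ∈ zpowers x) (y1 : y ≠ 1) : zpowers y = zpowers x := by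
  have x1 : x ≠ 1 := by rintro rfl; simp at hy; exact y1 hy
  haveI := Fact.mk hf
  refine H24.zpowers_eq_of_prime ?_ hy y1
  rw [H24.card_zpowers', orderOf_eq_prime hx x1]
  exact hf

theorem WH.exists_z [Finite P] [Nontrivial P] (hf : f.Prime) (hm : ¬ f ∣ m) (hv : ¬ f ∣ v)
    (H : WH f m v α φ x) :
    ∃ z, z ∈ center P ∧ z ≠ 1 ∧ z ^ f = 1 ∧ (z ∈ zpowers φ ∨ z = x) := by
  haveI := Fact.mk hf
  haveI := H.pg.center_nontrivial
  have hd : f ∣ Nat.card (center P) := by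
    obtain ⟨n, hn⟩ := (H.pg.to_subgroup (center P)).exists_card_eq
    rw [hn]
    refine dvd_pow_self f ?_
    rintro rfl
    have := Finite.one_lt_card (α := center P)
    rw [hn, pow_zero] at this
    omega
  obtain ⟨z, hz, ho⟩ := H24.exists_orderOf_eq hf hd
  have z1 : z ≠ 1 := H24.ne_one_of_orderOf_prime (ho ▸ hf)
  obtain ⟨c, hc, y, hy, e⟩ := H.cen z (mem_center_iff.mp hz φ).symm
  by_cases y1 : y = 1
  · refine ⟨z, hz, z1, ho ▸ pow_orderOf_eq_one z, Or.inl ?_⟩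
    rw [e, y1, mul_one]; exact hc
  have h1 : y ^ v ∈ center P := by
    have := mul_mem (inv_mem hz) (H.map_center hm hz)
    rwa [e, map_mul, H.aφ' hc, H.ax' hy, show (c * y)⁻¹ * (c * y ^ (v + 1)) = y ^ v by group]
      at this
  obtain ⟨k, hk⟩ := pg_root hf H.pg hv y
  have h2 : y ∈ center P := hk ▸ pow_mem h1 k
  have h3 : x ∈ center P := by
    have := mem_zpowers x
    rw [← mem_zpowers_of_prime hf H.xf hy y1] at this
    exact (zpowers_le.mpr h2) this
  exact ⟨x, h3, by rintro rfl; simp at hy; exact y1 hy, H.xf, Or.inr rfl⟩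

/-- `g φ g⁻¹ = ζ φ` -/
def WR (φ g ζ : P) : Prop := g * φ * g⁻¹ = ζ * φ

theorem WR.mul {g g' ζ ζ' : P} (h : WR φ g ζ) (h' : WR φ g' ζ') (hz : ζ' ∈ center P) :
    WR φ (g * g') (ζ' * ζ) := by
  unfold WR at *
  calc g * g' * φ * (g * g')⁻¹ = g * (g' * φ * g'⁻¹) * g⁻¹ := by group
    _ = (g * ζ') * φ * g⁻¹ := by rw [h']; group
    _ = ζ' * (g * φ * g⁻¹) := by rw [mem_center_iff.mp hz g]; group
    _ = _ := by rw [h]; group

theorem WR.pow {g ζ : P} (h : WR φ g ζ) (hz : ζ ∈ center P) (n : ℕ) : WR φ (g ^ n) (ζ ^ n) := by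
  induction n with
  | zero => simp [WR]
  | succ n ih => rw [pow_succ, pow_succ']; exact ih.mul h hz

theorem WR.inv {g ζ : P} (h : WR φ g ζ) (hz : ζ ∈ center P) : WR φ g⁻¹ ζ⁻¹ := by
  unfold WR at *
  calc g⁻¹ * φ * g⁻¹⁻¹ = g⁻¹ * ζ⁻¹ * (ζ * φ) * g := by group
    _ = ζ⁻¹ * g⁻¹ * (g * φ * g⁻¹) * g := by rw [h, mem_center_iff.mp (inv_mem hz) g⁻¹]
    _ = _ := by group

theorem WR.map {g ζ : P} (h : WR φ g ζ) (ha : α φ = φ) : WR φ (α g) (α ζ) := by
  unfold WR at *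
  have := congrArg α h
  simpa only [map_mul, map_inv, ha] using this

theorem WR.comm {g g' ζ : P} (h : WR φ g ζ) (h' : WR φ g' ζ) (hz : ζ ∈ center P) :
    g * g'⁻¹ * φ = φ * (g * g'⁻¹) := by
  have := h.mul (h'.inv hz) (inv_mem hz)
  unfold WR at this
  rw [inv_mul_cancel, one_mul] at this
  exact mul_inv_eq_iff_eq_mul.mp this

theorem exists_mul_of_mk_eq {Z : Subgroup P} [Z.Normal] {a b : P}
    (h : (a : P ⧸ Z) = (b : P ⧸ Z)) : ∃ ζ ∈ Z, a = ζ * b := by
  refine ⟨a * b⁻¹, ?_, by group⟩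
  rw [← QuotientGroup.eq_one_iff, QuotientGroup.mk_mul, QuotientGroup.mk_inv, h, mul_inv_cancel]

theorem exists_WR {Z : Subgroup P} [Z.Normal] {g : P}
    (h : (g : P ⧸ Z) * (φ : P ⧸ Z) = φ * g) : ∃ ζ ∈ Z, WR φ g ζ :=
  exists_mul_of_mk_eq (by simp only [QuotientGroup.mk_mul, QuotientGroup.mk_inv, h]; group)

theorem mk_mem_zpowers {Z : Subgroup P} [Z.Normal] {c : P} (hc : c ∈ zpowers φ) :
    (c : P ⧸ Z) ∈ zpowers (φ : P ⧸ Z) := by
  obtain ⟨k, rfl⟩ := hc
  exact ⟨k, by simp⟩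

theorem WH.quot [Finite P] (hf : f.Prime) (hm : ¬ f ∣ m) (hv : ¬ f ∣ v) (H : WH f m v α φ x)
    {z : P} (hz : z ∈ center P) (hz' : z ∈ zpowers φ ∨ z = x) [(zpowers z).Normal]
    (hα : zpowers z ≤ (zpowers z).comap α) :
    ∃ x' : P, WH f m v (QuotientGroup.map _ _ α hα) (φ : P ⧸ zpowers z) (x' : P ⧸ zpowers z) := by
  set β := QuotientGroup.map _ _ α hα with hβ
  have hZ : zpowers z ≤ center P := zpowers_le.mpr hz
  have b1 : ∀ g : P, β g = (α g : P) := fun g => rfl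
  have mk1 : ∀ ζ ∈ zpowers z, (ζ : P ⧸ zpowers z) = 1 := fun ζ h =>
    (QuotientGroup.eq_one_iff ζ).mpr h
  have key : ∃ x' : P, β x' = (x' : P ⧸ zpowers z) ^ (v + 1) ∧ (x' : P ⧸ zpowers z) ^ f = 1 ∧
      (φ : P ⧸ zpowers z) * x' = x' * φ ∧ ∀ g : P, (g : P ⧸ zpowers z) * φ = φ * g →
        ∃ c ∈ zpowers (φ : P ⧸ zpowers z), ∃ y ∈ zpowers (x' : P ⧸ zpowers z),
          (g : P ⧸ zpowers z) = c * y := by
    rcases hz' with hz' | rfl
    · refine ⟨x, by rw [b1, H.ax]; simp, by rw [← QuotientGroup.mk_pow, H.xf]; simp,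
        by rw [← QuotientGroup.mk_mul, H.φx]; simp, fun g hg => ?_⟩
      obtain ⟨ζ, hζ, hR⟩ := exists_WR hg
      have hR' := hR.map H.aφ
      rw [H.aφ' (zpowers_le.mpr hz' hζ)] at hR'
      obtain ⟨c, hc, y, hy, e⟩ := H.cen _ (hR'.comm hR (hZ hζ))
      obtain ⟨s, hs, es⟩ := pg_root' hf H.pg hv (inv_mem hy)
      have e1 : α (s * g) = c * (s * g) := by
        rw [map_mul, H.ax' hs, mul_inv_eq_iff_eq_mul.mp e, pow_succ', es, H.comm hc hy,
          ← mul_assoc c, H.comm hc hs]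
        group
      have e2 := H.iter hf hm (H.aφ' hc) e1
      rw [e2, one_mul] at e1
      have e3 := H.fix _ e1
      refine ⟨_, mk_mem_zpowers e3, _, mk_mem_zpowers (inv_mem hs), ?_⟩
      rw [← QuotientGroup.mk_mul, H.comm e3 (inv_mem hs)]
      simp
    by_cases hX : ∀ g : P, (g : P ⧸ zpowers z) * φ = φ * g → g * φ = φ * g
    · refine ⟨1, by simp, by simp, by simp, fun g hg => ?_⟩
      obtain ⟨c, hc, y, hy, e⟩ := H.cen g (hX g hg)
      exact ⟨_, mk_mem_zpowers hc, 1, one_mem _, by rw [e, QuotientGroup.mk_mul, mk1 y hy]⟩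
    push Not at hX
    obtain ⟨a, ha, ha'⟩ := hX
    obtain ⟨ζ, hζ, hR⟩ := exists_WR ha
    have ζ1 : ζ ≠ 1 := by
      rintro rfl
      unfold WR at hR
      rw [one_mul] at hR
      exact ha' (mul_inv_eq_iff_eq_mul.mp hR)
    have hR' := hR.map H.aφ
    rw [H.ax' hζ] at hR'
    obtain ⟨c, hc, y, hy, e⟩ := H.cen _ (hR'.comm (hR.pow (hZ hζ) _) (pow_mem (hZ hζ) _))
    have e0 : β a = (c : P ⧸ zpowers z) * (a : P ⧸ zpowers z) ^ (v + 1) := by
      rw [b1, mul_inv_eq_iff_eq_mul.mp e]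
      simp [mk1 y hy]
    have cφ : Commute (c : P ⧸ zpowers z) φ := by
      obtain ⟨k, hk⟩ := mk_mem_zpowers (Z := zpowers z) hc
      rw [← hk]; exact (Commute.refl _).zpow_left k
    have ca : Commute (c : P ⧸ zpowers z) a := by
      obtain ⟨k, hk⟩ := mk_mem_zpowers (Z := zpowers z) hc
      rw [← hk]; exact (show Commute (φ : P ⧸ zpowers z) a from ha.symm).zpow_left k
    have bc : β c = c := by rw [b1, H.aφ' hc]
    have e1 : ((α a * a⁻¹ : P) : P ⧸ zpowers z) = c * (a : P ⧸ zpowers z) ^ v := by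
      rw [QuotientGroup.mk_mul, ← b1, e0, QuotientGroup.mk_inv]; group
    refine ⟨α a * a⁻¹, ?_, ?_, ?_, fun g hg => ?_⟩
    · rw [e1, map_mul, map_pow, bc, e0, (ca.pow_right _).mul_pow, (ca.pow_right _).mul_pow]
      group
    · have h1 := hR.pow (hZ hζ) f
      have h2 : ζ ^ f = 1 := by
        obtain ⟨k, rfl⟩ := hζ
        simp only
        rw [← zpow_natCast, ← zpow_mul, mul_comm, zpow_mul, zpow_natCast, H.xf, one_zpow]
      rw [h2] at h1
      unfold WR at h1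
      rw [one_mul] at h1
      obtain ⟨c1, hc1, y1, hy1, e'⟩ := H.cen _ (mul_inv_eq_iff_eq_mul.mp h1)
      have h3 : β ((a : P ⧸ zpowers z) ^ f) = (a : P ⧸ zpowers z) ^ f := by
        rw [← QuotientGroup.mk_pow, e', QuotientGroup.mk_mul, mk1 y1 hy1, mul_one, b1, H.aφ' hc1]
      rw [map_pow, e0, (ca.pow_right _).mul_pow] at h3
      rw [e1, (ca.pow_right _).mul_pow, ← mul_right_cancel_iff (a := (a : P ⧸ zpowers z) ^ f),
        one_mul]
      conv_rhs => rw [← h3]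
      group
    · rw [e1]
      exact (cφ.symm.mul_right
        ((show Commute (φ : P ⧸ zpowers z) a from ha.symm).pow_right v)).eq
    · obtain ⟨ξ, hξ, hS⟩ := exists_WR hg
      have h1 := hR'.mul (hR.inv (hZ hζ)) (inv_mem (hZ hζ))
      rw [show ζ⁻¹ * ζ ^ (v + 1) = ζ ^ v by group] at h1
      have h2 : ζ ^ v ≠ 1 := fun k => ζ1 (pg_eq_one hf H.pg hv k)
      rw [← mem_zpowers_of_prime hf H.xf (pow_mem hζ v) h2, ← mem_powers_iff_mem_zpowers] at hξ
      obtain ⟨k, rfl⟩ := hξ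
      obtain ⟨c1, hc1, y1, hy1, e'⟩ :=
        H.cen _ (hS.comm (h1.pow (pow_mem (hZ hζ) v) k) (pow_mem (pow_mem (hZ hζ) v) k))
      refine ⟨_, mk_mem_zpowers hc1, _, npow_mem_zpowers _ k, ?_⟩
      rw [mul_inv_eq_iff_eq_mul.mp e', QuotientGroup.mk_mul, QuotientGroup.mk_mul, mk1 y1 hy1,
        mul_one, QuotientGroup.mk_pow]
  obtain ⟨x', k1, k2, k3, k4⟩ := key
  refine ⟨x', H.pg.to_quotient _, fun g => ?_, fun g => ?_, by rw [b1, H.aφ], k1, k2, k3,
    fun g hg => ?_, fun g hg => ?_⟩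
  · induction g using QuotientGroup.induction_on with
    | H g =>
      have : ∀ k : ℕ, β^[k] (g : P ⧸ zpowers z) = (α^[k] g : P) := by
        intro k
        induction k with
        | zero => rfl
        | succ k ih => rw [Function.iterate_succ_apply', Function.iterate_succ_apply', ih, b1]
      rw [this, H.am]
  · induction g using QuotientGroup.induction_on with
    | H g => rw [← QuotientGroup.mk_pow, H.wm]
  · induction g using QuotientGroup.induction_on with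
    | H g =>
      obtain ⟨ζ, hζ, e⟩ := exists_mul_of_mk_eq (show ((α g : P) : P ⧸ zpowers z) = g from hg)
      rcases hz' with hz' | rfl
      · have := H.iter hf hm (H.aφ' (zpowers_le.mpr hz' hζ)) e
        rw [this, one_mul] at e
        exact mk_mem_zpowers (H.fix g e)
      · obtain ⟨s, hs, es⟩ := pg_root' hf H.pg hv (inv_mem hζ)
        have e1 : α (s * g) = s * g := by rw [map_mul, H.ax' hs, e, pow_succ', es]; group
        have := mk_mem_zpowers (Z := zpowers z) (H.fix _ e1)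
        rwa [QuotientGroup.mk_mul, mk1 s hs, one_mul] at this
  · induction g using QuotientGroup.induction_on with
    | H g => exact k4 g hg

end basic

theorem lemW_aux {f m v : ℕ} (hf : f.Prime) (hm : ¬ f ∣ m) (hv : ¬ f ∣ v) (hv1 : ¬ f ∣ v + 1)
    (hv2 : ¬ f ∣ v + 2) (n : ℕ) : ∀ (P : Type u) [Group P] [Finite P] (α : P →* P) (φ x : P),
    Nat.card P = n → WH f m v α φ x →
    (∀ a b, α a = a ^ (v + 1) → α b = b ^ (v + 1) → a * b = b * a) ∧
      ∀ g, ∃ d, α d = d ^ (v + 1) ∧ ∃ c ∈ zpowers φ, g = d * c := by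
  induction n using Nat.strong_induction_on with
  | _ n ih =>
  intro P _ _ α φ x hn H
  rcases subsingleton_or_nontrivial P with hs | hs
  · exact ⟨fun a b _ _ => Subsingleton.elim _ _,
      fun g => ⟨1, by simp, 1, one_mem _, Subsingleton.elim _ _⟩⟩
  obtain ⟨z, hz, z1, zf, hz'⟩ := H.exists_z hf hm hv
  have hZ : zpowers z ≤ center P := zpowers_le.mpr hz
  haveI : (zpowers z).Normal := ⟨fun a ha g => by
    rw [mem_center_iff.mp (hZ ha) g]; simpa using ha⟩
  have hα : zpowers z ≤ (zpowers z).comap α := by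
    rw [zpowers_le, mem_comap]
    rcases hz' with h | rfl
    · rw [H.aφ' h]; exact mem_zpowers z
    · rw [H.ax]; exact npow_mem_zpowers _ _
  obtain ⟨x', H'⟩ := H.quot hf hm hv hz hz' hα
  have hlt : Nat.card (P ⧸ zpowers z) < n := by
    rw [← hn, card_eq_card_quotient_mul_card_subgroup (zpowers z)]
    have h1 : 1 < Nat.card (zpowers z) := H24.one_lt_card (by simpa using z1)
    have h2 : 0 < Nat.card (P ⧸ zpowers z) := Nat.card_pos
    nlinarith
  obtain ⟨i1, i2⟩ := ih _ hlt _ _ _ _ rfl H'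
  refine ⟨fun a b ha hb => ?_, fun g => ?_⟩
  · have h1 := i1 a b (by rw [QuotientGroup.map_mk, ha]; simp)
      (by rw [QuotientGroup.map_mk, hb]; simp)
    obtain ⟨κ, hκ, e⟩ := exists_mul_of_mk_eq
      (show ((a * b : P) : P ⧸ zpowers z) = (b * a : P) by simpa using h1)
    have h2 := comm_pow_of_central (hZ hκ) e (v + 1) (v + 1)
    have h3 := congrArg α e
    simp only [map_mul, ha, hb] at h3
    have h4 : α κ = κ ^ ((v + 1) * (v + 1)) := mul_right_cancel (h3.symm.trans h2)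
    have h5 : κ = 1 := by
      rcases hz' with h | rfl
      · rw [H.aφ' (zpowers_le.mpr h hκ)] at h4
        refine pg_eq_one hf H.pg (e := v * (v + 2)) (fun k => ?_) ?_
        · exact (hf.dvd_mul.mp k).elim hv hv2
        · rw [show (v + 1) * (v + 1) = v * (v + 2) + 1 by ring, pow_succ] at h4
          simpa using h4.symm
      · rw [H.ax' hκ] at h4
        refine pg_eq_one hf H.pg (e := v * (v + 1)) (fun k => ?_) ?_
        · exact (hf.dvd_mul.mp k).elim hv hv1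
        · rw [show (v + 1) * (v + 1) = v * (v + 1) + (v + 1) by ring, pow_add κ (v * (v + 1))] at h4
          simpa using h4.symm
    rw [e, h5, one_mul]
  · obtain ⟨d, hd, c, ⟨k, hk⟩, e⟩ := i2 g
    have e1 : ((g * (φ ^ k)⁻¹ : P) : P ⧸ zpowers z) = d := by
      rw [QuotientGroup.mk_mul, e, ← hk]; simp
    rw [← e1, QuotientGroup.map_mk, ← QuotientGroup.mk_pow] at hd
    obtain ⟨ζ, hζ, e2⟩ := exists_mul_of_mk_eq hd
    set d1 := g * (φ ^ k)⁻¹ with hd1
    rcases hz' with h | rfl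
    · obtain ⟨s, hs, es⟩ := pg_root' hf H.pg hv hζ
      have hs' := zpowers_le.mpr h hs
      have cs : Commute s d1 := (mem_center_iff.mp (hZ hs) d1).symm
      refine ⟨s * d1, ?_, s⁻¹ * φ ^ k, mul_mem (inv_mem hs') ⟨k, rfl⟩, ?_⟩
      · rw [map_mul, H.aφ' hs', e2, cs.mul_pow, ← es]; group
      · rw [cs.eq, hd1]; group
    · obtain ⟨m', rfl⟩ : ∃ n, m = n + 1 :=
        Nat.exists_eq_succ_of_ne_zero (by rintro rfl; simp at hm)
      have cs : Commute ζ d1 := (mem_center_iff.mp (hZ hζ) d1).symm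
      have h1 : ∀ j : ℕ, α^[j + 1] d1 = ζ ^ ((j + 1) * (v + 1) ^ j) * d1 ^ ((v + 1) ^ (j + 1)) := by
        intro j
        induction j with
        | zero => simpa using e2
        | succ j ih =>
          rw [Function.iterate_succ_apply', ih, map_mul, map_pow, map_pow, H.ax' hζ, e2,
            (cs.pow_right _).mul_pow, ← mul_assoc, ← pow_mul, ← pow_mul, ← pow_add]
          congr 2 <;> ring
      have h2 := h1 m'
      rw [H.am, H.wm] at h2
      have h3 : ζ = 1 := by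
        refine pg_eq_one hf H.pg (e := (m' + 1) * (v + 1) ^ m') (fun k => ?_) (by simpa using h2.symm)
        exact (hf.dvd_mul.mp k).elim hm fun k' => hv1 (hf.dvd_of_dvd_pow k')
      rw [h3, one_mul] at e2
      exact ⟨d1, e2, φ ^ k, ⟨k, rfl⟩, by rw [hd1]; group⟩

end H12
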