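import Mathlib
import Cfsg.Agent.H12.JRW
import Cfsg.Agent.H26.S01

/-! Local analysis for `H1.caseAF`. -/

set_option autoImplicit false
open Cfsg H24 H26 Subgroup
open scoped commutatorElement

namespace H12

variable {G : Type*} [Group G] [Finite G] {f v m : ℕ}

theorem lemW (hf : f.Prime) (hm : ¬ f ∣ m) (hv : ¬ f ∣ v) (hv1 : ¬ f ∣ v + 1)
    (hv2 : ¬ f ∣ v + 2) {R : Subgroup G} {h φ x : G} (hR : IsPi {f} R) (hh : h ∈ N[R])
    (hhm : h ^ m = 1) (hφ : φ ∈ R) (hx : x ∈ R) (wm : ∀ g ∈ R, g ^ ((v + 1) ^ m) = g)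
    (hhφ : h * φ = φ * h) (hhx : h * x * h⁻¹ = x ^ (v + 1)) (xf : x ^ f = 1)
    (φx : φ * x = x * φ) (fix : R ⊓ C{h} ≤ zpowers φ)
    (cen : R ⊓ C{φ} ≤ zpowers φ ⊔ zpowers x) :
    (∀ a ∈ R, ∀ b ∈ R, h * a * h⁻¹ = a ^ (v + 1) → h * b * h⁻¹ = b ^ (v + 1) → a * b = b * a) ∧
      ∀ g ∈ R, ∃ d ∈ R, h * d * h⁻¹ = d ^ (v + 1) ∧ ∃ c ∈ zpowers φ, g = d * c := by
  let α : R →* R := ((MulAut.conj h).toMonoidHom.comp R.subtype).codRestrict R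
    fun g => conj_mem hh g.2
  have a1 : ∀ g : R, (α g : G) = h * g * h⁻¹ := fun g => rfl
  have z1 : ∀ (y : G) (hy : y ∈ R) (g : R), (g : G) ∈ zpowers y → g ∈ zpowers (⟨y, hy⟩ : R) := by
    rintro y hy g ⟨k, hk⟩
    exact ⟨k, Subtype.ext (by simpa using hk)⟩
  have H : WH f m v α ⟨φ, hφ⟩ ⟨x, hx⟩ := by
    refine ⟨hR.isPGroup hf, fun g => Subtype.ext ?_, fun g => Subtype.ext (wm g g.2),
      Subtype.ext (by rw [a1, hhφ]; simp), Subtype.ext hhx, Subtype.ext xf, Subtype.ext φx,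
      fun g hg => z1 _ _ g (fix ⟨g.2, ?_⟩), fun g hg => ?_⟩
    · have : ∀ k : ℕ, (α^[k] g : G) = h ^ k * g * (h ^ k)⁻¹ := by
        intro k
        induction k with
        | zero => simp
        | succ k ih => rw [Function.iterate_succ_apply', a1, ih]; group
      rw [this, hhm]; simp
    · exact mem_C1_comm.mp (mem_C1_iff_conj.mpr (by rw [← a1, hg]))
    · obtain ⟨c, hc, y, hy, e⟩ := (mem_sup_of_norm (norm_of_cent (by
        rw [C_zpowers, zpowers_le, mem_C1, φx]))).mp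
        (cen ⟨g.2, mem_C1.mpr (congrArg Subtype.val hg)⟩)
      exact ⟨⟨c, zpowers_le.mpr hφ hc⟩, z1 _ _ _ hc, ⟨y, zpowers_le.mpr hx hy⟩, z1 _ _ _ hy,
        Subtype.ext e⟩
  obtain ⟨i1, i2⟩ := lemW_aux hf hm hv hv1 hv2 _ R α _ _ rfl H
  refine ⟨fun a ha b hb e1 e2 => congrArg Subtype.val
    (i1 ⟨a, ha⟩ ⟨b, hb⟩ (Subtype.ext e1) (Subtype.ext e2)), fun g hg => ?_⟩
  obtain ⟨d, hd, c, ⟨k, hk⟩, e⟩ := i2 ⟨g, hg⟩
  exact ⟨d, d.2, congrArg Subtype.val hd, c, ⟨k, by rw [← hk]; simp⟩, congrArg Subtype.val e⟩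

theorem gl_comm (hf : f.Prime) {V H A A' : Subgroup G} {k k' : G} (hV : IsElementaryAbelian f V)
    (hHV : H ≤ N[V]) (hodd : Odd ♯H) (hH : IsPi {f}ᶜ H) (hk : k ∈ H) (hk' : k' ∈ H)
    (hA : A ≤ V) (hA' : A' ≤ V) (iA : A.relIndex V ∣ f) (iA' : A'.relIndex V ∣ f)
    (pA : ∀ g ∈ A, k * g * k⁻¹ = g ^ (v + 1)) (pA' : ∀ g ∈ A', k' * g * k'⁻¹ = g ^ (v + 1)) :
    ⁅k⁻¹, k'⁻¹⁆ ∈ C[V] := by
  have hVa : Abl V := hV.1
  set T := A ⊓ A' with hT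
  set H0 := zpowers k ⊔ zpowers k' with hH0
  have hTV : T ≤ V := inf_le_left.trans hA
  have h0 : H0 ≤ H := sup_le (zpowers_le.mpr hk) (zpowers_le.mpr hk')
  have n0 : H0 ≤ N[T] := sup_le
    (zpowers_le.mpr (mem_N_of_finite fun g hg => by rw [pA g hg.1]; exact pow_mem hg _))
    (zpowers_le.mpr (mem_N_of_finite fun g hg => by rw [pA' g hg.2]; exact pow_mem hg _))
  have nV : V ≤ N[T] := hVa.norm le_rfl hTV
  have h1 : ⁅quo H0 T, quo H0 T⁆ ≤ C[quo V T] := by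
    refine p'_odd_abelem2_der1_cent hf (quo_norm _ (h0.trans hHV)) ?_ ?_
      (odd_quo (odd_of_le hodd h0) _) ((hH.of_le h0).quo _)
    · rw [elem_quo_iff nV]
      exact ⟨by rw [der1_eq_bot.mpr hVa]; exact bot_le, fun y hy => by
        rw [hV.2 y hy]; exact one_mem _⟩
    · rw [card_quo nV, hT, ← relIndex_inf_mul_relIndex, sq]
      exact mul_dvd_mul ((relIndex_dvd_of_nml (hVa.nml hA) inf_le_right).trans iA) iA'
  rw [← quo_comm n0 n0, quo_cents ((der1_le _).trans n0) nV] at h1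
  have c0 : ⁅k⁻¹, k'⁻¹⁆ ∈ ⁅H0, H0⁆ := commutator_mem_commutator
    (inv_mem (mem_sup_left (mem_zpowers k))) (inv_mem (mem_sup_right (mem_zpowers k')))
  have hVp : IsPi {f} V := isPi_iff_piElt.mpr fun y hy =>
    piElt_of_pow_eq_one (piNat_self hf) (hV.2 y hy)
  refine zpowers_le.mp (stable_factor_cent (H := T) ?_ ?_ hTV ?_ (Or.inr (abl_zpowers _).sol))
  · rw [zpowers_le, mem_C']
    intro t ht
    have e1 : k * k' * t * (k * k')⁻¹ = k' * k * t * (k' * k)⁻¹ := by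
      calc k * k' * t * (k * k')⁻¹ = k * (k' * t * k'⁻¹) * k⁻¹ := by group
        _ = k' * (k * t * k⁻¹) * k'⁻¹ := by
          rw [pA' t ht.2, pA t ht.1, pA _ (pow_mem ht.1 _), pA' _ (pow_mem ht.2 _)]
        _ = _ := by group
    rw [commutatorElement_def]
    calc _ = (k' * k)⁻¹ * (k * k' * t * (k * k')⁻¹) * (k * k') := by group
      _ = _ := by rw [e1]; group
  · rw [commC]
    exact (comm_mono_left (zpowers_le.mpr c0)).trans h1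
  · exact (hVp.of_le hTV).coprime (hH.of_le ((zpowers_le.mpr c0).trans ((der1_le _).trans h0)))

structure Gd (f v : ℕ) (M F : Subgroup G) (k : G) : Prop where
  mem : k ∈ M
  pi : PiElt {f}ᶜ k
  pw : ∀ g ∈ ⁅F, zpowers k⁆, k * g * k⁻¹ = g ^ (v + 1)
  cyc : Cyc (F ⊓ C{k})
  nc : M ⊓ N[F ⊓ C{k}] ≤ C[F ⊓ C{k}]

variable {M F : Subgroup G} {k k' : G}

omit [Finite G] in
theorem Gd.conj (h : Gd f v M F k) (hMF : M ≤ N[F]) {y : G} (hy : y ∈ M) :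
    Gd f v M F (y * k * y⁻¹) := by
  have e1 : F ⊓ C{y * k * y⁻¹} = cj y (F ⊓ C{k}) := by
    rw [cj_inf, cj_C1, cj_of_mem_N (hMF hy)]
  refine ⟨mul_mem (mul_mem hy h.mem) (inv_mem hy), h.pi.conj y, fun g hg => ?_,
    e1 ▸ h.cyc.cj y, ?_⟩
  · rw [← cj_zpowers, ← cj_of_mem_N (hMF hy), ← cj_comm, mem_cj'] at hg
    obtain ⟨g, hg, rfl⟩ := hg
    rw [conj_pow, ← h.pw g hg]; group
  · rw [e1, ← cj_N, ← cj_C, ← cj_of_mem hy, ← cj_inf]
    exact cj_mono _ h.nc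

theorem Gd.prod (hf : f.Prime) (hF : IsPi {f} F) (hMF : M ≤ N[F]) (h : Gd f v M F k) :
    IsProd ⁅F, zpowers k⁆ (F ⊓ C{k}) F := by
  rw [← C_zpowers]
  exact coprime_cent_prod (zpowers_le.mpr (hMF h.mem)) (hF.coprime h.pi.isPi) (hF.sol hf)

theorem Gd.half (hf : f.Prime) (hF : IsPi {f} F) (hMF : M ≤ N[F]) (h : Gd f v M F k)
    (hk' : k' ∈ M) (hc : k' * k = k * k') :
    k' ∈ C[F ⊓ C{k}] ∧ ⁅F, zpowers k'⁆ ≤ ⁅F, zpowers k⁆ := by
  have h1 : zpowers k' ≤ C{k} := zpowers_le.mpr (mem_C1.mpr hc)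
  have h2 : zpowers k' ≤ N[F] := zpowers_le.mpr (hMF hk')
  have h3 : k' ∈ C[F ⊓ C{k}] := h.nc ⟨hk', zpowers_le.mp (norm_inf h2 (norm_C1 h1))⟩
  refine ⟨h3, ?_⟩
  rw [(h.prod hf hF hMF).comm_left_of_cent (cents_symm (zpowers_le.mpr h3))]
  exact comm_le_left (norm_comm h2 (norm_zpowers_of_cent h1))

theorem Gd.eq (hf : f.Prime) (hF : IsPi {f} F) (hMF : M ≤ N[F]) (hC : M ⊓ C[F] ≤ F)
    {H : Subgroup G} (hHM : H ≤ M) (hodd : Odd ♯H) (hH : IsPi {f}ᶜ H) (hk : k ∈ H) (hk' : k' ∈ H)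
    (h : Gd f v M F k) (h' : Gd f v M F k') : k = k' := by
  have triv : ∀ c ∈ H, c ∈ C[F] → c = 1 := fun c hc hc' => by
    have : c ∈ F ⊓ H := ⟨hC ⟨hHM hc, hc'⟩, hc⟩
    rwa [hF.inf_eq_bot hH, mem_bot] at this
  have nP : M ≤ N[Phi F] := norm_Phi hMF
  have nF : F ≤ N[Phi F] := (Phi_nml F).norm
  have hV := Phi_quo_elem hf hF
  have side : ∀ {k : G}, Gd f v M F k → quo ⁅F, zpowers k⁆ (Phi F) ≤ quo F (Phi F) ∧
      (quo ⁅F, zpowers k⁆ (Phi F)).relIndex (quo F (Phi F)) ∣ f ∧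
      ∀ g ∈ quo ⁅F, zpowers k⁆ (Phi F), cs (Phi F) k * g * (cs (Phi F) k)⁻¹ = g ^ (v + 1) := by
    intro k h
    have hp := (h.prod hf hF hMF).quo nF
    refine ⟨hp.left_le, hp.relIndex_dvd.trans ?_, fun g hg => ?_⟩
    · obtain ⟨y, hy, e⟩ := (h.cyc.quo (Phi F)).exists_gen
      rw [← e, card_zpowers']
      exact orderOf_dvd_of_pow_eq_one (hV.2 y (hp.right_le hy))
    · obtain ⟨g, hg0, hg', rfl⟩ := mem_quo.mp hg
      rw [← ap_conj _ (nP h.mem) hg', h.pw g hg0, ap_pow _ hg']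
  have hc : ⁅k⁻¹, k'⁻¹⁆ = 1 := by
    have c0 : ⁅k⁻¹, k'⁻¹⁆ ∈ H := by
      rw [commutatorElement_def]
      exact mul_mem (mul_mem (mul_mem (inv_mem hk) (inv_mem hk')) (inv_mem (inv_mem hk)))
        (inv_mem (inv_mem hk'))
    have h1 := gl_comm hf hV (quo_norm _ (hHM.trans hMF)) (odd_quo hodd _) (hH.quo _)
      (cs_mem_quo hk (nP h.mem)) (cs_mem_quo hk' (nP h'.mem)) (side h).1 (side h').1
      (side h).2.1 (side h').2.1 (side h).2.2 (side h').2.2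
    rw [← ap_inv _ (nP h.mem), ← ap_inv _ (nP h'.mem),
      ← ap_commutator _ (inv_mem (nP h.mem)) (inv_mem (nP h'.mem)), ← zpowers_le,
      ← quo_zpowers (nP (hHM c0)), quo_cents (zpowers_le.mpr (nP (hHM c0))) nF, commC] at h1
    exact triv _ c0 (zpowers_le.mp
      (coprime_cent_Phi (hF.coprime (hH.of_le (zpowers_le.mpr c0))) h1))
  have hc' : k' * k = k * k' := by
    rw [commutatorElement_eq_one_iff_mul_comm, ← mul_inv_rev, ← mul_inv_rev, inv_inj] at hc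
    exact hc
  obtain ⟨a1, -⟩ := h.half hf hF hMF h'.mem hc'
  obtain ⟨-, a2⟩ := h'.half hf hF hMF h.mem hc'.symm
  rw [← inv_mul_eq_one]
  refine triv _ (mul_mem (inv_mem hk) hk') (mem_C'.mpr fun g hg => ?_)
  obtain ⟨a, ha, c, hc, rfl⟩ := (h.prod hf hF hMF).mul g hg
  have e1 : k * a * k⁻¹ = k' * a * k'⁻¹ := by rw [h.pw a ha, h'.pw a (a2 ha)]
  have e2 : c * k = k * c := mem_C1.mp hc.2
  have e3 : c * k' = k' * c := mem_C.mp a1 c hc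
  calc k⁻¹ * k' * (a * c) = k⁻¹ * (k' * a * k'⁻¹) * (k' * c) := by group
    _ = a * k⁻¹ * (c * k') := by rw [← e1, ← e3]; group
    _ = a * k⁻¹ * (c * k) * k⁻¹ * k' := by group
    _ = _ := by rw [e2]; group

theorem Gd.mod (hf : f.Prime) (hF : IsPi {f} F) (hMF : M ≤ N[F]) (hC : M ⊓ C[F] ≤ F)
    {Y : Subgroup G} (hYM : Y ≤ M) (hFY : F ≤ Y) (hs : Sol Y) (hodd : Odd ♯Y)
    (hY : PiNat {f}ᶜ (F.relIndex Y)) (hk : k ∈ Y) (hk' : k' ∈ Y)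
    (h : Gd f v M F k) (h' : Gd f v M F k') : k' * k⁻¹ ∈ F := by
  obtain ⟨H, hH, hkH⟩ := Hall_superset hs (zpowers_le.mpr hk) h.pi.isPi
  have sd : SD F H Y := (Hall.mk' hFY hF hY).sd hH (hYM.trans hMF)
  obtain ⟨a, ha, e⟩ := SchurZassenhaus_subJ sd.norm (sd.sup ▸ zpowers_le.mpr hk')
    (hF.coprime h'.pi.isPi) (Or.inl (hF.sol hf))
  have h1 : a⁻¹ * k' * a⁻¹⁻¹ ∈ H := by rw [inv_inv]; exact mem_cj.mp (e (mem_zpowers k'))
  have h2 := h.eq hf hF hMF hC (hH.le.trans hYM) (odd_of_le hodd hH.le) hH.pi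
    (hkH (mem_zpowers k)) h1 (h'.conj hMF (inv_mem (hYM (hFY ha))))
  have h3 : k' * k⁻¹ = a * (k * a⁻¹ * k⁻¹) := by
    conv_rhs => rw [← mul_assoc, ← mul_assoc]; arg 1; arg 1; rw [h2]
    group
  rw [h3]
  exact mul_mem ha (conj_mem (hMF h.mem) (inv_mem ha))

theorem cent_pcore_compl {π : Set ℕ} {H : Subgroup G} (hs : Sol H) (h : O[π, H] = ⊥) :
    H ⊓ C[O[πᶜ, H]] ≤ O[πᶜ, H] := by
  have h1 : F[H] ≤ O[πᶜ, H] := by
    have := ((Fitting_nil H).pcoreC π).sup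
    rw [eq_bot_of_le h (pcore_Fitting_le π H), bot_sup_eq] at this
    rw [← this]
    exact pcore_Fitting_le _ H
  exact ((inf_le_inf_left _ (C_anti h1)).trans (cent_sub_Fitting hs)).trans h1

omit [Finite G] in
theorem quo_le_C1 {X : Subgroup G} {h : G} (hX : X ≤ N[F]) (hh : h ∈ N[F])
    (H : ∀ y ∈ X, y * h * y⁻¹ * h⁻¹ ∈ F) : quo X F ≤ C{cs F h} := by
  intro z hz
  obtain ⟨y, hy, hy', rfl⟩ := mem_quo.mp hz
  rw [mem_C1, ← commutatorElement_eq_one_iff_mul_comm, ← ap_commutator _ hy' hh]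
  exact cs_of_mem (H y hy)

/-- `h` is central modulo `F = O_f(M)`. -/
theorem Gd.central (hf : f.Prime) (hf2 : f ≠ 2) (hs : Sol M) (hO : O[{f}ᶜ, M] = ⊥)
    (nc : NCompl {2} M) {h : G} (h2 : PiElt {2}ᶜ h) (H : Gd f v M O[{f}, M] h) :
    ⁅M, zpowers h⁆ ≤ O[{f}, M] := by
  set F := O[{f}, M] with hFd
  have hF : IsPi {f} F := pcore_pi _ _
  have hMF : M ≤ N[F] := (pcore_nml _ _).norm
  have hC : M ⊓ C[F] ≤ F := cent_pcore_sub hf hs hO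
  set M0 := O[{2}ᶜ, M] with hM0
  have n0 : M0 ⊴ M := pcore_nml _ _
  have odd0 : Odd ♯M0 := by
    rw [← Nat.not_even_iff_odd, even_iff_two_dvd, ← isPi_compl_iff Nat.prime_two]
    exact pcore_pi _ _
  have hh0 : h ∈ M0 := Hall.mem_pcore nc h2 H.mem
  have e0 : O[{f}, M0] = F := pcore_pcore_of_subset M (singleton_subset_compl hf2)
  have nF : F ⊴ M0 := e0 ▸ pcore_nml _ _
  set Y0 := coreMod {f}ᶜ M0 F with hY0
  have nY : Y0 ⊴ M0 := coreMod_nml _ nF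
  have nY' : M ≤ N[Y0] := norm_coreMod _ nF n0.norm hMF
  have FY : F ⊴ Y0 := nml_coreMod _ _ _
  have hz : zpowers h ≤ M0 := zpowers_le.mpr hh0
  have h1 : quo Y0 F ≤ C{cs F h} := by
    refine quo_le_C1 FY.norm (hMF H.mem) fun y hy => ?_
    have l1 : Y0 ⊔ zpowers h ≤ M0 := sup_le nY.le hz
    refine Gd.mod hf hF hMF hC (l1.trans n0.le) (FY.le.trans le_sup_left)
      (hs.of_le (l1.trans n0.le)) (odd_of_le odd0 l1) ?_ (mem_sup_right (mem_zpowers h))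
      (mul_mem (mul_mem (mem_sup_left hy) (mem_sup_right (mem_zpowers h)))
        (inv_mem (mem_sup_left hy))) H (H.conj hMF (n0.le (nY.le hy)))
    rw [← isPi_quo_iff (l1.trans nF.norm), quo_sup FY.norm (hz.trans nF.norm)]
    exact ((isPi_quo_iff FY.norm).mpr (coreMod_idx _ _ _)).sup (H.pi.isPi.quo _)
      (quo_norm _ (hz.trans nY.norm))
  have h3 : h ∈ Y0 := by
    refine mem_of_cs_mem_quo FY (hMF H.mem) ?_
    rw [← mem_C_iff_le_C1, hY0, quo_coreMod] at h1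
    rw [hY0, quo_coreMod]
    refine cent_pcore_compl ((hs.of_le n0.le).quo _) ?_ ⟨cs_mem_quo hh0 (hMF H.mem), h1⟩
    rw [← e0]
    exact pcore_quo_pcore _ _
  rw [← quo_cents hMF (hz.trans nF.norm), quo_zpowers (hMF H.mem), C_zpowers]
  exact quo_le_C1 hMF (hMF H.mem) fun y hy => Gd.mod hf hF hMF hC (nY.le.trans n0.le) FY.le
    (hs.of_le (nY.le.trans n0.le)) (odd_of_le odd0 nY.le) (coreMod_idx _ _ _) h3
    (conj_mem (nY' hy) h3) H (H.conj hMF hy)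

end H12
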