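import Mathlib
import Cfsg.Agent.H1.JRDefs
import Cfsg.Agent.H12.JRAF0
import Cfsg.Agent.H13.ZJApps
import Cfsg.Agent.H13.ZJFusion
import Cfsg.Agent.H3.Transfer
import Cfsg.Agent.S0205

/-! S0506, section AF. -/

set_option autoImplicit false
open Cfsg H24 H26 Subgroup
open scoped commutatorElement

namespace H12

variable {G : Type*} [Group G] [Finite G] {f v m : ℕ} {M : Subgroup G}

theorem pe_root (hf : f.Prime) {g : G} (hg : PiElt {f} g) {e : ℕ} (he : ¬ f ∣ e) :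
    ∃ k : ℕ, (g ^ e) ^ k = g :=
  exists_pow_eq_self_of_coprime (PiNat.coprime' ((piNat_compl_singleton hf).mpr he) hg)

omit [Finite G] in
theorem conj_zpowers_pow {h x y : G} {w : ℕ} (hhx : h * x * h⁻¹ = x ^ w) (hy : y ∈ zpowers x) :
    h * y * h⁻¹ = y ^ w := by
  obtain ⟨k, rfl⟩ := hy
  simp only
  rw [← conj_zpow, hhx, ← zpow_natCast, ← zpow_natCast, ← zpow_mul, ← zpow_mul, mul_comm]

theorem af_core (hf : f.Prime) (hf2 : f ≠ 2) (hm : ¬ f ∣ m) (hv : ¬ f ∣ v) (hv1 : ¬ f ∣ v + 1)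
    (hv2 : ¬ f ∣ v + 2) (hs : Sol M) (hO : O[{f}ᶜ, M] = ⊥) (nc : NCompl {2} M) {φ x h : G}
    (φ1 : φ ≠ 1) (hM : h ∈ M) (h2 : PiElt {2}ᶜ h) (hhm : h ^ m = 1)
    (wm : ∀ g : G, PiElt {f} g → g ^ ((v + 1) ^ m) = g)
    (syl : Syl f (M ⊓ C{φ}) (zpowers φ ⊔ zpowers x)) (hhφ : h * φ = φ * h)
    (hhx : h * x * h⁻¹ = x ^ (v + 1)) (xf : x ^ f = 1) (φx : φ * x = x * φ)
    (hN : ∀ ψ ∈ zpowers φ, M ⊓ N[zpowers ψ] ≤ C{ψ}) : φ ∉ ⁅M, M⁆ := by
  set F := O[{f}, M] with hFd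
  have hF : IsPi {f} F := pcore_pi _ _
  have nF : F ⊴ M := pcore_nml _ _
  have hMF : M ≤ N[F] := nF.norm
  have hpi : PiElt {f}ᶜ h := piElt_of_pow_eq_one ((piNat_compl_singleton hf).mpr hm) hhm
  have ΩM : zpowers φ ⊔ zpowers x ≤ M := syl.le.trans inf_le_left
  have φh : zpowers φ ≤ C{h} := zpowers_le.mpr (mem_C1.mpr hhφ.symm)
  have hφ' : zpowers h ≤ C{φ} := zpowers_le.mpr (mem_C1.mpr hhφ)
  have S : ∀ R ≤ M, IsPi {f} R → zpowers φ ⊔ zpowers x ≤ R →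
      R ⊓ C{φ} ≤ zpowers φ ⊔ zpowers x ∧ R ⊓ C{h} ≤ zpowers φ := by
    intro R hRM hR hΩ
    have h1 : R ⊓ C{φ} = zpowers φ ⊔ zpowers x := syl.eq_of_le (hR.inf_left _)
      (le_inf hΩ (syl.le.trans inf_le_right)) (inf_le_inf_right _ hRM)
    refine ⟨h1.le, (((hR.inf_left _).nil hf).eq_of_norm_le
      (le_inf (le_sup_left.trans hΩ) φh) fun g hg => ?_).ge⟩
    have h3 : g ∈ zpowers φ ⊔ zpowers x :=
      h1.le ⟨hg.1.1, hN φ (mem_zpowers φ) ⟨hRM hg.1.1, hg.2⟩⟩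
    obtain ⟨c, hc, y, hy, rfl⟩ := (mem_sup_of_norm (norm_of_cent (by
      rw [C_zpowers, zpowers_le, mem_C1, φx]))).mp h3
    have h4 : y ∈ C{h} := (mul_mem_cancel_left (φh hc)).mp hg.1.2
    rw [mem_C1_comm, mem_C1_iff_conj, conj_zpowers_pow hhx hy, pow_succ, mul_eq_right] at h4
    obtain ⟨k, hk⟩ := pe_root hf (syl.pi.piElt (mem_sup_right hy)) hv
    rw [h4, one_pow] at hk
    rw [← hk, mul_one]; exact hc
  have gd : Gd f v M F h := by
    have l1 : F ⊔ (zpowers φ ⊔ zpowers x) ≤ M := sup_le nF.le ΩM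
    have p1 := hF.sup syl.pi (ΩM.trans hMF)
    obtain ⟨s1, s2⟩ := S _ l1 p1 le_sup_right
    have hx' : h ∈ N[zpowers x] := mem_N_of_finite fun y hy => by
      rw [conj_zpowers_pow hhx hy]; exact pow_mem hy _
    obtain ⟨i1, i2⟩ := lemW hf hm hv hv1 hv2 p1 (zpowers_le.mp (norm_sup (zpowers_le.mpr (hMF hM))
      (norm_sup (norm_zpowers_of_cent hφ') (zpowers_le.mpr hx')))) hhm
      (mem_sup_right (mem_sup_left (mem_zpowers φ)))
      (mem_sup_right (mem_sup_right (mem_zpowers x))) (fun g hg => wm g (p1.piElt hg))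
      hhφ hhx xf φx s2 s1
    let D : Subgroup G :=
      { carrier := {g | g ∈ F ∧ h * g * h⁻¹ = g ^ (v + 1)}
        mul_mem' := fun {a b} ha hb => ⟨mul_mem ha.1 hb.1, by
          rw [(show Commute a b from i1 a (mem_sup_left ha.1) b (mem_sup_left hb.1) ha.2
            hb.2).mul_pow, ← ha.2, ← hb.2]; group⟩
        one_mem' := ⟨one_mem _, by simp⟩
        inv_mem' := fun {a} ha => ⟨inv_mem ha.1, by rw [inv_pow, ← ha.2]; group⟩ }
    have nD : zpowers h ≤ N[D] := zpowers_le.mpr (mem_N_of_finite fun g hg => by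
      rw [hg.2]; exact pow_mem hg _)
    have h1 : ⁅F, zpowers h⁆ ≤ D := by
      rw [commutator_le]
      intro g hg k hk
      obtain ⟨d, hd, ed, c, hc, rfl⟩ := i2 g (mem_sup_left hg)
      have e1 : ∀ k ∈ zpowers h, c * k = k * c := fun k hk =>
        (mem_C.mp (C_zpowers h ▸ φh hc : c ∈ C[zpowers h]) k hk).symm
      have h3 : d ∈ F := by
        have := mul_mem (conj_mem (hMF hM) hg) (inv_mem hg)
        rw [show h * (d * c) * h⁻¹ * (d * c)⁻¹ = (h * d * h⁻¹) * (h * c) * h⁻¹ * c⁻¹ * d⁻¹ by group,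
          ← e1 h (mem_zpowers h), ed, show d ^ (v + 1) * (c * h) * h⁻¹ * c⁻¹ * d⁻¹ = d ^ v by group]
          at this
        obtain ⟨j, hj⟩ := pe_root hf (p1.piElt hd) hv
        rw [← hj]; exact pow_mem this _
      have h4 : d ∈ D := ⟨h3, ed⟩
      rw [commutatorElement_def, show d * c * k * (d * c)⁻¹ * k⁻¹ = d * (c * k) * c⁻¹ * d⁻¹ * k⁻¹ by
        group, e1 k hk, show d * (k * c) * c⁻¹ * d⁻¹ * k⁻¹ = d * (k * d⁻¹ * k⁻¹) by group]
      exact mul_mem h4 (conj_mem (nD hk) (inv_mem h4))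
    have h3 : F ⊓ C{h} ≤ zpowers φ := (inf_le_inf_right _ le_sup_left).trans s2
    have h4 : Cyc (F ⊓ C{h}) := (cyc_zpowers φ).of_le h3
    refine ⟨hM, hpi, fun g hg => (h1 hg).2, h4, ?_⟩
    obtain ⟨ψ, hψ, e⟩ := h4.exists_gen
    rw [← e, C_zpowers]
    exact hN ψ (h3 hψ)
  have cen := gd.central hf hf2 hs hO nc h2
  have xF : x ∈ F := by
    have h1 : ⁅h, x⁆ ∈ F := cen (commC _ M ▸ commutator_mem_commutator (mem_zpowers h)
      (ΩM (mem_sup_right (mem_zpowers x))))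
    rw [commutatorElement_def, hhx, pow_succ, mul_inv_cancel_right] at h1
    obtain ⟨j, hj⟩ := pe_root hf (syl.pi.piElt (mem_sup_right (mem_zpowers x))) hv
    rw [← hj]; exact pow_mem h1 _
  have pr := coprime_isProd_of_comm_le (zpowers_le.mpr (hMF hM)) (hF.coprime hpi.isPi)
    (Or.inl (hF.sol hf)) nF.le cen
  rw [C_zpowers] at pr
  have pr' := gd.prod hf hF hMF
  set A := ⁅F, zpowers h⁆ with hA
  set Ch := M ⊓ C{h} with hCh
  have nA : Ch ≤ N[A] := norm_comm (inf_le_left.trans hMF) (norm_zpowers_of_cent inf_le_right)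
  have e1 : M ≤ A ⊔ Ch := by
    rw [← pr.sup_eq, ← pr'.sup_eq]
    exact sup_le (sup_le le_sup_left ((inf_le_inf_right _ nF.le).trans le_sup_right)) le_sup_right
  have φC : zpowers φ ≤ Ch := le_inf (le_sup_left.trans ΩM) φh
  have φp : IsPi {f} (zpowers φ) := syl.pi.of_le le_sup_left
  have sy : Syl f Ch (zpowers φ) := syl_of_max hf φp φC fun Q hQ l1 l2 =>
    (le_inf le_sup_right (l2.trans inf_le_right)).trans
      (S (F ⊔ Q) (sup_le nF.le (l2.trans inf_le_left))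
        (hF.sup hQ ((l2.trans inf_le_left).trans hMF))
        (sup_le (l1.trans le_sup_right) ((zpowers_le.mpr xF).trans le_sup_left))).2
  have sd := Burnside_normal_complement hf sy (by
    rw [C_zpowers]
    exact (inf_le_inf_right _ inf_le_left).trans (hN φ (mem_zpowers φ)))
  set O := O[{f}ᶜ, Ch] with hOd
  have d1 : ⁅Ch, Ch⁆ ≤ O := by
    rw [← sd.sup, der1_sup sd.norm, der1_eq_bot.mpr (abl_zpowers φ)]
    exact sup_le (sup_le (der1_le _) (comm_le_left sd.norm)) bot_le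
  have d2 : ⁅M, M⁆ ≤ A ⊔ O := by
    refine (der1_mono e1).trans ?_
    rw [der1_sup nA]
    exact sup_le (sup_le ((der1_le _).trans le_sup_left) ((comm_le_left nA).trans le_sup_left))
      (d1.trans le_sup_right)
  intro hφ
  obtain ⟨a, ha, o, ho, e⟩ := (mem_sup_of_norm (sd.left_le.trans nA)).mp (d2 hφ)
  have h3 : a ∈ C{h} := by
    have : φ ∈ C{h} := φh (mem_zpowers φ)
    rw [e] at this
    exact (mul_mem_cancel_right (mem_inf.mp (sd.left_le ho)).2).mp this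
  rw [mem_C1_comm, mem_C1_iff_conj, gd.pw a ha, pow_succ, mul_eq_right] at h3
  obtain ⟨k, hk⟩ := pe_root hf (hF.piElt (pr'.left_le ha)) hv
  rw [h3, one_pow] at hk
  rw [← hk, one_mul] at e
  have : φ ∈ O ⊓ zpowers φ := ⟨e ▸ ho, mem_zpowers φ⟩
  rw [sd.inf, mem_bot] at this
  exact φ1 this

theorem exists_v (hf : f.Prime) {w : ℕ} (m0 : m ≠ 0) (hw : w ^ m ≡ 1 [MOD f])
    (hw2 : ¬ w ^ 2 ≡ 1 [MOD f]) (n : ℕ) : ∃ v, v + 1 ≡ w [MOD f] ∧ (v + 1) ^ m ≡ 1 [MOD f ^ n] ∧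
      ¬ f ∣ v ∧ ¬ f ∣ v + 1 ∧ ¬ f ∣ v + 2 := by
  have h0 : ¬ f ∣ w := fun k => by
    have := (Nat.modEq_zero_iff_dvd.mpr (dvd_pow k m0)).symm.trans hw
    exact hf.one_lt.ne' (Nat.dvd_one.mp (Nat.modEq_zero_iff_dvd.mp this.symm))
  obtain ⟨v, hv⟩ : ∃ v, w ^ f ^ n = v + 1 :=
    Nat.exists_eq_succ_of_ne_zero (pow_ne_zero _ (by rintro rfl; simp at h0))
  have h1 : v + 1 ≡ w [MOD f] := by
    haveI := Fact.mk hf
    rw [← hv, ← ZMod.natCast_eq_natCast_iff]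
    push_cast
    exact ZMod.pow_card_pow _
  have h2 : ¬ f ∣ v * (v + 2) := fun k => hw2 ((h1.pow 2).symm.trans (by
    rw [show (v + 1) ^ 2 = v * (v + 2) + 1 by ring]
    simpa using (Nat.modEq_zero_iff_dvd.mpr k).add_right 1))
  refine ⟨v, h1, ?_, fun k => h2 (k.mul_right _), fun k => h0 ((h1.dvd_iff dvd_rfl).mp k),
    fun k => h2 (k.mul_left _)⟩
  rw [← hv, ← pow_mul, mul_comm, pow_mul]
  have h3 := dvd_sub_pow_of_dvd_sub (R := ℤ) (p := f) (a := 1) (b := (w : ℤ) ^ m)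
    (by exact_mod_cast hw.dvd) n
  rw [Nat.modEq_iff_dvd]
  push_cast
  rw [one_pow] at h3
  exact (pow_dvd_pow _ (Nat.le_succ n)).trans h3

/-- the local statement, before factoring out `O_{f'}`. -/
theorem af_local (hf : f.Prime) (hf2 : f ≠ 2) (hs : Sol M) (nc : NCompl {2} M) {φ x h : G} {w : ℕ}
    (φ1 : φ ≠ 1) (hM : h ∈ M) (h2 : PiElt {2}ᶜ h) (hpi : PiElt {f}ᶜ h) (ox : orderOf x = f)
    (hw2 : ¬ w ^ 2 ≡ 1 [MOD f]) (syl : Syl f (M ⊓ C{φ}) (zpowers φ ⊔ zpowers x))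
    (hhφ : h * φ = φ * h) (hhx : h * x * h⁻¹ = x ^ w) (φx : φ * x = x * φ)
    (hN : ∀ ψ ∈ zpowers φ, M ⊓ N[zpowers ψ] ≤ C{ψ}) : φ ∉ ⁅M, M⁆ := by
  have m0 : orderOf h ≠ 0 := (orderOf_pos h).ne'
  have hw : w ^ orderOf h ≡ 1 [MOD f] := by
    have := conj_pow_conj hhx (orderOf h)
    rw [pow_orderOf_eq_one, one_mul, inv_one, mul_one] at this
    rw [← ox, ← pow_eq_pow_iff_modEq, ← this, pow_one]
  set O := O[{f}ᶜ, M] with hO
  obtain ⟨v, v1, v2, v3, v4, v5⟩ := exists_v hf m0 hw hw2 (Nat.card (QN O))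
  have nO : O ⊴ M := pcore_nml _ _
  have pO : IsPi {f}ᶜ O := pcore_pi _ _
  have ΩM : zpowers φ ⊔ zpowers x ≤ M := syl.le.trans inf_le_left
  have φM : φ ∈ M := ΩM (mem_sup_left (mem_zpowers φ))
  have xM : x ∈ M := ΩM (mem_sup_right (mem_zpowers x))
  have φp : IsPi {f} (zpowers φ) := syl.pi.of_le le_sup_left
  intro hφ
  refine af_core (M := quo M O) (φ := cs O φ) (x := cs O x) (h := cs O h) hf hf2
    ((piNat_compl_singleton hf).mp hpi) v3 v4 v5 (hs.quo _) (pcore_quo_pcore _ _) (nc.quo nO.norm)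
    (fun k => φ1 ?_) (cs_mem_quo hM (nO.norm hM)) (h2.ap _ (nO.norm hM))
    (by rw [← ap_pow _ (nO.norm hM), pow_orderOf_eq_one, ap_one]) (fun g hg => ?_) ?_ ?_ ?_ ?_ ?_
    ?_ ?_
  · exact (φp.piElt (mem_zpowers φ)).eq_one (pO.piElt ((cs_eq_one (nO.norm φM)).mp k))
  · obtain ⟨k, hk⟩ := hg.exists_pow hf
    have h1 : k ≤ Nat.card (QN O) := by
      have := Nat.le_of_dvd Nat.card_pos (orderOf_dvd_natCard g)
      rw [hk] at this
      exact (Nat.lt_pow_self hf.one_lt).le.trans this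
    conv_rhs => rw [← pow_one g]
    rw [pow_eq_pow_iff_modEq, hk]
    exact v2.of_dvd (pow_dvd_pow _ h1)
  · rw [← coprime_quo_cent1 (norm_self M φM) (nO.norm φM) nO.norm
      (by rw [← card_zpowers']; exact pO.coprime' φp), ← quo_zpowers (nO.norm φM),
      ← quo_zpowers (nO.norm xM), ← quo_sup (zpowers_le.mpr (nO.norm φM))
      (zpowers_le.mpr (nO.norm xM))]
    exact syl.quo (inf_le_left.trans nO.norm)
  · rw [← ap_mul _ (nO.norm hM) (nO.norm φM), hhφ, ap_mul _ (nO.norm φM) (nO.norm hM)]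
  · rw [← ap_conj _ (nO.norm hM) (nO.norm xM), ← ap_pow _ (nO.norm xM), hhx,
      pow_eq_pow_iff_modEq.mpr (ox ▸ v1.symm)]
  · rw [← ap_pow _ (nO.norm xM), ← ox, pow_orderOf_eq_one, ap_one]
  · rw [← ap_mul _ (nO.norm φM) (nO.norm xM), φx, ap_mul _ (nO.norm xM) (nO.norm φM)]
  · intro ψ hψ
    rw [← quo_zpowers (nO.norm φM)] at hψ
    obtain ⟨ψ, hψ0, hψ', rfl⟩ := mem_quo.mp hψ
    have p1 := φp.of_le (zpowers_le.mpr hψ0)
    rw [← quo_zpowers hψ', coprime_subnorm_quotient_pgroup hf p1 (zpowers_le.mpr hψ')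
      (pO.coprime' p1) nO.le]
    exact img_cent1 _ (hN ψ hψ0) hψ'
  · rw [← quo_comm nO.norm nO.norm]
    exact cs_mem_quo hφ (nO.norm φM)

theorem ncompl_two (h4 : ¬ 4 ∣ ♯M) : NCompl {2} M := by
  by_cases h2 : 2 ∣ ♯M
  · obtain ⟨S, hS⟩ := Sylow_exists Nat.prime_two M
    have e : (♯M).minFac = 2 := (Nat.minFac_eq_two_iff _).mpr h2
    rw [ncompl_iff hS]
    have hc : Cyc S := by
      obtain ⟨k, hk⟩ := hS.pi.card_eq_pow Nat.prime_two
      have h1 := hS.prime_dvd Nat.prime_two rfl h2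
      have h3 : ¬ 4 ∣ ♯S := fun k => h4 (k.trans (card_dvd hS.le))
      refine cyc_of_prime ?_
      rw [hk] at h1 h3 ⊢
      match k, h1, h3 with
      | 0, h1, _ => simp at h1
      | 1, _, _ => exact Nat.prime_two
      | k + 2, _, h3 => exact absurd ⟨2 ^ k, by ring⟩ h3
    have := cyclic_pdiv_normal_complement (M := M) (S := S) (e ▸ hS) hc
    rwa [e] at this
  · have := (isPi_compl_iff Nat.prime_two).mpr h2
    exact ncompl_of_nml (hall_self this) (norm_self M)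

theorem sol_of_ncompl_two (nc : NCompl {2} M) : Sol M := by
  obtain ⟨S, hS⟩ := Sylow_exists Nat.prime_two M
  refine ((ncompl_iff hS).mp nc).sol (Agent.S0205.result ?_) (hS.pi.sol Nat.prime_two)
  rw [← Nat.not_even_iff_odd, even_iff_two_dvd, ← isPi_compl_iff Nat.prime_two]
  exact pcore_pi _ _

/-- ZJ transfer: in a perfect group with abelian Sylow `2`-subgroups, `P ≤ N(ZJ(P))'`. -/
theorem zj_le_der (hf : f.Prime) (hf2 : f ≠ 2)
    (ab : ∀ P : Subgroup G, IsPGroup 2 P → ∀ g ∈ P, ∀ k ∈ P, g * k = k * g)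
    {P : Subgroup G} (hP : Syl f ⊤ P) :
    (∀ A : Set G, A ⊆ P → ∀ g : G, (∀ a ∈ A, g * a * g⁻¹ ∈ P) →
      ∃ n ∈ N[centerThompsonOf f P], ∀ a ∈ A, n * a * n⁻¹ = g * a * g⁻¹) ∧
    commutator G ⊓ P ≤ ⁅N[centerThompsonOf f P], N[centerThompsonOf f P]⁆ := by
  haveI := Fact.mk hf
  obtain ⟨P, rfl⟩ := hP.exists_sylow_top hf
  have hq : ¬ QuadInvolved f G := fun k => k.not_abelian_two hf2 fun U hU =>
    abl_iff.mpr (le_C_iff.mpr (ab U hU))
  have h1 : ∀ A : Set G, A ⊆ (P : Subgroup G) → ∀ g : G, (∀ a ∈ A, g * a * g⁻¹ ∈ (P : Subgroup G)) →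
      ∃ n ∈ N[centerThompsonOf f (P : Subgroup G)], ∀ a ∈ A, n * a * n⁻¹ = g * a * g⁻¹ := by
    intro A hA g hg
    obtain ⟨n, hn, e⟩ := H13.zj_controls_fusion hf2 (Or.inr rfl) hq P A hA g⁻¹ (by
      rintro _ ⟨a, ha, rfl⟩
      simp only [inv_inv]
      exact hg a ha)
    exact ⟨n⁻¹, inv_mem hn, fun a ha => by simpa using e a ha⟩
  refine ⟨h1, ?_⟩
  rw [H3.commutator_inf_eq_of_controls P.card_coprime_index
    (H13.le_normalizer_centerThompsonOf_self f _) fun x hx g hg => ?_]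
  · exact inf_le_left
  · obtain ⟨n, hn, e⟩ := h1 {x} (Set.singleton_subset_iff.mpr hx) g (by simpa using hg)
    exact ⟨n, hn, e x rfl⟩

theorem abelian_hall_center {H : Subgroup G} {π : Set ℕ} (hH : Hall π M H) (ha : Abl H) {z : G}
    (hz : z ∈ H) (hz' : z ∈ ⁅M, M⁆) (hc : M ≤ C{z}) : z = 1 := by
  have h1 := H3.abelian_hall_inf_commutator_inf_center (H := H.subgroupOf M) (ha.subgroupOf M)
    (by rw [card_subgroupOf_of_le hH.le]; exact hH.coprime)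
  rw [der1_eq_map] at hz'
  obtain ⟨y, hy, rfl⟩ := hz'
  have : y ∈ H.subgroupOf M ⊓ commutator M ⊓ center M :=
    ⟨⟨hz, hy⟩, mem_center_iff.mpr fun g => Subtype.ext (mem_C1.mp (hc g.2))⟩
  rw [h1, mem_bot] at this
  rw [this]; rfl

end H12

namespace H1
open H12

theorem caseAF {G : Type*} [Group G] [Finite G] {f : ℕ} (hf : f.Prime) (hf2 : f ≠ 2)
    (ab : ∀ P : Subgroup G, IsPGroup 2 P → ∀ g ∈ P, ∀ k ∈ P, g * k = k * g)
    (hG : commutator G = ⊤) {φ x h : G} {w r : ℕ} (hφ : IsPGroup f (zpowers φ)) (hφ1 : φ ≠ 1)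
    (hx : orderOf x = f) (hφx : φ * x = x * φ) (hxφ : x ∉ zpowers φ)
    (hΩ : Syl f C{φ} (zpowers φ ⊔ zpowers x)) (hh : h * φ = φ * h) (hhx : h * x * h⁻¹ = x ^ w)
    (hr : Odd r) (hw : w ^ r ≡ 1 [MOD f]) (hw1 : ¬ w ≡ 1 [MOD f])
    (hN : ∀ ψ ∈ zpowers φ, N[zpowers ψ] ≤ C{ψ})
    (h4 : ∀ Z : Subgroup G, IsPGroup f Z → 4 ∣ ♯N[Z] → ∃ g, Z ≤ cj g (zpowers φ))
    (hΛ : ∀ ψ ∈ zpowers φ, ψ ≠ 1 → φ ∉ zpowers ψ → ∃ K, K ⊴ C{ψ} ∧ K.relIndex C{ψ} = f) :
    False := by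
  haveI := Fact.mk hf
  obtain ⟨P, hP, ΩP⟩ := Sylow_superset hf hΩ.pi le_top
  obtain ⟨fus, tr⟩ := zj_le_der hf hf2 ab hP
  rw [hG, top_inf_eq] at tr
  set Z := centerThompsonOf f P with hZ
  have ZP : Z ≤ P := H13.centerThompsonOf_le _ _
  have PN : P ≤ N[Z] := H13.le_normalizer_centerThompsonOf_self f _
  have φP : φ ∈ P := ΩP (mem_sup_left (mem_zpowers φ))
  have xP : x ∈ P := ΩP (mem_sup_right (mem_zpowers x))
  have Z1 : Z ≠ ⊥ := H13.centerThompsonOf_ne_bot (Or.inr rfl) (hP.pi.isPGroup hf)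
    (ne_bot_of_mem φP hφ1)
  have PN' : Syl f N[Z] P := hP.of_le PN le_top
  by_cases h4' : 4 ∣ ♯N[Z]
  · obtain ⟨g, hg⟩ := h4 Z ((hP.pi.of_le ZP).isPGroup hf) h4'
    rw [le_cj_iff] at hg
    obtain ⟨ψ, hψ, e⟩ := ((cyc_zpowers φ).of_le hg).exists_gen
    have hψ' := hg hψ
    have e1 : N[Z] = cj g C{ψ} := by
      rw [← le_antisymm (hN ψ hψ') (C_zpowers ψ ▸ C_le_N _), e, cj_N, cj_cj_inv]
    by_cases k : φ ∈ zpowers ψ
    · have e2 : C{ψ} = C{φ} :=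
        le_antisymm (C1_le_C1_of_mem_zpowers k) (C1_le_C1_of_mem_zpowers hψ')
      have e3 : zpowers φ ⊔ zpowers x = P := by
        refine eq_of_card_eq ΩP ?_
        rw [PN'.card_eq (e1 ▸ e2 ▸ hΩ.cj g), card_cj]
      have a1 : Abl P := e3 ▸ (abl_zpowers φ).sup (abl_zpowers x)
        (by rw [C_zpowers, zpowers_le, mem_C1, hφx])
      have m1 : g * φ * g⁻¹ ∈ P := by
        rw [e, mem_cj, inv_inv] at k
        exact ZP k
      exact hφ1 (conj_eq_one_iff'.mp (abelian_hall_center PN' a1 m1 (tr m1)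
        (by rw [e1, e2, cj_C1])))
    · obtain ⟨K, hK, iK⟩ := hΛ ψ hψ' (by
        rintro rfl
        rw [zpowers_one_eq_bot, eq_comm, cj_eq_bot] at e
        exact Z1 e) k
      have hK' : cj g K ⊴ N[Z] := e1 ▸ hK.cj g
      have iK' : (cj g K).relIndex N[Z] = f := by rw [e1, relIndex_cj, iK]
      have := PN'.idx_of_ge (tr.trans (der1_le_of_relIndex_prime hK' (iK' ▸ hf)))
      rw [iK'] at this
      exact this f hf dvd_rfl rfl
  have nc := ncompl_two h4'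
  obtain ⟨n, hn, en⟩ := fus {φ, x} (by
    rintro a (rfl | rfl)
    exacts [φP, xP]) h (by
    rintro a (rfl | rfl)
    · rw [hh, mul_inv_cancel_right]; exact φP
    · rw [hhx]; exact pow_mem xP _)
  have n1 : n ∈ C{φ} := by
    rw [mem_C1_iff_conj, en φ (by simp), hh, mul_inv_cancel_right]
  have n2 : n * x * n⁻¹ = x ^ w := by rw [en x (by simp), hhx]
  obtain ⟨y, z, hy, hz, yn, zn, e⟩ := exists_piElt_decomp ({2, f}ᶜ : Set ℕ) n
  obtain ⟨a, rfl⟩ := mem_powers_iff_mem_zpowers.mpr yn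
  have odd1 : ∀ u : ℕ, u ^ r ≡ 1 [MOD f] → u ^ 2 ≡ 1 [MOD f] → u ≡ 1 [MOD f] := by
    intro u h1 h2
    obtain ⟨j, rfl⟩ := hr
    rw [pow_succ, pow_mul] at h1
    have := (h2.pow j).mul_right u
    rw [one_pow, one_mul] at this
    exact this.symm.trans h1
  have hw2 : ¬ (w ^ a) ^ 2 ≡ 1 [MOD f] := by
    intro k
    have k1 : w ^ a ≡ 1 [MOD f] := odd1 _ (by
      rw [← pow_mul, mul_comm, pow_mul]; simpa using hw.pow a) k
    have k2 : n ^ a * x * (n ^ a)⁻¹ = x := by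
      rw [conj_pow_conj n2, pow_eq_pow_iff_modEq.mpr (hx ▸ k1), pow_one]
    have k3 : z * x * z⁻¹ = x ^ w := by
      have c1 : n ^ a * z = z * n ^ a :=
        (abl_zpowers n).comm (npow_mem_zpowers n a) zn
      rw [← n2]
      conv_rhs => rw [e]
      simp only
      rw [c1]
      conv_lhs => rw [← k2]
      group
    have k4 := conj_pow_conj k3 (orderOf z)
    rw [pow_orderOf_eq_one, one_mul, inv_one, mul_one] at k4
    have k5 : w ^ orderOf z ≡ 1 [MOD f] := by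
      rw [← hx, ← pow_eq_pow_iff_modEq, ← k4, pow_one]
    -- the order of `w` mod `f` divides `r`, `f - 1` and `orderOf z`
    have o1 : ∀ e : ℕ, w ^ e ≡ 1 [MOD f] → orderOf (w : ZMod f) ∣ e := fun e he =>
      orderOf_dvd_of_pow_eq_one (by
        have := (ZMod.natCast_eq_natCast_iff _ _ _).mpr he
        push_cast at this
        exact this)
    have w0 : (w : ZMod f) ≠ 0 := fun k0 => by
      have := (ZMod.natCast_eq_natCast_iff _ _ _).mpr hw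
      push_cast at this
      rw [k0, zero_pow hr.pos.ne'] at this
      exact zero_ne_one this
    have o2 : orderOf (w : ZMod f) = 1 := by
      by_contra k0
      obtain ⟨p, hp, hd⟩ := Nat.exists_prime_and_dvd k0
      have := hz p hp (hd.trans (o1 _ k5))
      rw [compl_compl] at this
      rcases this with rfl | rfl
      · exact (Nat.not_even_iff_odd.mpr hr) (even_iff_two_dvd.mpr (hd.trans (o1 _ hw)))
      · exact not_dvd_pred hf (hd.trans (ZMod.orderOf_dvd_card_sub_one w0))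
    rw [orderOf_eq_one_iff] at o2
    exact hw1 ((ZMod.natCast_eq_natCast_iff _ _ _).mp (by simpa using o2))
  exact af_local hf hf2 (sol_of_ncompl_two nc) nc hφ1 (pow_mem hn a)
    (hy.mono (Set.compl_subset_compl.mpr (by simp))) (hy.mono (Set.compl_subset_compl.mpr (by simp)))
    hx hw2 (hΩ.of_le (le_inf (ΩP.trans PN) hΩ.le) inf_le_right)
    (mem_C1.mp (pow_mem n1 a)) (conj_pow_conj n2 a) hφx
    (fun ψ hψ => inf_le_right.trans (hN ψ hψ)) (tr φP)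

end H1
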