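import Mathlib
import Cfsg.Agent.H11.Par
import Cfsg.Agent.H12.FF5
import Cfsg.Prelude.Def_CaseTheorems
import Cfsg.Prelude.Def_Involutions

/-!
# N-groups of characteristic two type: vocabulary
-/

set_option autoImplicit false

namespace H12.NG

open Subgroup Cfsg H24 H11.ZN

universe u

variable {G : Type u} [Group G]

/-- elementary abelian `2`-group -/
abbrev EA (A : Subgroup G) : Prop := IsElementaryAbelian 2 A

/-- solvable of characteristic two -/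
def Ch2 (H : Subgroup G) : Prop := Sol H ∧ H ⊓ C[Q2 H] ≤ Q2 H

/-- all `2`-local subgroups are solvable of characteristic two -/
def L2 (G : Type u) [Group G] : Prop := ∀ Y : Subgroup G, IsPi {2} Y → Y ≠ ⊥ → Ch2 N[Y]

/-- `H` is solvable with `O₂(H) = 1` and acts faithfully on the elementary abelian group `V` -/
structure Md (V H : Subgroup G) : Prop where
  ea : EA V
  le : H ≤ N[V]
  fa : H ⊓ C[V] = ⊥
  sol : Sol H
  o2 : Q2 H = ⊥

/-- `t` induces a transvection on `V` -/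
def Tv (V : Subgroup G) (t : G) : Prop := (V ⊓ C{t}).relIndex V = 2

/-- the normal closure of `V` in `H` -/
def ncl (V H : Subgroup G) : Subgroup G := ⨆ g ∈ H, cj g V

/-- the preimage of the Fitting subgroup of `H / O₂(H)` -/
noncomputable def F2 (H : Subgroup G) : Subgroup G := coq (Q2 H) F[quo H (Q2 H)]

/-- `O²(H)` -/
def Od2 (H : Subgroup G) : Subgroup G := closure {g | g ∈ H ∧ Odd (orderOf g)}

/-- `H` acts on the section `X / K`; `Γ` is a holomorph -/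
structure Sec (X K H : Subgroup G) {Γ : Type u} [Group Γ] (ι : X →* Γ) (ρ : H →* Γ) : Prop where
  ker : ∀ x ∈ X, ap ι x = 1 ↔ x ∈ K
  act : ∀ h ∈ H, ∀ x ∈ X, ap ι (h * x * h⁻¹) = ap ρ h * ap ι x * (ap ρ h)⁻¹
  kerρ : ∀ h ∈ H, ap ρ h = 1 ↔ ∀ x ∈ X, h * x * h⁻¹ * x⁻¹ ∈ K

/-- case (A) -/
structure CA (S V : Subgroup G) (z : G) : Prop where
  l2 : L2 G
  syl : Syl 2 ⊤ S
  oz : OZ S = zpowers z
  z1 : z ≠ 1
  ea : EA V
  card : ♯V = 4
  nml : V ⊴ S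
  mv : ¬ N[V] ≤ C{z}
  nle : ¬ C{z} ≤ N[V]
  uq : ∀ H, S ≤ H → Q2 H ≠ ⊥ → ¬ H ⊓ N[V] ≤ C{z} → H ≤ N[V]

/-- `Q_y = O₂(C(y))` -/
abbrev Qz (y : G) : Subgroup G := Q2 C{y}

/-- `U_y = ⟨V^{C(y)}⟩` -/
abbrev Uz (V : Subgroup G) (y : G) : Subgroup G := ncl V C{y}

/-- `D`, the intersection of the `U_y` for `y ∈ V^#` -/
def Dv (V : Subgroup G) : Subgroup G := ⨅ y ∈ V, ⨅ _ : y ≠ 1, Uz V y

/-- `W`, the product of the `U_y` for `y ∈ V^#` -/
def Wv (V : Subgroup G) : Subgroup G := ⨆ y ∈ V, ⨆ _ : y ≠ 1, Uz V y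

/-- `L`, the product of the `Q_y` for `y ∈ V^#` -/
def Lv (V : Subgroup G) : Subgroup G := ⨆ y ∈ V, ⨆ _ : y ≠ 1, Qz y

end H12.NG
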