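import Mathlib
import Cfsg.Agent.H12.NGC0
import Cfsg.Agent.H26.S01a
import Cfsg.Agent.H26.Abelem

/-!
# N-groups: sections, `F2`, `Od2`, characteristic two
-/

set_option autoImplicit false
set_option linter.unusedSectionVars false

namespace H12.NG

open Subgroup Cfsg H24 H11.ZN
open scoped commutatorElement

universe u

variable {G : Type u} [Group G] [Finite G] {V H A B E L W X K Q : Subgroup G} {a b f g t y : G}

theorem piNat_odd {n : ℕ} : PiNat {2}ᶜ n ↔ Odd n := by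
  rw [piNat_compl_singleton Nat.prime_two, Nat.two_dvd_ne_zero, Nat.odd_iff]

theorem piElt_odd : PiElt {2}ᶜ g ↔ Odd (orderOf g) := piNat_odd

theorem isPi_odd : IsPi {2}ᶜ H ↔ Odd ♯H := piNat_odd

theorem piElt_two_of_sq (h : t * t = 1) : PiElt {2} t :=
  piElt_of_pow_eq_one (piNat_self Nat.prime_two) (by rw [sq, h])

theorem ea_sq (h : EA A) (ha : a ∈ A) : a * a = 1 := by rw [← sq]; exact h.2 a ha

theorem ea_of_sq (h : ∀ a ∈ A, a * a = 1) : EA A := by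
  refine ⟨abl_iff.2 (le_C_iff.2 fun a ha b hb => ?_), fun a ha => by rw [sq, h a ha]⟩
  have e := h _ (A.mul_mem ha hb)
  calc a * b = a * ((a * b * (a * b)) * b) * b * b := by rw [e]; simp [mul_assoc, h b hb]
    _ = (a * a) * b * a * (b * b) * (b * b) := by group
    _ = b * a := by rw [h a ha, h b hb]; group

theorem exists_sec (hK : K ⊴ X) (hX : H ≤ N[X]) (hH : H ≤ N[K]) :
    ∃ (Γ : Type u) (_ : Group Γ) (_ : Finite Γ) (ι : X →* Γ) (ρ : H →* Γ), Sec X K H ι ρ := by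
  let Y := quo X K
  let i0 : X →* Y := ((coset K).comp (inclusion hK.norm)).codRestrict Y fun x => by
    have := cs_mem_quo (K := K) x.2 (hK.norm x.2)
    rwa [cs, ap_of_mem _ (hK.norm x.2)] at this
  let r0 : H →* N[Y] := ((coset K).comp (inclusion hH)).codRestrict N[Y] fun h => by
    have := ap_mem_N (coset K) (hX h.2) (hH h.2)
    rwa [ap_of_mem _ (hH h.2)] at this
  have hi : ∀ x (hx : x ∈ X), ((i0 ⟨x, hx⟩ : Y) : QN K) = cs K x := fun x hx => by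
    rw [cs, ap_of_mem _ (hK.norm hx)]; rfl
  have hr : ∀ h (hh : h ∈ H), ((r0 ⟨h, hh⟩ : N[Y]) : QN K) = cs K h := fun h hh => by
    rw [cs, ap_of_mem _ (hH hh)]; rfl
  have ha : ∀ h (hh : h ∈ H) (y : Y),
      ((Y.normalizerMonoidHom (r0 ⟨h, hh⟩) y : Y) : QN K) = cs K h * y * (cs K h)⁻¹ := fun h hh y => by
    rw [← hr h hh]; rfl
  refine ⟨Y ⋊[MonoidHom.id (MulAut Y)] MulAut Y, inferInstance, inferInstance,
    SemidirectProduct.inl.comp i0, SemidirectProduct.inr.comp (Y.normalizerMonoidHom.comp r0),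
    fun x hx => ?_, fun h hh x hx => ?_, fun h hh => ?_⟩
  · rw [ap_of_mem _ hx, MonoidHom.comp_apply, map_eq_one_iff _ SemidirectProduct.inl_injective,
      ← cs_eq_one (hK.norm hx), ← hi x hx, OneMemClass.coe_eq_one]
  · rw [ap_of_mem _ hx, ap_of_mem _ hh, ap_of_mem _ (conj_mem (hX hh) hx)]
    simp only [MonoidHom.comp_apply]
    rw [← map_inv, ← SemidirectProduct.inl_aut]
    refine congrArg _ (Subtype.ext ?_)
    rw [hi, MonoidHom.id_apply, ha, hi, cs, ap_conj _ (hH hh) (hK.norm hx)]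
  · rw [ap_of_mem _ hh]
    simp only [MonoidHom.comp_apply]
    rw [map_eq_one_iff _ SemidirectProduct.inr_injective]
    have key : ∀ x ∈ X, (h * x * h⁻¹ * x⁻¹ ∈ K ↔ cs K h * cs K x * (cs K h)⁻¹ = cs K x) := fun x hx => by
      rw [← cs_eq_one (mul_mem (hK.norm (conj_mem (hX hh) hx)) (inv_mem (hK.norm hx))), cs,
        ap_mul _ (hK.norm (conj_mem (hX hh) hx)) (inv_mem (hK.norm hx)), ap_inv _ (hK.norm hx),
        ap_conj _ (hH hh) (hK.norm hx), mul_inv_eq_one]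
    constructor
    · intro e x hx
      rw [key x hx, ← hi x hx, ← ha h hh, e]; rfl
    · intro e
      ext ⟨y, hy⟩
      obtain ⟨x, hx, -, rfl⟩ := mem_quo.1 hy
      rw [ha]
      exact (key x hx).1 (e x hx)

/-- `C` is the kernel of the action, `O₂(H / C) = 1` -/
theorem Sec.md {Γ : Type u} [Group Γ] [Finite Γ] {ι : X →* Γ} {ρ : H →* Γ} (h : Sec X K H ι ρ)
    (hX : H ≤ N[X]) (h1 : ∀ x ∈ X, x * x ∈ K) (hs : Sol H)
    (hO : ∀ T, T ⊴ H → (∀ t ∈ T, ∃ n : ℕ, ap ρ t ^ 2 ^ n = 1) → ∀ t ∈ T, ap ρ t = 1) :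
    Md ι.range ρ.range := by
  refine ⟨ea_of_sq ?_, le_N_iff.2 ?_, ?_, img_dom ρ ▸ hs.img ρ, ?_⟩
  · rintro _ ⟨x, rfl⟩
    rw [← ap_coe, ← ap_mul _ x.2 x.2]
    exact (h.ker _ (mul_mem x.2 x.2)).2 (h1 x x.2)
  · rintro _ ⟨g, rfl⟩ _ ⟨x, rfl⟩
    rw [← ap_coe, ← ap_coe ι, ← h.act g g.2 x x.2, ap_of_mem _ (conj_mem (hX g.2) x.2)]
    exact ⟨_, rfl⟩
  · rw [eq_bot_iff]
    rintro _ ⟨⟨g, rfl⟩, hc⟩
    rw [mem_bot, ← ap_coe, h.kerρ g g.2]
    intro x hx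
    rw [← h.ker _ (mul_mem (conj_mem (hX g.2) hx) (inv_mem hx)), ap_mul _ (conj_mem (hX g.2) hx) (inv_mem hx),
      h.act g g.2 x hx, ap_inv _ hx, ap_coe, mul_inv_eq_one]
    exact conj_eq_of_mem_C hc ⟨⟨x, hx⟩, (ap_of_mem _ hx).symm⟩
  · have hn : pre ρ (Q2 ρ.range) ⊴ H := ⟨pre_le _ _, norm_pre le_rfl (img_dom ρ ▸ (pcore_nml _ _).norm)⟩
    rw [eq_bot_iff]
    intro q hq
    obtain ⟨g, rfl⟩ := pcore_le _ _ hq
    rw [mem_bot, ← ap_coe]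
    refine hO _ hn (fun t ht => ?_) g (mem_pre.2 ⟨g.2, by rwa [ap_coe]⟩)
    obtain ⟨n, e⟩ := ((pcore_pi _ _).piElt (mem_pre.1 ht).2).exists_pow Nat.prime_two
    exact ⟨n, e ▸ pow_orderOf_eq_one _⟩

theorem odd_Fitting (h : Q2 H = ⊥) : IsPi {2}ᶜ F[H] :=
  (isPi_compl_iff Nat.prime_two).2 fun e => (pcore_ne_bot_iff_dvd_Fitting Nat.prime_two).2 e h

theorem exists_inv (hs : Sol H) (h : Q2 H = ⊥) (ht : t ∈ H) (h2 : t * t = 1) (h1 : t ≠ 1) :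
    ∃ f ∈ F[H], f ≠ 1 ∧ t * f * t⁻¹ = f⁻¹ := by
  have hn : t ∉ C[F[H]] := fun e =>
    h1 ((piElt_two_of_sq h2).eq_one ((odd_Fitting h).piElt (cent_sub_Fitting hs ⟨ht, e⟩)))
  rw [mem_C] at hn
  push Not at hn
  obtain ⟨c, hc, e⟩ := hn
  refine ⟨c * (t * c⁻¹ * t⁻¹), mul_mem hc ((Fitting_nml H).conj_mem ht (inv_mem hc)), fun e' => e ?_, ?_⟩
  · calc c * t = c * (t * c⁻¹ * t⁻¹) * (t * c) := by group
      _ = t * c := by rw [e', one_mul]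
  · calc _ = t * c * (t * t) * (t⁻¹ * c⁻¹) * (t * t)⁻¹ := by group
      _ = t * c * t⁻¹ * c⁻¹ := by rw [h2]; group
      _ = _ := by group

/-! ### `F2`, `Od2`, characteristic two -/

theorem Q2_nml (H : Subgroup G) : Q2 H ⊴ H := pcore_nml _ _
theorem F2_nml (H : Subgroup G) : F2 H ⊴ H := nml_coq_of (Q2_nml H) (Fitting_nml _)
theorem quo_F2 (H : Subgroup G) : quo (F2 H) (Q2 H) = F[quo H (Q2 H)] := quo_coq _
theorem odd_quo_F2 (H : Subgroup G) : IsPi {2}ᶜ F[quo H (Q2 H)] := odd_Fitting (pcore_quo_pcore _ _)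
theorem F2_le (H : Subgroup G) : F2 H ≤ H := (F2_nml H).le
theorem Q2_le_F2 (H : Subgroup G) : Q2 H ≤ F2 H := le_coq _
theorem N_le_N_F2 (H : Subgroup G) : N[H] ≤ N[F2 H] :=
  norm_coq (N_le_N_pcore _ H) (norm_Fitting (quo_norm _ le_rfl))
theorem F2_odd (H : Subgroup G) : Odd ((Q2 H).relIndex (F2 H)) := by
  rw [F2, relIndex_coq_self]; exact isPi_odd.1 (odd_quo_F2 H)
theorem Q2_F2 (H : Subgroup G) : Q2 (F2 H) = Q2 H := by
  rw [Q2, ← pcore_inf_nml _ (F2_nml H), inf_eq_left.2 (Q2_le_F2 H)]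
theorem F2_two (hA : IsPi {2} A) (h : A ≤ F2 H) : A ≤ Q2 H :=
  le_of_idx_compl (nml_coq _) (piNat_odd.2 (F2_odd H)) hA h
theorem F2_norm (h1 : Q2 H ≤ X) (h2 : X ≤ F2 H) (h : F2 H ⊓ N[X] ≤ X) : X = F2 H := by
  have hX : Q2 H ⊴ X := (Q2_nml H).of_le h1 (h2.trans (F2_le H))
  refine quo_inj hX (nml_coq _) (Nil.eq_of_norm_le ?_ (quo_mono _ h2) ?_)
  · rw [quo_F2]; exact Fitting_nil _
  · rw [← quo_inf_N _ hX ((F2_le H).trans (Q2_nml H).norm)]; exact quo_mono _ h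
theorem F2_cent (hs : Sol H) (hg : g ∈ H) (h : ∀ f ∈ F2 H, g * f * g⁻¹ * f⁻¹ ∈ Q2 H) : g ∈ F2 H := by
  have hN := (Q2_nml H).norm
  refine mem_coq.2 ⟨hN hg, cent_sub_Fitting (hs.quo _) ⟨cs_mem_quo hg (hN hg), mem_C'.2 fun x hx => ?_⟩⟩
  rw [← quo_F2] at hx
  obtain ⟨f, hf, hf', rfl⟩ := mem_quo.1 hx
  have := cs_of_mem (h f hf)
  rw [cs, ap_mul _ (conj_mem (norm_self _ (hN hg)) hf') (inv_mem hf'), ap_conj _ (hN hg) hf', ap_inv _ hf',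
    mul_inv_eq_one, mul_inv_eq_iff_eq_mul] at this
  exact this
theorem F2_meet (hs : Sol H) (hX : X ⊴ H) (h : X ⊓ F2 H ≤ Q2 H) : X ≤ Q2 H := by
  have hN := (Q2_nml H).norm
  rw [← quo_eq_bot (hX.le.trans hN)]
  by_contra e
  refine Fitting_inf_ne_bot (hX.quo _) ((hs.of_le hX.le).quo _) e ?_
  rw [inf_comm, ← quo_inf_coq]
  exact quo_eq_bot_of_le h
theorem F2_inv (hs : Sol H) (ht : t ∈ H) (h1 : t ∉ Q2 H) (h2 : t * t ∈ Q2 H) :
    ∃ f ∈ F2 H, f ∉ Q2 H ∧ Odd (orderOf f) ∧ t * f * t⁻¹ * f ∈ Q2 H := by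
  have hN := (Q2_nml H).norm
  obtain ⟨φ, hφ, φ1, e⟩ := exists_inv (hs.quo (Q2 H)) (pcore_quo_pcore _ _) (cs_mem_quo ht (hN ht))
    (by rw [cs, ← ap_mul _ (hN ht) (hN ht)]; exact cs_of_mem h2) fun e => h1 ((cs_eq_one (hN ht)).1 e)
  have ho := (odd_quo_F2 H).piElt hφ
  rw [← quo_F2] at hφ
  obtain ⟨f, hf, hf', rfl⟩ := mem_quo.1 hφ
  have hc := constt_mem (H := N[Q2 H]) {2}ᶜ hf'
  have e1 : cs (Q2 H) (constt {2}ᶜ f) = cs (Q2 H) f := by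
    rw [cs, constt_ap _ _ hf', constt_eq_self ho]
  refine ⟨constt {2}ᶜ f, constt_mem _ hf, fun h => φ1 (e1 ▸ cs_of_mem h), piElt_odd.1 (piElt_constt _ _), ?_⟩
  rw [← cs_eq_one (mul_mem (conj_mem (norm_self _ (hN ht)) hc) hc), cs,
    ap_mul _ (conj_mem (norm_self _ (hN ht)) hc) hc, ap_conj _ (hN ht) hc]
  change cs _ t * cs _ _ * (cs _ t)⁻¹ * cs _ _ = 1
  rw [e1, e, inv_mul_cancel]
theorem Od2_le (H : Subgroup G) : Od2 H ≤ H := (closure_le _).2 fun _ h => h.1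
theorem mem_Od2 (hg : g ∈ H) (ho : Odd (orderOf g)) : g ∈ Od2 H := subset_closure ⟨hg, ho⟩
theorem Od2_mono (h : K ≤ H) : Od2 K ≤ Od2 H := closure_mono fun _ e => ⟨h e.1, e.2⟩
theorem N_le_N_Od2 (H : Subgroup G) : N[H] ≤ N[Od2 H] :=
  norm_closure fun a ha s hs => mem_Od2 (conj_mem ha hs.1) (by rw [orderOf_conj]; exact hs.2)
theorem Od2_nml (H : Subgroup G) : Od2 H ⊴ H := ⟨Od2_le H, (norm_self H).trans (N_le_N_Od2 H)⟩
theorem Od2_Od2 (H : Subgroup G) : Od2 (Od2 H) = Od2 H :=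
  le_antisymm (Od2_le _) ((closure_le _).2 fun _ h => mem_Od2 (mem_Od2 h.1 h.2) h.2)
theorem Od2_sup (hK : Od2 K = K) (hQ : IsPi {2} Q) (hn : Q ≤ N[K]) : Od2 (K ⊔ Q) = K := by
  refine le_antisymm ((closure_le _).2 fun g h => ?_) (hK.ge.trans (Od2_mono le_sup_left))
  refine zpowers_le.1 (le_of_idx_compl' (nml_sup_left hn) (π := {2}) ?_ (piElt_odd.2 h.2).isPi (zpowers_le.2 h.1))
  rw [relIndex_sup_of_norm hn]; exact hQ.relIndex K
theorem le_Od2_sup (hT : Syl 2 H X) : H ≤ Od2 H ⊔ X := by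
  refine le_of_syl_le fun p hp _ => ?_
  by_cases e : p = 2
  · exact ⟨X, e ▸ hT, le_sup_right⟩
  · obtain ⟨P, hP⟩ := Sylow_exists hp H
    exact ⟨P, hP, le_sup_of_le_left fun x hx =>
      mem_Od2 (hP.le hx) (piElt_odd.1 ((hP.pi.compl_of_ne e).piElt hx))⟩
theorem Od2_eq_bot : Od2 H = ⊥ ↔ IsPi {2} H := by
  constructor
  · intro h
    obtain ⟨T, hT⟩ := Sylow_exists Nat.prime_two H
    have := le_Od2_sup hT
    rw [h, bot_sup_eq] at this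
    exact hT.pi.of_le this
  · intro h
    exact eq_bot_iff.2 ((closure_le _).2 fun g e => (h.piElt e.1).eq_one (piElt_odd.2 e.2))

theorem Ch2.core (h : Ch2 H) : O[{2}ᶜ, H] = ⊥ :=
  ((pcore_pi {2} H).of_le (le_trans (le_inf (pcore_le _ _) (pcore_compl_cent_pcore _ _)) h.2)).eq_bot
    (pcore_pi _ _)
theorem ch2_of_core (hs : Sol H) (h : O[{2}ᶜ, H] = ⊥) : Ch2 H := ⟨hs, cent_sub_pcore Nat.prime_two hs h⟩

/-- a subgroup of `H` containing `O₂(H)`, or subnormal in `H`, has characteristic two -/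
theorem Ch2.of_le (h : Ch2 H) (h1 : Q2 H ≤ X) (h2 : X ≤ H) : Ch2 X := by
  refine ch2_of_core (h.1.of_le h2) (((pcore_pi {2} H).of_le (le_trans (le_inf ((pcore_le _ _).trans h2)
    (pcore_compl_cents (pcore_pi _ _) ((Q2_nml H).of_le h1 h2))) h.2)).eq_bot (pcore_pi _ _))
theorem Ch2.nml (h : Ch2 H) (h1 : X ⊴ H) : Ch2 X :=
  ch2_of_core (h.1.of_le h1.le) (eq_bot_of_le h.core (h1.pcore_le _))
/-- a subgroup with `O₂ ≠ 1` containing a Sylow `2`-subgroup of its `2`-local overgroup -/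
theorem L2.ch2 (h : L2 G) {S : Subgroup G} (hS : Syl 2 ⊤ S) (h1 : S ≤ H) (h2 : Q2 H ≠ ⊥) : Ch2 H :=
  (h _ (pcore_pi _ _) h2).of_le
    ((pcore_le_Hall (hS.of_le (h1.trans (Q2_nml H).norm) le_top)).trans h1) (Q2_nml H).norm
/-- local subgroups of a group of characteristic two -/
theorem Ch2.norm (h : Ch2 H) (hA : IsPi {2} A) (hAH : A ≤ H) : Ch2 (H ⊓ N[A]) :=
  ch2_of_core (h.1.of_le inf_le_left)
    (eq_bot_of_le h.core (H26.p'core_norm_pgroup Nat.prime_two hA hAH h.1))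
theorem Ch2.cent (h : Ch2 H) (hA : IsPi {2} A) (hAH : A ≤ H) : Ch2 (H ⊓ C[A]) :=
  ch2_of_core (h.1.of_le inf_le_left)
    (eq_bot_of_le h.core (H26.p'core_cent_pgroup Nat.prime_two hA hAH h.1))
theorem L2.cent (h : L2 G) (h2 : t * t = 1) (h1 : t ≠ 1) : Ch2 C{t} := by
  have hp := (piElt_two_of_sq h2).isPi
  have := (h _ hp (by simpa using h1)).cent hp (norm_self _)
  rwa [inf_eq_right.2 (C_le_N _), C_zpowers] at this
theorem Ch2.stab (h : Ch2 H) (hK : K ⊴ H) (h1 : K ≤ Q2 H) (hg : g ∈ H) (ho : Odd (orderOf g))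
    (h2 : ∀ q ∈ Q2 H, g * q * g⁻¹ * q⁻¹ ∈ K) (h3 : g ∈ C[K]) : g = 1 := by
  have hN : Q2 H ≤ N[K] := (pcore_le _ _).trans hK.norm
  have h4 : zpowers g ≤ centQ (Q2 H) K := zpowers_le.2 ((mem_centQ hN).2 ⟨hK.norm hg, h2⟩)
  have h6 : ⁅Q2 H, zpowers g⁆ ≤ K := by rw [commC]; exact ((le_centQ hN).1 h4).2
  have h5 := H26.stable_factor_cent (zpowers_le.2 h3) h6 h1
    (((pcore_pi _ _).of_le h1).coprime (piElt_odd.2 ho).isPi) (Or.inr (abl_zpowers g).sol)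
  exact ((pcore_pi _ _).piElt (h.2 ⟨hg, zpowers_le.1 h5⟩)).eq_one (piElt_odd.2 ho)

end H12.NG
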