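import Mathlib
import Cfsg.Agent.H12.NGMa

/-!
# N-groups: module lemmas
-/

set_option autoImplicit false
set_option linter.unusedSectionVars false

namespace H12.NG

open Subgroup Cfsg H24 H11.ZN
open scoped commutatorElement

universe u

variable {G : Type u} [Group G] [Finite G] {V H A B E L W X Y K P Q : Subgroup G} {a b f g t y : G}

theorem mem_comm1 (hW : Abl W) (ha : a ∈ N[W]) {x : G} :
    x ∈ ⁅W, zpowers a⁆ ↔ ∃ w ∈ W, a * w * a⁻¹ * w⁻¹ = x := by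
  rw [← H12.range_commHom W a ha]
  exact ⟨fun ⟨w, e⟩ => ⟨w, w.2, e⟩, fun ⟨w, hw, e⟩ => ⟨⟨w, hw⟩, e⟩⟩

theorem card_comm1 (hW : Abl W) (ha : a ∈ N[W]) : ♯(W ⊓ C{a}) * ♯⁅W, zpowers a⁆ = ♯W := by
  rw [← C_zpowers]; exact H12.card_inf_centralizer_mul_card_commutator W ha

theorem comm1_le (ha : a ∈ N[W]) : ⁅W, zpowers a⁆ ≤ W := comm_le_left (zpowers_le.2 ha)

theorem comm1_le_C (hW : EA W) (hy : y ∈ N[W]) (h2 : y * y ∈ C[W]) : ⁅W, zpowers y⁆ ≤ W ⊓ C{y} := by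
  refine le_inf (comm1_le hy) fun x hx => ?_
  have x2 := ea_sq hW (comm1_le hy hx)
  obtain ⟨w, hw, rfl⟩ := (mem_comm1 hW.1 hy).1 hx
  rw [mem_C1_comm, mem_C1_iff_conj]
  calc _ = (y * y * w * (y * y)⁻¹) * (y * w * y⁻¹)⁻¹ := by group
    _ = (y * w * y⁻¹ * w⁻¹)⁻¹ := by rw [conj_eq_of_mem_C h2 hw]; group
    _ = _ := inv_eq_of_mul_eq_one_right x2

theorem card_le_sq (hW : EA W) (hy : y ∈ N[W]) (h2 : y * y ∈ C[W]) : ♯W ≤ ♯(W ⊓ C{y}) ^ 2 := by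
  rw [← card_comm1 hW.1 hy, sq]
  exact Nat.mul_le_mul_left _ (card_le (comm1_le_C hW hy h2))

theorem free_inv' (hW : EA W) (hf : f ∈ N[W]) (hy : y ∈ N[W])
    (h2 : y * y ∈ C[W]) (hi : y * f * y⁻¹ * f ∈ C[W]) (hc : W ⊓ C{f} = ⊥) :
    W ⊓ C{y} = ⁅W, zpowers y⁆ ∧ ♯W = ♯(W ⊓ C{y}) ^ 2 := by
  have h3 : y * f * (y * f) ∈ C[W] := by
    have : y * f * (y * f) = (y * f * y⁻¹ * f) * (f⁻¹ * (y * y) * f) := by group
    rw [this]
    exact mul_mem hi (conj_mem' (N_le_NC W hf) h2)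
  have e1 := card_le_sq hW hy h2
  have e2 := card_le_sq hW (mul_mem hy hf) h3
  have e3 : ♯(W ⊓ C{y}) * ♯(W ⊓ C{y * f}) ≤ ♯W := by
    rw [← card_sup_of_inf (Abl.norm hW.1 inf_le_left inf_le_left)]
    · exact card_le (sup_le inf_le_left inf_le_left)
    · refine eq_bot_of_le hc fun x hx => ⟨hx.1.1, mem_C1_comm.1 ?_⟩
      have := mul_mem (inv_mem (mem_C1_comm.1 hx.1.2)) (mem_C1_comm.1 hx.2.2)
      rwa [inv_mul_cancel_left] at this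
  have p1 := card_pos (W ⊓ C{y})
  have p2 := card_pos (W ⊓ C{y * f})
  have e4 : ♯W = ♯(W ⊓ C{y}) ^ 2 := by nlinarith
  refine ⟨(eq_of_card_eq (comm1_le_C hW hy h2) ?_).symm, e4⟩
  have := card_comm1 hW.1 hy
  rw [e4, sq] at this
  exact Nat.eq_of_mul_eq_mul_left p1 this

/-- free module lemma -/
theorem free_inv (hW : EA W) (hf : f ∈ N[W]) (hy : y ∈ N[W]) (ho : Odd (orderOf f))
    (h2 : y * y ∈ C[W]) (hi : y * f * y⁻¹ * f ∈ C[W]) (hc : W ⊓ C{f} = ⊥) :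
    W ⊓ C{y} = ⁅W, zpowers y⁆ ∧ ♯W = ♯(W ⊓ C{y}) ^ 2 := free_inv' hW hf hy h2 hi hc

theorem ea_le (h : EA A) (hB : B ≤ A) : EA B := ea_of_sq fun _ e => ea_sq h (hB e)

theorem ea_card (h : EA A) : ∃ n, ♯A = 2 ^ n := (ea_pi h).card_eq_pow Nat.prime_two

/-- an odd order group acting on an elementary abelian group -/
theorem odd_dp (hV : EA V) (hP : P ≤ N[V]) (ho : IsPi {2}ᶜ P) : DP ⁅V, P⁆ (V ⊓ C[P]) V :=
  H26.coprime_abelian_cent_dprod hP ((ea_pi hV).coprime ho) hV.1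

theorem odd_TI (hV : EA V) (hP : P ≤ N[V]) (ho : IsPi {2}ᶜ P) : ⁅V, P⁆ ⊓ C[P] = ⊥ :=
  H26.coprime_abel_cent_TI hP ((ea_pi hV).coprime ho) hV.1

theorem odd_TI1 (hV : EA V) (hf : f ∈ N[V]) (ho : Odd (orderOf f)) : ⁅V, zpowers f⁆ ⊓ C{f} = ⊥ :=
  C_zpowers f ▸ odd_TI hV (zpowers_le.2 hf) (piElt_odd.2 ho).isPi

theorem cent_of_comm (hV : EA V) (hP : P ≤ N[V]) (ho : IsPi {2}ᶜ P) (hg : g ∈ P) (h : g ∈ C[⁅V, P⁆]) :
    g ∈ C[V] := by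
  rw [← (odd_dp hV hP ho).sup, C_sup]
  exact ⟨h, cents_symm inf_le_right hg⟩

theorem fpf_dvd {p : ℕ} (hp : p.Prime) (hf : orderOf f = p) (hn : f ∈ N[X]) (hc : X ⊓ C{f} = ⊥) :
    p ∣ ♯X - 1 := by
  have := (semireg_of_prime (K := X) (H := zpowers f) (by rwa [card_zpowers', hf])
    (by rwa [C_zpowers])).dvd_pred (zpowers_le.2 hn)
  rwa [card_zpowers', hf] at this

theorem mem_C_of_card_le_two (hg : g ∈ N[Y]) (h : ♯Y ≤ 2) : g ∈ C[Y] := by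
  rcases eq_or_ne Y ⊥ with rfl | e
  · rw [C_bot]; trivial
  · have h1 := one_lt_card e
    have := H26.relIndex_C_dvd_pred Nat.prime_two (zpowers_le.2 hg) (by omega)
    exact relIndex_eq_one.1 (Nat.dvd_one.1 this) (mem_zpowers g)

theorem cube_mem_C (hX : EA X) (h4 : ♯X = 4) (hf : f ∈ N[X]) (ho : Odd (orderOf f)) : f ^ 3 ∈ C[X] := by
  have h1 := H26.relIndex_C_abelem_dvd Nat.prime_two (zpowers_le.2 hf) hX (n := 2) h4
  have h2 : Odd ((C[X]).relIndex (zpowers f)) :=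
    piNat_odd.1 ((piElt_odd.2 ho).isPi.relIndex _)
  have h3 : (C[X]).relIndex (zpowers f) ∣ 3 := by
    refine Nat.Coprime.dvd_of_dvd_mul_left (Nat.coprime_two_right.2 h2) ?_
    simpa [Fin.prod_univ_succ] using h1
  obtain ⟨k, e⟩ := h3
  have h5 : (⟨f, mem_zpowers f⟩ : zpowers f) ^ ((C[X]).subgroupOf (zpowers f)).index ∈
      (C[X]).subgroupOf (zpowers f) := pow_index_mem _ _
  have h6 : f ^ (C[X]).relIndex (zpowers f) ∈ C[X] := h5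
  rw [e, pow_mul]
  exact pow_mem h6 k

theorem card_dvd_GL (hV : EA V) (hP : P ≤ N[V]) (hc : P ⊓ C[V] = ⊥) {n : ℕ} (h : ♯V = 2 ^ n) :
    ♯P ∣ ∏ i : Fin n, (2 ^ n - 2 ^ (i : ℕ)) := by
  have h1 := H26.relIndex_C_abelem_dvd Nat.prime_two hP hV h
  rwa [← inf_relIndex_right, inf_comm, hc, relIndex_bot_left] at h1

theorem pgroup_card_dvd {p k m : ℕ} (hp : p.Prime) (hP : IsPi {p} P) (h : ♯P ∣ p ^ k * m) (hm : ¬ p ∣ m) :
    ♯P ∣ p ^ k := hP.piNat.dvd_of_dvd_mul ((piNat_compl_singleton hp).2 hm) h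

theorem Md.eq_one (h : Md V H) (hg : g ∈ H) (hc : g ∈ C[V]) : g = 1 :=
  mem_bot.1 (h.fa ▸ (mem_inf.2 ⟨hg, hc⟩ : g ∈ H ⊓ C[V]))

theorem Md.odd_F (h : Md V H) : IsPi {2}ᶜ F[H] := odd_Fitting h.o2

theorem Md.odd (h : Md V H) (hf : f ∈ F[H]) : Odd (orderOf f) := piElt_odd.1 (h.odd_F.piElt hf)

theorem Md.nF (h : Md V H) (hf : f ∈ F[H]) : f ∈ N[V] := h.le (Fitting_le H hf)

theorem Md.TI (h : Md V H) (hf : f ∈ F[H]) : ⁅V, zpowers f⁆ ⊓ C{f} = ⊥ :=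
  odd_TI1 h.ea (h.nF hf) (h.odd hf)

theorem Md.comm_ne (h : Md V H) (hg : g ∈ H) (h1 : g ≠ 1) : ⁅V, zpowers g⁆ ≠ ⊥ := fun e =>
  h1 (h.eq_one hg (comm_eq_bot'.1 e (mem_zpowers g)))

theorem Md.ea_comm (h : Md V H) (hg : g ∈ H) : EA ⁅V, zpowers g⁆ := ea_le h.ea (comm1_le (h.le hg))

theorem Md.pow_eq_one (h : Md V H) (hf : f ∈ F[H]) {n : ℕ} (e : f ^ n ∈ C[⁅V, zpowers f⁆]) : f ^ n = 1 :=
  h.eq_one (pow_mem (Fitting_le H hf) n) (cent_of_comm h.ea (zpowers_le.2 (h.nF hf))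
    (piElt_odd.2 (h.odd hf)).isPi (pow_mem (mem_zpowers f) n) e)

theorem Md.three (h : Md V H) (hf : f ∈ F[H]) (h4 : ♯⁅V, zpowers f⁆ = 4) : orderOf f = 3 := by
  refine orderOf_eq_prime (h.pow_eq_one hf (cube_mem_C (h.ea_comm (Fitting_le H hf)) h4
    (norm_comm_right _ _ (mem_zpowers f)) (h.odd hf))) ?_
  rintro rfl
  simp at h4

theorem Md.ff (h : Md V H) : H12.FF 2 V H := by
  refine ⟨h.ea, h.le, h.fa, ?_⟩
  have e : F[H] ≤ O[{2}ᶜ, H] := pcore_max h.odd_F (Fitting_nml H)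
  rw [OP, ← pcore_compl_singleton Nat.prime_two]
  exact ((inf_le_inf_left _ (C_anti e)).trans (cent_sub_Fitting h.sol)).trans e

/-- an involution inverts an element of `F(H)` -/
theorem Md.inv (h : Md V H) (ht : t ∈ H) (h2 : t * t = 1) (h1 : t ≠ 1) :
    ∃ f ∈ F[H], f ≠ 1 ∧ t * f * t⁻¹ = f⁻¹ := exists_inv h.sol h.o2 ht h2 h1

/-- hyperplane lemma -/
theorem Md.hyper (h : Md V H) (hA : EA A) (hAH : A ≤ H) (ha : a ∈ A) (h1 : a ≠ 1) :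
    ∃ B ≤ A, B.relIndex A = 2 ∧ a ∉ B ∧ ∃ f ∈ F[H], f ≠ 1 ∧ f ∈ C[B] ∧
      ∀ y ∈ A, y ∉ B → y * f * y⁻¹ = f⁻¹ := by
  have a2 := ea_sq hA ha
  have hn : ¬ F[H] ≤ C{a} := fun e => h1 ((piElt_two_of_sq a2).eq_one
    (h.odd_F.piElt (cent_sub_Fitting h.sol ⟨hAH ha, mem_C_iff_le_C1.2 e⟩)))
  have := mt (H26.coprime_abelian_gen_cent (L := C{a}) hA.1 (hAH.trans (Fitting_nml H).norm)
    (h.odd_F.coprime' (ea_pi hA))) hn
  push Not at this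
  obtain ⟨B, hB, ⟨c, hc, e⟩, hd⟩ := this
  have aB : a ∉ B := fun e => hd (inf_le_right.trans (C_le_C1 e))
  have i2 : B.relIndex A = 2 := by
    have e1 : A = B ⊔ zpowers c := le_antisymm e (sup_le hB (zpowers_le.2 hc))
    have e2 := (isProd_sup (Abl.norm hA.1 (zpowers_le.2 hc) hB)).relIndex_dvd
    rw [← e1, card_zpowers'] at e2
    have e3 : orderOf c ∣ 2 := orderOf_dvd_of_pow_eq_one (hA.2 c hc)
    exact ((Nat.dvd_prime Nat.prime_two).1 (e2.trans e3)).resolve_left fun e => aB (relIndex_eq_one.1 e ha)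
  obtain ⟨d, ⟨dF, dB⟩, da⟩ := SetLike.not_le_iff_exists.1 hd
  have hc : d * (a * d⁻¹ * a⁻¹) ∈ C[B] :=
    mul_mem dB (conj_mem (norm_C (Abl.norm hA.1 le_rfl hB) ha) (inv_mem dB))
  refine ⟨B, hB, i2, aB, d * (a * d⁻¹ * a⁻¹), mul_mem dF ((Fitting_nml H).conj_mem (hAH ha) (inv_mem dF)),
    fun e' => da (mem_C1.2 ?_), hc, fun y hy yB => ?_⟩
  · calc d * a = d * (a * d⁻¹ * a⁻¹) * (a * d) := by group
      _ = a * d := by rw [e', one_mul]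
  · have e1 : a * y ∈ B := (mul_mem_idx2 i2 ha hy).2 (iff_of_false aB yB)
    have e2 := conj_eq_of_mem_C (cents_symm (zpowers_le.2 hc) e1) (mem_zpowers _)
    calc _ = (a * a)⁻¹ * a * (a * y * (d * (a * d⁻¹ * a⁻¹)) * (a * y)⁻¹) * a⁻¹ * (a * a) := by group
      _ = a * (d * (a * d⁻¹ * a⁻¹)) * a⁻¹ := by rw [e2, a2]; group
      _ = a * d * (a * a) * (a⁻¹ * d⁻¹) * (a * a)⁻¹ := by group
      _ = a * d * a⁻¹ * d⁻¹ := by rw [a2]; group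
      _ = _ := by group

theorem norm_zp_of_inv (h : y * f * y⁻¹ = f⁻¹) : y ∈ N[zpowers f] := by
  rw [mem_N_iff_cj, cj_zpowers, h, zpowers_inv]

theorem mem_N_comm1 (hy : y ∈ N[V]) (h : y ∈ N[zpowers f]) : y ∈ N[⁅V, zpowers f⁆] :=
  norm_comm (zpowers_le.2 hy) (zpowers_le.2 h) (mem_zpowers y)

theorem mem_N_inf (h1 : y ∈ N[A]) (h2 : y ∈ N[B]) : y ∈ N[A ⊓ B] :=
  norm_inf (zpowers_le.2 h1) (zpowers_le.2 h2) (mem_zpowers y)

theorem mem_N_C1 (h : y ∈ C{a}) : y ∈ N[C{a}] := norm_self _ h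

/-- an involution inverting `f` is free on an invariant subgroup of `[V, f]` -/
theorem Md.free (h : Md V H) (hf : f ∈ F[H]) (h2 : y * y = 1) (hi : y * f * y⁻¹ = f⁻¹)
    (hX : X ≤ ⁅V, zpowers f⁆) (h1 : f ∈ N[X]) (hy : y ∈ N[X]) :
    X ⊓ C{y} = ⁅X, zpowers y⁆ ∧ ♯X = ♯(X ⊓ C{y}) ^ 2 :=
  free_inv' (ea_le (h.ea_comm (Fitting_le H hf)) hX) h1 hy (h2 ▸ one_mem _)
    (by rw [hi, inv_mul_cancel]; exact one_mem _) (eq_bot_of_le (h.TI hf) (inf_le_inf_right _ hX))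

theorem Md.step (h : Md V H) (hA : EA A) (hAH : A ≤ H) (hB : B ≤ A) (hf : f ∈ F[H]) (h1 : f ≠ 1)
    (hc : f ∈ C[B]) (hy : y ∈ A) (hi : y * f * y⁻¹ = f⁻¹) : ¬ V ⊓ C[B] ≤ C{y} := fun e => by
  have hN := comm1_le (h.nF hf)
  have n1 : B ≤ N[⁅V, zpowers f⁆] :=
    norm_comm (hB.trans (hAH.trans h.le)) (norm_of_cent (cents_symm (zpowers_le.2 hc)))
  have e1 := IsPi.inf_C_ne_bot Nat.prime_two (ea_pi (ea_le hA hB)) (ea_pi (h.ea_comm (Fitting_le H hf))) n1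
    (h.comm_ne (Fitting_le H hf) h1)
  have e2 := (h.free (X := ⁅V, zpowers f⁆ ⊓ C[B]) hf (ea_sq hA hy) hi inf_le_left
    (mem_N_inf (norm_comm_right _ _ (mem_zpowers f)) (norm_self _ hc))
    (mem_N_inf (mem_N_comm1 (h.le (hAH hy)) (norm_zp_of_inv hi)) (norm_C (Abl.norm hA.1 le_rfl hB) hy))).2
  rw [inf_eq_left.2 ((inf_le_inf_right _ hN).trans e)] at e2
  have := one_lt_card e1
  nlinarith

/-- M1: no over-offenders -/
theorem Md.m1 (h : Md V H) (hA : EA A) (hAH : A ≤ H) : ♯A * ♯(V ⊓ C[A]) ≤ ♯V := by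
  obtain ⟨B, hB, hm⟩ := Set.exists_max_image {B | B ≤ A} (H12.meas V) (Set.toFinite _) ⟨A, (le_rfl : A ≤ A)⟩
  have hb : IsBestOffenderOn 2 V B := ⟨fun B' h' => hm B' (h'.trans hB),
    by rw [der1_eq_bot.2 (ea_le hA hB).1]; exact bot_le, fun b hb => (hA.2 b (hB hb)) ▸ one_mem _⟩
  exact (hm A (le_rfl : A ≤ A)).trans (h.ff.meas_eq (hB.trans hAH) hb).le

/-- M2: offenders are generated by transvections -/
theorem Md.m2 (h : Md V H) (hA : EA A) (hAH : A ≤ H) (e : ♯V ≤ ♯A * ♯(V ⊓ C[A])) :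
    A ≤ closure {t | t ∈ A ∧ Tv V t} := by
  have hb : IsBestOffenderOn 2 V A := ⟨fun B h' => (h.m1 (ea_le hA h') (h'.trans hAH)).trans e,
    by rw [der1_eq_bot.2 hA.1]; exact bot_le, fun b hb => (hA.2 b hb) ▸ one_mem _⟩
  refine (h.ff.eq_sSup hAH hb).ge.trans (sSup_le ?_)
  rintro B ⟨h1, h2⟩
  obtain ⟨a, ha, -, rfl⟩ := exists_eq_zpowers_of_card_prime h2.prime
  refine zpowers_le.2 (subset_closure ⟨h1 ha, ?_⟩)
  have := h.ff.relIndex_eq h2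
  rwa [C_zpowers] at this

theorem Tv.sq (hT : Tv V t) (hV : Abl V) (ht : t ∈ N[V]) : t * t ∈ C[V] := by
  refine mem_C'.2 fun v hv => ?_
  have h1 : t * v * t⁻¹ ∈ V ⊓ C{t} ↔ v ∈ V ⊓ C{t} := conj_mem_iff (mem_N_inf ht (mem_N_C1 (self_mem_C1 t)))
  have h2 := mem_C1_iff_conj.1 (mem_C1_comm.1 ((mul_mem_idx2 hT (conj_mem ht hv) hv).2 h1).2)
  have h3 := hV.comm (conj_mem ht hv) hv
  calc t * t * v = (t * (t * v * t⁻¹ * v) * t⁻¹) * (t * v * t⁻¹)⁻¹ * (t * t) := by group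
    _ = _ := by rw [h2, h3]; group

theorem card_le_mul_of_relIndex {n : ℕ} (hX : X ≤ V) (h : K.relIndex V ≤ n) : ♯X ≤ n * ♯(X ⊓ K) := by
  rw [← card_inf_mul_relIndex K X, inf_comm, mul_comm]
  exact Nat.mul_le_mul_right _ ((relIndex_le_of_le_right hX (relIndex_ne_zero' _ _)).trans h)

/-- M3: an element of `F(H)` inverted by a transvection -/
theorem Md.m3 (h : Md V H) (ht : t ∈ H) (hT : Tv V t) (hf : f ∈ F[H]) (h1 : f ≠ 1)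
    (hi : t * f * t⁻¹ = f⁻¹) : orderOf f = 3 ∧ ♯⁅V, zpowers f⁆ = 4 := by
  have t2 := h.eq_one (mul_mem ht ht) (hT.sq h.ea.1 (h.le ht))
  have e1 := (h.free hf t2 hi le_rfl (norm_comm_right _ _ (mem_zpowers f))
    (mem_N_comm1 (h.le ht) (norm_zp_of_inv hi))).2
  have e2 := card_le_mul_of_relIndex (K := C{t}) (n := 2) (comm1_le (h.nF hf))
    (by rw [← inf_relIndex_left]; exact hT.le)
  have e3 := one_lt_card (h.comm_ne (Fitting_le H hf) h1)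
  have e4 : ♯⁅V, zpowers f⁆ = 4 := by
    generalize ♯(⁅V, zpowers f⁆ ⊓ C{t}) = k at e1 e2
    have : k ≤ 2 := by nlinarith
    interval_cases k <;> omega
  exact ⟨h.three hf e4, e4⟩

end H12.NG
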