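import Mathlib
import Cfsg.Agent.H12.NGMb

/-!
# N-groups: module lemmas M4 - M6
-/

set_option autoImplicit false
set_option linter.unusedSectionVars false

namespace H12.NG

open Subgroup Cfsg H24 H11.ZN
open scoped commutatorElement

universe u

variable {G : Type u} [Group G] [Finite G] {V H A B E L W X Y K P Q : Subgroup G} {a b f g t y : G}

theorem abl_of_dvd_nine (h : ♯P ∣ 3 ^ 2) : Abl P := by
  haveI : Fact (Nat.Prime 3) := ⟨Nat.prime_three⟩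
  obtain ⟨k, hk, e⟩ := (Nat.dvd_prime_pow Nat.prime_three).1 h
  interval_cases k
  · rw [card_eq_one'.1 e]; exact abl_bot
  · exact (cyc_of_prime (by rw [e]; norm_num)).abl
  · exact IsPGroup.isMulCommutative_of_card_eq_prime_sq e

theorem norm_of_comm_le (hW : W ≤ V) (h : ⁅V, P⁆ ≤ W) : P ≤ N[W] :=
  norm_of_comm_le_left ((comm_mono_left hW).trans h)

theorem comm_sup_le (hV : Abl V) (hW : W ≤ V) (h1 : ⁅V, A⁆ ≤ W) (h2 : ⁅V, B⁆ ≤ W) : ⁅V, A ⊔ B⁆ ≤ W := by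
  have hU : V ≤ N[W] := Abl.norm hV le_rfl hW
  rw [commC]
  exact ((le_centQ hU).1 (sup_le ((le_centQ hU).2 ⟨norm_of_comm_le hW h1, commC V A ▸ h1⟩)
    ((le_centQ hU).2 ⟨norm_of_comm_le hW h2, commC V B ▸ h2⟩))).2

theorem comm_sup_eq (hV : Abl V) (hA : A ≤ N[V]) (hB : B ≤ N[V]) : ⁅V, A ⊔ B⁆ = ⁅V, A⁆ ⊔ ⁅V, B⁆ :=
  le_antisymm (comm_sup_le hV (sup_le (comm_le_left hA) (comm_le_left hB)) le_sup_left le_sup_right)
    (sup_le (comm_mono_right le_sup_left) (comm_mono_right le_sup_right))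

theorem two_mul_card_le (h : A < B) : 2 * ♯A ≤ ♯B := by
  obtain ⟨k, e⟩ := card_dvd h.le
  have h1 := card_lt h
  have h2 := card_pos A
  rw [e] at h1 ⊢
  have : 2 ≤ k := by
    by_contra h3
    have : k ≤ 1 := by omega
    nlinarith
  nlinarith

theorem sup_of_idx2 (i2 : B.relIndex A = 2) (hB : B ≤ A) (ha : a ∈ A) (aB : a ∉ B) : A = B ⊔ zpowers a := by
  refine le_antisymm (fun x hx => ?_) (sup_le hB (zpowers_le.2 ha))
  by_cases e : x ∈ B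
  · exact mem_sup_left e
  · have := mul_mem (mem_sup_left ((mul_mem_idx2 i2 hx (inv_mem ha)).2 (iff_of_false e (mt inv_mem_iff.1 aB))))
      (mem_sup_right (S := B) (mem_zpowers a))
    rwa [inv_mul_cancel_right] at this

theorem Md.pi3 (h : Md V H) (hf : f ∈ F[H]) (hg : g ∈ F[H]) (f3 : f ^ 3 = 1) (g3 : g ^ 3 = 1) :
    IsPi {3} (zpowers f ⊔ zpowers g) := by
  have e : ∀ x ∈ F[H], x ^ 3 = 1 → zpowers x ≤ O[{3}, H] := fun x hx x3 => le_pcore_of_le_Fitting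
    (piElt_of_pow_eq_one (fun p hp hd => (Nat.prime_dvd_prime_iff_eq hp Nat.prime_three).1 hd) x3).isPi
    (zpowers_le.2 hx)
  exact (pcore_pi {3} H).of_le (sup_le (e f hf f3) (e g hg g3))

theorem Md.faF (h : Md V H) (hP : P ≤ F[H]) : P ⊓ C[⁅V, P⁆] = ⊥ :=
  eq_bot_iff.2 fun _ hx => mem_bot.2 (h.eq_one (Fitting_le H (hP hx.1))
    (cent_of_comm h.ea (hP.trans ((Fitting_le H).trans h.le)) (h.odd_F.of_le hP) hx.1 hx.2))

theorem Md.dvdF (h : Md V H) (hP : P ≤ F[H]) {n : ℕ} (e : ♯⁅V, P⁆ = 2 ^ n) :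
    ♯P ∣ ∏ i : Fin n, (2 ^ n - 2 ^ (i : ℕ)) :=
  card_dvd_GL (ea_le h.ea (comm_le_left (hP.trans ((Fitting_le H).trans h.le)))) (norm_comm_right _ _)
    (h.faF hP) e

/-- M4: two elements of order three of `F(H)` with commutator spaces of order four -/
theorem Md.m4 (h : Md V H) (hf : f ∈ F[H]) (hg : g ∈ F[H]) (f3 : orderOf f = 3) (g3 : orderOf g = 3)
    (f4 : ♯⁅V, zpowers f⁆ = 4) (g4 : ♯⁅V, zpowers g⁆ = 4) :
    zpowers f = zpowers g ∨ (f * g = g * f ∧ ⁅V, zpowers f⁆ ⊓ ⁅V, zpowers g⁆ = ⊥ ∧ g ∈ C[⁅V, zpowers f⁆]) := by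
  have hP := h.pi3 hf hg (f3 ▸ pow_orderOf_eq_one f) (g3 ▸ pow_orderOf_eq_one g)
  have hF : zpowers f ⊔ zpowers g ≤ F[H] := sup_le (zpowers_le.2 hf) (zpowers_le.2 hg)
  have e1 := card_sup (Abl.norm h.ea.1 (comm1_le (h.nF hg)) (comm1_le (h.nF hf)))
  rw [← comm_sup_eq h.ea.1 (zpowers_le.2 (h.nF hf)) (zpowers_le.2 (h.nF hg)), f4, g4] at e1
  rcases eq_or_ne (⁅V, zpowers f⁆ ⊓ ⁅V, zpowers g⁆) ⊥ with e | e
  · rw [e, card_bot] at e1
    have e2 := h.dvdF hF (n := 4) (by omega)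
    have e3 := abl_of_dvd_nine (pgroup_card_dvd (k := 2) (m := 2240) Nat.prime_three hP
      (by simpa [Fin.prod_univ_succ] using e2) (by norm_num))
    have e4 := e3.comm (mem_sup_left (mem_zpowers f)) (mem_sup_right (mem_zpowers g))
    refine Or.inr ⟨e4, e, comm_eq_bot'.1 (eq_bot_of_le e (le_inf (comm1_le (mem_N_comm1 (h.nF hg)
      (norm_zpowers_of_cent le_rfl (mem_C1.2 e4.symm)))) (comm_mono_left (comm1_le (h.nF hf))))) (mem_zpowers g)⟩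
  · left
    have e2 := one_lt_card e
    have e3 : ♯(⁅V, zpowers f⁆ ⊓ ⁅V, zpowers g⁆) ∣ 4 := f4 ▸ card_dvd inf_le_left
    have e4 := Nat.le_of_dvd (by norm_num) e3
    have e5 : ♯(zpowers f ⊔ zpowers g) ∣ 3 ^ 1 := by
      generalize ♯(⁅V, zpowers f⁆ ⊓ ⁅V, zpowers g⁆) = d at e1 e2 e3 e4
      interval_cases d
      · exact pgroup_card_dvd (m := 56) Nat.prime_three hP
          (by simpa [Fin.prod_univ_succ] using h.dvdF hF (n := 3) (by omega)) (by norm_num)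
      · omega
      · exact pgroup_card_dvd (m := 2) Nat.prime_three hP
          (by simpa [Fin.prod_univ_succ] using h.dvdF hF (n := 2) (by omega)) (by norm_num)
    have e6 := Nat.le_of_dvd (by norm_num) e5
    exact (eq_of_card_ge le_sup_left (by rw [card_zpowers', f3]; omega)).trans
      (eq_of_card_ge le_sup_right (by rw [card_zpowers', g3]; omega)).symm

/-- M4': the spaces `[V,f]` are independent -/
theorem Md.m4' (h : Md V H) (hf : f ∈ F[H]) (f3 : orderOf f = 3) (f4 : ♯⁅V, zpowers f⁆ = 4) :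
    ⁅V, zpowers f⁆ ⊓ (⨆ g ∈ {g | g ∈ F[H] ∧ orderOf g = 3 ∧ ♯⁅V, zpowers g⁆ = 4 ∧ zpowers g ≠ zpowers f},
      ⁅V, zpowers g⁆) = ⊥ :=
  eq_bot_of_le (h.TI hf) (inf_le_inf_left _ (iSup₂_le fun _ hg => mem_C_iff_le_C1.1
    ((h.m4 hg.1 hf hg.2.1 f3 hg.2.2.1 f4).resolve_left hg.2.2.2).2.2))

/-- M6: the involutions of a four-group do not have the same fixed points -/
theorem Md.m6 (h : Md V H) (hA : EA A) (hAH : A ≤ H) (h4 : 4 ≤ ♯A) :
    ∃ a ∈ A, a ≠ 1 ∧ ¬ V ⊓ C{a} ≤ C[A] := by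
  obtain ⟨a, ha, a1⟩ := exists_ne_one (H := A) (by rintro rfl; simp at h4)
  obtain ⟨B, hB, i2, aB, f, hf, f1, fB, hi⟩ := h.hyper hA hAH ha a1
  obtain ⟨b, hb, b1⟩ := exists_ne_one (H := B) (by
    rintro rfl
    rw [relIndex_bot_left] at i2
    omega)
  exact ⟨b, hB hb, b1, fun e => h.step hA hAH hB hf f1 fB ha (hi a ha aB)
    ((inf_le_inf_left _ (C_le_C1 hb)).trans (e.trans (C_le_C1 ha)))⟩

theorem Md.m5a (h : Md V H) (h0 : ∀ f ∈ F[H], orderOf f = 3 → ♯⁅V, zpowers f⁆ ≠ 4) (hA : EA A)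
    (hAH : A ≤ H) (h1 : A ≠ ⊥) : 2 * ♯A * ♯(V ⊓ C[A]) ≤ ♯V := by
  by_contra e
  have e1 : ♯V ≤ ♯A * ♯(V ⊓ C[A]) := by
    obtain ⟨i, hi⟩ := ea_card hA
    obtain ⟨j, hj⟩ := ea_card (ea_le h.ea (inf_le_left : V ⊓ C[A] ≤ V))
    obtain ⟨k, hk⟩ := ea_card h.ea
    rw [hi, hj, hk, ← pow_succ', ← pow_add, Nat.pow_le_pow_iff_right (by norm_num)] at e
    rw [hi, hj, hk, ← pow_add]
    exact Nat.pow_le_pow_right (by norm_num) (by omega)
  have e2 := h.m2 hA hAH e1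
  rcases Set.eq_empty_or_nonempty {t | t ∈ A ∧ Tv V t} with e3 | ⟨t, ht, hT⟩
  · rw [e3, Subgroup.closure_empty] at e2
    exact h1 (le_bot_iff.1 e2)
  · obtain ⟨f, hf, f1, hi⟩ := h.inv (hAH ht) (ea_sq hA ht) (by rintro rfl; simp [Tv] at hT)
    exact h0 f hf (h.m3 (hAH ht) hT hf f1 hi).1 (h.m3 (hAH ht) hT hf f1 hi).2

theorem Md.m5b (h : Md V H) (h0 : ∀ f ∈ F[H], orderOf f = 3 → ♯⁅V, zpowers f⁆ ≠ 4) (hA : EA A)
    (hAH : A ≤ H) (h4 : ♯A = 4) (h8 : ♯V ≤ 8 * ♯(V ⊓ C[A])) (ha : a ∈ A) (a1 : a ≠ 1) :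
    ∃ f ∈ F[H], f ≠ 1 ∧ f ^ 3 = 1 ∧ a * f * a⁻¹ = f⁻¹ ∧ (∃ b ∈ A, b ≠ 1 ∧ b ∈ C{f}) ∧
      ♯⁅V, zpowers f⁆ = 16 ∧ ⁅V, A⁆ ≤ ⁅V, zpowers f⁆ ∧ 8 ≤ ♯⁅V, A⁆ := by
  obtain ⟨B, hB, i2, aB, f, hf, f1, fB, hi⟩ := h.hyper hA hAH ha a1
  replace hi := hi a ha aB
  have B2 : ♯B = 2 := by
    have := card_mul_relIndex hB
    rw [i2] at this
    omega
  obtain ⟨b, hb, b1, rfl⟩ := exists_eq_zpowers_of_card_prime (A := B) (B2 ▸ Nat.prime_two)
  replace hb := hB hb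
  rw [C_zpowers] at fB
  have eA := sup_of_idx2 i2 hB ha aB
  have eC : C[A] = C{b} ⊓ C{a} := by rw [eA, C_sup, C_zpowers, C_zpowers]
  have hN := comm1_le (h.nF hf)
  have eN := h.ea_comm (Fitting_le H hf)
  have fN : f ∈ N[⁅V, zpowers f⁆] := norm_comm_right _ _ (mem_zpowers f)
  have aN := mem_N_comm1 (h.le (hAH ha)) (norm_zp_of_inv hi)
  have bN := mem_N_comm1 (h.le (hAH hb)) (norm_zpowers_of_cent le_rfl (mem_C1_comm.1 fB))
  have n4 : ♯⁅V, zpowers f⁆ ≠ 4 := fun e => h0 f hf (h.three hf e) e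
  have n1 := h.comm_ne (Fitting_le H hf) f1
  have p3 := fun e => h.pow_eq_one hf (n := 3) e
  have fr := fun X => h.free (X := X) hf (ea_sq hA ha) hi
  refine ⟨f, hf, f1, ?_⟩
  generalize ⁅V, zpowers f⁆ = N at *
  have k1 : ∀ x ∈ A, x ≠ 1 → ♯(N ⊓ C{x}) ≤ 2 * ♯(N ⊓ C[A]) := fun x hx x1 => by
    have e1 := h.m5a h0 (ea_le hA (zpowers_le.2 hx)) (zpowers_le.2 (hAH hx)) (by simpa using x1)
    rw [card_zpowers', orderOf_eq_prime (hA.2 x hx) x1, C_zpowers] at e1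
    have e2 := card_inf_mul_relIndex C[A] (V ⊓ C{x})
    rw [inf_left_comm, inf_eq_left.2 (C_le_C1 hx)] at e2
    have e3 := card_le_mul_of_relIndex (K := C[A]) (n := 2) (inf_le_inf_right C{x} hN)
      (by have := card_pos (V ⊓ C[A]); nlinarith)
    rwa [inf_assoc, inf_eq_right.2 (C_le_C1 hx)] at e3
  have c2 := one_lt_card (IsPi.inf_C_ne_bot Nat.prime_two (ea_pi hA) (ea_pi eN)
    (eA ▸ sup_le (zpowers_le.2 bN) (zpowers_le.2 aN)) n1)
  have kb := (fr (N ⊓ C{b}) inf_le_left (mem_N_inf fN (mem_N_C1 fB))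
    (mem_N_inf aN (mem_N_C1 (mem_C1.2 (Abl.comm hA.1 ha hb))))).2
  rw [inf_assoc, ← eC] at kb
  have kb' := k1 b hb b1
  have c : ♯(N ⊓ C[A]) = 2 := by nlinarith
  rw [c] at kb
  have ka := (fr N le_rfl fN aN).2
  have ka' := k1 a ha a1
  have d4 : 4 ∣ ♯N := by
    have := card_dvd (inf_le_left : N ⊓ C{b} ≤ N)
    rwa [kb] at this
  have ka4 : ♯(N ⊓ C{a}) = 4 := by
    rw [c] at ka'
    have := card_pos N
    generalize ♯(N ⊓ C{a}) = k at ka ka'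
    interval_cases k <;> omega
  have N16 : ♯N = 16 := by rw [ka, ka4]; rfl
  have k2 : ∀ x ∈ A, x ∈ N[N] → ♯(N ⊓ C{x}) = 4 → ⁅V, zpowers x⁆ = N ⊓ C{x} := fun x hx xN e => by
    have e1 := card_comm1 eN.1 xN
    have e2 := card_comm1 h.ea.1 (h.le (hAH hx))
    have e3 : V ⊓ C[A] < V ⊓ C{x} := lt_of_le_of_ne (inf_le_inf_left _ (C_le_C1 hx)) fun e' => by
      have := card_le (le_inf inf_le_left ((inf_le_inf_right _ hN).trans (e'.ge.trans inf_le_right)) :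
        N ⊓ C{x} ≤ N ⊓ C[A])
      omega
    have e4 := two_mul_card_le e3
    have e5 := card_pos (V ⊓ C[A])
    rw [← eq_of_card_ge (comm_mono_left hN) (by rw [e, N16] at e1; nlinarith)]
    exact eq_of_card_eq (comm1_le_C eN xN (ea_sq hA hx ▸ one_mem _)) (by rw [e, N16] at e1; omega)
  have eV : ⁅V, A⁆ = N ⊓ C{b} ⊔ N ⊓ C{a} := by
    rw [eA, comm_sup_eq h.ea.1 (zpowers_le.2 (h.le (hAH hb))) (zpowers_le.2 (h.le (hAH ha))),
      k2 a ha aN ka4, k2 b hb bN kb]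
  refine ⟨p3 ?_, hi, ⟨b, hb, b1, mem_C1_comm.1 fB⟩, N16, eV ▸ sup_le inf_le_left inf_le_left, ?_⟩
  · have e1 := zpowers_le.2 (cube_mem_C (ea_le eN inf_le_left) kb (mem_N_inf fN (mem_N_C1 fB)) (h.odd hf))
    have e2 := three_subgroup (A := N) (B := zpowers b) (K := zpowers (f ^ 3))
      (comm_eq_bot'.2 (e1.trans (C_anti (comm1_le_C eN bN (ea_sq hA hb ▸ one_mem _)))))
      (by rw [(comm_eq_bot' (A := zpowers b)).2 (by rw [C_zpowers]; exact zpowers_le.2 (pow_mem fB 3)),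
        commutator_bot_left])
    rw [comm_eq_bot, C_zpowers, commC] at e2
    exact H26.stable_factor_cent e1 (le_inf (comm1_le (pow_mem fN 3)) e2) inf_le_left
      ((ea_pi (ea_le eN inf_le_left)).coprime ((piElt_odd.2 (h.odd hf)).pow 3).isPi)
      (Or.inl (Abl.sol (ea_le eN inf_le_left).1)) (mem_zpowers _)
  · have := card_sup (Abl.norm eN.1 (inf_le_left : N ⊓ C{a} ≤ N) (inf_le_left : N ⊓ C{b} ≤ N))
    rw [← inf_inf_distrib_left, ← eC, ← eV, c, kb, ka4] at this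
    omega

theorem Md.m5c (h : Md V H) (h0 : ∀ f ∈ F[H], orderOf f = 3 → ♯⁅V, zpowers f⁆ ≠ 4) (hA : EA A)
    (hAH : A ≤ H) (h4 : ♯A = 4) : 16 * ♯(V ⊓ C[A]) ≤ ♯V := by
  by_contra e
  have h8 : ♯V ≤ 8 * ♯(V ⊓ C[A]) := by
    obtain ⟨j, hj⟩ := ea_card (ea_le h.ea (inf_le_left : V ⊓ C[A] ≤ V))
    obtain ⟨k, hk⟩ := ea_card h.ea
    rw [hj, hk, show 16 = 2 ^ 4 from rfl, ← pow_add, Nat.pow_le_pow_iff_right (by norm_num)] at e
    rw [hj, hk, show 8 = 2 ^ 3 from rfl, ← pow_add]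
    exact Nat.pow_le_pow_right (by norm_num) (by omega)
  obtain ⟨a, ha, a1⟩ := exists_ne_one (H := A) (by rintro rfl; simp at h4)
  obtain ⟨f, hf, f1, f3, -, ⟨b, hb, b1, bf⟩, f16, fA, A8⟩ := h.m5b h0 hA hAH h4 h8 ha a1
  obtain ⟨g, hg, g1, g3, bg, -, g16, gA, -⟩ := h.m5b h0 hA hAH h4 h8 hb b1
  have hP := h.pi3 hf hg f3 g3
  have hF : zpowers f ⊔ zpowers g ≤ F[H] := sup_le (zpowers_le.2 hf) (zpowers_le.2 hg)
  have e1 := card_sup (Abl.norm h.ea.1 (comm1_le (h.nF hg)) (comm1_le (h.nF hf)))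
  rw [← comm_sup_eq h.ea.1 (zpowers_le.2 (h.nF hf)) (zpowers_le.2 (h.nF hg)), f16, g16] at e1
  have fP : f ∈ zpowers f ⊔ zpowers g := mem_sup_left (mem_zpowers f)
  have gP : g ∈ zpowers f ⊔ zpowers g := mem_sup_right (mem_zpowers g)
  have ex : Abl (zpowers f ⊔ zpowers g) → ∀ x ∈ zpowers f ⊔ zpowers g, x ^ 3 = 1 := fun ab x hx => by
    obtain ⟨_, ⟨i, rfl⟩, _, ⟨j, rfl⟩, rfl⟩ := (mem_sup_of_norm (Abl.norm ab le_sup_right le_sup_left)).1 hx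
    rw [Commute.mul_pow (ab.comm (zpow_mem fP i) (zpow_mem gP j)), ← zpow_natCast, ← zpow_natCast,
      zpow_comm f, zpow_comm g, zpow_natCast, zpow_natCast, f3, g3, one_zpow, one_zpow, one_mul]
  generalize zpowers f ⊔ zpowers g = P at *
  have PV : P ≤ N[V] := hF.trans ((Fitting_le H).trans h.le)
  have e2 := card_le (le_inf fA gA)
  have e3 : 16 ≤ ♯⁅V, P⁆ := f16 ▸ card_le (comm_mono_right (zpowers_le.2 fP))
  have e4 : ♯⁅V, P⁆ ≤ 32 := by nlinarith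
  have eM := ea_le h.ea (comm_le_left PV)
  have e5 : ♯P ∣ 3 ^ 2 := by
    obtain ⟨n, hn⟩ := ea_card eM
    have h1 : n ≤ 5 := (Nat.pow_le_pow_iff_right (a := 2) (by norm_num)).1 (hn ▸ e4)
    have h2 : 4 ≤ n := (Nat.pow_le_pow_iff_right (a := 2) (by norm_num)).1 (hn ▸ e3)
    interval_cases n
    · exact pgroup_card_dvd (m := 2240) Nat.prime_three hP
        (by simpa [Fin.prod_univ_succ] using h.dvdF hF hn) (by norm_num)
    · exact pgroup_card_dvd (m := 1111040) Nat.prime_three hP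
        (by simpa [Fin.prod_univ_succ] using h.dvdF hF hn) (by norm_num)
  have ab := abl_of_dvd_nine e5
  have nc : ¬ Cyc P := fun e => by
    obtain ⟨x, hx, rfl⟩ := e.exists_gen
    have h1 : zpowers f = zpowers x := eq_of_card_ge (zpowers_le.2 fP) (by
      rw [card_zpowers', card_zpowers', orderOf_eq_prime f3 f1]
      exact orderOf_le_of_pow_eq_one (by norm_num) (ex ab x hx))
    have h2 := mem_C1_iff_conj.1 (C1_le_C1_of_mem_zpowers (h1 ▸ gP) bf)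
    exact g1 (pow_three_eq_one_of_pi (piElt_two_of_sq (eq_inv_iff_mul_eq_one.1 (h2.symm.trans bg))) g3)
  have := H26.coprime_abelian_gen_cent1 (L := ⊥) ab nc (norm_comm_right V P)
    ((ea_pi eM).coprime (h.odd_F.of_le hF)) fun x hx x1 => by
    have x3 : orderOf x = 3 := orderOf_eq_prime (ex ab x hx) x1
    have h1 := fpf_dvd Nat.prime_three x3 (norm_comm_right V _ (mem_zpowers x)) (h.TI (hF hx))
    have h2 := h0 x (hF hx) x3
    have h3 := one_lt_card (h.comm_ne (Fitting_le H (hF hx)) x1)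
    have h5 : ⁅V, zpowers x⁆ ≤ ⁅V, P⁆ := comm_mono_right (zpowers_le.2 hx)
    have h6 : 16 ≤ ♯⁅V, zpowers x⁆ := by
      obtain ⟨n, hn⟩ := ea_card (ea_le eM h5)
      rw [hn] at h1 h2 h3 ⊢
      by_contra h7
      have : n < 4 := (Nat.pow_lt_pow_iff_right (a := 2) (by norm_num)).1 (not_le.1 h7)
      interval_cases n <;> omega
    have h7 := card_le (sup_le h5 (inf_le_left : ⁅V, P⁆ ⊓ C{x} ≤ _))
    rw [card_sup_of_inf (Abl.norm eM.1 inf_le_left h5)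
      (eq_bot_of_le (h.TI (hF hx)) (inf_le_inf_left _ inf_le_right))] at h7
    refine (odd_TI h.ea PV (h.odd_F.of_le hF)).le.trans' (le_inf inf_le_left (cents_symm fun y hy =>
      mem_C_of_card_le_two (mem_N_inf (norm_comm_right V P hy) (mem_N_C1 (mem_C1.2 (ab.comm hy hx))))
      (by nlinarith)))
  rw [le_bot_iff.1 this, card_bot] at e3
  omega

/-- M5: no element of order three of `F(H)` has a commutator space of order four -/
theorem Md.m5 (h : Md V H) (h0 : ∀ f ∈ F[H], orderOf f = 3 → ♯⁅V, zpowers f⁆ ≠ 4) (hA : EA A)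
    (hAH : A ≤ H) (h1 : A ≠ ⊥) :
    2 * ♯A * ♯(V ⊓ C[A]) ≤ ♯V ∧ (4 ≤ ♯A → 4 * ♯A * ♯(V ⊓ C[A]) ≤ ♯V) := by
  refine ⟨h.m5a h0 hA hAH h1, ?_⟩
  clear h1
  induction A using subgroup_ind with
  | h A ih =>
  intro h4
  rcases h4.eq_or_lt with e | e
  · have := h.m5c h0 hA hAH e.symm
    rwa [← e]
  obtain ⟨a, ha, a1⟩ := exists_ne_one (H := A) (by rintro rfl; simp at h4)
  obtain ⟨B, hB, i2, aB, f, hf, f1, fB, hi⟩ := h.hyper hA hAH ha a1
  have e1 := card_mul_relIndex hB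
  rw [i2] at e1
  have e2 : 4 ≤ ♯B := by
    obtain ⟨n, hn⟩ := ea_card (ea_le hA hB)
    rw [← e1, hn] at e
    rw [hn]
    by_contra h7
    have : n < 2 := (Nat.pow_lt_pow_iff_right (a := 2) (by norm_num)).1 (not_le.1 h7)
    interval_cases n <;> omega
  have e3 := ih B (lt_of_le_of_ne hB fun e => aB (e ▸ ha)) (ea_le hA hB) (hB.trans hAH) e2
  have e4 := two_mul_card_le (lt_of_le_of_ne (inf_le_inf_left V (C_anti hB)) fun e =>
    h.step hA hAH hB hf f1 fB ha (hi a ha aB) (e.ge.trans (inf_le_right.trans (C_le_C1 ha))))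
  rw [← e1]
  nlinarith

end H12.NG
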