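import Mathlib
import Cfsg.Agent.H12.NGMc

/-!
# N-groups: solvable groups acting on elementary abelian groups of order 8 and 16
-/

set_option autoImplicit false
set_option linter.unusedSectionVars false

namespace H12.NG

open Subgroup Cfsg H24 H11.ZN
open scoped commutatorElement

universe u

variable {G : Type u} [Group G] [Finite G] {V H A B E L W X Y K P Q : Subgroup G} {a b f g s t y : G}

/-- the faithful action on `E` -/
theorem exists_faith (hE : EA E) (hH : H ≤ N[E]) (hs : Sol H) :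
    ∃ (Γ : Type u) (_ : Group Γ) (_ : Finite Γ) (V' : Subgroup Γ) (ρ : H →* Γ),
      EA V' ∧ ♯V' = ♯E ∧ ρ.range ≤ N[V'] ∧ ρ.range ⊓ C[V'] = ⊥ ∧ Sol ρ.range ∧
      ♯ρ.range = (H ⊓ C[E]).relIndex H ∧ (∀ g ∈ H, ap ρ g = 1 ↔ g ∈ C[E]) ∧
      ((∀ X ≤ E, H ≤ N[X] → X = ⊥ ∨ X = E) → ∀ X ≤ V', ρ.range ≤ N[X] → X = ⊥ ∨ X = V') := by
  obtain ⟨Γ, _, _, ι, ρ, h⟩ := exists_sec (K := ⊥) (Nml.bot E) hH (by simp)
  have k1 : ∀ g ∈ H, ap ρ g = 1 ↔ g ∈ C[E] := fun g hg => by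
    rw [h.kerρ g hg]
    exact ⟨fun e => mem_C'.2 fun x hx => by
      have := mem_bot.1 (e x hx)
      rwa [mul_inv_eq_one, mul_inv_eq_iff_eq_mul] at this,
      fun e x hx => by rw [conj_eq_of_mem_C e hx, mul_inv_cancel]; exact one_mem _⟩
  have k2 : pre ι ⊥ = ⊥ := eq_bot_iff.2 fun x hx => (h.ker x (mem_pre_bot.1 hx).1).1 (mem_pre_bot.1 hx).2
  refine ⟨Γ, inferInstance, inferInstance, ι.range, ρ, ea_of_sq ?_, ?_, le_N_iff.2 ?_, ?_,
    img_dom ρ ▸ hs.img ρ, ?_, k1, fun hi X hX hn => ?_⟩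
  · rintro _ ⟨x, rfl⟩
    rw [← map_mul, show x * x = 1 from Subtype.ext (ea_sq hE x.2), map_one]
  · rw [← img_dom, card_img_of_inf ι le_rfl (by rw [k2, bot_inf_eq])]
  · rintro _ ⟨g, rfl⟩ _ ⟨x, rfl⟩
    rw [← ap_coe, ← ap_coe ι, ← h.act g g.2 x x.2, ap_of_mem _ (conj_mem (hH g.2) x.2)]
    exact ⟨_, rfl⟩
  · rw [eq_bot_iff]
    rintro _ ⟨⟨g, rfl⟩, hc⟩
    rw [mem_bot, ← ap_coe, h.kerρ g g.2]
    intro x hx
    rw [← h.ker _ (mul_mem (conj_mem (hH g.2) hx) (inv_mem hx)), ap_mul _ (conj_mem (hH g.2) hx) (inv_mem hx),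
      h.act g g.2 x hx, ap_inv _ hx, ap_coe, mul_inv_eq_one]
    exact conj_eq_of_mem_C hc ⟨⟨x, hx⟩, (ap_of_mem _ hx).symm⟩
  · rw [← img_dom, card_img ρ le_rfl]
    congr 1
    ext g
    rw [mem_pre_bot]
    exact and_congr_right (k1 g)
  · have := hi (pre ι X) (pre_le _ _) (le_N_iff.2 fun g hg x hx => mem_pre.2
      ⟨conj_mem (hH hg) (mem_pre.1 hx).1, by
        rw [h.act g hg x (mem_pre.1 hx).1]
        exact conj_mem (hn ⟨⟨g, hg⟩, (ap_of_mem _ hg).symm⟩) (mem_pre.1 hx).2⟩)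
    rw [← img_pre_of_le hX]
    exact this.imp (fun e => by rw [e, img_bot]) fun e => by rw [e, img_dom]

theorem md_of_irr (hV : EA V) (h1 : V ≠ ⊥) (hH : H ≤ N[V]) (hf : H ⊓ C[V] = ⊥) (hs : Sol H)
    (hi : ∀ X ≤ V, H ≤ N[X] → X = ⊥ ∨ X = V) : Md V H := by
  refine ⟨hV, hH, hf, hs, eq_bot_of_le hf (le_inf (Q2_nml H).le (cents_symm ?_))⟩
  exact inf_eq_left.1 ((hi _ inf_le_left (norm_inf hH (norm_C (Q2_nml H).norm))).resolve_left
    (IsPi.inf_C_ne_bot Nat.prime_two (pcore_pi _ _) (ea_pi hV) ((Q2_nml H).le.trans hH) h1))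

theorem Md.norm_zp {p m n : ℕ} (h : Md V H) (hp : p.Prime) (hf : f ∈ F[H]) (ho : orderOf f = p)
    (hV : ♯V = 2 ^ n) (e : ∏ i : Fin n, (2 ^ n - 2 ^ (i : ℕ)) = p ^ 1 * m) (hm : ¬ p ∣ m) :
    H ≤ N[zpowers f] := by
  have e1 := pgroup_card_dvd hp (pcore_pi {p} H) (e ▸ card_dvd_GL h.ea ((pcore_le _ _).trans h.le)
    (eq_bot_of_le h.fa (inf_le_inf_right _ (pcore_le _ _))) hV) hm
  rw [eq_of_card_ge (le_pcore_of_le_Fitting (piElt_of_orderOf_prime hp ho).isPi (zpowers_le.2 hf))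
    (by rw [card_zpowers', ho]; exact Nat.le_of_dvd hp.pos (by simpa using e1))]
  exact (pcore_nml _ _).norm

/-- E8: a solvable irreducible subgroup of `GL₃(2)` has odd order -/
theorem e8_odd (hE : EA E) (h8 : ♯E = 8) (hH : H ≤ N[E]) (hs : Sol H)
    (hi : ∀ X ≤ E, H ≤ N[X] → X = ⊥ ∨ X = E) : Odd ((H ⊓ C[E]).relIndex H) := by
  obtain ⟨Γ, _, _, V, ρ, hV, c1, h1, h2, h3, c2, -, h4⟩ := exists_faith hE hH hs
  replace h4 := h4 hi
  rw [h8] at c1
  have h := md_of_irr hV (by rintro rfl; simp at c1) h1 h2 h3 h4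
  rw [← c2, ← Nat.not_even_iff_odd, even_iff_two_dvd]
  intro e
  obtain ⟨t, ht, t2⟩ := exists_orderOf_eq Nat.prime_two e
  have t2' : t * t = 1 := by rw [← sq, ← t2, pow_orderOf_eq_one]
  obtain ⟨f, hf, f1, hi⟩ := h.inv ht t2' (by rintro rfl; simp at t2)
  have e1 := (h.free hf t2' hi le_rfl (norm_comm_right _ _ (mem_zpowers f))
    (mem_N_comm1 (h.le ht) (norm_zp_of_inv hi))).2
  have e2 := card_dvd (comm1_le (h.nF hf))
  have e3 := one_lt_card (h.comm_ne (Fitting_le _ hf) f1)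
  have e4 : ♯⁅V, zpowers f⁆ = 4 := by
    rw [c1, e1] at e2
    rw [e1] at e3 ⊢
    generalize ♯(⁅V, zpowers f⁆ ⊓ C{t}) = k at *
    have : k ≤ 2 := by have := Nat.le_of_dvd (by norm_num) e2; nlinarith
    interval_cases k <;> omega
  rcases h4 _ (comm1_le (h.nF hf)) (norm_comm h.le (h.norm_zp (n := 3) (m := 56) Nat.prime_three hf
    (h.three hf e4) c1 (by simp [Fin.prod_univ_succ]) (by norm_num))) with e | e
  · rw [e, card_bot] at e4; omega
  · rw [e] at e4; omega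

theorem ncard_cls (X : Subgroup G) (e : G) : {y | ∃ x ∈ X, x * e * x⁻¹ = y}.ncard = C{e}.relIndex X := by
  let _ : MulAction X G := MulAction.compHom G ((MulAut.conj (G := G)).comp X.subtype)
  have h1 := MulAction.index_stabilizer X e
  have h2 : MulAction.orbit X e = {y | ∃ x ∈ X, x * e * x⁻¹ = y} := by
    ext y
    exact ⟨fun ⟨x, hx⟩ => ⟨x, x.2, hx⟩, fun ⟨x, hx, e'⟩ => ⟨⟨x, hx⟩, e'⟩⟩
  have h3 : MulAction.stabilizer X e = C{e}.subgroupOf X := by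
    ext x
    rw [mem_subgroupOf, mem_C1_iff_conj]
    rfl
  rw [← h2, ← h1, h3, relIndex]

/-- E8, plane form -/
theorem e8_plane (hE : EA E) (h8 : ♯E = 8) (hH : H ≤ N[E]) (hs : Sol H) (hV : V ≤ E) (h4 : ♯V = 4)
    (hL : L ≤ H) (hLV : L ≤ N[V]) (h1 : ∀ a ∈ V, a ≠ 1 → ∀ b ∈ V, b ≠ 1 → ∃ g ∈ L, g * a * g⁻¹ = b)
    (h2 : ∀ a ∈ E, a ∉ V → ∀ b ∈ E, b ∉ V → ∃ g ∈ L, g * a * g⁻¹ = b) : H ≤ N[V] := by
  by_contra hn
  have ho := e8_odd hE h8 hH hs fun X hX hHX => by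
    by_cases e : X ≤ V
    · refine Or.inl (by_contra fun e1 => hn ?_)
      obtain ⟨a, ha, a1⟩ := exists_ne_one e1
      refine (le_antisymm e fun b hb => ?_) ▸ hHX
      rcases eq_or_ne b 1 with rfl | b1
      · exact one_mem _
      · obtain ⟨g, hg, rfl⟩ := h1 a (e ha) a1 b hb b1
        exact conj_mem (hHX (hL hg)) ha
    · obtain ⟨a, ha, aV⟩ := SetLike.not_le_iff_exists.1 e
      have k : ∀ b ∈ E, b ∉ V → b ∈ X := fun b hb bV => by
        obtain ⟨g, hg, rfl⟩ := h2 a (hX ha) aV b hb bV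
        exact conj_mem (hHX (hL hg)) ha
      refine Or.inr (le_antisymm hX fun b hb => ?_)
      by_cases bV : b ∈ V
      · exact (mul_mem_cancel_right ha).1 (k _ (mul_mem hb (hX ha)) (mt (mul_mem_cancel_left bV).1 aV))
      · exact k b hb bV
  obtain ⟨a, ha, aV⟩ := SetLike.exists_of_lt (lt_of_card_lt hV (by omega))
  have e1 := ncard_cls L a
  have e2 : {y | ∃ x ∈ L, x * a * x⁻¹ = y} = (E : Set G) \ V := by
    ext y
    exact ⟨fun ⟨x, hx, e⟩ => e ▸ ⟨conj_mem (hH (hL hx)) ha, mt (conj_mem_iff (hLV hx)).1 aV⟩,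
      fun ⟨e, e'⟩ => h2 a ha aV y e e'⟩
  rw [e2, Set.ncard_sdiff hV, ← Nat.card_coe_set_eq, ← Nat.card_coe_set_eq] at e1
  have e3 : C{a}.relIndex L = 4 := e1.symm.trans (congrArg₂ (· - ·) h8 h4)
  have e4 := (relIndex_dvd_of_le_left L (inf_le_right.trans (C_le_C1 ha) : H ⊓ C[E] ≤ C{a})).trans
    (relIndex_dvd_of_nml (nml_inf_of_norm (norm_C hH)) hL)
  rw [e3] at e4
  exact absurd (ho.of_dvd_nat e4) (by decide)

theorem cent5 (hP : Abl P) (hs : s ∈ N[P]) (s5 : orderOf s = 5) (hd : ♯P ∣ 9 ∨ ♯P ∣ 7) : P ≤ C{s} := by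
  have e1 := H26.coprime_abel_cent_TI (zpowers_le.2 hs) (by
    rw [card_zpowers', s5]
    exact hd.elim (fun e => Nat.Coprime.coprime_dvd_left e (by norm_num))
      fun e => Nat.Coprime.coprime_dvd_left e (by norm_num)) hP
  have e2 := fpf_dvd Nat.prime_five s5 (norm_comm_right P _ (mem_zpowers s)) (C_zpowers s ▸ e1)
  have e3 := hd.imp (card_dvd (comm1_le hs)).trans (card_dvd (comm1_le hs)).trans
  rw [← C_zpowers, ← comm_eq_bot, ← card_eq_one']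
  generalize ♯⁅P, zpowers s⁆ = k at *
  have : k ≤ 9 := e3.elim (Nat.le_of_dvd (by norm_num)) fun e => (Nat.le_of_dvd (by norm_num) e).trans (by norm_num)
  interval_cases k <;> omega

theorem cent_or_inv (hp : (orderOf s).Prime) (hy : y ∈ N[zpowers s]) (h2 : y * y = 1) :
    y * s * y⁻¹ = s ∨ y * s * y⁻¹ = s⁻¹ := by
  have h1 := conj_mem hy (mem_zpowers s)
  rcases eq_or_ne (s * (y * s * y⁻¹)) 1 with e | e
  · exact Or.inr (eq_inv_of_mul_eq_one_right e)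
  · refine Or.inl (conj_eq_of_mem_C (H := zpowers s) ?_ (mem_zpowers s))
    rw [C_eq_C1_of_prime (by rwa [card_zpowers']) (mul_mem (mem_zpowers s) h1) e, mem_C1_iff_conj,
      (abl_zpowers s).comm (mem_zpowers s) h1]
    calc _ = (y * y) * s * (y * y)⁻¹ * (y * s * y⁻¹) := by group
      _ = _ := by rw [h2, ← (abl_zpowers s).comm (mem_zpowers s) h1]; group

/-- E16: a solvable subgroup of `GL₄(2)` of order divisible by five has no four-group -/
theorem e16 (hE : EA E) (h16 : ♯E = 16) (hH : H ≤ N[E]) (hs : Sol H) (h5 : 5 ∣ (H ⊓ C[E]).relIndex H)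
    (ha : a ∈ H) (hb : b ∈ H) (a2 : a * a ∈ C[E]) (b2 : b * b ∈ C[E]) (ab : a * b * (a * b) ∈ C[E]) :
    a ∈ C[E] ∨ b ∈ C[E] ∨ a * b ∈ C[E] := by
  obtain ⟨Γ, _, _, V, ρ, hV, c1, h1, h2, h3, c2, k, -⟩ := exists_faith hE hH hs
  rw [h16] at c1
  obtain ⟨s, hs, s5⟩ := exists_orderOf_eq Nat.prime_five (c2 ▸ h5)
  have fa : ∀ x ∈ ρ.range, x ∈ C[V] → x = 1 := fun x e e' => mem_bot.1 (h2 ▸ mem_inf.2 ⟨e, e'⟩)
  have k1 : ∀ X ≤ V, s ∈ N[X] → X ⊓ C{s} = ⊥ → X = ⊥ ∨ X = V := fun X hX e e' => by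
    have e1 := fpf_dvd Nat.prime_five s5 e e'
    have e2 := card_dvd hX
    have e3 := card_le hX
    have e4 : ♯X = 1 ∨ ♯X = 16 := by
      rw [c1] at e2 e3
      generalize ♯X = n at *
      interval_cases n <;> omega
    exact e4.imp card_eq_one'.1 fun e => eq_of_card_eq hX (e.trans c1.symm)
  have t1 := odd_TI1 hV (h1 hs) (by rw [s5]; decide)
  rw [(k1 _ (comm1_le (h1 hs)) (norm_comm_right _ _ (mem_zpowers s)) t1).resolve_left fun e => by
    rw [fa s hs (comm_eq_bot'.1 e (mem_zpowers s))] at s5; simp at s5] at t1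
  replace k1 := fun X hX e => k1 X hX e (eq_bot_of_le t1 (inf_le_inf_right _ hX))
  have h := md_of_irr hV (by rintro rfl; simp at c1) h1 h2 h3 fun X hX e => k1 X hX (e hs)
  have d : ∀ P ≤ ρ.range, ♯P ∣ 20160 := fun P hP => by
    simpa [Fin.prod_univ_succ] using card_dvd_GL hV (hP.trans h1) (eq_bot_of_le h2 (inf_le_inf_right _ hP))
      (n := 4) c1
  have sF : s ∈ F[ρ.range] := cent_sub_Fitting h3 ⟨hs, mem_C_iff_le_C1.2 (Fitting_le_of_pcore_le fun p hp hd => by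
    have n := (pcore_nml {p} ρ.range).norm hs
    rcases eq_or_ne p 5 with rfl | p5
    · have e1 := pgroup_card_dvd (k := 1) (m := 4032) hp ((pcore_pi {5} ρ.range).sup
        (piElt_of_orderOf_prime hp s5).isPi (zpowers_le.2 n))
        (d _ (sup_le (pcore_le _ _) (zpowers_le.2 hs))) (by norm_num)
      refine le_sup_left.trans ((eq_of_card_ge le_sup_right ?_).ge.trans (zpowers_le_C1 s))
      rw [card_zpowers', s5]
      exact Nat.le_of_dvd (by norm_num) e1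
    rcases eq_or_ne p 3 with rfl | p3
    · have e1 := pgroup_card_dvd (k := 2) (m := 2240) hp (pcore_pi {3} ρ.range) (d _ (pcore_le _ _)) (by norm_num)
      exact cent5 (abl_of_dvd_nine e1) n s5 (Or.inl e1)
    · have p2 : p ≠ 2 := h.odd_F.mem hp hd
      have e1 : ♯O[{p}, ρ.range] ∣ 7 := (pcore_pi {p} ρ.range).piNat.dvd_of_dvd_mul (b := 2 ^ 6 * 3 ^ 2 * 5)
        ((piNat_compl_singleton hp).2 fun e => by
          rcases (Nat.Prime.dvd_mul hp).1 e with e | e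
          · rcases (Nat.Prime.dvd_mul hp).1 e with e | e
            · exact p2 ((Nat.prime_dvd_prime_iff_eq hp Nat.prime_two).1 (hp.dvd_of_dvd_pow e))
            · exact p3 ((Nat.prime_dvd_prime_iff_eq hp Nat.prime_three).1 (hp.dvd_of_dvd_pow e))
          · exact p5 ((Nat.prime_dvd_prime_iff_eq hp Nat.prime_five).1 e)) (d _ (pcore_le _ _))
      refine cent5 ?_ n s5 (Or.inr e1)
      rcases (Nat.dvd_prime (by norm_num)).1 e1 with e | e
      · rw [card_eq_one'.1 e]; exact abl_bot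
      · exact (cyc_of_prime (by rw [e]; norm_num)).abl)⟩
  have n := h.norm_zp (n := 4) (m := 4032) Nat.prime_five sF s5 c1 (by simp [Fin.prod_univ_succ]) (by norm_num)
  have m : ∀ x ∈ H, ap ρ x ∈ ρ.range := fun x hx => ⟨⟨x, hx⟩, (ap_of_mem _ hx).symm⟩
  have q : ∀ x ∈ H, x * x ∈ C[E] → ap ρ x * ap ρ x = 1 := fun x hx e => by
    rw [← ap_mul _ hx hx]; exact (k _ (mul_mem hx hx)).2 e
  have k2 : ∀ x ∈ H, x * x ∈ C[E] → ap ρ x * s * (ap ρ x)⁻¹ = s → x ∈ C[E] := fun x hx e e' => by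
    refine (k x hx).1 (by_contra fun x1 => ?_)
    have e1 := (k1 _ (comm1_le (h1 (m x hx))) (mem_N_comm1 (h1 hs) (norm_zpowers_of_cent le_rfl
      (mem_C1_comm.1 (mem_C1_iff_conj.2 e'))))).resolve_left (h.comm_ne (m x hx) x1)
    exact x1 (fa _ (m x hx) (mem_C_iff_le_C1.2 (e1.ge.trans ((comm1_le_C hV (h1 (m x hx))
      (q x hx e ▸ one_mem _)).trans inf_le_right))))
  have p5 : (orderOf s).Prime := s5 ▸ Nat.prime_five
  rcases cent_or_inv p5 (n (m a ha)) (q a ha a2) with e1 | e1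
  · exact Or.inl (k2 a ha a2 e1)
  rcases cent_or_inv p5 (n (m b hb)) (q b hb b2) with e2 | e2
  · exact Or.inr (Or.inl (k2 b hb b2 e2))
  refine Or.inr (Or.inr (k2 _ (mul_mem ha hb) ab ?_))
  rw [ap_mul _ ha hb]
  calc _ = ap ρ a * (ap ρ b * s * (ap ρ b)⁻¹) * (ap ρ a)⁻¹ := by group
    _ = (ap ρ a * s * (ap ρ a)⁻¹)⁻¹ := by rw [e2]; group
    _ = s := by rw [e1, inv_inv]

end H12.NG
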