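import Cfsg.Agent.H12.NGA1

/-!
# Case (A), `U` not abelian: the commutator map
-/

set_option autoImplicit false
set_option linter.unusedSectionVars false
set_option linter.unusedVariables false
namespace H12.NG
open Subgroup Cfsg H24 H11.ZN
open scoped commutatorElement
universe u
variable {G : Type u} [Group G] [Finite G] {S V : Subgroup G} {z y t t' x u d f m : G}

theorem four_le₂ {X : Subgroup G} (h4 : ♯V = 4) (hz : z ∈ V) (hy : y ∈ V) (z1 : z ≠ 1) (y1 : y ≠ 1)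
    (hne : y ≠ z) (hzX : z ∈ X) (hyX : y ∈ X) : V ≤ X := by
  have h1 : ♯(V ⊓ X) ∣ 4 := h4 ▸ card_dvd inf_le_left
  have h2 : 3 ≤ ♯(V ⊓ X) := by
    have : ({1, z, y} : Set G) ⊆ (V ⊓ X : Subgroup G) := by
      rintro a (rfl | rfl | rfl)
      exacts [one_mem _, ⟨hz, hzX⟩, ⟨hy, hyX⟩]
    have h3 := Set.ncard_le_ncard this
    rwa [Set.ncard_eq_three.2 ⟨1, z, y, z1.symm, y1.symm, hne.symm, rfl⟩] at h3
  have h3 := Nat.le_of_dvd (by norm_num) h1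
  have h5 : ♯(V ⊓ X) = 4 := by
    generalize ♯(V ⊓ X) = n at *
    interval_cases n <;> simp_all
  exact inf_eq_left.1 (eq_of_card_eq inf_le_left (h5.trans h4.symm))

theorem Uz_cj₂ (hm : m ∈ N[V]) (y : G) : Uz V (m * y * m⁻¹) = cj m (Uz V y) := by
  rw [← CA.Uz_conj, cj_of_mem_N hm]

theorem U1_cj₂ (hm : m ∈ N[V]) (y : G) : Uz V (m * y * m⁻¹) ⊓ C[V] = cj m (Uz V y ⊓ C[V]) := by
  rw [cj_inf, Uz_cj₂ hm, cj_C, cj_of_mem_N hm]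

namespace CA
variable (h : CA S V z)
include h

theorem exists_at₂ (hy : y ∈ V) (h1 : y ≠ 1) : ∃ m ∈ N[V], m * z * m⁻¹ = y ∧ CA (cj m S) V y := by
  obtain ⟨m, hm, rfl⟩ := h.trans hy h1
  exact ⟨m, hm.1, rfl, h.conj hm.1⟩

theorem CV_le₂ : C[V] ≤ C{z} := C_le_C1 h.z_mem
theorem U_le_C₂ : Uz V z ≤ C{z} := h.U_nml.le
theorem U_le_N₂ : Uz V z ≤ N[V] := h.U_le_Q.trans (h.Q_le_S.trans h.nml.norm)
theorem D_le_U₂ : Dv V ≤ Uz V z := iInf₂_le_of_le z h.z_mem (iInf_le _ h.z1)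
theorem D_le_C₂ : Dv V ≤ C[V] := cents_of_le (Abl.le_C h.D_ea.1) h.V_le_D
theorem z_le_V₂ : zpowers z ≤ V := zpowers_le.2 h.z_mem
theorem comm_mem₂ (hx : x ∈ Uz V z) (hu : u ∈ Qz z) : x * u * x⁻¹ * u⁻¹ ∈ zpowers z :=
  h.comm_UQ ▸ commutator_mem_commutator hx hu

/-- an element of `U` outside `C(V)` moves `y` -/
theorem move₂ (hy : y ∈ V) (h1 : y ≠ 1) (h2 : y ≠ z) (hx : x ∈ Uz V z) (hx' : x ∉ C[V]) :
    x * y * x⁻¹ ≠ y := fun e => hx' (mem_C_iff_le_C1.2 (four_le₂ h.card h.z_mem hy h.z1 h1 h2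
      (mem_C1_comm.1 (h.U_le_C₂ hx)) (mem_C1_comm.1 (mem_C1_iff_conj.2 e))))

theorem mem_D₂ (hy : y ∈ V) (h1 : y ≠ 1) (h2 : y ≠ z) (hx : x ∈ Uz V z) (hx' : x ∉ C[V])
    (ht : t ∈ Uz V y) (h3 : x * t * x⁻¹ ∈ Uz V y) : t ∈ Dv V := by
  obtain ⟨m, -, -, hy'⟩ := h.exists_at₂ hy h1
  have hN := h.U_le_N₂ hx
  refine (conj_mem_iff (h.D_nml.norm hN)).1 ?_
  rw [hy'.D_eq (conj_mem hN hy) (by simpa using h1) (h.move₂ hy h1 h2 hx hx'), Uz_cj₂ hN]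
  exact ⟨h3, conj_mem_cj x ht⟩

/-! ### NGA2 -/
theorem not_le_of_nonab (hU : ¬ Abl (Uz V z)) : ¬ Uz V z ≤ C[V] := fun h1 => hU (abl_iff.2 (cents_symm
  (iSup₂_le fun g hg => by
    have := cent_cj (cents_symm h1) g
    rwa [cj_of_mem_N (h.U_nml.norm hg)] at this)))

theorem U1_le (hy : y ∈ V) (h1 : y ≠ 1) : Uz V y ⊓ C[V] ≤ S ⊓ C[V] := by
  obtain ⟨m, -, -, hy'⟩ := h.exists_at₂ hy h1
  exact ((inf_le_inf_right _ hy'.U_le_Q).trans (h.Q1_le hy h1)).trans h.QV_le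

theorem card_U1 (hy : y ∈ V) (h1 : y ≠ 1) : ♯(Uz V y ⊓ C[V]) = ♯(Uz V z ⊓ C[V]) := by
  obtain ⟨m, hm, rfl, -⟩ := h.exists_at₂ hy h1
  rw [U1_cj₂ hm, card_cj]

theorem comm_U1 (hy : y ∈ V) (h1 : y ≠ 1) (h2 : y ≠ z) : ⁅Uz V z ⊓ C[V], Uz V y ⊓ C[V]⁆ ≤ Dv V := by
  obtain ⟨m, -, -, hy'⟩ := h.exists_at₂ hy h1
  rw [h.D_eq hy h1 h2]
  exact le_inf ((comm_mono_left inf_le_left).trans (comm_le_left
      (inf_le_right.trans (h.CV_le₂.trans h.U_nml.norm))))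
    ((comm_mono_right inf_le_left).trans (comm_le_right
      (inf_le_right.trans (hy'.CV_le₂.trans hy'.U_nml.norm))))

section
variable (hU : ¬ Uz V z ≤ C[V]) (hy : y ∈ V) (h1 : y ≠ 1) (h2 : y ≠ z)
include hU hy h1 h2

theorem U1_inf_Q : Uz V y ⊓ C[V] ⊓ Qz z = Dv V := by
  obtain ⟨m, -, -, hy'⟩ := h.exists_at₂ hy h1
  refine le_antisymm (fun a ha => ?_) (le_inf (le_inf hy'.D_le_U₂ h.D_le_C₂) (h.D_le_U₂.trans h.U_le_Q))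
  obtain ⟨x, hx, hx'⟩ := SetLike.not_le_iff_exists.1 hU
  refine h.mem_D₂ hy h1 h2 hx hx' ha.1.1 ?_
  simpa using mul_mem (hy'.V_le_U (h.z_le_V₂ (h.comm_mem₂ hx ha.2))) ha.1.1

theorem phi_mem (hx : x ∈ Uz V z) (ht : t ∈ Uz V y ⊓ C[V]) : x * t * x⁻¹ * t⁻¹ ∈ Uz V z ⊓ C[V] :=
  mem_inf.2 ⟨by simpa only [mul_assoc] using mul_mem hx (conj_mem (h.U_nml.norm (h.CV_le₂ ht.2)) (inv_mem hx)),
    mul_mem (conj_mem (N_le_NC V (h.U_le_N₂ hx)) ht.2) (inv_mem (mem_inf.1 ht).2)⟩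

theorem phi_inj (hx : x ∈ Uz V z) (hx' : x ∉ C[V]) (ht : t ∈ Uz V y ⊓ C[V])
    (hD : x * t * x⁻¹ * t⁻¹ ∈ Dv V) : t ∈ Dv V := by
  obtain ⟨m, -, -, hy'⟩ := h.exists_at₂ hy h1
  refine h.mem_D₂ hy h1 h2 hx hx' ht.1 ?_
  simpa using mul_mem (hy'.D_le_U₂ hD) ht.1

theorem phi_mul (hx : x ∈ Uz V z) (ht : t ∈ Uz V y ⊓ C[V]) (ht' : t' ∈ Uz V y ⊓ C[V]) :
    (x * (t * t') * x⁻¹ * (t * t')⁻¹)⁻¹ * ((x * t * x⁻¹ * t⁻¹) * (x * t' * x⁻¹ * t'⁻¹)) ∈ Dv V := by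
  have k := h.comm_U1 hy h1 h2 (commutator_mem_commutator (inv_mem (h.phi_mem hU hy h1 h2 hx ht')) ht)
  have k' := inv_mem k
  rw [commutatorElement_def] at k'
  convert k' using 1
  group

theorem phi_surj (hx : x ∈ Uz V z) (hx' : x ∉ C[V]) (hu : u ∈ Uz V z ⊓ C[V]) :
    ∃ t ∈ Uz V y ⊓ C[V], u⁻¹ * (x * t * x⁻¹ * t⁻¹) ∈ Dv V := by
  obtain ⟨m, -, -, hy'⟩ := h.exists_at₂ hy h1
  have hN : Uz V z ⊓ C[V] ≤ N[Dv V] := inf_le_right.trans ((C_le_N V).trans h.D_nml.norm)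
  have hm : ∀ t : ↥(Uz V y ⊓ C[V]), x * t * x⁻¹ * (t : G)⁻¹ ∈ Uz V z ⊓ C[V] := fun t =>
    h.phi_mem hU hy h1 h2 hx t.2
  let ψ : ↥(Uz V y ⊓ C[V]) →* QN (Dv V) := MonoidHom.mk' (fun t => cs (Dv V) (x * t * x⁻¹ * (t : G)⁻¹))
    fun a b => by
      rw [← ap_mul _ (hN (hm a)) (hN (hm b))]
      exact (cs_eq_cs (hN (hm (a * b))) (hN (mul_mem (hm a) (hm b)))).2 (h.phi_mul hU hy h1 h2 hx a.2 b.2)
  have k1 : ψ.ker = (Dv V).subgroupOf _ := by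
    ext t
    refine (cs_eq_one (hN (hm t))).trans ⟨h.phi_inj hU hy h1 h2 hx hx' t.2, fun ht => ?_⟩
    exact mul_mem (conj_mem (h.D_nml.norm (h.U_le_N₂ hx)) ht) (inv_mem ht)
  have k2 : ψ.range ≤ quo (Uz V z ⊓ C[V]) (Dv V) := by
    rintro _ ⟨t, rfl⟩
    exact cs_mem_quo (hm t) (hN (hm t))
  have k3 := card_mul_relIndex (le_inf h.D_le_U₂ h.D_le_C₂)
  have k4 := card_mul_relIndex (le_inf hy'.D_le_U₂ h.D_le_C₂)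
  rw [h.card_U1 hy h1, ← k3] at k4
  have k5 := eq_of_card_eq k2 (by
    rw [card_quo hN, ← index_ker, k1]
    exact Nat.eq_of_mul_eq_mul_left (card_pos _) k4)
  obtain ⟨t, ht⟩ := k5.ge (cs_mem_quo hu (hN hu))
  exact ⟨t, t.2, (cs_eq_cs (hN hu) (hN (hm t))).1 ht.symm⟩

omit hy h1 h2 in
theorem comm_DU0₂ (hu : u ∈ Dv V) (hu' : u ∉ V) : ⁅zpowers u, Uz V z ⊓ C[V]⁆ = zpowers z := by
  refine h.delta (X := Uz V) (fun y hy h1 => ?_) (fun y _ _ m hm => Uz_cj₂ ?_ y) hU h.D_ea h.V_le_D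
    (h.nml.norm.trans h.D_nml.norm) (fun y hy h1 => ?_) hu hu'
  · obtain ⟨m, -, -, hy'⟩ := h.exists_at₂ hy h1
    exact hy'.U_le_Q
  · exact sup_le h.nml.norm h.L_nml.le hm
  · obtain ⟨m, -, -, hy'⟩ := h.exists_at₂ hy h1
    exact (commutator_mono hy'.D_le_U₂ hy'.U_le_Q).trans hy'.comm_UQ.le

omit h2 in
theorem not_le_at₂ : ¬ Uz V y ≤ C[V] := by
  obtain ⟨m, hm, rfl, -⟩ := h.exists_at₂ hy h1
  rw [Uz_cj₂ hm, cj_le_iff, cj_C, cj_of_mem_N (inv_mem hm)]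
  exact hU

theorem comm_DU (hu : u ∈ Dv V) (hu' : u ∉ V) : ⁅zpowers u, Uz V y ⊓ C[V]⁆ = zpowers y ∧
    ⁅zpowers u, Uz V z ⊓ C[V]⁆ = zpowers z := by
  obtain ⟨m, -, -, hy'⟩ := h.exists_at₂ hy h1
  exact ⟨hy'.comm_DU0₂ (h.not_le_at₂ hU hy h1) hu hu', h.comm_DU0₂ hU hu hu'⟩

/-- `U ∩ C(V)`-elements centralised modulo `z` by `t` commute with `[x,t]` (formula (F)) -/
theorem perp (hx : x ∈ Uz V z) (hx' : x ∉ C[V]) (ht : t ∈ Uz V y ⊓ C[V]) (hu : u ∈ Uz V z ⊓ C[V])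
    (hc : t * u * t⁻¹ * u⁻¹ ∈ zpowers z) : x * t * x⁻¹ * t⁻¹ ∈ C{u} := by
  have hC : ∀ g ∈ C{z}, ∀ c ∈ zpowers z, g * c = c * g := fun g hg c hc =>
    mem_C1.1 (C1_le_C1_of_mem_zpowers hc hg)
  have k1 := h.comm_mem₂ (inv_mem hx) (h.U_le_Q hu.1)
  have k2 := hC _ (h.CV_le₂ ht.2) _ k1
  have k3 := hC _ (h.U_le_C₂ hx) _ hc
  have k4 := hC _ (h.CV_le₂ ht.2) _ hc
  have k5 := hC _ (h.U_le_C₂ hx) _ k1
  have k6 := hC _ (h.U_le_C₂ hu.1) _ hc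
  have k7 := hC _ (h.U_le_C₂ hu.1) _ k1
  obtain ⟨c, hc'⟩ : ∃ c, c = t * u * t⁻¹ * u⁻¹ := ⟨_, rfl⟩
  obtain ⟨e, he⟩ : ∃ e, e = x⁻¹ * u * x⁻¹⁻¹ * u⁻¹ := ⟨_, rfl⟩
  rw [← hc'] at k3 k4 k6
  rw [← he] at k2 k5 k7
  have e1 : t * u * t⁻¹ = c * u := by rw [hc']; group
  have e2 : x⁻¹ * u * x = e * u := by rw [he]; group
  have e3 : t⁻¹ * u * t = c⁻¹ * u := by
    calc _ = t⁻¹ * c⁻¹ * (c * u) * t := by group
      _ = c⁻¹ * u := by rw [← e1, (Commute.inv_inv k4).eq]; group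
  have e4 : x * u * x⁻¹ = e⁻¹ * u := by
    calc _ = x * e⁻¹ * (e * u) * x⁻¹ := by group
      _ = e⁻¹ * u := by rw [← e2, (Commute.inv_right k5).eq]; group
  rw [mem_C1_iff_conj]
  calc _ = x * t * (x⁻¹ * (t⁻¹ * u * t) * x) * t⁻¹ * x⁻¹ := by group
    _ = x * t * (x⁻¹ * c⁻¹) * x * (x⁻¹ * u * x) * t⁻¹ * x⁻¹ := by rw [e3]; group
    _ = x * (t * c⁻¹) * t⁻¹ * (t * e) * t⁻¹ * (t * u * t⁻¹) * x⁻¹ := by
      rw [(Commute.inv_inv k3).eq, e2]; group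
    _ = x * c⁻¹ * (e * c) * u * x⁻¹ := by rw [(Commute.inv_right k4).eq, k2, e1]; group
    _ = (x * e) * x⁻¹ * (x * u * x⁻¹) := by
      rw [show e * c = c * e from hC _ (he ▸ zpowers_le_C1 z k1) _ (hc' ▸ hc)]
      group
    _ = u := by rw [k5, e4]; group
end

end CA

end H12.NG
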