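import Mathlib
import Cfsg.Agent.H18.K3Ch
import Cfsg.Agent.H25.Dihedral
import Cfsg.Agent.H26.Coprime

/-!
# The dihedral lemma in groups of characteristic 2 and characteristic 3 type
-/

set_option autoImplicit false
set_option linter.unusedSectionVars false
set_option linter.unusedVariables false

open Cfsg H24 H26 Subgroup H18.K3

namespace H12.K3

universe u

variable {G : Type u} [Group G] [Finite G] {p a b : ℕ} {A B D E : Subgroup G} {x y : G}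

theorem exists_ord3 (hx : PiElt {3} x) (h1 : x ≠ 1) : ∃ y ∈ zpowers x, orderOf y = 3 :=
  exists_orderOf_eq Nat.prime_three (by rw [card_zpowers']; exact hx.dvd_orderOf h1)

theorem conj_zp {c : G} (hy : y ∈ zpowers x) (h : c * x * c⁻¹ = x) : c * y * c⁻¹ = y := by
  obtain ⟨n, rfl⟩ := mem_zpowers_iff.1 hy
  rw [← conj_zpow, h]

theorem conj_zp' {c : G} (hy : y ∈ zpowers x) (h : c * x * c⁻¹ = x⁻¹) : c * y * c⁻¹ = y⁻¹ := by
  obtain ⟨n, rfl⟩ := mem_zpowers_iff.1 hy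
  rw [← conj_zpow, h, inv_zpow]

theorem ne_inv3 (hy : orderOf y = 3) : y ≠ y⁻¹ := fun e => by
  have h2 : y ^ 2 = 1 := by rw [pow_two]; nth_rewrite 1 [e]; exact inv_mul_cancel y
  have := orderOf_dvd_of_pow_eq_one h2
  rw [hy] at this
  exact absurd this (by decide)

/-- adjoining a commuting element of order three -/
theorem ea_sup3 (hA : IsElementaryAbelian 3 A) (hy : orderOf y = 3) (hc : y ∈ C[A]) :
    IsElementaryAbelian 3 (A ⊔ zpowers y) := by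
  have hc' : zpowers y ≤ C[A] := zpowers_le.2 hc
  refine ⟨Abl.sup hA.1 (abl_zpowers y) (cents_symm hc'), fun g hg => ?_⟩
  obtain ⟨u, hu, v, hv, rfl⟩ := (mem_sup_of_norm (norm_of_cent hc')).1 hg
  have huv : Commute u v := (comm_of_cent hc' hv hu).symm
  obtain ⟨n, rfl⟩ := mem_zpowers_iff.1 hv
  rw [huv.mul_pow, hA.2 u hu, one_mul, ← zpow_natCast, ← zpow_mul, mul_comm, zpow_mul,
    zpow_natCast, ← hy, pow_orderOf_eq_one, one_zpow]

theorem card_sup3 (hy : orderOf y = 3) (hc : y ∈ C[A]) (hn : y ∉ A) :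
    ♯(A ⊔ zpowers y : Subgroup G) = ♯A * 3 := by
  have h3 : (♯(zpowers y)).Prime := by rw [card_zpowers', hy]; exact Nat.prime_three
  rw [card_sup_of_inf (norm_of_cent (zpowers_le.2 hc)), card_zpowers', hy]
  rw [inf_comm]
  exact prime_inf_of_not_le h3 fun h => hn (h (mem_zpowers y))

/-- a 2-subgroup centralising a nontrivial 3-subgroup `D` acts faithfully on `O_3(N D) ⊓ C(D)` -/
theorem faithful (h : KT G p a b) (hD : IsPi {3} D) (h1 : D ≠ ⊥) (hE : IsPi {2} E)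
    (hc : E ≤ C[D]) : E ⊓ C[O[{3}, N[D]] ⊓ C[D]] = ⊥ := by
  have hR : IsPi {3} O[{3}, N[D]] := pcore_pi _ _
  have hRn : N[D] ≤ N[O[{3}, N[D]]] := (pcore_nml _ _).norm
  have hEN : E ⊓ C[O[{3}, N[D]] ⊓ C[D]] ≤ N[D] := inf_le_left.trans (hc.trans (C_le_N D))
  have h2 : IsPi {2} (E ⊓ C[O[{3}, N[D]] ⊓ C[D]]) := hE.inf_left _
  have hle : ⁅O[{3}, N[D]], E ⊓ C[O[{3}, N[D]] ⊓ C[D]]⁆ ≤ O[{3}, N[D]] ⊓ C[D] :=
    le_inf (comm_le_left (hEN.trans hRn))
      ((comm_mono_right (inf_le_left.trans hc)).trans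
        (comm_le_right ((pcore_le _ _).trans (N_le_NC D))))
  have hcent : E ⊓ C[O[{3}, N[D]] ⊓ C[D]] ≤ C[O[{3}, N[D]]] :=
    coprime_commGG1P (hEN.trans hRn) (hR.coprime_of_ne h2 (by decide))
      (hR.sol Nat.prime_three) (comm_eq_bot'.2 (inf_le_right.trans (C_anti hle)))
  have h3 : E ⊓ C[O[{3}, N[D]] ⊓ C[D]] ≤ O[{3}, N[D]] := (le_inf hEN hcent).trans (h.loc3 hD h1)
  exact h2.eq_bot ((hR.of_le h3).compl_of_ne (by decide))

/-- dual bases: involutions `e i` of `E` and commuting elements `y i` of order three in `C(D)` -/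
theorem dual3 (h : KT G p a b) (hD : IsPi {3} D) (h1 : D ≠ ⊥) (hE : IsElementaryAbelian 2 E)
    (hc : E ≤ C[D]) {n : ℕ} (hn : ♯E = 2 ^ n) :
    ∃ e y : Fin n → G, (∀ i, e i ∈ E ∧ y i ∈ O[{3}, N[D]] ⊓ C[D] ∧ orderOf (y i) = 3 ∧
      (∀ c ∈ E, c * y i * c⁻¹ = y i ∨ c * y i * c⁻¹ = (y i)⁻¹) ∧
      e i * y i * (e i)⁻¹ = (y i)⁻¹) ∧ (∀ i j, y i * y j = y j * y i) ∧
      (∀ i j, i ≠ j → e j * y i * (e j)⁻¹ = y i) ∧ E ≤ ⨆ i, zpowers (e i) := by
  have hE2 : IsPi {2} E := isPi_of_card Nat.prime_two hn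
  have hL : IsPi {3} (O[{3}, N[D]] ⊓ C[D]) := (pcore_pi _ _).inf_left _
  have odd3 : ∀ {X : Subgroup G}, IsPi {3} X → Odd ♯X := fun hX => by
    rw [← Nat.not_even_iff_odd, even_iff_two_dvd]
    exact hX.not_dvd Nat.prime_two (by decide)
  have hEN : E ≤ N[D] := hc.trans (C_le_N D)
  obtain ⟨B, hBL, hEB, hB, hf⟩ := H25.Bd.exists_abelian_faithful (hL.sol Nat.prime_three) (odd3 hL) hE
    (norm_inf (hEN.trans (pcore_nml _ _).norm) (norm_C hEN)) (faithful h hD h1 hE2 hc)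
  obtain ⟨e, x, h2, h3, h4⟩ := H25.Bd.dual_basis hE hB (odd3 (hL.of_le hBL)) hEB hf n E le_rfl hn
  choose y hy ho using fun i => exists_ord3 ((hL.of_le hBL).piElt (h2 i).2.1) (h2 i).2.2.1
  have yB : ∀ i, y i ∈ B := fun i => zpowers_le.2 (h2 i).2.1 (hy i)
  refine ⟨e, y, fun i => ⟨(h2 i).1, hBL (yB i), ho i, fun c hc => ?_, conj_zp' (hy i) (h2 i).2.2.2.2⟩,
    fun i j => Abl.comm hB (yB i) (yB j), fun i j hij => conj_zp (hy i) (h3 i j hij), h4⟩
  exact ((h2 i).2.2.2.1 c hc).imp (conj_zp (hy i)) (conj_zp' (hy i))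

/-- an elementary abelian 2-group of rank `n + 1` centralising `D` contains an involution which
centralises an elementary abelian 3-group of order `|D| 3 ^ n` over `D` -/
theorem rank_cor (h : KT G p a b) (hD : IsElementaryAbelian 3 D) (h1 : D ≠ ⊥)
    (hE : IsElementaryAbelian 2 E) (hc : E ≤ C[D]) {n : ℕ} (hn : ♯E = 2 ^ (n + 1)) :
    ∃ e ∈ E, orderOf e = 2 ∧ ∃ A, IsElementaryAbelian 3 A ∧ D ≤ A ∧ A ≤ C{e} ∧ E ≤ N[A] ∧
      ♯A = ♯D * 3 ^ n := by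
  have hD3 : IsPi {3} D := isPi_iff_piElt.2 fun x hx =>
    piElt_of_pow_eq_one (piNat_self Nat.prime_three) (hD.2 x hx)
  obtain ⟨e, y, h2, h3, h4, -⟩ := dual3 h hD3 h1 hE hc hn
  have key : ∀ s : Finset (Fin (n + 1)), ∃ A, IsElementaryAbelian 3 A ∧ D ≤ A ∧
      (∀ j, j ∉ s → A ≤ C{e j}) ∧ (∀ j, y j ∈ C[A]) ∧ E ≤ N[A] ∧ ♯A = ♯D * 3 ^ s.card := by
    intro s
    induction s using Finset.induction_on with
    | empty =>
      exact ⟨D, hD, le_rfl, fun j _ => mem_C_iff_le_C1.1 (hc (h2 j).1), fun j => (h2 j).2.1.2,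
        hc.trans (C_le_N D), by simp⟩
    | insert i s hi ih =>
      obtain ⟨A, a1, a2, a3, a4, a5, a6⟩ := ih
      have hn : y i ∉ A := fun hy => ne_inv3 (h2 i).2.2.1 (by
        rw [← (h2 i).2.2.2.2]
        exact (mem_C1_iff_conj.1 (mem_C1_comm.1 (a3 i hi hy))).symm)
      refine ⟨A ⊔ zpowers (y i), ea_sup3 a1 (h2 i).2.2.1 (a4 i), a2.trans le_sup_left,
        fun j hj => ?_, fun j => ?_, norm_sup a5 ?_, ?_⟩
      · rw [Finset.mem_insert, not_or] at hj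
        exact sup_le (a3 j hj.2) (zpowers_le.2
          (mem_C1_comm.1 (mem_C1_iff_conj.2 (h4 i j (Ne.symm hj.1)))))
      · rw [C_sup, C_zpowers]
        exact ⟨a4 j, mem_C1.2 (h3 j i)⟩
      · intro c hc
        refine mem_N_of_cj_le ?_
        rw [cj_zpowers, zpowers_le]
        rcases (h2 i).2.2.2.1 c hc with e1 | e1 <;> rw [e1]
        · exact mem_zpowers _
        · exact Subgroup.inv_mem _ (mem_zpowers _)
      · rw [card_sup3 (h2 i).2.2.1 (a4 i) hn, a6, Finset.card_insert_of_notMem hi, pow_succ,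
          mul_assoc]
  obtain ⟨A, a1, a2, a3, -, a5, a6⟩ := key (Finset.univ.erase 0)
  refine ⟨e 0, (h2 0).1, ?_, A, a1, a2, a3 0 (by simp), a5, by simpa using a6⟩
  refine orderOf_eq_prime (hE.2 _ (h2 0).1) fun e1 => ne_inv3 (h2 0).2.2.1 ?_
  rw [← (h2 0).2.2.2.2, e1]; group

end H12.K3
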