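import Mathlib
import Cfsg.Agent.H12.K3D
import Cfsg.Agent.H23.T1

/-!
# Thin case: elements of order three act without fixed points on `O_2(M)`
-/

set_option autoImplicit false
set_option linter.unusedSectionVars false
set_option linter.unusedVariables false

open Cfsg H24 H26 H26.Gold H23.TC Subgroup H18.K3

namespace H12.K3

universe u

variable {G : Type u} [Group G] [Finite G] {p a b : ℕ} {A B D E Q X Y Z : Subgroup G} {x y : G}

/-- no element of order three centralises a four-group -/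
def Rk (G : Type u) [Group G] : Prop :=
  ∀ x : G, orderOf x = 3 → ∀ a ∈ C{x}, ∀ b ∈ C{x}, a ≠ 1 → a * a = 1 → b ≠ 1 → b * b = 1 →
    a * b = b * a → a = b

theorem free_dvd (hX : Y ≤ N[X]) (hZ : Y ≤ N[Z]) (hZX : Z ≤ X)
    (hf : ∀ g ∈ Y, g ≠ 1 → X ⊓ C{g} ≤ Z) : ♯Y ∣ ♯X - ♯Z := by
  let S := {x : G // x ∈ X ∧ x ∉ Z}
  letI : MulAction Y S :=
    { smul := fun g x => ⟨g * x * (g : G)⁻¹, H24.conj_mem (hX g.2) x.2.1,
        fun h => x.2.2 ((conj_mem_iff (hZ g.2)).1 h)⟩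
      one_smul := fun x => Subtype.ext (by
        show ((1 : Y) : G) * x * ((1 : Y) : G)⁻¹ = x
        simp)
      mul_smul := fun g k x => Subtype.ext (by
        show ((g * k : Y) : G) * x * ((g * k : Y) : G)⁻¹ = g * (k * x * (k : G)⁻¹) * (g : G)⁻¹
        simp only [coe_mul]; group) }
  have hfree : ∀ s : S, MulAction.stabilizer Y s = ⊥ := fun s => by
    rw [eq_bot_iff]
    intro g hg
    by_contra h1
    have e : (g : G) * s * (g : G)⁻¹ = s := congrArg Subtype.val (MulAction.mem_stabilizer_iff.1 hg)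
    exact s.2.2 (hf g g.2 (fun e1 => h1 (mem_bot.2 (Subtype.ext e1)))
      ⟨s.2.1, mem_C1_comm.1 (mem_C1_iff_conj.2 e)⟩)
  have h1 : ♯Y ∣ Nat.card S := by
    rw [Nat.card_congr (MulAction.selfEquivOrbitsQuotientProd hfree), Nat.card_prod]
    exact dvd_mul_left _ _
  have h2 : Nat.card S = ♯X - ♯Z := by
    have e1 : Nat.card S = ((X : Set G) \ (Z : Set G)).ncard := rfl
    rw [e1, Set.ncard_diff hZX]
    rfl
  rwa [h2] at h1

theorem p_dvd (h : KT G p a b) (hX : TwoG X) (hx : orderOf x = p) (hn : x ∈ N[X]) :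
    p ∣ ♯X - 1 := by
  have hs : Semireg X (zpowers x) := fun g hg g1 => by
    have ho : orderOf g = p := by
      have := orderOf_dvd_card' hg
      rw [card_zpowers', hx] at this
      exact ((Nat.dvd_prime h.prime).1 this).resolve_left fun e => g1 (orderOf_eq_one_iff.1 e)
    rw [h.cent_p ho]
    exact hX.inf_eq_bot ((piElt_of_orderOf_prime h.prime ho).isPi.compl_of_ne h.ne2.symm)
  have := hs.dvd_pred (zpowers_le.2 hn)
  rwa [card_zpowers', hx] at this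

theorem mem_zp3 (hY : Cyc Y) (hy : y ∈ Y) (ho : orderOf y = 3) (hx : x ∈ Y) (hx3 : orderOf x = 3) :
    y ∈ zpowers x := by
  by_contra hn
  have hab : Abl Y := IsCyclic.isMulCommutative
  have hc : y ∈ C[zpowers x] := by rw [C_zpowers]; exact mem_C1.2 (hab.comm hy hx)
  have e0 : IsElementaryAbelian 3 (zpowers x) := ⟨abl_zpowers x, fun g hg => by
    rw [← hx3, ← card_zpowers']; exact orderOf_dvd_iff_pow_eq_one.1 (orderOf_dvd_card' hg)⟩
  have e1 := ea_sup3 e0 ho hc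
  have e2 := card_sup3 ho hc hn
  rw [card_zpowers', hx3] at e2
  have hcy : Cyc (zpowers x ⊔ zpowers y) :=
    Subgroup.isCyclic_of_le (sup_le (zpowers_le.2 hx) (zpowers_le.2 hy))
  obtain ⟨g, hg⟩ := hcy.exists_ofOrder_eq_natCard
  have h3 : orderOf g ∣ 3 := orderOf_dvd_of_pow_eq_one (Subtype.ext (e1.2 g g.2))
  rw [hg, e2] at h3
  exact absurd h3 (by decide)

theorem pow_mod' (c n m k : ℕ) (h : c ^ n % m = 1 % m) : c ^ k % m = c ^ (k % n) % m := by
  conv_lhs => rw [← Nat.div_add_mod k n, pow_add, pow_mul, Nat.mul_mod, Nat.pow_mod, h,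
    ← Nat.pow_mod, one_pow, ← Nat.mul_mod, one_mul]

theorem arith1 {n : ℕ} (h2 : 2 ≤ 2 ^ n) (hp : p ∣ 2 ^ n - 1)
    (hc : ((p = 5 ∨ p = 17) ∧ 3 ∣ 2 ^ n - 2) ∨ (p = 7 ∧ 9 ∣ 2 ^ n - 2)) : False := by
  rcases hc with ⟨rfl | rfl, h3⟩ | ⟨rfl, h3⟩
  · have e : 2 ^ n % 15 = 11 := by omega
    rw [pow_mod' 2 4 15 n (by decide)] at e
    have : n % 4 < 4 := Nat.mod_lt _ (by decide)
    generalize n % 4 = k at *
    interval_cases k <;> simp at e
  · have e : 2 ^ n % 51 = 35 := by omega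
    rw [pow_mod' 2 8 51 n (by decide)] at e
    have : n % 8 < 8 := Nat.mod_lt _ (by decide)
    generalize n % 8 = k at *
    interval_cases k <;> simp at e
  · have e : 2 ^ n % 63 = 29 := by omega
    rw [pow_mod' 2 6 63 n (by decide)] at e
    have : n % 6 < 6 := Nat.mod_lt _ (by decide)
    generalize n % 6 = k at *
    interval_cases k <;> simp at e

/-- a cyclic 3-subgroup through `y` acts freely outside the centraliser of `y` -/
theorem cyc_dvd (hY : Cyc Y) (h3 : IsPi {3} Y) (hy : y ∈ Y) (ho : orderOf y = 3) (hn : Y ≤ N[X]) :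
    ♯Y ∣ ♯X - ♯(X ⊓ C{y} : Subgroup G) := by
  have hab : Abl Y := IsCyclic.isMulCommutative
  refine free_dvd hn (norm_inf hn (norm_C1 fun g hg => mem_C1.2 (hab.comm hg hy))) inf_le_left
    fun g hg g1 => inf_le_inf_left _ ?_
  obtain ⟨y', hy', ho'⟩ := exists_ord3 (h3.piElt hg) g1
  exact C1_le_C1_of_mem_zpowers (zpowers_le.2 hy' (mem_zp3 hY hy ho (zpowers_le.2 hg hy') ho'))

/-- a minimal invariant subgroup meeting `C(y)` meets it in a group of order two -/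
theorem exists_two (rk : Rk G) (hQ : TwoG Q) (hy : y ∈ N[Q]) (ho : orderOf y = 3)
    (hn : Q ⊓ C{y} ≠ ⊥) : ∃ X, X ≤ Q ∧ N[Q] ≤ N[X] ∧ ♯(X ⊓ C{y} : Subgroup G) = 2 := by
  obtain ⟨X, hXQ, ⟨h1, h2⟩, hmin⟩ :=
    exists_min (P := fun X => N[Q] ≤ N[X] ∧ X ⊓ C{y} ≠ ⊥) (H := Q) ⟨le_rfl, hn⟩
  have hX : TwoG X := hQ.of_le hXQ
  have hX1 : X ≠ ⊥ := ne_bot_of_le h2 inf_le_left
  have hP : Phi X ⊓ C{y} = ⊥ := by
    by_contra hc
    exact (Phi_lt hX1).ne (hmin _ ⟨norm_Phi h1, hc⟩ (Phi_le X))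
  have hsq : ∀ u ∈ X ⊓ C{y}, u * u = 1 := fun u hu => by
    have : u * u ∈ Phi X ⊓ C{y} :=
      ⟨by rw [← pow_two]; exact hX.pow_mem_Phi p2 hu.1, Subgroup.mul_mem _ hu.2 hu.2⟩
    rwa [hP, mem_bot] at this
  obtain ⟨t, ht, t1⟩ := exists_ne_one h2
  refine ⟨X, hXQ, h1, ?_⟩
  have : X ⊓ C{y} = zpowers t := le_antisymm (fun u hu => by
      by_cases u1 : u = 1
      · rw [u1]; exact Subgroup.one_mem _
      · rw [rk y ho u hu.2 t ht.2 u1 (hsq u hu) t1 (hsq t ht) ((ea_of_sq hsq).comm hu ht)]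
        exact mem_zpowers t) (zpowers_le.2 ht)
  rw [this, card_zpowers', ord2 t1 (hsq t ht)]

/-- in the cases `A5`, `L2(8)`, `L2(17)` the elements of order three have no fixed points -/
theorem fpf (h : KT G p a b) (rk : Rk G) (hQ : TwoG Q) (hp : p ∣ ♯N[Q])
    (hc : p = 5 ∨ p = 17 ∨ (p = 7 ∧ 9 ∣ ♯N[Q] ∧ ∀ A, A ≤ N[Q] → IsPi {3} A → Cyc A))
    (hy : y ∈ N[Q]) (ho : orderOf y = 3) : Q ⊓ C{y} = ⊥ := by
  by_contra hn
  obtain ⟨X, hXQ, hN, h2⟩ := exists_two rk hQ hy ho hn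
  obtain ⟨x, hx, hxo⟩ := exists_orderOf_eq h.prime hp
  have hX : TwoG X := hQ.of_le hXQ
  have d1 := p_dvd h hX hxo (hN hx)
  have y3 : IsPi {3} (zpowers y) := (piElt_of_orderOf_prime Nat.prime_three ho).isPi
  have d3 := cyc_dvd (X := X) inferInstance y3 (mem_zpowers y) ho (zpowers_le.2 (hN hy))
  rw [card_zpowers', ho, h2] at d3
  have hle : 2 ≤ ♯X := h2 ▸ card_le inf_le_left
  obtain ⟨n, hn⟩ := hX.card_eq_pow p2
  rw [hn] at d1 d3 hle
  refine arith1 hle d1 ?_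
  rcases hc with e | e | ⟨e, h9, hcy⟩
  · exact Or.inl ⟨Or.inl e, d3⟩
  · exact Or.inl ⟨Or.inr e, d3⟩
  · obtain ⟨Y, hY, hyY⟩ := Sylow_superset Nat.prime_three y3 (zpowers_le.2 hy)
    have d9 := cyc_dvd (X := X) (hcy Y hY.le hY.pi) hY.pi (hyY (mem_zpowers y)) ho (hY.le.trans hN)
    rw [h2, hn] at d9
    exact Or.inr ⟨e, (hY.dvd_card (piNat_self_pow Nat.prime_three 2) h9).trans d9⟩

end H12.K3
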