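import Mathlib
import Cfsg.Agent.H23.LDefs
import Cfsg.Agent.H27.PRC
import Cfsg.Agent.H7.SpSuSimple
import Cfsg.Agent.H7.ProjLine

/-! The `SL₂` in an involution centraliser of `L₃(q)`, `U₃(q)`: the common part. -/

set_option autoImplicit false

namespace H12.M3a

open Cfsg H24 Subgroup Matrix H27.PR
open scoped MatrixGroups commutatorElement

variable {G H L E : Type*} [Group G] [Group H] [Group L] [Field E]

theorem k3 [Finite H] (e : G ≃* H ⧸ center H) (h : Nat.card (center H) ∣ 3) :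
    K3 (e.symm.toMonoidHom.comp (QuotientGroup.mk' (center H))) := fun x hx => by
  have h1 : x ∈ center H := (QuotientGroup.eq_one_iff x).1 (by simpa using hx)
  exact ⟨mem_center_iff.1 h1, orderOf_dvd_iff_pow_eq_one.1 ((orderOf_dvd_natCard _ h1).trans h)⟩

theorem bk_cy {A : Matrix (Fin 2) (Fin 2) E}
    (h : !![0, 0, 1; 1, 0, 0; 0, 1, 0] * bk A = bk A * !![0, 0, 1; 1, 0, 0; 0, 1, 0]) : A = 1 := by
  have h1 := fun i j => congrFun (congrFun h i) j
  have a := h1 0 0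
  have b := h1 0 2
  have c := h1 2 0
  have d := h1 2 1
  simp [bk, mul_apply, Fin.sum_univ_three] at a b c d
  ext i j
  fin_cases i <;> fin_cases j <;> simp [← a, ← b, c, d]

theorem gen (h2 : (2 : E) ≠ 0) (μ : H →* Matrix (Fin 3) (Fin 3) E) (hμ : Function.Injective μ)
    (hd : ∀ g, (μ g).det = 1) (B : L →* H) (ν : L →* Matrix (Fin 2) (Fin 2) E)
    (hν : Function.Injective ν) (hB : ∀ y, μ (B y) = bk (ν y))
    (hr : ∀ g A, μ g = bk A → ∃ y, ν y = A) {c : H} (hc : μ c = !![0, 0, 1; 1, 0, 0; 0, 1, 0])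
    {π : H →* G} (hπ : Function.Surjective π) (hk : K3 π) {y₀ : L} (hy : ν y₀ = -1) :
    Function.Injective (π.comp B) ∧ ⁅C{π (B y₀)}, C{π (B y₀)}⁆ ≤ (π.comp B).range := by
  refine ⟨(injective_iff_map_eq_one _).2 fun y h => hν ?_, commutator_le.2 fun x hx y hy' => ?_⟩
  · rw [map_one]
    exact bk_cy (by rw [← hB, ← hc, ← map_mul, ← map_mul, (hk _ h).1 c])
  have hz : μ (B y₀) = U3 E := by rw [hB, hy]; simp [bk, U3]
  have zz : B y₀ * B y₀ = 1 := hμ (by rw [map_mul, hz, map_one, one_fin_three]; simp [U3])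
  generalize B y₀ = z at hx hy' hz zz
  obtain ⟨x, rfl⟩ := hπ x
  obtain ⟨y, rfl⟩ := hπ y
  have hx : Commute x z := hk.comm zz (mem_centralizer_singleton_iff.1 hx)
  have hy' : Commute y z := hk.comm zz (mem_centralizer_singleton_iff.1 hy')
  have hb : ∀ x, x * z = z * x →
      μ x = !![μ x 0 0, μ x 0 1, 0; μ x 1 0, μ x 1 1, 0; 0, 0, μ x 2 2] := fun x hx =>
    block_of_comm h2 (by rw [← hz, ← map_mul, hx, map_mul])
  have hg : Commute ⁅x, y⁆ z := ((hx.mul_left hy').mul_left hx.inv_left).mul_left hy'.inv_left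
  have h1 : μ ⁅x, y⁆ * (μ y * μ x) = μ x * μ y := by
    rw [← map_mul, ← map_mul, ← map_mul, commutatorElement_def]; congr 1; group
  rw [← map_commutatorElement]
  generalize ⁅x, y⁆ = g at hg h1
  have h3 := congrFun (congrFun h1 2) 2
  have h4 := hd x
  have h5 := hd y
  rw [hb x hx] at h4
  rw [hb y hy'] at h5
  rw [hb g hg, hb x hx, hb y hy'] at h3
  simp [det_fin_three] at h3 h4 h5
  have h7 : μ y 2 2 * μ x 2 2 ≠ 0 := mul_ne_zero (fun e => by simp [e] at h5) fun e => by simp [e] at h4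
  have h6 : μ g = bk !![μ g 0 0, μ g 0 1; μ g 1 0, μ g 1 1] := by
    rw [hb g hg]; simp [bk, (mul_eq_right₀ h7).1 (h3.trans (mul_comm _ _))]
  obtain ⟨y', e⟩ := hr _ _ h6
  exact ⟨y', congrArg π (hμ (by rw [hB, e, ← h6]))⟩

end H12.M3a
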