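import Cfsg.Agent.H12.NGM
import Cfsg.Agent.H3.NG1

/-! N-groups, case (A): the basic facts A1 - A8. -/

set_option autoImplicit false
set_option linter.unusedSectionVars false
set_option linter.unusedVariables false
namespace H12.NG
open Subgroup Cfsg H24 H11.ZN
open H26 H3.NG
universe u
variable {G : Type u} [Group G] [Finite G] {S V K X E : Subgroup G} {z y y' e g m : G}

namespace CA
variable (h : CA S V z)
include h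

theorem z_OZ₁ : z ∈ OZ S := h.oz ▸ mem_zpowers z

theorem z_sq : z * z = 1 := OZ_sq h.z_OZ₁

theorem S_le_C : S ≤ C{z} := mem_C_iff_le_C1.1 (OZ_le_C S h.z_OZ₁)

/-- a nontrivial `2`-group normalised by `S` contains `z` -/
theorem z_mem_of₁ (hX : IsPi {2} X) (hn : S ≤ N[X]) (h1 : X ≠ ⊥) : z ∈ X := by
  obtain ⟨x, hx, x1, x2⟩ := exists_invol (hX.inf_left C[S])
    (IsPi.inf_C_ne_bot two_prime h.syl.pi hX hn h1)
  have h2 : x ∈ OZ S := mem_OZ.2 ⟨h.syl.le_of_norm' hX le_top hn hx.1, hx.2, by rw [pow_two, x2]⟩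
  rw [h.oz, mem_zp2 h.z_sq] at h2
  exact (h2.resolve_left x1) ▸ hx.1

theorem z_mem : z ∈ V := h.z_mem_of₁ (ea_pi h.ea) h.nml.norm fun e => by
  have := h.card
  rw [e, card_bot] at this
  omega

theorem ex_w₁ : ∃ w ∈ V, w ≠ 1 ∧ w ≠ z := four_ex h.card h.z_sq

theorem S_not_le₁ : ¬ S ≤ C[V] := fun e => by
  obtain ⟨w, hw, h1, h2⟩ := h.ex_w₁
  have h3 : w ∈ OZ S := mem_OZ.2 ⟨h.nml.le hw, cents_symm e hw, h.ea.2 w hw⟩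
  rw [h.oz, mem_zp2 h.z_sq] at h3
  exact h3.elim h1 h2

theorem CV_le₁ : C[V] ≤ C{z} := C_le_C1 h.z_mem

theorem idx_R : (S ⊓ C[V]).relIndex S = 2 :=
  four_idx h.ea h.card h.z_mem h.z1 h.nml.norm h.S_le_C h.S_not_le₁

theorem syl_R : Syl 2 C[V] (S ⊓ C[V]) := (h.syl.of_le h.nml.norm le_top).inf_nml (C_nml_N V)

/-- `N_M(R)` is transitive on `V^#` -/
theorem trans (hy : y ∈ V) (h1 : y ≠ 1) : ∃ m ∈ N[V] ⊓ N[S ⊓ C[V]], m * z * m⁻¹ = y := by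
  obtain ⟨m, hm, hm'⟩ := SetLike.not_le_iff_exists.1 h.mv
  obtain ⟨c, hc, n, hn, rfl⟩ := (Frattini_arg two_prime (C_nml_N V) h.syl_R).mul m hm
  have h2 : n * z * n⁻¹ ≠ z := fun e => hm' (mul_mem (h.CV_le₁ hc) (mem_C1_iff_conj.2 e))
  have h3 := conj_mem hn.1 h.z_mem
  obtain ⟨s, hs, hs'⟩ := SetLike.not_le_iff_exists.1 h.S_not_le₁
  rcases four_cases h.ea h.card h.z_mem h3 h.z1 (cjne n h.z1) h2.symm hy with e | e | e | e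
  · exact absurd e h1
  · exact ⟨1, one_mem _, by simp [e]⟩
  · exact ⟨n, hn, e.symm⟩
  · refine ⟨s * n, mul_mem (mem_inf.2 ⟨h.nml.norm hs,
      norm_inf (norm_self S) (norm_C h.nml.norm) hs⟩) hn, ?_⟩
    rw [e, ← four_mv h.ea h.card h.z_mem h3 h.z1 (cjne n h.z1) h2.symm (h.nml.norm hs)
      (h.S_le_C hs) hs']
    group

theorem conjG₁ (g : G) : CA (cj g S) (cj g V) (g * z * g⁻¹) where
  l2 := h.l2
  syl := h.syl.cj_mem (mem_top g)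
  oz := by rw [OZ_cj, h.oz, cj_zpowers]
  z1 := cjne g h.z1
  ea := ea_cj h.ea g
  card := by rw [card_cj, h.card]
  nml := h.nml.cj g
  mv := by rw [← cj_N, ← cj_C1, cj_le_cj]; exact h.mv
  nle := by rw [← cj_N, ← cj_C1, cj_le_cj]; exact h.nle
  uq := fun H h1 h2 h3 => by
    rw [← cj_N, le_cj_iff]
    refine h.uq _ (cj_le_iff.1 h1) (by rw [Q2, pcore_cj]; simpa using h2) fun e => h3 ?_
    rw [← cj_N, ← cj_C1, le_cj_iff, cj_inf, cj_inv_cj]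
    exact e

/-- everything below is stated for `z`; this moves it to the other points of `V` -/
theorem conj (hm : m ∈ N[V]) : CA (cj m S) V (m * z * m⁻¹) := by
  have := h.conjG₁ m
  rwa [cj_of_mem_N hm] at this

theorem at₁ (hy : y ∈ V) (h1 : y ≠ 1) : ∃ T, CA T V y ∧ T ⊓ C[V] = S ⊓ C[V] := by
  obtain ⟨m, hm, rfl⟩ := h.trans hy h1
  refine ⟨_, h.conj hm.1, ?_⟩
  rw [← cj_of_mem_N hm.2, cj_inf, cj_of_mem_N (N_le_NC V hm.1)]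

omit h in
theorem Qz_conj (g y : G) : Qz (g * y * g⁻¹) = cj g (Qz y) := by rw [Qz, ← cj_C1, Q2, pcore_cj]

omit h in
theorem Uz_conj (V : Subgroup G) (g y : G) : Uz (cj g V) (g * y * g⁻¹) = cj g (Uz V y) := by
  rw [Uz, ← cj_C1, ← cj_ncl]

omit h in
theorem Uz_conj₁ (hm : m ∈ N[V]) (y : G) : Uz V (m * y * m⁻¹) = cj m (Uz V y) := by
  rw [← Uz_conj, cj_of_mem_N hm]

/-- lines through `z` -/
theorem line (hz : z ∈ cj g V) : ∃ c ∈ C{z}, cj g V = cj c V := by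
  obtain ⟨m, hm, e⟩ := h.trans (mem_cj.1 hz) (by simpa using cjne g⁻¹ h.z1)
  refine ⟨g * m, mem_C1_iff_conj.2 ?_, by rw [cj_mul, cj_of_mem_N hm.1]⟩
  calc _ = g * (m * z * m⁻¹) * g⁻¹ := by group
    _ = _ := by rw [e]; group

theorem ch2 : Ch2 C{z} := h.l2.cent h.z_sq h.z1

theorem Q_le_S : Qz z ≤ S := pcore_le_Hall (h.syl.of_le h.S_le_C le_top)

theorem F_ne : ¬ F2 C{z} ≤ Qz z := fun e =>
  h.nle (((F2_meet h.ch2.1 (Nml.refl _) (inf_le_right.trans e)).trans h.Q_le_S).trans h.nml.norm)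

omit h in
theorem Q_nml₁ (y : G) : Qz y ⊴ C{y} := pcore_nml _ _

omit h in
theorem zp_norm₁ (y : G) : C{y} ≤ N[zpowers y] := norm_zpowers_of_cent le_rfl

theorem zp_nml₁ : zpowers z ⊴ C{z} := ⟨zpowers_le_C1 z, zp_norm₁ z⟩

theorem zp_le_Q₁ : zpowers z ≤ Qz z := pcore_max (zp_two h.z_sq) h.zp_nml₁

theorem Q_le_N₁ : Qz z ≤ N[V] := h.Q_le_S.trans h.nml.norm

theorem cm_V₁ (hg : g ∈ S) (hy : y ∈ V) : g * y * g⁻¹ * y⁻¹ ∈ zpowers z :=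
  four_cm h.ea h.card h.z_mem h.z1 (h.nml.norm hg) (h.S_le_C hg) hy

/-- A1 -/
theorem V_le_Q : V ≤ Qz z := by
  have hn := (Q_nml₁ z).le.trans (zp_norm₁ z)
  have h1 : C{z} ⊓ centQ (Qz z) (zpowers z) ≤ Qz z := pcore_max (two_of_odd fun g hg ho =>
    h.ch2.stab h.zp_nml₁ h.zp_le_Q₁ hg.1 ho ((mem_centQ hn).1 hg.2).2 (by rw [C_zpowers]; exact hg.1))
    (nml_inf_of_norm (norm_centQ (Q_nml₁ z).norm (zp_norm₁ z)))
  have h2 := h.nml.le.trans h.S_le_C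
  exact (le_inf h2 ((le_centQ hn).2 ⟨h2.trans (zp_norm₁ z), cm_le fun v hv q hq =>
    cm_symm (h.cm_V₁ (h.Q_le_S hq) hv)⟩)).trans h1

theorem uq₁ (hX : IsPi {2} X) (h1 : X ≠ ⊥) (h2 : S ≤ N[X]) (hm : m ∈ N[X]) (hm' : m ∈ N[V])
    (h3 : m * z * m⁻¹ ≠ z) : N[X] ≤ N[V] :=
  h.uq _ h2 (ne_bot_of_le h1 (pcore_max hX (nml_N X))) fun e => h3 (mem_C1_iff_conj.1 (e ⟨hm, hm'⟩))

theorem uq₂ (hX : IsPi {2} X) (h1 : X ≠ ⊥) (h2 : N[V] ≤ N[X]) : N[X] ≤ N[V] := by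
  obtain ⟨m, hm, hm'⟩ := SetLike.not_le_iff_exists.1 h.mv
  exact h.uq₁ hX h1 (h.nml.norm.trans h2) (h2 hm) hm fun e => hm' (mem_C1_iff_conj.2 e)

theorem Q_ne₁ : Qz z ≠ ⊥ := ne_bot_of_mem (h.V_le_Q h.z_mem) h.z1

/-- A2 -/
theorem Q_not_le : ¬ Qz z ≤ C[V] := fun e => by
  have hF := F2_le C{z}
  have hFn := (norm_self C{z}).trans (N_le_N_F2 _)
  have hY : C{z} ≤ N[OZ (Qz z)] := norm_OZ (Q_nml₁ z).norm
  have hV : V ≤ OZ (Qz z) := fun v hv => mem_OZ.2 ⟨h.V_le_Q hv, cents_symm e hv, h.ea.2 v hv⟩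
  obtain ⟨F0, hF0⟩ := Hall_exists {2}ᶜ (h.ch2.1.of_le hF)
  have hp := ((Syl.mk' two_prime (Q2_le_F2 C{z}) (pcore_pi _ _)
    (by rw [← even_iff_two_dvd, Nat.not_even_iff_odd]; exact F2_odd _)).isProd hF0).symm
  have h1 : F2 C{z} ≤ C[OZ (Qz z)] := comm_eq_bot'.1 (by
    by_contra hn
    have h2 := h.z_mem_of₁ ((ea_pi (OZ_ea _)).of_le (comm_le_left (hF.trans hY)))
      (norm_comm (h.S_le_C.trans hY) (h.S_le_C.trans hFn)) hn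
    rw [hp.comm_right_of_cent (le_C_OZ _)] at h2
    exact h.z1 (mem_bot.1 (coprime_abel_cent_TI ((hF0.le.trans hF).trans hY)
      ((ea_pi (OZ_ea _)).coprime hF0.pi) (OZ_ea _).1 ▸ mem_inf.2
        ⟨h2, mem_C_iff_le_C1.2 (hF0.le.trans hF)⟩)))
  have h2 := cents_of_le h1 hV
  have h3 : Q2 C[V] ≤ C{z} := (pcore_le _ _).trans h.CV_le₁
  have h4 : Q2 C[V] = Qz z := le_antisymm (F2_two (pcore_pi _ _) fun g hg => F2_cent h.ch2.1 (h3 hg)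
    fun f hf => F2_two ((pcore_pi _ _).inf_left _) inf_le_right (mem_inf.2
      ⟨comm_le_left (h2.trans (pcore_nml _ _).norm) (cm_mem hg hf),
        comm_le_right (h3.trans hFn) (cm_mem hg hf)⟩))
    (pcore_max' (pcore_pi _ _) e (h.CV_le₁.trans (Q_nml₁ z).norm))
  exact h.nle ((Q_nml₁ z).norm.trans (h.uq₂ (pcore_pi _ _) h.Q_ne₁
    (h4 ▸ (N_le_NC V).trans (N_le_N_pcore _ _))))

omit h in
theorem Q_le_L₁ (hy : y ∈ V) (h1 : y ≠ 1) : Qz y ≤ Lv V := le_sup3 (X := Qz) hy h1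

theorem Qy_le_N₁ (hy : y ∈ V) (h1 : y ≠ 1) : Qz y ≤ N[V] := by
  obtain ⟨T, hT, -⟩ := h.at₁ hy h1
  exact hT.Q_le_N₁

theorem ex_x₁ (hy : y ∈ V) (h1 : y ≠ 1) : ∃ x ∈ Qz y, x ∉ C[V] := by
  obtain ⟨T, hT, -⟩ := h.at₁ hy h1
  exact SetLike.not_le_iff_exists.1 hT.Q_not_le

theorem mv₁ {x w : G} (hy : y ∈ V) (h1 : y ≠ 1) (hx : x ∈ Qz y) (hx' : x ∉ C[V]) (hw : w ∈ V)
    (h2 : w ≠ 1) (h3 : y ≠ w) : x * w * x⁻¹ = y * w :=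
  four_mv h.ea h.card hy hw h1 h2 h3 (h.Qy_le_N₁ hy h1 hx) ((Q_nml₁ y).le hx) hx'

theorem L_nml : Lv V ⊴ N[V] :=
  ⟨sup3_le fun y => h.Qy_le_N₁, fun m hm => mem_N_sup3 hm fun y _ _ => Qz_conj m y⟩

theorem L_trans (hy : y ∈ V) (h1 : y ≠ 1) : ∃ m ∈ Lv V, m * z * m⁻¹ = y := by
  by_cases h2 : y = z
  · exact ⟨1, one_mem _, by simp [h2]⟩
  have h3 := mul_mem hy h.z_mem
  have h4 := ea_mul_ne h.ea hy h2
  obtain ⟨x, hx, hx'⟩ := h.ex_x₁ h3 h4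
  exact ⟨x, Q_le_L₁ h3 h4 hx, by
    rw [h.mv₁ h3 h4 hx hx' h.z_mem h.z1 (fun e => h1 (mul_eq_right.1 e)), mmr h.z_sq]⟩

theorem comm_L : ⁅Lv V, C[V]⁆ ≤ ⨆ y ∈ V, ⨆ _ : y ≠ 1, Qz y ⊓ C[V] := by
  have hn : N[V] ≤ N[⨆ y ∈ V, ⨆ _ : y ≠ 1, Qz y ⊓ C[V]] := fun m hm => mem_N_sup3 hm fun y _ _ => by
    rw [Qz_conj, cj_inf, cj_of_mem_N (N_le_NC V hm)]
  refine ((le_centQ ((C_le_N V).trans hn)).1 (sup3_le fun y hy h1 =>
    (le_centQ ((C_le_N V).trans hn)).2 ⟨(h.Qy_le_N₁ hy h1).trans hn, ?_⟩)).2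
  exact (le_inf (comm_le_left ((C_le_C1 hy).trans (Q_nml₁ y).norm))
    (comm_le_right ((h.Qy_le_N₁ hy h1).trans (N_le_NC V)))).trans
      (le_sup3 (X := fun y => Qz y ⊓ C[V]) hy h1)

theorem Q1_le (hy : y ∈ V) (h1 : y ≠ 1) : Qz y ⊓ C[V] ≤ Q2 C[V] :=
  pcore_max' ((pcore_pi _ _).inf_left _) inf_le_right
    (norm_inf ((C_le_C1 hy).trans (Q_nml₁ y).norm) (norm_self _))

theorem QV_le : Q2 C[V] ≤ S ⊓ C[V] := pcore_le_Hall h.syl_R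

theorem comm_L₁ : ⁅Lv V, C[V]⁆ ≤ Q2 C[V] := h.comm_L.trans (sup3_le fun y => h.Q1_le)

theorem L_norm₁ (h1 : Q2 C[V] ≤ X) (h2 : X ≤ C[V]) : Lv V ≤ N[X] :=
  norm_of_comm_le_right (((comm_mono_right h2).trans h.comm_L₁).trans h1)

theorem exists_d : ∃ d ∈ Lv V ⊓ N[S ⊓ C[V]], Odd (orderOf d) ∧ V ⊓ C{d} = ⊥ := by
  obtain ⟨w, hw, w1, wz⟩ := h.ex_w₁
  obtain ⟨x, hx, hx'⟩ := h.ex_x₁ h.z_mem h.z1
  obtain ⟨t, ht, ht'⟩ := h.ex_x₁ hw w1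
  have hg : x * t ∈ Lv V := mul_mem (Q_le_L₁ h.z_mem h.z1 hx) (Q_le_L₁ hw w1 ht)
  obtain ⟨a, d, ha, hd, ha', hd', e⟩ := exists_piElt_decomp {2} (x * t)
  have h1 := zpowers_le.2 hg hd'
  refine ⟨d, ⟨h1, h.L_norm₁ h.QV_le inf_le_right h1⟩, odd_of_piElt hd, ?_⟩
  by_contra hn
  obtain ⟨v, hv, v1⟩ := exists_ne_one hn
  have h2 := four_odd h.ea h.card hv.1 v1 (h.L_nml.le h1) (mem_C1_comm.1 hv.2) (odd_of_piElt hd)
  obtain ⟨u, hu, u1⟩ := exists_ne_one (IsPi.inf_C_ne_bot two_prime ha.isPi (ea_pi h.ea)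
    (zpowers_le.2 (h.L_nml.le (zpowers_le.2 hg ha'))) (ne_bot_of_mem hw w1))
  have h3 : x * (t * u * t⁻¹) * x⁻¹ = u := by
    calc _ = x * t * u * (x * t)⁻¹ := by group
      _ = a * (d * u * d⁻¹) * a⁻¹ := by rw [e]; group
      _ = u := by rw [conj_eq_of_mem_C h2 hu.1, cjc (mem_C.1 hu.2 a (mem_zpowers a))]
  have e1 := h.mv₁ h.z_mem h.z1 hx hx' hw w1 wz.symm
  have e2 := h.mv₁ hw w1 ht ht' h.z_mem h.z1 wz
  have e3 := mem_C1_iff_conj.1 ((Q_nml₁ z).le hx)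
  have e4 := mem_C1_iff_conj.1 ((Q_nml₁ w).le ht)
  have c := ea_comm h.ea hw h.z_mem
  rcases four_cases h.ea h.card h.z_mem hw h.z1 w1 wz.symm hu.1 with e | e | e | e
  · exact u1 e
  · rw [e, e2, cjm, e1, e3, ← c, mmr h.z_sq] at h3
    exact wz h3
  · rw [e, e4, e1] at h3
    exact h.z1 (mul_eq_right.1 h3)
  · rw [e, cjm t, e2, e4, c, mmr (ea_sq h.ea hw), e3] at h3
    exact w1 (left_eq_mul.1 h3)

theorem uq₃ (hX : IsPi {2} X) (h1 : X ≠ ⊥) (h2 : S ≤ N[X]) (h3 : Lv V ≤ N[X]) : N[X] ≤ N[V] := by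
  obtain ⟨w, hw, w1, wz⟩ := h.ex_w₁
  obtain ⟨m, hm, e⟩ := h.L_trans hw w1
  exact h.uq₁ hX h1 h2 (h3 hm) (h.L_nml.le hm) (e ▸ wz)

/-- AK -/
theorem N_le (h1 : K ≤ C[V]) (h2 : C{z} ⊓ N[V] ≤ N[K]) (h3 : Od2 K = K) (h4 : K ≠ ⊥) : N[K] ≤ N[V] := by
  have h5 : S ≤ N[K] := (le_inf h.S_le_C h.nml.norm).trans h2
  have h6 : Lv V ≤ N[K] := by
    rw [← Od2_sup h3 (pcore_pi _ C[V]) ((h.QV_le.trans inf_le_left).trans h5)]
    exact (h.L_norm₁ le_sup_right (sup_le h1 (pcore_le _ _))).trans (N_le_N_Od2 _)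
  have h7 := (h1.trans h.CV_le₁).trans (Q_nml₁ z).norm
  have h8 : K ⊓ Qz z ≠ ⊥ := fun e => h4 (eq_bot_of_le e (le_inf le_rfl ((le_inf (h1.trans h.CV_le₁)
    (cents_of_inf_eq_bot h7 (h.Q_le_S.trans h5) e)).trans h.ch2.2)))
  exact (N_le_N_pcore {2} K).trans (h.uq₃ (pcore_pi _ _) (ne_bot_of_le h8
    (pcore_max ((pcore_pi _ _).inf_right _) (nml_inf_of_norm h7))) (h5.trans (N_le_N_pcore _ _))
    (h6.trans (N_le_N_pcore _ _)))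

/-- A3 -/
theorem V_le_U : V ≤ Uz V z := self_le_ncl

theorem U_le_Q : Uz V z ≤ Qz z := ncl_le_of_norm h.V_le_Q (Q_nml₁ z).norm

theorem U_nml : Uz V z ⊴ C{z} := ⟨h.U_le_Q.trans (Q_nml₁ z).le, norm_ncl _ _⟩

theorem comm_UQ : ⁅Uz V z, Qz z⁆ = zpowers z := by
  have hn := (Q_nml₁ z).le.trans (zp_norm₁ z)
  refine le_antisymm ((le_centQ hn).1 (ncl_le_of_norm ((le_centQ hn).2
    ⟨(h.V_le_Q.trans hn), cm_le fun v hv q hq => cm_symm (h.cm_V₁ (h.Q_le_S hq) hv)⟩)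
      (norm_centQ (Q_nml₁ z).norm (zp_norm₁ z)))).2 (zpowers_le.2 ?_)
  obtain ⟨w, hw, w1, wz⟩ := h.ex_w₁
  obtain ⟨x, hx, hx'⟩ := h.ex_x₁ h.z_mem h.z1
  have := cm_symm (cm_mem (h.V_le_U hw) hx)
  rwa [h.mv₁ h.z_mem h.z1 hx hx' hw w1 wz.symm, mul_inv_cancel_right] at this

theorem cm_U₁ (hy : y ∈ Uz V z) (hg : g ∈ Qz z) : g * y * g⁻¹ * y⁻¹ ∈ zpowers z :=
  cm_symm (h.comm_UQ ▸ cm_mem hy hg)

theorem sq_U (hy : y ∈ Uz V z) : y * y ∈ zpowers z := by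
  let T : Subgroup G :=
    { carrier := {u | u ∈ Uz V z ∧ u * u ∈ zpowers z}
      one_mem' := ⟨one_mem _, by simp⟩
      mul_mem' := fun {a b} ha hb => ⟨mul_mem ha.1 hb.1, by
        have := mul_mem (mul_mem ha.2 (h.cm_U₁ hb.1 (h.U_le_Q (inv_mem ha.1)))) hb.2
        convert this using 1
        group⟩
      inv_mem' := fun {a} ha => ⟨inv_mem ha.1, by rw [← mul_inv_rev]; exact inv_mem ha.2⟩ }
  have : Uz V z ≤ T := ncl_le fun g hg x hx => ⟨le_ncl hg hx, by rw [ea_sq (ea_cj h.ea g) hx]; simp⟩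
  exact (this hy).2

theorem two_of₁ (h1 : X ≤ C{z} ⊓ N[V]) (h2 : C{z} ⊓ N[V] ≤ N[X]) (h3 : N[Od2 X] ≤ N[V] → C{z} ≤ N[X]) :
    IsPi {2} X := by
  by_contra hn
  have h4 := h.N_le ((closure_le _).2 fun g hg => four_odd h.ea h.card h.z_mem h.z1
    (h1 hg.1).2 (h1 hg.1).1 hg.2) (h2.trans (N_le_N_Od2 X)) (Od2_Od2 X) fun e => hn (Od2_eq_bot.1 e)
  exact h.nle (((h3 h4).trans (N_le_N_Od2 X)).trans h4)

theorem mem_Q (hg : g ∈ C{z}) (hc : ∀ u ∈ Uz V z, g * u * g⁻¹ * u⁻¹ ∈ zpowers z) : g ∈ Qz z := by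
  have hn := h.U_nml.le.trans (zp_norm₁ z)
  have h1 : C{z} ⊓ centQ (Uz V z) (zpowers z) ⊴ C{z} :=
    nml_inf_of_norm (norm_centQ h.U_nml.norm (zp_norm₁ z))
  have h2 := norm_inf h1.norm ((norm_self C{z}).trans (N_le_N_F2 _))
  refine F2_meet h.ch2.1 h1 (F2_two (h.two_of₁ (fun x hx => ⟨hx.1.1, mem_N_of_finite fun v hv => ?_⟩)
    (inf_le_left.trans h2) fun _ => h2) inf_le_right) ⟨hg, (mem_centQ hn).2 ⟨zp_norm₁ z hg, hc⟩⟩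
  have := mul_mem (zpowers_le.2 h.z_mem (((mem_centQ hn).1 hx.1.2).2 v (h.V_le_U hv))) hv
  rwa [commutatorElement_def, inv_mul_cancel_right] at this

/-- the module `U / ⟨z⟩` for `C / Q` -/
theorem exists_md : ∃ (Γ : Type u) (_ : Group Γ) (_ : Finite Γ) (ι : Uz V z →* Γ) (ρ : C{z} →* Γ),
    Sec (Uz V z) (zpowers z) C{z} ι ρ ∧ Md ι.range ρ.range ∧ (∀ g ∈ C{z}, ap ρ g = 1 ↔ g ∈ Qz z) ∧
      img ρ (F2 C{z}) = F[ρ.range] := by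
  obtain ⟨Γ, _, _, ι, ρ, hs⟩ := exists_sec (h.zp_nml₁.of_le (zpowers_le.2 (h.V_le_U h.z_mem))
    h.U_nml.le) h.U_nml.norm (zp_norm₁ z)
  have k : ∀ g ∈ C{z}, ap ρ g = 1 ↔ g ∈ Qz z := fun g hg =>
    (hs.kerρ g hg).trans ⟨h.mem_Q hg, fun e u hu => h.cm_U₁ hu e⟩
  have hQ := (Q_nml₁ z).norm
  refine ⟨Γ, _, ‹_›, ι, ρ, hs, hs.md h.U_nml.norm (fun x => h.sq_U) h.ch2.1 fun T hT h1 t ht =>
    (k t (hT.le ht)).2 (pcore_max (two_of_odd fun x hx ho => ?_) hT ht), k, le_antisymm ?_ ?_⟩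
  · obtain ⟨n, hn⟩ := h1 x hx
    rw [← ap_pow _ (hT.le hx), k _ (pow_mem (hT.le hx) _)] at hn
    have h2 := one_of_odd (pcore_pi _ _) hn (Odd.of_dvd_nat ho (orderOf_pow_dvd _))
    exact (piElt_of_pow_eq_one ((piNat_self two_prime).pow n) h2).eq_one (piElt_of_odd ho)
  · refine Fitting_max (img_dom ρ ▸ Nml.img ⟨F2_le _, (norm_self _).trans (N_le_N_F2 _)⟩ ρ)
      (nil_img (f := coset (Qz z)) ((F2_le _).trans hQ) (F2_le _) (fun x hx e =>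
        (k x (F2_le _ hx)).2 ((cs_eq_one (hQ (F2_le _ hx))).1 e)) ?_)
    have := Fitting_nil (quo C{z} (Q2 C{z}))
    rwa [← quo_coq F[quo C{z} (Q2 C{z})]] at this
  · rw [← img_pre_of_le (Fitting_le ρ.range)]
    refine img_mono ρ ((quo_le_iff ((pre_le _ _).trans hQ)).1 (Fitting_max (Nml.quo ?_ _)
      (nil_img (f := ρ) (pre_le _ _) ((pre_le _ _).trans hQ) (fun x hx e =>
        cs_of_mem ((k x (pre_le _ _ hx)).1 e)) ?_)))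
    · exact ⟨pre_le _ _, norm_pre le_rfl (img_dom ρ ▸ (Fitting_nml _).norm)⟩
    · rw [img_pre_of_le (Fitting_le _)]; exact Fitting_nil _

/-- A4 -/
theorem F_inf : F2 C{z} ⊓ N[V] = Qz z := by
  have h1 := le_inf (Q2_le_F2 C{z}) h.Q_le_N₁
  have h2 := (norm_self C{z}).trans (N_le_N_F2 _)
  refine le_antisymm (F2_two (h.two_of₁ (inf_le_inf_right _ (F2_le _))
    (norm_inf (inf_le_left.trans h2) (norm_of_le inf_le_right)) fun e => ?_) inf_le_left) h1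
  rwa [F2_norm h1 inf_le_left (inf_le_inf_left _ ((N_le_N_Od2 _).trans e))]

theorem V_le_D : V ≤ Dv V := le_inf3 fun _ _ _ => self_le_ncl

omit h in
theorem D_le₁ (hy : y ∈ V) (h1 : y ≠ 1) : Dv V ≤ Uz V y := inf3_le (X := Uz V) hy h1

/-- A5 -/
theorem D_eq (hy : y ∈ V) (h1 : y ≠ 1) (h2 : y ≠ z) : Dv V = Uz V z ⊓ Uz V y := by
  refine le_antisymm (le_inf (D_le₁ h.z_mem h.z1) (D_le₁ hy h1)) (le_inf3 fun w hw w1 => ?_)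
  rcases four_cases h.ea h.card h.z_mem hy h.z1 h1 h2.symm hw with e | e | e | e
  · exact absurd e w1
  · exact e ▸ inf_le_left
  · exact e ▸ inf_le_right
  obtain ⟨x, hx, hx'⟩ := h.ex_x₁ h.z_mem h.z1
  rw [e, ← h.mv₁ h.z_mem h.z1 hx hx' hy h1 h2.symm, Uz_conj₁ (h.Q_le_N₁ hx)]
  intro a ha
  have := mul_mem (self_le_ncl (zpowers_le.2 h.z_mem (h.cm_U₁ ha.1 (inv_mem hx)))) ha.2
  rwa [inv_mul_cancel_right, inv_inv, ← mem_cj] at this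

theorem D_nml : Dv V ⊴ N[V] := ⟨((D_le₁ h.z_mem h.z1).trans h.U_le_Q).trans h.Q_le_N₁,
  fun m hm => mem_N_inf3 hm fun y _ _ => Uz_conj₁ hm y⟩

theorem D_ea : EA (Dv V) := ea_of_sq fun x hx => by
  obtain ⟨w, hw, w1, wz⟩ := h.ex_w₁
  obtain ⟨T, hT, -⟩ := h.at₁ hw w1
  rcases (mem_zp2 h.z_sq).1 (h.sq_U (D_le₁ h.z_mem h.z1 hx)) with e | e
  · exact e
  exact ((mem_zp2 hT.z_sq).1 (hT.sq_U (D_le₁ hw w1 hx))).resolve_right fun e' => wz (e'.symm.trans e)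

theorem comm_DQ₁ (hy : y ∈ V) (h1 : y ≠ 1) : ⁅Dv V, Qz y⁆ ≤ zpowers y := by
  obtain ⟨T, hT, -⟩ := h.at₁ hy h1
  exact hT.comm_UQ ▸ comm_mono_left (D_le₁ hy h1)

theorem comm_DL : ⁅Dv V, Lv V⁆ ≤ V := by
  rw [commC]
  exact ((le_centQ h.D_nml.le).1 (sup3_le fun y hy h1 => (le_centQ h.D_nml.le).2
    ⟨h.Qy_le_N₁ hy h1, by rw [commC]; exact (h.comm_DQ₁ hy h1).trans (zpowers_le.2 hy)⟩)).2

theorem D_ne : Dv V ≠ Uz V z := fun e => h.nle ((e ▸ h.U_nml.norm).trans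
  (h.uq₂ (ea_pi h.D_ea) (ne_bot_of_mem (h.V_le_D h.z_mem) h.z1) h.D_nml.norm))

/-- Aδ; `X y` is an equivariant family of subgroups `X y ≤ Q_y` -/
theorem delta {X : G → Subgroup G} (h1 : ∀ y ∈ V, y ≠ 1 → X y ≤ Qz y)
    (h2 : ∀ y ∈ V, y ≠ 1 → ∀ m ∈ S ⊔ Lv V, X (m * y * m⁻¹) = cj m (X y)) (h3 : ¬ X z ≤ C[V])
    (hE : EA E) (hVE : V ≤ E) (hS : S ≤ N[E]) (hX : ∀ y ∈ V, y ≠ 1 → ⁅E, X y⁆ ≤ zpowers y)
    (he : e ∈ E) (he' : e ∉ V) : ⁅zpowers e, X z ⊓ C[V]⁆ = zpowers z := by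
  refine le_antisymm ((commutator_mono (zpowers_le.2 he) inf_le_left).trans (hX z h.z_mem h.z1))
    (zpowers_le.2 ?_)
  by_contra hn
  have k0 : ∀ y ∈ V, y ≠ 1 → ∀ x ∈ X y, x * e * x⁻¹ = e ∨ x * e * x⁻¹ = y * e :=
    fun y hy y1 x hx => ((mem_zp2 (ea_sq h.ea hy)).1 (cm_symm (hX y hy y1 (cm_mem he hx)))).imp
      mul_inv_eq_one.1 mul_inv_eq_iff_eq_mul.1
  have k1 : ∀ x ∈ X z, x ∈ C[V] → x * e * x⁻¹ = e := fun x hx hc => (k0 z h.z_mem h.z1 x hx).resolve_right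
    fun e' => hn (by
      have := cm_symm (cm_mem (mem_zpowers e) (mem_inf.2 ⟨hx, hc⟩))
      rwa [e', mul_inv_cancel_right] at this)
  have k2 : ∀ y ∈ V, y ≠ 1 → ∃ x ∈ X y, x ∉ C[V] := fun y hy y1 => by
    obtain ⟨m, hm, rfl⟩ := h.L_trans hy y1
    obtain ⟨x, hx, hx'⟩ := SetLike.not_le_iff_exists.1 h3
    exact ⟨_, h2 z h.z_mem h.z1 m (mem_sup_right hm) ▸ conj_mem_cj m hx,
      fun e => hx' ((conj_mem_iff (N_le_NC V (h.L_nml.le hm))).1 e)⟩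
  obtain ⟨w, hw, w1, wz⟩ := h.ex_w₁
  have hu := mul_mem h.z_mem hw
  have u1 := ea_mul_ne h.ea h.z_mem wz.symm
  have c := ea_comm h.ea h.z_mem hw
  obtain ⟨x, hx, hx'⟩ := k2 z h.z_mem h.z1
  obtain ⟨t, ht, ht'⟩ := k2 w hw w1
  obtain ⟨s, hs, hs'⟩ := k2 _ hu u1
  have x0 := h1 z h.z_mem h.z1 hx
  have t0 := h1 w hw w1 ht
  have s0 := h1 _ hu u1 hs
  have e1 := h.mv₁ h.z_mem h.z1 x0 hx' hw w1 wz.symm
  have e2 := h.mv₁ hw w1 t0 ht' h.z_mem h.z1 wz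
  have e3 := mem_C1_iff_conj.1 ((Q_nml₁ z).le x0)
  have e4 := mem_C1_iff_conj.1 ((Q_nml₁ w).le t0)
  have e5 := h.mv₁ hu u1 s0 hs' hw w1 fun e => h.z1 (mul_eq_right.1 e)
  rw [mmr (ea_sq h.ea hw)] at e5
  have k3 : ∀ x ∈ X w, x ∈ C[V] → x * e * x⁻¹ = e := fun x hx hc => by
    have a1 := k1 _ (by rw [← e5, h2 w hw w1 s (mem_sup_right (Q_le_L₁ hu u1 s0))]
                        exact conj_mem_cj s hx) (conj_mem (N_le_NC V (h.Qy_le_N₁ hu u1 s0)) hc)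
    obtain ⟨v, hv, a2⟩ : ∃ v ∈ V, s * e * s⁻¹ = v * e :=
      (k0 _ hu u1 s hs).elim (fun e => ⟨1, one_mem _, by rw [e, one_mul]⟩) fun e => ⟨_, hu, e⟩
    have a3 := conj_eq_of_mem_C (conj_mem (N_le_NC V (h.Qy_le_N₁ hu u1 s0)) hc) hv
    calc _ = s⁻¹ * (s * x * s⁻¹ * (s * e * s⁻¹) * (s * x * s⁻¹)⁻¹) * s := by group
      _ = _ := by rw [a2, cjm, a1, a3, ← a2]; group
  obtain ⟨v, hv, a1, a2⟩ : ∃ v ∈ V, x * (v * e) * x⁻¹ = v * e ∧ t * (v * e) * t⁻¹ = v * e := by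
    rcases k0 z h.z_mem h.z1 x hx with a | a <;> rcases k0 w hw w1 t ht with b | b
    · exact ⟨1, one_mem _, by rwa [one_mul], by rwa [one_mul]⟩
    · exact ⟨z, h.z_mem, by rw [cjm, a, e3], by
        rw [cjm, b, e2, ← c, mul_assoc, mml (ea_sq h.ea hw)]⟩
    · exact ⟨w, hw, by rw [cjm, a, e1, c, mul_assoc, mml h.z_sq], by rw [cjm, b, e4]⟩
    · refine ⟨_, hu, ?_, ?_⟩
      · rw [cjm, a, cjm, e1, e3, mml h.z_sq, c, mul_assoc]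
      · rw [cjm, b, cjm, e2, e4, ← c, mmr (ea_sq h.ea hw), mul_assoc]
  have k4 : ∀ y ∈ V, y ≠ 1 → ∀ x ∈ X y, x ∉ C[V] → (∀ x ∈ X y, x ∈ C[V] → x * e * x⁻¹ = e) →
      x * (v * e) * x⁻¹ = v * e → X y ≤ C{v * e} := fun y hy y1 x hx hx' b1 b2 g hg => by
    have b3 : ∀ g ∈ X y, g ∈ C[V] → g ∈ C{v * e} := fun g hg hc =>
      mem_C1_iff_conj.2 (by rw [cjm, b1 g hg hc, conj_eq_of_mem_C hc hv])
    by_cases hc : g ∈ C[V]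
    · exact b3 g hg hc
    have b4 := (h1 y hy y1).trans (h.Qy_le_N₁ hy y1)
    have b5 := (h1 y hy y1).trans (Q_nml₁ y).le
    exact (mul_mem_cancel_left (mem_C1_iff_conj.2 b2)).1 (b3 _ (mul_mem hx hg)
      (four_ix h.ea h.card hy y1 (b4 hx) (b5 hx) (b4 hg) (b5 hg) hx' hc))
  have b1 := k4 z h.z_mem h.z1 x hx hx' k1 a1
  have b2 := k4 w hw w1 t ht ht' k3 a2
  have b3 : v * e ∈ C[⨆ y ∈ V, ⨆ _ : y ≠ 1, X y] := mem_C_iff_le_C1.2 (sup3_le fun y hy y1 => by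
    rcases four_cases h.ea h.card h.z_mem hw h.z1 w1 wz.symm hy with e | e | e | e
    · exact absurd e y1
    · rwa [e]
    · rwa [e]
    · rw [e, ← e1, h2 w hw w1 x (mem_sup_right (Q_le_L₁ h.z_mem h.z1 x0))]
      exact cj_le_of_mem b2 (b1 hx))
  have b4 := h.z_mem_of₁ ((ea_pi hE).inf_left _) (norm_inf hS (norm_C fun m hm =>
    mem_N_sup3 (h.nml.norm hm) fun y hy y1 => h2 y hy y1 m (mem_sup_left hm)))
    (ne_bot_of_mem (mem_inf.2 ⟨mul_mem (hVE hv) he, b3⟩) fun e =>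
      he' (eq_inv_of_mul_eq_one_right e ▸ inv_mem hv))
  exact ht' (four_cent h.ea h.card h.z_mem hw h.z1 w1 wz.symm
    (mem_C.1 b4.2 t (le_sup3 hw w1 ht)) (ccj e4))

/-- A8 -/
theorem comm_DQ (he : e ∈ Dv V) (he' : e ∉ V) (hy : y ∈ V) (h1 : y ≠ 1) :
    ⁅zpowers e, Qz y ⊓ C[V]⁆ = zpowers y := by
  obtain ⟨T, hT, -⟩ := h.at₁ hy h1
  exact hT.delta (X := Qz) (fun _ _ _ => le_rfl) (fun y _ _ m _ => Qz_conj m y) hT.Q_not_le hT.D_ea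
    hT.V_le_D (hT.nml.norm.trans hT.D_nml.norm) (fun y => hT.comm_DQ₁) he he'

theorem shift₁ (he : e ∈ Dv V) (he' : e ∉ V) (hy : y ∈ V) :
    ∃ q ∈ Lv V, q ∈ C[V] ∧ q * e * q⁻¹ = y * e := by
  by_cases h1 : y = 1
  · exact ⟨1, one_mem _, one_mem _, by simp [h1]⟩
  by_contra hn
  have h2 := h.comm_DQ he he' hy h1
  rw [comm_eq_bot'.2, eq_comm, zpowers_eq_bot] at h2
  · exact h1 h2
  rw [C_zpowers]
  exact fun q hq => mem_C1_iff_conj.2 (mul_inv_eq_one.1 (((mem_zp2 (ea_sq h.ea hy)).1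
    (cm_symm (h2 ▸ cm_mem (mem_zpowers e) hq))).resolve_right fun e' =>
      hn ⟨q, Q_le_L₁ hy h1 hq.1, hq.2, mul_inv_eq_iff_eq_mul.1 e'⟩))

/-- A6 -/
theorem line_D (hz : z ∈ cj g V) (hD : cj g V ≤ Dv V) : cj g V = V := by
  by_contra hn
  obtain ⟨y, hy, hy'⟩ : ∃ y ∈ cj g V, y ∉ V := SetLike.not_le_iff_exists.1 fun e =>
    hn (eq_of_card_eq e (card_cj g V))
  have y1 : y ≠ 1 := fun e => hy' (e ▸ one_mem _)
  have y2 := ea_sq h.D_ea (hD hy)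
  obtain ⟨T, hT⟩ : ∃ T, CA T (cj g V) y := by
    obtain ⟨T, hT, -⟩ := (h.conjG₁ g).at₁ hy y1
    exact ⟨T, hT⟩
  have hE : V ⊔ zpowers y ≤ Dv V := sup_le h.V_le_D (zpowers_le.2 (hD hy))
  have hyN : zpowers y ≤ N[V] := zpowers_le.2 (h.D_nml.le (hD hy))
  have k1 : ∀ a ∈ V ⊔ zpowers y, a ∉ V → ∃ v ∈ V, a = v * y := fun a ha ha' => by
    obtain ⟨v, hv, s, hs, rfl⟩ := (mem_sup_of_norm hyN).1 ha
    rcases (mem_zp2 y2).1 hs with rfl | rfl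
    · exact absurd (mul_mem hv (one_mem _)) ha'
    · exact ⟨v, hv, rfl⟩
  have k2 : ∀ l ∈ Lv V, ∀ a ∈ Dv V, l * a * l⁻¹ * a⁻¹ ∈ V := fun l hl a ha =>
    cm_symm (h.comm_DL (cm_mem ha hl))
  have h1 : N[V ⊔ zpowers y] ≤ N[V] := e8_plane (ea_le h.D_ea hE) (by
      rw [card_sup_of_inf hyN (eq_bot_iff.2 fun x hx =>
        ((mem_zp2 y2).1 hx.2).resolve_right fun e => hy' (e ▸ hx.1)), h.card, card_zp2 y2 y1])
    le_rfl (h.l2 _ (ea_pi (ea_le h.D_ea hE)) (ne_bot_of_mem (mem_sup_left h.z_mem) h.z1)).1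
    le_sup_left h.card (L := Lv V) (le_N_iff.2 fun l hl a ha => by
      have := mul_mem (mem_sup_left (k2 l hl a (hE ha))) ha
      rwa [inv_mul_cancel_right] at this) h.L_nml.le
    (fun a ha a1 b hb b1 => by
      obtain ⟨l, hl, rfl⟩ := h.L_trans ha a1
      obtain ⟨k, hk, rfl⟩ := h.L_trans hb b1
      exact ⟨k * l⁻¹, mul_mem hk (inv_mem hl), by group⟩)
    fun a ha a1 b hb b1 => by
      obtain ⟨v, hv, e1⟩ := k1 a ha a1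
      obtain ⟨w, hw, e2⟩ := k1 b hb b1
      obtain ⟨q, hq, -, e3⟩ := h.shift₁ (hE ha) a1 (mul_mem hw (inv_mem hv))
      exact ⟨q, hq, by rw [e3, e1, e2]; group⟩
  have h2 : V ≤ Uz (cj g V) y := fun v hv => by
    by_cases v1 : v = 1
    · exact v1 ▸ one_mem _
    obtain ⟨l, hl, rfl⟩ := h.L_trans hv v1
    have a1 := k2 l hl y (hD hy)
    obtain ⟨q, -, hq, e⟩ := h.shift₁ (hD hy) hy' a1
    rw [inv_mul_cancel_right] at e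
    have a2 : q⁻¹ * l ∈ C{y} := mem_C1_iff_conj.2 (by
      calc _ = q⁻¹ * (l * y * l⁻¹) * q := by group
        _ = _ := by rw [← e]; group)
    have a3 := le_ncl a2 (conj_mem_cj (q⁻¹ * l) hz)
    rw [← conj_eq_of_mem_C (inv_mem hq) hv]
    convert a3 using 1
    group
  have h3 : ⁅V ⊔ zpowers y, Qz y⁆ ≤ zpowers y :=
    (comm_mono_left (sup_le h2 (zpowers_le.2 (hT.V_le_U hy)))).trans hT.comm_UQ.le
  have h4 := (norm_of_comm_le_left (h3.trans le_sup_right)).trans h1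
  have h5 : Qz y ≤ C[V] := comm_eq_bot'.1 (eq_bot_iff.2 fun x hx =>
    ((mem_zp2 y2).1 (h3 (comm_mono_left le_sup_left hx))).resolve_right fun e =>
      hy' (e ▸ comm_le_left h4 hx))
  exact hT.Q_not_le fun x hx => four_cent hT.ea hT.card hy hz y1 h.z1 (fun e => hy' (e ▸ h.z_mem))
    (mem_C1.1 ((Q_nml₁ y).le hx)) (mem_C'.1 (h5 hx) z h.z_mem)

/-- the family version of (U) -/
theorem not_norm (hX : IsPi {2} X) (h1 : X ≠ ⊥) (h2 : S ⊔ Lv V ≤ N[X]) : ¬ F2 C{z} ≤ N[X] := fun e =>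
  h.F_ne (h.F_inf ▸ le_inf le_rfl
    (e.trans (h.uq₃ hX h1 (le_sup_left.trans h2) (le_sup_right.trans h2))))
end CA

end H12.NG
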