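import Cfsg.Agent.H12.NGA2
import Cfsg.Agent.H18.NL1

/-!
# Case (A), `U` not abelian: `D = V`
-/

set_option autoImplicit false
set_option linter.unusedSectionVars false
set_option linter.unusedVariables false

namespace H18.NL
open Subgroup H24
universe u
variable {Γ : Type u} [Group Γ]

/-- an abelian subgroup, written additively, as a module for a subgroup of its normaliser -/
def WT {W H : Subgroup Γ} (_ : Abl W) (_ : H ≤ N[W]) : Type u := Additive W

variable {W H : Subgroup Γ} {hW : Abl W} {hn : H ≤ N[W]}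

instance : AddCommGroup (WT hW hn) :=
  { (inferInstance : AddGroup (Additive W)) with
    add_comm := fun a b => Subtype.ext (hW.comm (Additive.toMul a).2 (Additive.toMul b).2) }

instance [Finite Γ] : Finite (WT hW hn) := inferInstanceAs (Finite W)

/-- the element of `W` -/
def WT.mk (hW : Abl W) (hn : H ≤ N[W]) (w : Γ) (h : w ∈ W) : WT hW hn := Additive.ofMul (⟨w, h⟩ : W)
/-- the underlying element -/
def WT.val (w : WT hW hn) : Γ := (Additive.toMul w : W)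

theorem WT.ext {a b : WT hW hn} (h : a.val = b.val) : a = b := Subtype.ext h
theorem WT.mem (a : WT hW hn) : a.val ∈ W := (Additive.toMul a).2

instance : DistribMulAction H (WT hW hn) where
  smul h w := WT.mk hW hn (h * w.val * (h : Γ)⁻¹) (conj_mem (hn h.2) w.mem)
  one_smul w := WT.ext (by show (1 : Γ) * w.val * 1⁻¹ = _; simp)
  mul_smul a b w := WT.ext (by
    show (a : Γ) * b * w.val * ((a : Γ) * b)⁻¹ = a * (b * w.val * (b : Γ)⁻¹) * (a : Γ)⁻¹; group)
  smul_zero h := WT.ext (by show (h : Γ) * 1 * (h : Γ)⁻¹ = 1; simp)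
  smul_add h a b := WT.ext (by
    show (h : Γ) * (a.val * b.val) * (h : Γ)⁻¹ = h * a.val * (h : Γ)⁻¹ * (h * b.val * (h : Γ)⁻¹); group)

open Classical in
/-- the indicator of being non-trivial -/
noncomputable def χ (c : Γ) : ZMod 2 := if c = 1 then 0 else 1

theorem χ_eq {c : Γ} : χ c = 0 ↔ c = 1 := by
  by_cases h : c = 1 <;> simp [χ, h]

theorem χ_conj (g c : Γ) : χ (g * c * g⁻¹) = χ c := by
  by_cases h : c = 1
  · simp [h]
  · rw [χ, χ, if_neg h, if_neg (H3.NG.cjne g h)]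

theorem χ_mul {z a b : Γ} (hz : z * z = 1) (ha : a ∈ zpowers z) (hb : b ∈ zpowers z) :
    χ (a * b) = χ a + χ b := by
  by_cases h : z = 1
  · simp only [h, zpowers_one_eq_bot, mem_bot] at ha hb
    simp [ha, hb, χ]
  rcases (H3.NG.mem_zp2 hz).1 ha with rfl | rfl <;> rcases (H3.NG.mem_zp2 hz).1 hb with rfl | rfl <;>
    simp [χ, h, hz]
  rfl

end H18.NL

namespace H12.NG
open Subgroup Cfsg H24 H11.ZN H18.NL
universe u
variable {G : Type u} [Group G] [Finite G] {S V : Subgroup G} {z : G}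

namespace CA
variable (h : CA S V z)
include h

theorem big (hU : ¬ Uz V z ≤ C[V]) : Dv V = V := by
  refine le_antisymm (fun d hd => ?_) h.V_le_D
  obtain ⟨y, hy, y1, yz⟩ := H3.NG.four_ex h.card h.z_sq
  obtain ⟨Γ, _, _, ι, ρ, sec, md, kρ, hF⟩ := h.exists_md
  obtain ⟨m, -, -, hy'⟩ := h.exists_at₂ hy y1
  have zz := h.z_sq
  have UC := h.U_le_C₂
  have zD : zpowers z ≤ Dv V := h.z_le_V₂.trans h.V_le_D
  have yU := h.V_le_U hy
  have DU := h.D_le_U₂
  have cen : ∀ g ∈ C{z}, ∀ c ∈ zpowers z, g * c = c * g := fun g hg c hc =>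
    mem_C1.1 (C1_le_C1_of_mem_zpowers hc hg)
  have nU : ∀ g ∈ C{z}, ∀ u ∈ Uz V z, g * u * g⁻¹ ∈ Uz V z := fun g hg u hu => conj_mem (h.U_nml.norm hg) hu
  have rg : ∀ {D : Subgroup G} (f : D →* Γ) (u : G), ap f u ∈ f.range := fun {D} f u => by
    by_cases hu : u ∈ D
    · exact ⟨⟨u, hu⟩, (ap_of_mem f hu).symm⟩
    · rw [ap, dif_neg hu]; exact one_mem _
  obtain ⟨π, hπ⟩ : ∃ π : G → WT md.ea.1 md.le, ∀ u, (π u).val = ap ι u :=
    ⟨fun u => WT.mk _ _ _ (rg ι u), fun _ => rfl⟩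
  obtain ⟨r, hr⟩ : ∃ r : G → ρ.range, ∀ g, (r g).1 = ap ρ g := ⟨fun g => ⟨_, rg ρ g⟩, fun _ => rfl⟩
  have πm : ∀ {u u'}, u ∈ Uz V z → u' ∈ Uz V z → π (u * u') = π u + π u' := fun hu hu' => WT.ext (by
    rw [hπ, ap_mul ι hu hu', ← hπ, ← hπ]; rfl)
  have π0 : ∀ {u}, u ∈ Uz V z → (π u = 0 ↔ u ∈ zpowers z) := fun {u} hu =>
    ⟨fun e => (sec.ker u hu).1 (by rw [← hπ, e]; rfl), fun e => WT.ext (by rw [hπ, (sec.ker u hu).2 e]; rfl)⟩
  have πs : ∀ w, ∃ u ∈ Uz V z, π u = w := fun w => by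
    obtain ⟨u, hu⟩ := w.mem
    exact ⟨u, u.2, WT.ext (by rw [hπ, ap_coe, hu])⟩
  have rs : ∀ k, ∃ g ∈ C{z}, r g = k := fun k => by
    obtain ⟨g, hg⟩ := k.2
    exact ⟨g, g.2, Subtype.ext (by rw [hr, ap_coe, hg])⟩
  have act : ∀ {g u}, g ∈ C{z} → u ∈ Uz V z → r g • π u = π (g * u * g⁻¹) := fun {g u} hg hu => WT.ext (by
    rw [hπ, sec.act g hg u hu, ← hr, ← hπ]; rfl)
  have r1 : ∀ {g}, g ∈ C{z} → (r g = 1 ↔ g ∈ Qz z) := fun {g} hg => by
    rw [← kρ g hg, ← hr, Subtype.ext_iff]; rfl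
  have two : ∀ w : WT md.ea.1 md.le, w + w = 0 := fun w => WT.ext (ea_sq md.ea w.mem)
  have πi : ∀ {u}, u ∈ Uz V z → π u⁻¹ = π u := fun {u} hu => by
    refine add_right_cancel ((πm (inv_mem hu) hu).symm.trans (Eq.trans ?_ (two _).symm))
    rw [inv_mul_cancel]; exact (π0 (one_mem _)).2 (one_mem _)
  have πe : ∀ {u u'}, u ∈ Uz V z → u' ∈ Uz V z → (π u = π u' ↔ u⁻¹ * u' ∈ zpowers z) := fun hu hu' => by
    rw [← π0 (mul_mem (inv_mem hu) hu'), πm (inv_mem hu) hu', πi hu]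
    exact ⟨fun e => e ▸ two _, fun e => add_right_cancel (e.trans (two _).symm)⟩
  have πc : ∀ {t u}, t ∈ C{z} → u ∈ Uz V z → π u + r t • π u = π (u * t * u⁻¹ * t⁻¹) := fun {t u} ht hu => by
    rw [← πi hu, act ht (inv_mem hu), πi hu, ← πm hu (nU _ ht _ (inv_mem hu))]; simp only [mul_assoc]
  have cm : ∀ {u u'}, u ∈ Uz V z → u' ∈ Uz V z → u * u' * u⁻¹ * u'⁻¹ ∈ zpowers z := fun hu hu' =>
    h.comm_mem₂ hu (h.U_le_Q hu')
  choose s hs hs' using πs
  let q : WT md.ea.1 md.le → ZMod 2 := fun w => χ (s w * s w)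
  have hq : ∀ {u}, u ∈ Uz V z → q (π u) = χ (u * u) := fun {u} hu => by
    have k := (πe hu (hs _)).1 (hs' (π u)).symm
    obtain ⟨c, hc⟩ : ∃ c, c = u⁻¹ * s (π u) := ⟨_, rfl⟩
    rw [← hc] at k
    show χ (s (π u) * s (π u)) = _
    rw [show s (π u) = u * c by rw [hc]; group, show u * c * (u * c) = u * (c * u) * c by group,
      ← cen u (UC hu) c k, mul_assoc, mul_assoc, show c * c = 1 from by
        rcases (H3.NG.mem_zp2 zz).1 k with rfl | rfl <;> simp [zz], mul_one]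
  let β : WT md.ea.1 md.le → WT md.ea.1 md.le → ZMod 2 := fun u w => q (u + w) + q u + q w
  have hβ : ∀ {u u'}, u ∈ Uz V z → u' ∈ Uz V z → β (π u) (π u') = χ (u * u' * u⁻¹ * u'⁻¹) :=
    fun {u u'} hu hu' => by
      have k := cm hu hu'
      have k1 := χ_mul zz k (h.sq_U (mul_mem hu hu'))
      have k2 : u * u' * u⁻¹ * u'⁻¹ * (u * u' * (u * u')) = u * u * (u' * u') := by
        rw [← mul_assoc _ (u * u'), ← cen _ (UC (mul_mem hu hu')) _ k, mul_assoc u u', mul_assoc u,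
          cen _ (UC hu') _ k]
        group
      rw [k2, χ_mul zz (h.sq_U hu) (h.sq_U hu')] at k1
      show q (π u + π u') + q (π u) + q (π u') = _
      rw [← πm hu hu', hq (mul_mem hu hu'), hq hu, hq hu', add_assoc, k1, add_left_comm, z2, add_zero]
  have βv : ∀ {u}, u ∈ Uz V z → (β (π y) (π u) = 0 ↔ u ∈ C[V]) := fun {u} hu => by
    rw [hβ yU hu, χ_eq, mul_inv_eq_one, mul_inv_eq_iff_eq_mul]
    exact ⟨fun e => H3.NG.four_cent h.ea h.card h.z_mem hy h.z1 y1 yz.symm (mem_C1.1 (UC hu)) e.symm,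
      fun e => mem_C.1 e y hy⟩
  let D : AddSubgroup (WT md.ea.1 md.le) :=
    { carrier := {w | ∃ d ∈ Dv V, π d = w}
      zero_mem' := ⟨1, one_mem _, (π0 (one_mem _)).2 (one_mem _)⟩
      add_mem' := by
        rintro _ _ ⟨a, ha, rfl⟩ ⟨b, hb, rfl⟩
        exact ⟨_, mul_mem ha hb, πm (DU ha) (DU hb)⟩
      neg_mem' := fun {w} h1 => by rwa [neg_eq_of_add_eq_zero_left (two w)] }
  have mD : ∀ {u}, u ∈ Uz V z → (π u ∈ D ↔ u ∈ Dv V) := fun {u} hu =>
    ⟨fun ⟨d, hd, e⟩ => (mul_mem_cancel_left (inv_mem hd)).1 (zD ((πe (DU hd) hu).1 e)), fun e => ⟨u, e, rfl⟩⟩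
  have mV : ∀ {u}, u ∈ Uz V z → (π u = 0 ∨ π u = π y ↔ u ∈ V) := fun {u} hu => by
    refine ⟨fun e => e.elim (fun e => h.z_le_V₂ ((π0 hu).1 e)) fun e =>
      (mul_mem_cancel_left (inv_mem hy)).1 (h.z_le_V₂ ((πe yU hu).1 e.symm)), fun e => ?_⟩
    have z0 := (π0 (h.V_le_U h.z_mem)).2 (mem_zpowers z)
    rcases H3.NG.four_cases h.ea h.card h.z_mem hy h.z1 y1 yz.symm e with rfl | rfl | rfl | rfl
    exacts [Or.inl ((π0 hu).2 (one_mem _)), Or.inl z0, Or.inr rfl,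
      Or.inr (by rw [πm (h.V_le_U h.z_mem) yU, z0, zero_add])]
  have AC : Uz V y ⊓ C[V] ≤ C{z} := inf_le_right.trans h.CV_le₂
  have mA : ∀ a ∈ (img ρ (Uz V y ⊓ C[V])).subgroupOf ρ.range, ∃ t ∈ Uz V y ⊓ C[V], r t = a := fun a ha => by
    obtain ⟨t, ht, e⟩ := (mem_img_of_le AC).1 (mem_subgroupOf.1 ha)
    exact ⟨t, ht, Subtype.ext ((hr t).trans e)⟩
  have mA' : ∀ t ∈ Uz V y ⊓ C[V], r t ∈ (img ρ (Uz V y ⊓ C[V])).subgroupOf ρ.range := fun t ht =>
    mem_subgroupOf.2 (hr t ▸ ap_mem_img ρ ht (AC ht))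
  have sqA : ∀ a ∈ img ρ (Uz V y ⊓ C[V]), a * a = 1 := fun a ha => by
    obtain ⟨t, ht, rfl⟩ := (mem_img_of_le AC).1 ha
    rw [← ap_mul ρ (AC ht) (AC ht)]
    exact (kρ _ (mul_mem (AC ht) (AC ht))).2 (h.V_le_Q (hy'.z_le_V₂ (hy'.sq_U (mem_inf.1 ht).1)))
  have cy : ∀ g ∈ C{z}, π (g * y * g⁻¹) = π y → g ∈ N[V] := fun g hg e => by
    have k := (mV (nU g hg y yU)).1 (Or.inr e)
    refine mem_N_of_le_cj (four_le₂ h.card h.z_mem k h.z1 (H3.NG.cjne g y1) (fun e => yz ?_) ?_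
      (conj_mem_cj g hy))
    · exact mul_left_cancel (mul_right_cancel (e.trans (mem_C1_iff_conj.1 hg).symm))
    · exact mem_C1_iff_conj.1 hg ▸ conj_mem_cj g h.z_mem
  have st : St q β (π y) D ((img ρ (Uz V y ⊓ C[V])).subgroupOf ρ.range) (F[ρ.range].subgroupOf ρ.range) :=
    { two := two
      qa := fun u w => by
        show _ = q u + q w + (q (u + w) + q u + q w)
        linear_combination - z2 (q u) - z2 (q w)
      ba := fun u w w' => by
        rw [← hs' u, ← hs' w, ← hs' w', ← πm (hs w) (hs w'), hβ (hs u) (mul_mem (hs w) (hs w')),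
          hβ (hs u) (hs w), hβ (hs u) (hs w'), ← χ_mul zz (cm (hs u) (hs w)) (cm (hs u) (hs w'))]
        congr 1
        calc _ = s u * s w * (s u)⁻¹ * (s w)⁻¹ * (s w * (s u * s w' * (s u)⁻¹ * (s w')⁻¹)) * (s w)⁻¹ := by group
          _ = _ := by rw [cen _ (UC (hs w)) _ (cm (hs u) (hs w'))]; group
      qi := fun k w => by
        obtain ⟨g, hg, rfl⟩ := rs k
        rw [← hs' w, act hg (hs w), hq (nU g hg _ (hs w)), hq (hs w), ← H3.NG.cjm, χ_conj]
      vD := ⟨y, h.V_le_D hy, rfl⟩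
      qD := by
        rintro _ ⟨d, hd, rfl⟩
        rw [hq (DU hd), ea_sq h.D_ea hd, χ_eq]
      ex := by
        obtain ⟨x, hx, hx'⟩ := SetLike.not_le_iff_exists.1 hU
        exact ⟨π x, fun e => hx' ((βv hx).1 e)⟩
      sq := fun a ha => Subtype.ext (sqA _ (mem_subgroupOf.1 ha))
      av := fun a ha => by
        obtain ⟨t, ht, rfl⟩ := mA a ha
        rw [act (AC ht) yU, conj_eq_of_mem_C (mem_inf.1 ht).2 hy]
      inj := fun x hx a ha e => by
        obtain ⟨t, ht, rfl⟩ := mA a ha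
        rw [← hs' x] at hx e
        rw [πc (AC ht) (hs x), mD (mem_inf.1 (h.phi_mem hU hy y1 yz (hs x) ht)).1] at e
        exact (r1 (AC ht)).2 (h.U_le_Q (DU (h.phi_inj hU hy y1 yz (hs x) (fun e => hx ((βv (hs x)).2 e)) ht e)))
      sur := fun x hx u hu => by
        rw [← hs' x] at hx ⊢
        rw [← hs' u] at hu ⊢
        obtain ⟨t, ht, e⟩ := h.phi_surj hU hy y1 yz (hs x) (fun e => hx ((βv (hs x)).2 e))
          (mem_inf.2 ⟨hs u, (βv (hs u)).1 hu⟩)
        refine ⟨r t, mA' t ht, _, e, ?_⟩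
        rw [πc (AC ht) (hs x), πm (inv_mem (hs u)) (mem_inf.1 (h.phi_mem hU hy y1 yz (hs x) ht)).1, πi (hs u)]
      w1 := fun u hu a ha => by
        obtain ⟨t, ht, rfl⟩ := mA a ha
        rw [← hs' u] at hu ⊢
        rw [πc (AC ht) (hs u)]
        exact ⟨_, h.comm_U1 hy y1 yz (H3.NG.cm_mem (mem_inf.2 ⟨hs u, (βv (hs u)).1 hu⟩) ht), rfl⟩
      da := by
        rintro _ ⟨d, hd, rfl⟩ a ha
        obtain ⟨t, ht, rfl⟩ := mA a ha
        have k := πc (AC ht) (DU hd)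
        rcases (H3.NG.mem_zp2 hy'.z_sq).1 (hy'.comm_mem₂ (hy'.D_le_U₂ hd) (hy'.U_le_Q (mem_inf.1 ht).1)) with
          e | e <;> rw [e] at k
        · rw [(π0 (one_mem _)).2 (one_mem _)] at k
          exact Or.inl (add_left_cancel (k.trans (two _).symm))
        · exact Or.inr (by rw [← k, ← add_assoc, two, zero_add])
      cd := by
        rintro _ ⟨d, hd, rfl⟩ e
        refine (mV (DU hd)).2 (by_contra fun d' => yz ?_)
        have k : ⁅zpowers d, Uz V y ⊓ C[V]⁆ ≤ zpowers z := by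
          refine H3.NG.cm_le fun a ha t ht => ?_
          rcases (H3.NG.mem_zp2 (ea_sq h.D_ea hd)).1 ha with rfl | rfl
          · simp
          · rw [← π0 (mem_inf.1 (h.phi_mem hU hy y1 yz (DU hd) ht)).1, ← πc (AC ht) (DU hd), e _ (mA' t ht), two]
        rw [(h.comm_DU hU hy y1 yz hd d').1] at k
        exact ((H3.NG.mem_zp2 zz).1 (k (mem_zpowers y))).resolve_left y1
      fn := (normal_subgroupOf_iff_le_normalizer (Fitting_le _)).2 (Fitting_nml _).norm
      fo := by rw [card_subgroupOf_of_le (Fitting_le _)]; exact isPi_odd.1 md.odd_F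
      nil := (Fitting_nil _).subgroupOf _
      fc := fun k e => cent_sub_Fitting md.sol ⟨k.2, mem_C'.2 fun f hf =>
        congrArg Subtype.val (e ⟨f, Fitting_le _ hf⟩ hf)⟩
      hyp := fun a ha a1 => by
        obtain ⟨B, hB, h2, aB, f, hf, f1, fB, hi⟩ := md.hyper (ea_of_sq sqA) (img_le_range ρ _)
          (mem_subgroupOf.1 ha) fun e => a1 (Subtype.ext e)
        exact ⟨B.subgroupOf _, subgroupOf_mono _ hB, by rwa [relIndex_subgroupOf (img_le_range ρ _)], aB,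
          ⟨f, Fitting_le _ hf⟩, hf, fun e => f1 (congrArg Subtype.val e),
          mem_C.2 fun b hb => Subtype.ext (mem_C.1 fB _ hb), fun y hy hy' => Subtype.ext (hi _ hy hy')⟩
      a4 := fun f hf e => by
        obtain ⟨g, hg, e'⟩ := (mem_img_of_le (F2_le _)).1 (hF ▸ mem_subgroupOf.1 hf)
        obtain rfl : r g = f := Subtype.ext ((hr g).trans e')
        have gC := F2_le _ hg
        rw [act gC yU] at e
        exact (r1 gC).2 (h.F_inf ▸ mem_inf.2 ⟨hg, cy g gC e⟩)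
      a6 := fun k e => by
        obtain ⟨g, hg, rfl⟩ := rs k
        rw [act hg yU] at e ⊢
        have k1 := (mD (nU g hg y yU)).1 e
        have k2 : z ∈ cj g V := mem_C1_iff_conj.1 hg ▸ conj_mem_cj g h.z_mem
        have k3 : g * y * g⁻¹ ≠ z := fun e =>
          yz (mul_left_cancel (mul_right_cancel (e.trans (mem_C1_iff_conj.1 hg).symm)))
        have k4 := h.line_D k2 (four_le₂ (by rw [card_cj, h.card]) k2 (conj_mem_cj g hy) h.z1
          (H3.NG.cjne g y1) k3 (zD (mem_zpowers z)) k1)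
        refine ((mV (nU g hg y yU)).2 (k4 ▸ conj_mem_cj g hy)).resolve_left fun e => ?_
        exact ((H3.NG.mem_zp2 zz).1 ((π0 (nU g hg y yU)).1 e)).elim (H3.NG.cjne g y1) k3
      gen := fun X hX w => by
        let K : Subgroup G :=
          { carrier := {u | u ∈ Uz V z ∧ π u ∈ X}
            one_mem' := ⟨one_mem _, by rw [(π0 (one_mem _)).2 (one_mem _)]; exact zero_mem _⟩
            mul_mem' := fun h1 h2 => ⟨mul_mem h1.1 h2.1, by rw [πm h1.1 h2.1]; exact add_mem h1.2 h2.2⟩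
            inv_mem' := fun h1 => ⟨inv_mem h1.1, by rw [πi h1.1]; exact h1.2⟩ }
        have : Uz V z ≤ K := H3.NG.ncl_le fun g hg u hu => by
          obtain ⟨u, hu', rfl⟩ := mem_cj'.1 hu
          refine ⟨nU g hg u (h.V_le_U hu'), ?_⟩
          rw [← act hg (h.V_le_U hu')]
          rcases (mV (h.V_le_U hu')).2 hu' with e | e <;> rw [e]
          · rw [smul_zero]; exact zero_mem _
          · exact hX _
        exact hs' w ▸ (this (hs w)).2 }
  exact (mV (DU hd)).1 (st.main ⟨d, hd, rfl⟩)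

end CA

end H12.NG
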