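import Cfsg.Agent.H1.NGa2

/-!
# N-groups, case (A-I) with `D = V`: some element of `U' \ V` induces a transvection
-/

set_option autoImplicit false
set_option linter.unusedSectionVars false

namespace H1.NG

open Subgroup Cfsg H24 H26 H11.ZN H12.NG

universe u

variable {G : Type u} [Group G] [Finite G] {S V P : Subgroup G} {z y a b g x u : G}

section
variable (h : CA S V z) (hU : ¬ Uz V z ≤ C[V]) (hD : Dv V = V) (hy : y ∈ V) (h1 : y ≠ 1) (h2 : y ≠ z)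
include h hU hD hy h1 h2

/-- the action of `x' ∈ U_y \ C(V)` on `[x, a]` -/
theorem conj_phi {x' : G} (hx : x ∈ Uz V z) (hxV : x ∉ C[V]) (hx' : x' ∈ Uz V y) (hxV' : x' ∉ C[V])
    (ha : a ∈ Uz V y ⊓ C[V]) :
    ∃ v ∈ V, x' * (x * a * x⁻¹ * a⁻¹) * x'⁻¹ = a * v * (x * a * x⁻¹ * a⁻¹) := by
  obtain ⟨m, -, -, h'⟩ := other h hy h1
  have hU' := hU_other h hU hy h1
  have xN : x ∈ N[V] := h.nml.norm (U_le_S h hx)
  have xN' : x' ∈ N[V] := h'.nml.norm (U_le_S h' hx')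
  have e1 := conj_y h hy h1 h2 (U_le_C h hx) xN hxV
  have e2 := conj_y h' h.z_mem h.z1 h2.symm (U_le_C h' hx') xN' hxV'
  set p := x * a * x⁻¹ * a⁻¹ with hp
  have pU : p ∈ Uz V z ⊓ C[V] := h.phi_mem hU hy h1 h2 hx ha
  have t'A : x' * p * x'⁻¹ * p⁻¹ ∈ Uz V y ⊓ C[V] := h'.phi_mem hU' h.z_mem h.z1 h2.symm hx' pU
  have tA : x⁻¹ * (x' * p * x'⁻¹) * x ∈ Uz V y ⊓ C[V] := by
    refine ⟨?_, conj_mem' (N_le_NC _ xN) (conj_mem (N_le_NC _ xN') pU.2)⟩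
    have := conj_mem_cj x' pU.1
    rw [← U_conj xN', e2, H12.ea_comm h.ea h.z_mem hy, ← e1, U_conj xN] at this
    exact mem_cj.1 this
  set t := x⁻¹ * (x' * p * x'⁻¹) * x with ht
  set t' := x' * p * x'⁻¹ * p⁻¹ with ht'
  have qU : x * t * x⁻¹ * t⁻¹ ∈ Uz V z ⊓ C[V] := h.phi_mem hU hy h1 h2 hx tA
  set q := x * t * x⁻¹ * t⁻¹ with hq
  have e3 : q * t = t' * p := by rw [hq, ht', ht]; group
  have v1 := commAU h hD hy h1 h2 (inv_mem t'A) qU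
  have e4 : t'⁻¹ * t = (t'⁻¹ * q * t'⁻¹⁻¹ * q⁻¹ * q)⁻¹ * p := by
    have : t = q⁻¹ * (t' * p) := by rw [← e3]; group
    have e : t'⁻¹ * t = t'⁻¹ * (q⁻¹ * (t' * p)) := by rw [← this]
    rw [e]; group
  have VU : V ≤ Uz V z := h.V_le_U
  have v2 : t'⁻¹ * t ∈ V := A_inf_Q h hU hD hy h1 h2 (mul_mem (inv_mem t'A) tA)
    (h.U_le_Q (e4 ▸ mul_mem (inv_mem (mul_mem (VU v1) qU.1)) pU.1))
  have v3 : p⁻¹ * q ∈ V := by
    have e : p⁻¹ * q = (t'⁻¹ * t)⁻¹ * (q⁻¹ * (t'⁻¹ * q * t'⁻¹⁻¹ * q⁻¹)⁻¹ * q) := by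
      rw [e4]; group
    rw [e]
    exact mul_mem (inv_mem v2) (conj_mem' (C_le_N _ qU.2) (inv_mem v1))
  have v4 : a⁻¹ * t ∈ V := by
    refine phi_inj' h hU hD hy h1 h2 hx hxV (mul_mem (inv_mem ha) tA) ?_
    have e : x * (a⁻¹ * t) * x⁻¹ * (a⁻¹ * t)⁻¹ = a⁻¹ * (p⁻¹ * q) * a := by rw [hp, hq]; group
    rw [e]
    exact conj_mem' (C_le_N _ ha.2) v3
  refine ⟨a⁻¹ * t * (t'⁻¹ * t)⁻¹, mul_mem v4 (inv_mem v2), ?_⟩
  rw [ht']; group

/-- the final contradiction, from the `E₁₆` lemma -/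
theorem e16_end (ha : a ∈ Uz V y ⊓ C[V]) (ha' : a ∉ V) (hP : P ≤ Uz V z) (hVP : V ≤ P) (h8 : ♯P = 8)
    (hc : ∀ u ∈ Uz V z, u * a * u⁻¹ * a⁻¹ ∈ P) (hg : g ∈ C{z}) (gN : g ∈ N[P])
    (ho : Odd (orderOf g)) (hga : g * a * g⁻¹ * a⁻¹ ∈ Qz z)
    (hg' : ∀ q ∈ Qz z ⊓ C[P], g * q * g⁻¹ * q⁻¹ ∈ P) (aN : a ∈ N[P])
    (hin : ∀ u ∈ P, ∃ c ∈ zpowers g, ∃ w ∈ V, u = c * w * c⁻¹)
    (hu : u ∈ Uz V z ⊓ C[V]) (hu' : a * u * a⁻¹ * u⁻¹ ∉ zpowers z) : False := by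
  obtain ⟨x, hx, hxV⟩ := SetLike.not_le_iff_exists.1 hU
  obtain ⟨x', hx', hxV'⟩ := SetLike.not_le_iff_exists.1 (hU_other h hU hy h1)
  obtain ⟨m, -, -, h'⟩ := other h hy h1
  obtain ⟨v3, hv3, e3⟩ := conj_phi h hU hD hy h1 h2 hx hxV hx' hxV' ha
  have xN : x ∈ N[V] := h.nml.norm (U_le_S h hx)
  have xN' : x' ∈ N[V] := h'.nml.norm (U_le_S h' hx')
  have e1 := conj_y h hy h1 h2 (U_le_C h hx) xN hxV
  have e2 := conj_y h' h.z_mem h.z1 h2.symm (U_le_C h' hx') xN' hxV'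
  have eaP : EA P := ea_of_sq fun u hu => by
    obtain ⟨c, -, w, hw, rfl⟩ := hin u hu
    have : c * w * c⁻¹ * (c * w * c⁻¹) = c * (w * w) * c⁻¹ := by group
    rw [this, ea_sq h.ea hw]; simp
  set p := x * a * x⁻¹ * a⁻¹ with hp
  have pP : p ∈ P := hc x hx
  have pV : p ∉ V := fun e => ha' (phi_inj' h hU hD hy h1 h2 hx hxV ha e)
  have idx : V.relIndex P = 2 := by
    have := card_mul_relIndex hVP
    rw [h.card, h8] at this
    omega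
  have p2 := ea_sq eaP pP
  have aV : ∀ v ∈ V, v * a = a * v := fun v hv => mem_C.1 ha.2 v hv
  have pv : ∀ v ∈ V, v * p = p * v := fun v hv => H12.ea_comm eaP (hVP hv) pP
  have ap2 : a * p * (a * p) = 1 := by
    have e : (a * v3 * p) * (a * v3 * p) = 1 := by
      rw [← e3]
      have : x' * p * x'⁻¹ * (x' * p * x'⁻¹) = x' * (p * p) * x'⁻¹ := by group
      rw [this, p2]; simp
    have e' : (a * v3 * p) * (a * v3 * p) = a * p * (a * p) * (v3 * v3) := by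
      calc (a * v3 * p) * (a * v3 * p) = a * (v3 * p) * a * (v3 * p) := by group
        _ = a * p * (v3 * a) * (p * v3) := by rw [pv v3 hv3]; group
        _ = a * p * a * (v3 * p) * v3 := by rw [aV v3 hv3]; group
        _ = _ := by rw [pv v3 hv3]; group
    rwa [e', ea_sq h.ea hv3, mul_one] at e
  have a2 : a * a = 1 := by
    have e : x * (a * a) * x⁻¹ = a⁻¹ * (a * p * (a * p)) * a := by rw [hp]; group
    rw [ap2] at e
    simpa using e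
  have apc : a * p = p * a := by
    rw [← inv_of_sq ap2, mul_inv_rev, inv_of_sq a2, inv_of_sq p2]
  have memP : ∀ u ∈ P, u ∉ V → u * p ∈ V := fun u hu hn =>
    (mul_mem_idx2 idx hu pP).2 ⟨fun e => absurd e hn, fun e => absurd e pV⟩
  have memP' : ∀ u ∈ P, u ∉ V → ∃ v ∈ V, u = v * p := fun u hu hn =>
    ⟨u * p, memP u hu hn, by rw [mul_assoc, p2, mul_one]⟩
  have aC : a ∈ C[P] := mem_C.2 fun u hu => by
    by_cases hn : u ∈ V
    · exact aV u hn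
    · obtain ⟨v, hv, rfl⟩ := memP' u hu hn
      rw [mul_assoc, ← apc, ← mul_assoc, aV v hv, mul_assoc]
  have aP : a ∉ P := fun e => ha' (A_inf_Q h hU hD hy h1 h2 ha (h.U_le_Q (hP e)))
  set X := P ⊔ zpowers a with hX
  have eaX : EA X := H12.ea_sup eaP (H12.ea_zpowers (by rw [sq, a2]))
    (cents_symm (zpowers_le.2 aC))
  have a1 : a ≠ 1 := fun e => aP (e ▸ one_mem _)
  have X16 : ♯X = 16 := by
    rw [hX, card_sup_of_inf (zpowers_le.2 aN), h8, card_zp2 a2 a1]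
    refine (eq_bot_iff_forall _).2 fun e he => ?_
    rcases (mem_zp2 a2).1 he.2 with e' | e'
    · exact e'
    · exact absurd (e' ▸ he.1) aP
  have aX : a ∈ X := mem_sup_right (mem_zpowers a)
  have PX : P ≤ X := le_sup_left
  have memX : ∀ e ∈ X, e ∈ P ∨ ∃ u ∈ P, e = u * a := fun e he => by
    obtain ⟨u, hu, b, hb, rfl⟩ := (mem_sup_of_norm (zpowers_le.2 aN)).1 he
    rcases (mem_zp2 a2).1 hb with rfl | rfl
    · left; simpa using hu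
    · exact Or.inr ⟨u, hu, rfl⟩
  have nX : ∀ k, (∀ u ∈ P, k * u * k⁻¹ ∈ X) → k * a * k⁻¹ ∈ X → k ∈ N[X] := fun k k1 k2 =>
    mem_N_of_finite fun e he => by
      rcases memX e he with he | ⟨u, hu, rfl⟩
      · exact k1 e he
      · have : k * (u * a) * k⁻¹ = k * u * k⁻¹ * (k * a * k⁻¹) := by group
        rw [this]; exact mul_mem (k1 u hu) k2
  have nX' : ∀ k ∈ N[P], k * a * k⁻¹ * a⁻¹ ∈ P → k ∈ N[X] := fun k k1 k2 =>
    nX k (fun u hu => PX (conj_mem k1 hu)) (by simpa using mul_mem (PX k2) aX)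
  have UX : ∀ u ∈ Uz V z, u ∈ N[X] := fun u hu => nX' u (mem_N_of_finite fun w hw => by
    simpa using mul_mem (hVP (zp_le h (commQU h (h.U_le_Q hu) (hP hw)))) hw) (hc u hu)
  have x'X : x' ∈ N[X] := by
    refine nX x' (fun u hu => ?_) ?_
    · by_cases hn : u ∈ V
      · exact PX (hVP (conj_mem xN' hn))
      · obtain ⟨v, hv, rfl⟩ := memP' u hu hn
        have : x' * (v * p) * x'⁻¹ = x' * v * x'⁻¹ * (x' * p * x'⁻¹) := by group
        rw [this, e3]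
        exact mul_mem (PX (hVP (conj_mem xN' hv))) (mul_mem (mul_mem aX (PX (hVP hv3))) (PX pP))
    · simpa using mul_mem (PX (hVP (zp_le h' (commQU h' (h'.U_le_Q hx') ha.1)))) aX
  have gX : g ∈ N[X] := nX' g gN (odd_fix gN aN ho ((pcore_pi _ _).piElt hga)
    (hg' _ (mem_inf.2 ⟨hga, mul_mem (conj_mem (N_le_NC _ gN) aC) (inv_mem aC)⟩)))
  -- transitivity
  let R : G → Prop := fun e => ∃ k ∈ N[X], k * z * k⁻¹ = e
  have Rc : ∀ k ∈ N[X], ∀ e, R e → R (k * e * k⁻¹) := by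
    rintro k hk e ⟨l, hl, rfl⟩
    exact ⟨k * l, mul_mem hk hl, by group⟩
  have Rc' : ∀ k ∈ N[X], ∀ e, R (k * e * k⁻¹) → R e := fun k hk e he => by
    simpa [mul_assoc] using Rc k⁻¹ (inv_mem hk) _ he
  have Ryz : R (y * z) := ⟨x', x'X, by rw [e2, H12.ea_comm h.ea h.z_mem hy]⟩
  have RV : ∀ w ∈ V, w ≠ 1 → R w := fun w hw w1 => by
    rcases memV h hy h1 h2 hw with rfl | rfl | rfl | rfl
    · exact absurd rfl w1
    · exact ⟨1, one_mem _, by simp⟩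
    · exact Rc' x (UX x hx) _ (e1 ▸ Ryz)
    · exact Ryz
  have RP : ∀ w ∈ P, w ≠ 1 → R w := fun u hu u1 => by
    obtain ⟨c, hc, w, hw, rfl⟩ := hin u hu
    exact Rc c (zpowers_le.2 gX hc) w (RV w hw (mt conj_eq_one_iff'.2 u1))
  have Rpa : ∀ v ∈ V, R (v * p * a) := fun v hv => by
    have hv' := conj_mem' xN' (mul_mem hv hv3)
    have := Rc x' x'X _ (RP _ (mul_mem (hVP hv') pP) fun e =>
      pV (by rw [eq_inv_of_mul_eq_one_right e]; exact inv_mem hv'))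
    have e : x' * (x'⁻¹ * (v * v3) * x' * p) * x'⁻¹ = v * v3 * (x' * p * x'⁻¹) := by group
    rw [e, e3] at this
    convert this using 1
    calc v * p * a = v * (v3 * v3) * (a * p) := by rw [ea_sq h.ea hv3, apc]; group
      _ = v * v3 * (v3 * a * p) := by group
      _ = _ := by rw [aV v3 hv3]
  have RX : ∀ e ∈ X, e ≠ 1 → R e := fun e he e1 => by
    rcases memX e he with he | ⟨u, hu, rfl⟩
    · exact RP e he e1
    · by_cases hn : u ∈ V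
      · refine Rc' x (UX x hx) _ ?_
        have := Rpa _ (conj_mem xN hn)
        convert this using 1
        rw [hp]; group
      · obtain ⟨v, hv, rfl⟩ := memP' u hu hn
        exact Rpa v hv
  have zX : z ∈ X := PX (hVP h.z_mem)
  have sqC : ∀ u ∈ Uz V z, u * u ∈ C[X] := fun u hu =>
    zpowers_le.2 (H12.ea_le_centralizer eaX zX) (h.sq_U hu)
  have CX : C[X] ≤ C[V] := C_anti (hVP.trans PX)
  rcases e16 eaX X16 le_rfl (h.l2 X (ea_pi eaX) (ne_bot_of_mem zX h.z1)).1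
    (five_dvd X16 le_rfl zX h.z1 RX) (UX x hx) (UX u hu.1) (sqC x hx) (sqC u hu.1)
    (sqC _ (mul_mem hx hu.1)) with e | e | e
  · exact hxV (CX e)
  · refine hu' ?_
    rw [mem_C.1 e a aX]; simp
  · exact hxV (by simpa using mul_mem (CX e) (inv_mem hu.2))
end

end H1.NG

namespace H12.NG
open Subgroup Cfsg H24 H26 H11.ZN H1.NG
universe u
variable {G : Type u} [Group G] [Finite G] {S V : Subgroup G} {z y t t' x u d f : G}

namespace CA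
variable (h : CA S V z)
include h

theorem e0a (hU : ¬ Uz V z ≤ C[V]) (hD : Dv V = V) (hy : y ∈ V) (h1 : y ≠ 1) (h2 : y ≠ z) :
    ∃ t ∈ Uz V y ⊓ C[V], t ∉ V ∧ ∀ u ∈ Uz V z ⊓ C[V], t * u * t⁻¹ * u⁻¹ ∈ zpowers z := by
  by_contra hn
  push Not at hn
  obtain ⟨Γ, _, _, ι, ρ, d⟩ := exists_MD h
  have yU := h.V_le_U hy
  have AC := A_le_C h y
  have v1 := d.v_ne h hy h1 h2
  have cA := d.card_A h hU hD hy h1 h2
  by_cases hA : img ρ (Uz V y ⊓ C[V]) = ⊥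
  · rw [hA, card_bot] at cA
    obtain ⟨f, hf, hf'⟩ := SetLike.not_le_iff_exists.1 h.F_ne
    have fC := F2_le _ hf
    have fF : ap ρ f ∈ F[ρ.range] := d.F ▸ ap_mem_img ρ hf fC
    have ea : EA (Uz V z) := ea_of_sq fun u hu => by
      obtain ⟨c, -, w, hw, rfl⟩ := d.into h hy h1 h2 fC hu (orb4 cA (d.md.le (ap_rng ρ fC))
        (odd_of_pi (d.md.odd_F.piElt fF)) (ap_rng ι yU) v1
        (fun e => hf' ((d.ker f fC).1 (d.F_v h hy h1 h2 _ fF e))) (ap_rng ι hu))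
      have : c * w * c⁻¹ * (c * w * c⁻¹) = c * (w * w) * c⁻¹ := by group
      rw [this, ea_sq h.ea hw]; simp
    exact hU ((H12.ea_le_centralizer ea).trans (C_anti h.V_le_U))
  have eaA := d.ea_A h hy h1
  obtain ⟨a', ha', a1, b', hb', γ, hγ, γ1, e1, e2, c4⟩ := mod_a d.md eaA (img_le_range _ _) hA
    (img_le_range ι (Uz V z ⊓ C[V])) (d.idx_W1 h hU) (ap_mem_img ι ⟨yU, V_le_CV h hy⟩ yU) v1
    (by
      refine mem_C_iff_le_C1.2 fun a ha => ?_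
      obtain ⟨t, ht, tC, rfl⟩ := mem_img.1 ha
      refine mem_C1_comm.1 ((d.C1 h tC yU).2 ?_)
      rw [← mem_C.1 ht.2 y hy]; simp)
    (by
      rintro a ha a1 w ⟨hw, hw'⟩
      obtain ⟨t, ht, tC, rfl⟩ := mem_img.1 ha
      obtain ⟨u, hu, rfl⟩ := mem_rng.1 hw
      exact ap_mem_img ι ⟨hu, d.C_le h hU hD hy h1 h2 ht
        (fun e => a1 ((d.ap_A h hU hD hy h1 h2 ht).2 e)) hu hw'⟩ hu)
    (by
      rintro a ha w hw
      obtain ⟨t, ht, tC, rfl⟩ := mem_img.1 ha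
      obtain ⟨u, hu, uU, rfl⟩ := mem_img.1 hw
      rw [← sec_comm d.sec h.U_nml.norm tC uU]
      exact d.ap_V h hy h1 h2 (commAU h hD hy h1 h2 ht hu))
    (by
      rintro a ha a1 e
      obtain ⟨t, ht, tC, rfl⟩ := mem_img.1 ha
      obtain ⟨u, hu, hu'⟩ := hn t ht (fun e => a1 ((d.ap_A h hU hD hy h1 h2 ht).2 e))
      exact hu' ((d.C1 h tC hu.1).1 (e (ap_mem_img ι hu hu.1))))
    cA (d.F_v h hy h1 h2)
  obtain ⟨a, ha, aC, rfl⟩ := mem_img.1 ha'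
  obtain ⟨b, hb, bC, rfl⟩ := mem_img.1 hb'
  obtain ⟨g1, hg1, rfl⟩ := d.exF hγ
  have g1C := F2_le _ hg1
  have aV : a ∉ V := fun e => a1 ((d.ap_A h hU hD hy h1 h2 ha).2 e)
  set P := pre ι (ι.range ⊓ C{ap ρ a}) with hP
  have memP : ∀ u, u ∈ P ↔ u ∈ Uz V z ∧ ap ι u ∈ C{ap ρ a} := fun u => by
    rw [hP, mem_pre]
    exact ⟨fun e => ⟨e.1, e.2.2⟩, fun e => ⟨e.1, ap_rng ι e.1, e.2⟩⟩
  have PU : P ≤ Uz V z := pre_le _ _
  have VP : V ≤ P := fun v hv => (memP v).2 ⟨h.V_le_U hv, (d.C1 h aC (h.V_le_U hv)).2 (by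
    rw [← mem_C.1 ha.2 v hv]; simp)⟩
  have nP : ∀ k ∈ C{z}, ap ρ k ∈ C{ap ρ a} → k ∈ N[P] := fun k hk hk' =>
    mem_N_of_finite fun u hu => by
      obtain ⟨u1, u2⟩ := (memP u).1 hu
      refine (memP _).2 ⟨conj_mem (h.U_nml.norm hk) u1, ?_⟩
      rw [d.sec.act k hk u u1]
      exact mul_mem (mul_mem hk' u2) (inv_mem hk')
  have nA : ∀ t ∈ Uz V y ⊓ C[V], t ∈ N[P] := fun t ht => nP t (AC ht)
    (mem_C1.2 (H12.ea_comm eaA (ap_mem_img ρ ht (AC ht)) ha'))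
  have QN : C{z} ≤ N[Qz z] := (pcore_nml _ _).norm
  have g1N : g1 ∈ N[P] := nP g1 g1C (mem_C1.2 e1.symm)
  have TN : Qz z ⊓ C[P] ≤ N[P] := inf_le_right.trans (C_le_N _)
  have bT : b ∈ centQ (Qz z ⊓ C[P]) P := by
    refine (mem_centQ TN).2 ⟨nA b hb, fun q hq => VP (A_inf_Q h hU hD hy h1 h2 ?_ ?_)⟩
    · obtain ⟨m, -, -, h'⟩ := other h hy h1
      have qV : q ∈ C[V] := C_anti VP hq.2
      have : q ∈ N[Uz V y ⊓ C[V]] := zpowers_le.1 (norm_inf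
        (zpowers_le.2 (h'.U_nml.norm (CV_le h' qV))) (norm_of_le (zpowers_le.2 qV)))
      have e : b * q * b⁻¹ * q⁻¹ = b * (q * b * q⁻¹)⁻¹ := by group
      rw [commutatorElement_def, e]
      exact mul_mem hb (inv_mem (conj_mem this hb))
    · exact mul_mem (conj_mem (QN bC) hq.1) (inv_mem hq.1)
  have g1T : g1 ∈ N[centQ (Qz z ⊓ C[P]) P] := zpowers_le.1 (norm_centQ
    (norm_inf (zpowers_le.2 (QN g1C)) (norm_C (zpowers_le.2 g1N))) (zpowers_le.2 g1N))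
  have γo : Odd (orderOf (ap ρ g1)) := odd_of_pi (d.md.odd_F.piElt hγ)
  obtain ⟨g, gTC, go, eg⟩ := exists_odd_lift ρ (K := centQ (Qz z ⊓ C[P]) P ⊓ C{z}) inf_le_right
    (c := g1 * b * g1⁻¹ * b⁻¹) (mem_inf.2 ⟨mul_mem (conj_mem g1T bT) (inv_mem bT),
      mul_mem (mul_mem (mul_mem g1C bC) (inv_mem g1C)) (inv_mem bC)⟩) γo (by
      rw [ap_mul _ (mul_mem (mul_mem g1C bC) (inv_mem g1C)) (inv_mem bC), ap_conj _ g1C bC,
        ap_inv _ bC]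
      have : ap ρ g1 * ap ρ b * (ap ρ g1)⁻¹ * (ap ρ b)⁻¹ =
        ap ρ g1 * (ap ρ b * ap ρ g1 * (ap ρ b)⁻¹)⁻¹ := by group
      rw [this, e2, inv_inv])
  obtain ⟨gT, gC⟩ := mem_inf.1 gTC
  obtain ⟨u, hu, hu'⟩ := hn a ha aV
  refine e16_end h hU hD hy h1 h2 ha aV PU VP (by rw [hP, d.card_pre h inf_le_left, c4])
    (fun u hu => ?_) gC ((mem_centQ TN).1 gT).1 go ?_ ((mem_centQ TN).1 gT).2 (nA a ha)
    (fun u hu => d.into h hy h1 h2 gC (PU hu) ?_) hu hu'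
  · refine (memP _).2 ⟨(h.phi_mem hU hy h1 h2 hu ha).1, ?_⟩
    rw [sec_comm' d.sec h.U_nml.norm aC hu]
    exact comm_mem_C1 d.md.ea (d.md.le (ap_rng ρ aC)) (ea_sq eaA ha') (ap_rng ι hu)
  · rw [← d.ker _ (mul_mem (mul_mem (mul_mem gC aC) (inv_mem gC)) (inv_mem aC)),
      ap_mul _ (mul_mem (mul_mem gC aC) (inv_mem gC)) (inv_mem aC), ap_conj _ gC aC, ap_inv _ aC,
      eg, ← e1]
    group
  · rw [eg]
    have γN : ap ρ g1 ∈ N[ι.range ⊓ C{ap ρ a}] := zpowers_le.1 (norm_inf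
      (zpowers_le.2 (d.md.le (ap_rng ρ g1C))) (norm_of_le (zpowers_le.2 (mem_C1.2 e1.symm))))
    exact orb4 c4 γN γo ⟨ap_rng ι yU, ((memP y).1 (VP hy)).2⟩ v1
      (fun e => γ1 (d.F_v h hy h1 h2 _ hγ e)) ⟨ap_rng ι (PU hu), ((memP u).1 hu).2⟩

end CA
end H12.NG
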