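import Cfsg.Agent.H12.NGA3
import Cfsg.Agent.H12.NGA4
import Cfsg.Agent.H1.NGb2

/-!
# N-groups, case (A-I) with `D = V`: the transvection case; end of case (A-I)
-/

set_option autoImplicit false
set_option linter.unusedSectionVars false

namespace H1.NG

open Subgroup Cfsg H24 H26 H11.ZN H12.NG

universe u

variable {G : Type u} [Group G] [Finite G] {S V W : Subgroup G} {z c x d : G}

theorem rank_of_le (h : CA S V z) (β : B2 S V W z x d) (hW : C[V] ≤ W) : PRankLE 2 2 G := by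
  obtain ⟨y, hy, h1, h2⟩ := exists_y h
  intro E hE hE'
  have ea : EA E := ⟨hE, hE'⟩
  obtain ⟨g, -, hg⟩ := Sylow_Jsub Nat.prime_two h.syl (ea_pi ea) le_top
  have ea' : EA (cj g E) := H12.ea_map ea _
  rw [← card_cj g E]
  have k : cj g E ⊓ C[V] ≤ V := fun e he => β.inv e (hW he.2) (ea_sq ea' he.1)
  by_cases hn : cj g E ≤ C[V]
  · have := card_le ((le_inf le_rfl hn).trans k)
    rw [h.card] at this
    exact this
  · obtain ⟨e, he, he'⟩ := SetLike.not_le_iff_exists.1 hn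
    have k1 : cj g E ⊓ (S ⊓ C[V]) ≤ zpowers z := fun w hw =>
      V_inf_C1 h hy h1 h2 (h.S_le_C (hg he)) he' (k ⟨hw.1, hw.2.2⟩)
        (mem_C1.2 (H12.ea_comm ea' he hw.1))
    have k2 := card_le k1
    rw [card_zp2 h.z_sq h.z1] at k2
    have k3 := card_le_mul_of_relIndex hg h.idx_R.le
    omega

theorem not_out [IsSimpleGroup G] (h : CA S V z) (β₁ : B1 S V z c) (β : B2 S V W z x d) :
    C[V] ≤ W := by
  by_contra hW
  obtain ⟨r0, hr0, hr0'⟩ := SetLike.not_le_iff_exists.1 hW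
  have dW := β.nW β.dN
  have dC := N_le_NC _ β.dN
  have piW : IsPi {2} W := (S_pi h).of_le (β.WC.trans β₁.CV)
  obtain ⟨v, hv, hr⟩ := coprime_lift_cent (zpowers_le.2 dW) (cop_ea piW β.odd)
    (Or.inl (piW.sol Nat.prime_two)) (g := r0) (fun k hk =>
      β.two _ (conj_mem (zpowers_le.2 dC hk) hr0) _ (inv_mem hr0)
        (fun e => hr0' ((conj_mem_iff (zpowers_le.2 dW hk)).1 e)) (fun e => hr0' (inv_mem_iff.1 e)))
  rw [C_zpowers] at hr
  obtain ⟨r, er⟩ : ∃ r, r = v * r0 := ⟨_, rfl⟩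
  rw [← er] at hr
  have rC : r ∈ C[V] := er ▸ mul_mem (β.WC hv) hr0
  have rW : r ∉ W := fun e => hr0' (by simpa [er] using mul_mem (inv_mem hv) e)
  have r2 : r * r = 1 := by
    have : r * r ∈ W ⊓ C{d} := ⟨β.two r rC r rC rW rW, mul_mem hr hr⟩
    rwa [β.fpf] at this
  have xN : x ∈ N[V] := h.nml.norm β.xS
  have xW := β.nW xN
  have mem0 : ∀ s ∈ W ⊔ zpowers x, s ∈ W ∨ ∃ w ∈ W, s = w * x := fun s hs => by
    obtain ⟨w, hw, k, hk, rfl⟩ := (mem_sup_of_norm (zpowers_le.2 xW)).1 hs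
    rcases (mem_zp2 β.x2).1 hk with rfl | rfl
    · left; simpa using hw
    · exact Or.inr ⟨w, hw, rfl⟩
  have r0' : r ∉ W ⊔ zpowers x := fun e => by
    rcases mem0 r e with e | ⟨w, hw, e⟩
    · exact rW e
    · exact β.xV (by simpa [e] using mul_mem (inv_mem (β.WC hw)) rC)
  have x0 : x ∈ W ⊔ zpowers x := mem_sup_right (mem_zpowers x)
  have i0 : (W ⊔ zpowers x).relIndex S = 2 := by
    refine relIndex_eq_two_iff_exists_notMem_and.2 ⟨r, β₁.CV rC, r0', fun s hs => ?_⟩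
    by_cases hn : s ∈ C[V]
    · by_cases hw : s ∈ W
      · exact Or.inr (mem_sup_left hw)
      · exact Or.inl (mem_sup_left (β.two s hn r rC hw rW))
    · have k := ((mul_mem_idx2 h.idx_R hs β.xS).2
        ⟨fun e => absurd e.2 hn, fun e => absurd e.2 β.xV⟩).2
      by_cases hw : s * x ∈ W
      · right; simpa using mul_mem (mem_sup_left hw : _ ∈ W ⊔ zpowers x) (inv_mem x0)
      · left
        have := β.two _ k _ (conj_mem' (N_le_NC _ xN) rC) hw
          (fun e => rW ((conj_mem_iff' xW).1 e))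
        have := mul_mem (mem_sup_left this : _ ∈ W ⊔ zpowers x) (inv_mem x0)
        convert this using 1
        group
  have oS : Odd S.index := by
    have := h.syl.not_dvd Nat.prime_two
    rw [relIndex_top_right] at this
    exact Nat.not_even_iff_odd.1 fun e => this e.two_dvd
  have r1 : r ≠ 1 := fun e => rW (e ▸ one_mem _)
  obtain ⟨k, hk⟩ : ∃ k : G, k * r * k⁻¹ = z := by
    rcases H3.thompson_transfer S _ oS i0 r r2 (β₁.CV rC) r0' with ⟨M, hM, i, hr⟩ | ⟨g, hg⟩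
    · rcases hM.eq_bot_or_eq_top with rfl | rfl
      · have := card_le (le_top : V ≤ ⊤)
        rw [h.card, card_top, ← index_bot, i] at this
        omega
      · exact absurd (mem_top r) hr
    · have g2 : g * r * g⁻¹ * (g * r * g⁻¹) = 1 := by
        have : g * r * g⁻¹ * (g * r * g⁻¹) = g * (r * r) * g⁻¹ := by group
        rw [this, r2]; simp
      rcases mem0 _ hg with e | ⟨w, hw, e⟩
      · obtain ⟨m, -, em⟩ := h.trans (β.inv _ e g2) (mt conj_eq_one_iff'.1 r1)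
        refine ⟨m⁻¹ * g, ?_⟩
        calc m⁻¹ * g * r * (m⁻¹ * g)⁻¹ = m⁻¹ * (g * r * g⁻¹) * m := by group
          _ = z := by rw [← em]; group
      · obtain ⟨k, hk⟩ := β.out w hw (e ▸ g2)
        obtain ⟨l, hl⟩ := β.xz
        refine ⟨(k * l)⁻¹ * g, ?_⟩
        calc (k * l)⁻¹ * g * r * ((k * l)⁻¹ * g)⁻¹ = (k * l)⁻¹ * (g * r * g⁻¹) * (k * l) := by group
          _ = z := by rw [e, ← hk, ← hl]; group
  have kV : cj k V ≤ C{z} := by
    rw [← hk, ← cj_C1]; exact cj_mono k (mem_C_iff_le_C1.1 rC)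
  have kd : k * d * k⁻¹ ∈ C{z} := by
    rw [← hk, ← cj_C1]; exact conj_mem_cj k (mem_C1_comm.1 hr)
  obtain ⟨l, hl, hl'⟩ := Sylow_Jsub Nat.prime_two (h.syl.of_le h.S_le_C le_top)
    ((ea_pi h.ea).cj k) kV
  rw [← cj_mul] at hl'
  obtain ⟨n, hn⟩ : ∃ n, n = l * k := ⟨_, rfl⟩
  rw [← hn] at hl'
  have nd : n * d * n⁻¹ ∈ C{z} := by
    have := conj_mem (le_normalizer hl) kd
    rwa [show l * (k * d * k⁻¹) * l⁻¹ = n * d * n⁻¹ by rw [hn]; group] at this
  have ea' : EA (cj n V) := H12.ea_map h.ea _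
  have c4 : ♯(cj n V) = 4 := by rw [card_cj, h.card]
  have dN : n * d * n⁻¹ ∈ N[cj n V] := by rw [← cj_N]; exact conj_mem_cj n β.dN
  have dO : Odd (orderOf (n * d * n⁻¹)) := by rw [orderOf_conj]; exact β.odd
  have dF : cj n V ⊓ C{n * d * n⁻¹} = ⊥ := by
    rw [← cj_C1, ← cj_inf, cj_eq_bot]
    exact le_bot_iff.1 (β.fpf ▸ inf_le_inf_right _ β.VW)
  have iQ : (Uz V z).relIndex (Qz z) = 2 := by
    have k1 : W.relIndex C[V] = 2 :=
      relIndex_eq_two_iff_exists_notMem_and.2 ⟨r, rC, rW, fun s hs => by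
        by_cases hw : s ∈ W
        · exact Or.inr hw
        · exact Or.inl (β.two s hs r rC hw rW)⟩
    have k2 := card_mul_relIndex β.WC
    have k3 := card_mul_relIndex (inf_le_left : S ⊓ C[V] ≤ S)
    have k4 := card_mul_relIndex h.Q_le_S
    have k5 := card_mul_relIndex h.U_le_Q
    rw [h.idx_R, inf_eq_right.2 β₁.CV] at k3
    rw [k1, β.card] at k2
    rw [β₁.idx] at k4
    rw [β₁.card] at k5
    omega
  have VU := le_idx2 ea' c4 dN dO dF
    (le_idx2 ea' c4 dN dO dF hl' β₁.idx ((pcore_nml _ _).norm nd)) iQ (h.U_nml.norm nd)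
  have nz : ∀ v ∈ cj n V, v ∈ zpowers z → v = 1 := fun v hv hv' => by
    have : v ∈ cj n V ⊓ C{n * d * n⁻¹} :=
      ⟨hv, mem_C1_comm.1 (C1_le_C1_of_mem_zpowers hv' nd)⟩
    rwa [dF] at this
  obtain ⟨v, hv, v1⟩ := exists_ne_one (H := cj n V) (fun e => by rw [e, card_bot] at c4; omega)
  have hv' := conj_mem dN hv
  rcases β₁.no4 _ (VU hv) _ (VU hv') (ea_sq ea' hv) (ea_sq ea' hv') (ea_sq ea' (mul_mem hv hv'))
    with e | e | e
  · exact v1 (nz _ hv e)
  · exact v1 (conj_eq_one_iff'.1 (nz _ hv' e))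
  · have e' := eq_inv_of_mul_eq_one_right (nz _ (mul_mem hv hv') e)
    rw [inv_of_sq (ea_sq ea' hv)] at e'
    have : v ∈ cj n V ⊓ C{n * d * n⁻¹} := ⟨hv, mem_C1_comm.1 (mem_C1_iff_conj.2 e')⟩
    rw [dF] at this
    exact v1 this

end H1.NG

namespace H12.NG
open Subgroup Cfsg H24 H11.ZN H1.NG
universe u
variable {G : Type u} [Group G] [Finite G] {S V : Subgroup G} {z y t t' x u d f : G}

namespace CA
variable (h : CA S V z)
include h

theorem e0b [IsSimpleGroup G] (hU : ¬ Uz V z ≤ C[V]) (hD : Dv V = V) (hy : y ∈ V) (h1 : y ≠ 1) (h2 : y ≠ z)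
    (ht : t ∈ Uz V y ⊓ C[V]) (ht' : t ∉ V) (hc : ∀ u ∈ Uz V z ⊓ C[V], t * u * t⁻¹ * u⁻¹ ∈ zpowers z) :
    PRankLE 2 2 G := by
  obtain ⟨c, β₁⟩ := exists_B1 h hU hD hy h1 h2 ht ht' hc
  obtain ⟨W, x, d, β⟩ := exists_B2 h hU hD β₁
  exact rank_of_le h β (not_out h β₁ β)

theorem nonab [IsSimpleGroup G] (hU : ¬ Abl (Uz V z)) : PRankLE 2 2 G := by
  have hU' := h.not_le_of_nonab hU
  obtain ⟨y, hy, h1, h2⟩ := exists_y h
  obtain ⟨t, ht, ht', hc⟩ := h.e0a hU' (h.big hU') hy h1 h2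
  exact h.e0b hU' (h.big hU') hy h1 h2 ht ht' hc

end CA
end H12.NG
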