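import Cfsg.Agent.H12.NGA6c

/-!
# Case (A), `|U| = 8`, `W` not abelian: the structure of `C(V)`
-/

set_option autoImplicit false
set_option linter.all false

namespace H12.NG.A6

open Subgroup Cfsg H24 H26 H11.ZN H7.NC

universe u

variable {G : Type u} [Group G] [Finite G] {S V A B E H K R T X : Subgroup G}
  {a b d e f g m p q r s t u u' u'' v w x y z : G} {i j : ZMod 2 × ZMod 2}

local notation "⟪" a ", " b "⟫" => a * b * a⁻¹ * b⁻¹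

theorem cmj (g a b : G) : ⟪(g * a * g⁻¹), (g * b * g⁻¹)⟫ = g * ⟪a, b⟫ * g⁻¹ := by group

theorem B8.commQ (h : B8 S V z) (hf : f ∈ C{z}) (fV : f ∉ N[V]) (f3 : f ^ 3 = 1) : ♯⁅Qz z, zpowers f⁆ = 32 := by
  have fC := (zpowers_le (G := G)).2 hf
  have PQ : ⁅Qz z, zpowers f⁆ ≤ Qz z := comm_le_left (fC.trans QN)
  have mP : ∀ g ∈ zpowers f, ∀ q ∈ Qz z, ⟪g, q⟫ ∈ ⁅Qz z, zpowers f⁆ := fun g hg q hq =>
    commC (zpowers f) (Qz z) ▸ commutator_mem_commutator hg hq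
  have YQ : C[Uz V z] ≤ Qz z := fun a ha => mQ h.toCA ha
  have QU := QC.trans (UN h.toCA)
  have fU := fC.trans (UN h.toCA)
  have l1 : ⁅Qz z, zpowers f⁆ ⊓ C[Uz V z] ≤ Uz V z := by
    have e : EA (quo (Qz z) (Uz V z)) := ea_of fun c hc => by
      obtain ⟨x, hx, hN, rfl⟩ := mem_quo.1 hc
      obtain ⟨g, hg, e⟩ := h.cjR hf fV f3 hx
      have := h.V_le_U (h.sqR e)
      rw [← cjm, conj_mem_iff (fU hg)] at this
      exact (ap_mul _ hN hN).symm.trans ((cs_eq_one (mul_mem hN hN)).2 this)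
    have k := coprime_abel_cent_TI (quo_norm (Uz V z) (fC.trans QN)) (coprime_quo ((pcore_pi _ _).coprime
      (piElt_of_pow_eq_one ((piNat_self Nat.prime_three).compl_of_ne (by norm_num)) f3).isPi) _) e.1
    refine (quo_eq_bot ((inf_le_left.trans PQ).trans QU)).1 (eq_bot_of_le k (le_inf ?_ ?_))
    · exact quo_comm QU fU ▸ quo_mono _ inf_le_left
    · refine (quo_mono _ inf_le_right).trans (cents_symm ((quo_cents fU (YQ.trans QU)).2 ?_))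
      exact commutator_le.2 fun g hg a ha => ((zpowers_le (G := G)).2 (h.fK hf f3) hg).2 a ha
  have l2 : Uz V z ≤ ⁅Qz z, zpowers f⁆ := by
    obtain ⟨y, hy, y1⟩ := exY h.toCA
    have fi := inv_mem hf
    have k : ∀ g ∈ zpowers f, g ∉ N[V] → ⟪g, y⟫ ∈ ⁅Qz z, zpowers f⁆ ∧ ⟪g, y⟫ ∈ Uz V z ∧ ⟪g, y⟫ ∉ V :=
      fun g hg gV => ⟨mP g hg y (h.V_le_Q hy), mul_mem (conj_mem (fU hg) (h.V_le_U hy)) (inv_mem (h.V_le_U hy)),
        fun e => y1 (infV h.toCA (fC hg) gV hy ((mul_mem_cancel_right (inv_mem hy)).1 e))⟩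
    obtain ⟨a1, a2, a3⟩ := k f (mem_zpowers f) fV
    obtain ⟨b1, b2, b3⟩ := k f⁻¹ (inv_mem (mem_zpowers f)) fun e => fV (inv_mem_iff.1 e)
    have c1 := mul2 h.V_le_U (h.cV2 h.z_mem h.z1) a2 a3 b2 b3
    have c2 : ⟪f, y⟫ * ⟪f⁻¹, y⟫ ∉ zpowers z := fun e => by
      have ff : f * f = f⁻¹ := eq_inv_of_mul_eq_one_left (by rw [← f3, pow_three'])
      have m := conj_mem (fU (inv_mem (mem_zpowers f))) (h.V_le_U hy)
      rw [mul_assoc _ y⁻¹, ← mul_assoc y⁻¹, ← Abl.comm h.ab m (inv_mem (h.V_le_U hy)), mul_assoc _ y⁻¹,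
        inv2 (esq h.ea hy), esq h.ea hy, mul_one] at e
      have e' := zV h.toCA (conj_mem (zN hf) e)
      rw [cjm, ← cjj, ff, ← cjj, mul_inv_cancel, one_mul, inv_one, mul_one, mul_mem_cancel_right hy] at e'
      exact y1 (infV h.toCA fi (fun e => fV (inv_mem_iff.1 e)) hy e')
    obtain ⟨x, hx, hx'⟩ := exX h.toCA
    have c3 := conj_mem (norm_comm_left _ _ hx) (mul_mem a1 b1)
    rw [xsw h.toCA (QC hx) (QM h.toCA hx) hx' c1 c2, mul_mem_cancel_right (mul_mem a1 b1)] at c3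
    exact h.genU h.z_mem h.z1 a2 a3 (genV h.toCA c1 c2 c3 (mul_mem a1 b1)) a1
  have e := le_antisymm l1 (le_inf l2 h.ab.le_C)
  have c1 := card_sup (YQ.trans (norm_comm_left (Qz z) (zpowers f)))
  have c2 := card_le (sup_le PQ YQ)
  have c3 := h.cSQ
  have c4 := h.cSR
  have c5 := h.cRY
  have c6 := card_pos C[Uz V z]
  obtain ⟨q, hq, q1⟩ := h.exP hf fV
  have q2 := mP f (mem_zpowers f) q hq
  obtain ⟨g, hg, g1⟩ := h.cjR hf fV f3 (PQ q2)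
  have c7 := lt2 (inf_le_inf_left ⁅Qz z, zpowers f⁆ h.YC) (mem_inf.2 ⟨conj_mem (norm_comm_right _ _ hg) q2, g1⟩)
    fun e => q1 (h.YC ((conj_mem_iff (norm_C fU hg)).1 e.2))
  have c8 := lt2 (inf_le_left (b := C[V])) q2 fun e => q1 e.2
  rw [e, h.c8] at c1 c7
  have : ♯⁅Qz z, zpowers f⁆ ≤ 32 := by nlinarith
  omega

/-- coordinates on a four-group -/
def ev (z y : G) (i : ZMod 2 × ZMod 2) : G := z ^ i.1.val * y ^ i.2.val

theorem ev00 : ev z y (0, 0) = 1 := by simp [ev]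
theorem ev10 : ev z y (1, 0) = z := by simp [ev, ZMod.val_one]
theorem ev01 : ev z y (0, 1) = y := by simp [ev, ZMod.val_one]
theorem ev11 : ev z y (1, 1) = z * y := by simp [ev, ZMod.val_one]

theorem cases4 : ∀ i : ZMod 2 × ZMod 2, i = (0, 0) ∨ i = (1, 0) ∨ i = (0, 1) ∨ i = (1, 1) := by decide

structure B9 (S V : Subgroup G) (z y u u' u'' d : G) : Prop extends B8 S V z where
  d3 : d ^ 3 = 1
  dN : d ∈ N[V]
  dV : V ⊓ C{d} = ⊥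
  hu : u ∈ Uz V z
  uV : u ∉ V
  ey : d * z * d⁻¹ = y
  e1 : d * u * d⁻¹ = u'
  e2 : d * u' * d⁻¹ = u''

namespace B9
variable (h : B9 S V z y u u' u'' d)
include h

theorem hy : y ∈ V := h.ey ▸ conj_mem h.dN h.z_mem
theorem y1 : y ≠ 1 := fun e => h.z1 (conj_eq_one_iff'.1 (h.ey.trans e))
theorem yz : y ∉ zpowers z := nz h.toCA h.y1 fun e => h.z1 (mem_bot.1 (h.dV ▸ mem_inf.2
  ⟨h.z_mem, mem_C1_comm.1 (mem_C1_iff_conj.2 (h.ey.trans e))⟩))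
theorem y2 : y * y = 1 := esq h.ea h.hy
theorem cyz : y * z = z * y := Abl.comm h.ea.1 h.hy h.z_mem
theorem hzy : z * y ∈ V := mul_mem h.z_mem h.hy
theorem zyz : z * y ∉ zpowers z := (h.zy h.hy h.yz).2
theorem zy1 : z * y ≠ 1 := fun e => h.zyz (e ▸ one_mem _)
theorem zzy : z * (z * y) = y := by rw [← mul_assoc, h.z_sq, one_mul]
theorem dy : d * y * d⁻¹ = z * y := by
  have := nrm3 h.ea h.d3 h.dN h.dV h.z_mem
  rw [h.ey] at this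
  rw [eq_mul_inv_of_mul_eq this, inv2 h.z_sq, h.cyz]
theorem dzy : d * (z * y) * d⁻¹ = z := by rw [cjm, h.ey, h.dy, ← mul_assoc, h.cyz, mul_assoc, h.y2, mul_one]
theorem e3 : d * u'' * d⁻¹ = u := by
  rw [← h.e2, ← h.e1, ← cjj, ← cjj, ← pow_three', h.d3]; simp
theorem hu' : u' ∈ Uz V y := by rw [← h.ey, Ucj h.dN, ← h.e1]; exact conj_mem_cj d h.hu
theorem hu'' : u'' ∈ Uz V (z * y) := by rw [← h.dy, Ucj h.dN, ← h.e2]; exact conj_mem_cj d h.hu'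
theorem uV' : u' ∉ V := fun e => h.uV ((conj_mem_iff h.dN).1 (h.e1 ▸ e))
theorem uV'' : u'' ∉ V := fun e => h.uV' ((conj_mem_iff h.dN).1 (h.e2 ▸ e))
theorem uW : u ∈ Wv V := h.UW h.hu
theorem uW' : u' ∈ Wv V := le_Wv h.hy h.y1 h.hu'
theorem uW'' : u'' ∈ Wv V := le_Wv h.hzy h.zy1 h.hu''
theorem c10 : ⟪u', u⟫ = z * y := h.cm8 h.hy h.yz h.hu h.uV h.hu' h.uV'
theorem c20 : ⟪u'', u⟫ = y := (h.cm8 h.hzy h.zyz h.hu h.uV h.hu'' h.uV'').trans h.zzy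
theorem c21 : ⟪u'', u'⟫ = z := by have := cmj d u' u; rwa [h.e1, h.e2, h.c10, h.dzy] at this
theorem c01 : ⟪u, u'⟫ = z * y := by rw [← cm_inv, h.c10, inv2 (esq h.ea h.hzy)]
theorem c02 : ⟪u, u''⟫ = y := by rw [← cm_inv, h.c20, inv2 h.y2]
theorem c12 : ⟪u', u''⟫ = z := by rw [← cm_inv, h.c21, inv2 h.z_sq]
theorem m0 (hr : r ∈ C[V]) (hs : s ∈ C[V]) : ⟪(r * s), u⟫ = ⟪r, u⟫ * ⟪s, u⟫ := h.cmul h.z_mem h.z1 hr hs h.hu
theorem m1 (hr : r ∈ C[V]) (hs : s ∈ C[V]) : ⟪(r * s), u'⟫ = ⟪r, u'⟫ * ⟪s, u'⟫ := h.cmul h.hy h.y1 hr hs h.hu'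
theorem m2 (hr : r ∈ C[V]) (hs : s ∈ C[V]) : ⟪(r * s), u''⟫ = ⟪r, u''⟫ * ⟪s, u''⟫ :=
  h.cmul h.hzy h.zy1 hr hs h.hu''
theorem j0 (r : G) : ⟪(d * r * d⁻¹), u⟫ = d * ⟪r, u''⟫ * d⁻¹ := by rw [← cmj, h.e3]
theorem j1 (r : G) : ⟪(d * r * d⁻¹), u'⟫ = d * ⟪r, u⟫ * d⁻¹ := by rw [← cmj, h.e1]
theorem j2 (r : G) : ⟪(d * r * d⁻¹), u''⟫ = d * ⟪r, u'⟫ * d⁻¹ := by rw [← cmj, h.e2]

theorem genW' (h0 : V ≤ T) (h1 : u ∈ T) (h2 : u' ∈ T) (h3 : u'' ∈ T) : Wv V ≤ T :=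
  h.genW h.hy h.yz (h.genU h.z_mem h.z1 h.hu h.uV h0 h1) (h.genU h.hy h.y1 h.hu' h.uV' h0 h2)
    (h.genU h.hzy h.zy1 h.hu'' h.uV'' h0 h3)

theorem ker (hr : r ∈ C[V]) (h1 : ⟪r, u⟫ = 1) (h2 : ⟪r, u'⟫ = 1) (h3 : ⟪r, u''⟫ = 1) : r ∈ V := by
  have k : ∀ p, ⟪r, p⟫ = 1 → p ∈ C{r} := fun p e => mem_C1_comm.1 (mem_C1_iff_conj.2 (mul_inv_eq_one.1 e))
  rw [← h.CW]
  exact mem_C_iff_le_C1.2 (h.genW' (mem_C_iff_le_C1.1 hr) (k _ h1) (k _ h2) (k _ h3))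

theorem ev_ex (hw : w ∈ V) : ∃ i, w = ev z y i := by
  rcases memV h.toCA h.hy h.yz hw with rfl | rfl | rfl | rfl
  exacts [⟨_, ev00.symm⟩, ⟨_, ev10.symm⟩, ⟨_, ev01.symm⟩, ⟨_, ev11.symm⟩]

theorem ev_mul (i j : ZMod 2 × ZMod 2) : ev z y i * ev z y j = ev z y (i + j) := by
  have c : Commute y z := h.cyz
  rw [ev, ev, ev, Prod.fst_add, Prod.snd_add, ZMod.val_add, ZMod.val_add,
    ← pow_eq_pow_mod _ ((pow_two z).trans h.z_sq), ← pow_eq_pow_mod _ ((pow_two y).trans h.y2), pow_add, pow_add,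
    mul_assoc, mul_assoc, ← mul_assoc (y ^ _), (c.pow_pow _ _).eq, mul_assoc]

theorem ev_inj (e : ev z y i = ev z y j) : i = j := by
  have e1 : ev z y (i + j) = 1 := by
    rw [← h.ev_mul, e, h.ev_mul, show j + j = (0, 0) by clear e; revert j; decide, ev00]
  have : i + j = (0, 0) := by
    rcases cases4 (i + j) with e | e | e | e <;> rw [e] at e1
    · exact e
    · exact absurd (ev10.symm.trans e1) h.z1
    · exact absurd (ev01.symm.trans e1) h.y1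
    · exact absurd (ev11.symm.trans e1) h.zy1
  clear e e1
  revert i j; decide

theorem ev_s (hx : x ∈ C{z}) (hN : x ∈ N[V]) (hx' : x ∉ C[V]) (i : ZMod 2 × ZMod 2) :
    x * ev z y i * x⁻¹ = ev z y (i.1 + i.2, i.2) := by
  have k := xsw h.toCA hx hN hx' h.hy h.yz
  have k' := mem_C1_iff_conj.1 hx
  rcases cases4 i with rfl | rfl | rfl | rfl
  · simp [ev00]
  · simp [ev10, k']
  · simp [ev01, ev11, k]
  · rw [ev11, cjm, k, k', h.zzy]; exact ev01.symm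

theorem ev_t (i : ZMod 2 × ZMod 2) : d * ev z y i * d⁻¹ = ev z y (i.2, i.1 + i.2) := by
  rcases cases4 i with rfl | rfl | rfl | rfl
  · simp [ev00]
  · simp [ev10, ev01, h.ey]
  · simp [ev01, ev11, h.dy]
  · rw [ev11, h.dzy]; exact ev10.symm

theorem allowed (hr : r ∈ C[Uz V z]) (e1 : ⟪r, u'⟫ = ev z y i) (e2 : ⟪r, u''⟫ = ev z y j) :
    i = (j.1 + j.2, j.2) ∨ (i.1 + i.2, i.2) = (0, 1) + j := by
  obtain ⟨x, hx, hx'⟩ := h.exXf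
  have xC := QC hx.1
  have xN := QM h.toCA hx.1
  have k := xsw h.toCA (inv_mem xC) (inv_mem xN) (fun e => hx' (inv_mem_iff.1 e)) (y := y) h.hy h.yz
  have k' := xsw h.toCA (inv_mem xC) (inv_mem xN) (fun e => hx' (inv_mem_iff.1 e)) h.hzy h.zyz
  have a1 : x⁻¹ * u' * x⁻¹⁻¹ ∈ Uz V (z * y) := by rw [← k, Ucj (inv_mem xN)]; exact conj_mem_cj _ h.hu'
  have a2 : x⁻¹ * u'' * x⁻¹⁻¹ ∈ Uz V y := by
    rw [← h.zzy, ← k', Ucj (inv_mem xN)]; exact conj_mem_cj _ h.hu''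
  have rC := h.YC hr
  have w := hx.2.2 r hr
  have wC := UC h.toCA h.ab h.z_mem h.z1 w
  have b : ∀ p, ⟪(⟪x, r⟫ * r), p⟫ = x * ⟪r, (x⁻¹ * p * x⁻¹⁻¹)⟫ * x⁻¹ := fun p => by group
  by_cases e : ⟪x, r⟫ ∈ V
  · have := b u'
    rw [h.m1 wC rC, h.cmE h.hzy h.zy1 rC a1 (fun e => h.uV' ((conj_mem_iff (inv_mem xN)).1 e)) h.hu'' h.uV'',
      e1, e2, h.ev_s xC xN hx', ← cm_inv u', conj_eq_of_mem_C (h.WC h.uW') e, mul_inv_cancel, inv_one,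
      one_mul] at this
    exact Or.inl (h.ev_inj this)
  · have := b u''
    rw [h.m2 wC rC, h.cmE h.hy h.y1 rC a2 (fun e => h.uV'' ((conj_mem_iff (inv_mem xN)).1 e)) h.hu' h.uV',
      e1, e2, h.ev_s xC xN hx', ← cm_inv u'', h.cm8 h.hzy h.zyz w e h.hu'' h.uV'', h.zzy, inv2 h.y2] at this
    nth_rw 1 [← ev01 (z := z) (y := y)] at this
    exact Or.inr (h.ev_inj (this.symm.trans (h.ev_mul _ _)))

theorem exW3 (i : ZMod 2 × ZMod 2) : ∃ w ∈ Wv V, ⟪w, u⟫ = ev z y i ∧ ⟪w, u'⟫ = ev z y (i.1 + i.2, 0) ∧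
    ⟪w, u''⟫ = ev z y (i.1, 0) := by
  rcases cases4 i with rfl | rfl | rfl | rfl
  · exact ⟨1, one_mem _, by simp [ev00]⟩
  · refine ⟨u' * u'', mul_mem h.uW' h.uW'', ?_⟩
    rw [h.m0 (h.WC h.uW') (h.WC h.uW''), h.m1 (h.WC h.uW') (h.WC h.uW''), h.m2 (h.WC h.uW') (h.WC h.uW''),
      h.c10, h.c20, h.c21, h.c12]
    simp [ev10, mul_assoc, h.y2]
  · exact ⟨u'', h.uW'', by rw [h.c20, h.c21]; simp [ev00, ev10, ev01]⟩
  · refine ⟨u', h.uW', by rw [h.c10, ev11], ?_, by rw [h.c12, ev10]⟩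
    rw [show ((1 : ZMod 2) + 1, (0 : ZMod 2)) = (0, 0) from rfl, ev00]; simp

theorem act (hr : r ∈ C[Uz V z]) (hW : r ∉ Wv V) : ∃ w ∈ Uz V z, ⟪(r * w), u'⟫ = z ∧ ⟪(r * w), u''⟫ = z * y := by
  have rC := h.YC hr
  have uC := h.WC h.uW
  have e0 : ⟪r, u⟫ = 1 := by rw [conj_eq_of_mem_C hr h.hu, mul_inv_cancel]
  obtain ⟨i, e1⟩ := h.ev_ex (h.cmV h.hy h.y1 rC h.hu')
  obtain ⟨j, e2⟩ := h.ev_ex (h.cmV h.hzy h.zy1 rC h.hu'')
  obtain ⟨w, hw, f0, f1, f2⟩ := h.exW3 (j.2, j.1 + j.2)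
  have dC : d * r * d⁻¹ ∈ C[V] := conj_mem (N_le_NC V h.dN) rC
  have k := h.allowed (i := (j.2 + (j.1 + j.2), 0)) (j := (i.2, i.1 + i.2) + (j.2, 0))
    (h.memY h.hu h.uV (mul_mem dC (h.WC hw)) (by
      rw [h.m0 dC (h.WC hw), h.j0, e2, h.ev_t, f0, ← f0, esq h.ea (h.cmV h.z_mem h.z1 (h.WC hw) h.hu)]))
    (by rw [h.m1 dC (h.WC hw), h.j1, e0, f1]; simp) (by rw [h.m2 dC (h.WC hw), h.j2, e1, h.ev_t, f2, h.ev_mul])
  have : i = (0, 0) ∧ j = (0, 0) ∨ i = (1, 1) ∧ j = (0, 1) ∨ i = (1, 0) ∧ j = (1, 1) ∨ i = (0, 1) ∧ j = (1, 0) := by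
    have k' := h.allowed hr e1 e2
    clear e1 e2 f0 f1 f2
    revert i j; decide
  rcases this with ⟨rfl, rfl⟩ | ⟨rfl, rfl⟩ | ⟨rfl, rfl⟩ | ⟨rfl, rfl⟩
  · exact absurd (h.UW (h.V_le_U (h.ker rC e0 (e1.trans ev00) (e2.trans ev00)))) hW
  · refine absurd ((mul_mem_cancel_right h.uW).1 (h.UW (h.V_le_U (h.ker (mul_mem rC uC) ?_ ?_ ?_)))) hW
    · rw [h.m0 rC uC, e0]; simp
    · rw [h.m1 rC uC, e1, h.c01, ev11, esq h.ea h.hzy]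
    · rw [h.m2 rC uC, e2, h.c02, ev01, h.y2]
  · exact ⟨1, one_mem _, by rw [mul_one, e1, ev10], by rw [mul_one, e2, ev11]⟩
  · refine ⟨u, h.hu, ?_, by rw [h.m2 rC uC, e2, h.c02, ev10]⟩
    rw [h.m1 rC uC, e1, h.c01, ev01, ← mul_assoc, h.cyz, mul_assoc, h.y2, mul_one]

theorem cardS : ♯S = 64 ∨ ♯S = 128 := by
  have c1 := card_le_two h.ab.le_C fun a ha b hb a1 b1 => by
    obtain ⟨v, hv, e1, e2⟩ := h.act ha fun e => a1 (h.cardW.2.le (mem_inf.2 ⟨e, ha⟩))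
    obtain ⟨w, hw, f1, f2⟩ := h.act hb fun e => b1 (h.cardW.2.le (mem_inf.2 ⟨e, hb⟩))
    have k1 := mul_mem ha (h.ab.le_C hv)
    have k2 := mul_mem hb (h.ab.le_C hw)
    have := h.V_le_U (h.ker (h.YC (mul_mem k1 k2))
      (by rw [conj_eq_of_mem_C (mul_mem k1 k2) h.hu, mul_inv_cancel])
      (by rw [h.m1 (h.YC k1) (h.YC k2), e1, f1, h.z_sq])
      (by rw [h.m2 (h.YC k1) (h.YC k2), e2, f2, esq h.ea h.hzy]))
    rwa [mul_assoc, ← mul_assoc v, mem_C.1 hb v hv, mul_assoc, ← mul_assoc a,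
      mul_mem_cancel_right (mul_mem hv hw)] at this
  have c2 := card_dvd h.ab.le_C
  have c3 := h.cSR
  have c4 := h.cRY
  have c5 := card_pos C[Uz V z]
  rw [h.c8] at c1 c2
  omega

end B9

end H12.NG.A6
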