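import Cfsg.Agent.H12.NGA6b
import Cfsg.Agent.H12.NGA6d

/-!
# Case (A), `U` abelian: the `M₁₂` configuration
-/

set_option autoImplicit false
set_option linter.all false

namespace H12.NG

open Subgroup Cfsg H24 H11.ZN H7.NC A6

universe u

variable {G : Type u} [Group G] [Finite G] {S V : Subgroup G} {z y t t' x u d f : G}

/-- the `M₁₂` configuration: `v₁ = z, v₂, v₃` are the involutions of `V`, permuted by `d`;
`u₁, u₂, u₃` generate the groups `U_{v_i}` over `V` -/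
structure M12c (S V : Subgroup G) (z u d f : G) : Prop extends CA S V z where
  d3 : d ^ 3 = 1
  dN : d ∈ N[V] ⊓ N[S ⊓ C[V]]
  dV : V ⊓ C{d} = ⊥
  f3 : f ^ 3 = 1
  fC : f ∈ C{z}
  fV : f ∉ N[V]
  Ueq : Uz V z = V ⊔ zpowers u
  uV : u ∉ V
  u2 : u * u = 1
  uC : u ∈ C[V]
  uu : u * (d * u * d⁻¹) * u⁻¹ * (d * u * d⁻¹)⁻¹ = d * d * z * (d * d)⁻¹
  idxC : (Qz z).relIndex C{z} = 6
  CV : C[V] ≤ S
  idxM : C[V].relIndex N[V] = 6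
  cardW : ♯(Wv V) = 32
  CW : C[Wv V] = V
  sqR : ∀ r ∈ C[V], r * r ∈ V
  cardS : ♯S = 64 ∨ ♯S = 128
  /-- elements of `R \ W` centralising `U` -/
  act : ∀ y ∈ C[Uz V z], y ∉ Wv V → ∃ w ∈ Uz V z, y * w * (d * u * d⁻¹) * (y * w)⁻¹ * (d * u * d⁻¹)⁻¹ = z ∧
    y * w * (d * d * u * (d * d)⁻¹) * (y * w)⁻¹ * (d * d * u * (d * d)⁻¹)⁻¹ = d * d * z * (d * d)⁻¹
  RW : C[V] ≤ C[Uz V z] ⊔ Wv V
  commQ : ♯⁅Qz z, zpowers f⁆ = 32

theorem CA.ab_str (h : CA S V z) (h8 : ♯(Uz V z) = 8) (hU : Abl (Uz V z)) (hW : ¬ Abl (Wv V)) :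
    ∃ u d f, M12c S V z u d f := by
  have k : B8 S V z := ⟨h, hU, h8, hW⟩
  obtain ⟨d, dN, d3, dV⟩ := k.exD
  obtain ⟨f, fC, fV, f3, -⟩ := exF h h8
  obtain ⟨u, hu, uV⟩ := exU h
  have l : B9 S V z _ u _ _ d := ⟨k, d3, dN.1, dV, hu, uV, rfl, rfl, rfl⟩
  have e : d * d * z * (d * d)⁻¹ = z * (d * z * d⁻¹) := by rw [cjj, l.dy]
  refine ⟨u, d, f, h, d3, dN, dV, f3, fC, fV, le_antisymm (k.genU h.z_mem h.z1 hu uV le_sup_left
    (mem_sup_right (mem_zpowers u))) (sup_le h.V_le_U ((zpowers_le (G := G)).2 hu)), uV, esq (Uea h hU) hu,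
    k.WC l.uW, e ▸ l.c01, k.idxC.1, k.CV, k.idxM, k.cardW.1, k.CW, fun r hr => k.sqR hr, l.cardS,
    fun y hy hy' => ?_, fun r hr => ?_, k.commQ fC fV f3⟩
  · rw [e, cjj d d u]
    exact l.act hy hy'
  · obtain ⟨y, hy, w, hw, rfl⟩ := k.RW hr
    exact mul_mem (mem_sup_left hy) (mem_sup_right hw)

end H12.NG
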