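import Cfsg.Agent.H12.NGA1
import Cfsg.Agent.H26.Coprime
import Cfsg.Agent.H26.Abelem
import Cfsg.Agent.H7.NcA

/-!
# Case (A), `U` abelian: basic facts
-/

set_option autoImplicit false
set_option linter.all false

namespace H12.NG.A6

open Subgroup Cfsg H24 H26 H11.ZN H7.NC

universe u

variable {G : Type u} [Group G] [Finite G] {S V A B E H K R T X : Subgroup G} {a b e g m t v w x y z : G}

theorem zp2 (hz : z * z = 1) : y ∈ zpowers z ↔ y = 1 ∨ y = z := by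
  refine ⟨fun h => ?_, fun h => by rcases h with rfl | rfl; exacts [one_mem _, mem_zpowers _]⟩
  obtain ⟨k, rfl⟩ := mem_zpowers_iff.1 h
  have h2 : z ^ (2 : ℤ) = 1 := by rw [zpow_two, hz]
  rcases Int.even_or_odd' k with ⟨j, rfl | rfl⟩
  · left; rw [zpow_mul, h2, one_zpow]
  · right; rw [zpow_add, zpow_mul, h2, one_zpow, one_mul, zpow_one]

theorem card2 (hz : z * z = 1) (h1 : z ≠ 1) : ♯(zpowers z) = 2 := by
  rw [card_zpowers']; exact orderOf_eq_prime (by rw [pow_two, hz]) h1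

theorem esq (h : EA E) (hx : x ∈ E) : x * x = 1 := by rw [← pow_two]; exact h.2 x hx

theorem ea_of (h : ∀ x ∈ E, x * x = 1) : EA E := by
  refine ⟨abl_iff.2 (le_C_iff.2 fun a ha b hb => ?_), fun x hx => by rw [pow_two, h x hx]⟩
  rw [← inv2 (h _ (mul_mem ha hb)), mul_inv_rev, inv2 (h a ha), inv2 (h b hb)]

theorem six (hE : EA E) (h4 : ♯E = 4) (hA : A ≤ N[E]) : C[E].relIndex A ∣ 6 := by
  have : Fact (Nat.Prime 2) := ⟨two_prime⟩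
  have := hE.1
  refine (relIndex_C_dvd_card_mulAut hA).trans ((card_mulAut_abelem_dvd 2 2 E
    (fun v => Subtype.ext (hE.2 v v.2)) h4).trans ?_)
  simp [Fin.prod_univ_two]

theorem cube_C (hE : EA E) (h4 : ♯E = 4) (hg : g ∈ N[E]) (ho : Odd (orderOf g)) : g ^ 3 ∈ C[E] := by
  have h1 := six hE h4 ((zpowers_le (G := G)).2 hg)
  have h2 : C[E].relIndex (zpowers g) ∣ orderOf g := card_zpowers' g ▸ relIndex_dvd_card _ _
  have h3 : C[E].relIndex (zpowers g) ∣ 3 :=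
    Nat.Coprime.dvd_of_dvd_mul_left (m := 2) (ho.of_dvd_nat h2).coprime_two_right h1
  obtain ⟨k, hk⟩ := h3
  have : (C[E].subgroupOf (zpowers g)).Normal := ⟨fun n hn a => by
    rwa [mul_comm' a n, mul_inv_cancel_right]⟩
  have := pow_index_mem (H := C[E].subgroupOf (zpowers g)) ⟨g, mem_zpowers g⟩
  rw [hk, pow_mul]
  exact pow_mem this k

theorem sec16 (h4 : SectionalPRankLE 2 4 G) (hK : K ⊴ X) (h : ∀ x ∈ X, x * x ∈ K) : ♯X ≤ 16 * ♯K := by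
  have := hK.normal
  have he : EA (⊤ : Subgroup (X ⧸ K.subgroupOf X)) := ea_of fun q _ => by
    obtain ⟨x, rfl⟩ := QuotientGroup.mk_surjective q
    rw [← QuotientGroup.mk_mul, QuotientGroup.eq_one_iff]
    exact h x x.2
  have h1 := h4 X (K.subgroupOf X) ⊤ he.1 he.2
  rw [card_top] at h1
  rw [← card_mul_relIndex hK.le, mul_comm]
  exact Nat.mul_le_mul_right _ h1

theorem ea16 (h4 : SectionalPRankLE 2 4 G) (h : EA E) : ♯E ≤ 16 := by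
  simpa using sec16 h4 (Nml.bot E) fun x hx => mem_bot.2 (esq h hx)

theorem gen2 (hAB : A ≤ B) (hc : ♯B ≤ 2 * ♯A) (hx : x ∈ B) (hx' : x ∉ A) (h1 : A ≤ T) (h2 : x ∈ T) :
    B ≤ T := by
  have : A < B ⊓ T := lt_of_le_not_ge (le_inf hAB h1) fun h => hx' (h (mem_inf.2 ⟨hx, h2⟩))
  exact inf_eq_left.1 (eq_of_card_ge inf_le_left (hc.trans (two_mul_le this)))

theorem mul2 (hAB : A ≤ B) (hc : ♯B ≤ 2 * ♯A) (hx : x ∈ B) (hx' : x ∉ A) (hy : y ∈ B) (hy' : y ∉ A) :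
    x * y ∈ A := by
  have h1 := card_mul_relIndex hAB
  have h2 := two_mul_le (lt_of_le_not_ge hAB fun h => hx' (h hx))
  have h3 := card_pos A
  have h4 : A.relIndex B = 2 := Nat.eq_of_mul_eq_mul_left h3 (by omega)
  exact (mul_mem_idx2 h4 hx hy).2 (iff_of_false hx' hy')

theorem cm2 (hAB : A ≤ B) (hc : ♯B ≤ 2 * ♯A) (hA : g ∈ N[A]) (hB : g ∈ N[B]) (hx : x ∈ B) :
    g * x * g⁻¹ * x⁻¹ ∈ A := by
  by_cases h : x ∈ A
  · exact mul_mem (conj_mem hA h) (inv_mem h)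
  · exact mul2 hAB hc (conj_mem hB hx) (fun e => h ((conj_mem_iff hA).1 e)) (inv_mem hx)
      fun e => h (inv_mem_iff.1 e)

theorem lt2 (hAB : A ≤ B) (hx : x ∈ B) (hx' : x ∉ A) : 2 * ♯A ≤ ♯B :=
  two_mul_le (lt_of_le_not_ge hAB fun h => hx' (h hx))

/-- the elements that act trivially on `A B / B` -/
def Kq (A B : Subgroup G) : Subgroup G where
  carrier := {g | g ∈ N[B] ∧ ∀ a ∈ A, g * a * g⁻¹ * a⁻¹ ∈ B}
  one_mem' := ⟨one_mem _, fun a _ => by simp⟩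
  mul_mem' := fun {g h} hg hh => ⟨mul_mem hg.1 hh.1, fun a ha => by
    have := mul_mem (conj_mem hg.1 (hh.2 a ha)) (hg.2 a ha)
    convert this using 1; group⟩
  inv_mem' := fun {g} hg => ⟨inv_mem hg.1, fun a ha => by
    have := conj_mem' hg.1 (inv_mem (hg.2 a ha))
    convert this using 1; group⟩

theorem mem_Kq : g ∈ Kq A B ↔ g ∈ N[B] ∧ ∀ a ∈ A, g * a * g⁻¹ * a⁻¹ ∈ B := Iff.rfl

theorem cj_Kq_le (m : G) (A B : Subgroup G) : cj m (Kq A B) ≤ Kq (cj m A) (cj m B) := by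
  intro x hx
  obtain ⟨g, hg, rfl⟩ := mem_cj'.1 hx
  refine ⟨cj_N m B ▸ conj_mem_cj m hg.1, fun a ha => ?_⟩
  obtain ⟨b, hb, rfl⟩ := mem_cj'.1 ha
  have := conj_mem_cj m (hg.2 b hb)
  convert this using 1; group

theorem cj_Kq (m : G) (A B : Subgroup G) : cj m (Kq A B) = Kq (cj m A) (cj m B) := by
  refine le_antisymm (cj_Kq_le m A B) (le_cj_iff.2 ?_)
  simpa [← cj_mul] using cj_Kq_le m⁻¹ (cj m A) (cj m B)

theorem norm_Kq (hA : H ≤ N[A]) (hB : H ≤ N[B]) : H ≤ N[Kq A B] := fun g hg =>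
  mem_N_iff_cj.2 (by rw [cj_Kq, cj_of_mem_N (hA hg), cj_of_mem_N (hB hg)])

theorem sq_sup (hA : ∀ a ∈ A, a * a ∈ K) (hB : ∀ b ∈ B, b * b ∈ K) (hc : A ≤ Kq B K) (h1 : B ≤ N[A])
    (h2 : B ≤ N[K]) (hx : x ∈ A ⊔ B) : x * x ∈ K := by
  obtain ⟨a, ha, b, hb, rfl⟩ := (mem_sup_of_norm h1).1 hx
  have := mul_mem (mul_mem ((hc ha).2 b hb) (conj_mem (h2 hb) (hA a ha))) (hB b hb)
  convert this using 1; group

/-- a normal subgroup that contains an involution modulo `R`, `H / R ≅ S₃` -/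
theorem odd_mem (hK : H ≤ N[K]) (hR : R ⊴ H) (h2 : IsPi {2} R) (hi : R.relIndex H = 6) (hRS : R ≤ S)
    (hS : S ≤ H) (hc : ♯S ≤ 2 * ♯R) (hn : ¬ H ≤ N[S]) (ht : t ∈ K) (htS : t ∈ S) (htR : t ∉ R) (hg : g ∈ H)
    (g3 : g ^ 3 = 1) : g ∈ K := by
  have hK' : H ⊓ K ⊴ H := nml_inf_of_norm hK
  have h1 : S ≤ H ⊓ K ⊔ R := gen2 hRS hc htS htR le_sup_right (mem_sup_left (mem_inf.2 ⟨hS htS, ht⟩))
  have c1 := card_mul_relIndex hR.le
  have c2 := card_mul_relIndex hS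
  have c3 := lt2 hRS htS htR
  have c4 := card_pos R
  have h3 : S.relIndex H = 3 := Nat.eq_of_mul_eq_mul_left (card_pos S) (by rw [hi] at c1; omega)
  rcases covBy_eq_or (covBy_of_relIndex_prime hS (h3 ▸ Nat.prime_three)) h1 (hK'.sup hR).le with e | e
  · exact absurd (e ▸ (hK'.sup hR).norm) hn
  · have h4 : (H ⊓ K).relIndex H = (H ⊓ K).relIndex R := by
      have := relIndex_sup_of_norm (hR.le.trans hK'.norm)
      rwa [e] at this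
    have h5 : IsPi {2}ᶜ (zpowers g) :=
      (piElt_of_pow_eq_one ((piNat_self Nat.prime_three).compl_of_ne (by norm_num)) g3).isPi
    exact (le_of_idx_compl' hK' (h4 ▸ h2.relIndex _) h5 ((zpowers_le (G := G)).2 hg) (mem_zpowers g)).2

theorem pow_rel (hK : K ⊴ H) (hg : g ∈ H) : g ^ K.relIndex H ∈ K := by
  have := hK.normal
  exact pow_index_mem (H := K.subgroupOf H) ⟨g, hg⟩

theorem Ucj (hm : m ∈ N[V]) (y : G) : Uz V (m * y * m⁻¹) = cj m (Uz V y) := by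
  rw [← CA.Uz_conj, cj_of_mem_N hm]

theorem le_Wv (hy : y ∈ V) (h1 : y ≠ 1) : Uz V y ≤ Wv V :=
  le_iSup_of_le y (le_iSup_of_le hy (le_iSup_of_le h1 le_rfl))

theorem Wv_le (h : ∀ y ∈ V, y ≠ 1 → Uz V y ≤ T) : Wv V ≤ T :=
  iSup_le fun y => iSup_le fun hy => iSup_le fun h1 => h y hy h1

theorem Wv_N : N[V] ≤ N[Wv V] := fun m hm => mem_N_of_cj_le (cj_le_iff.2 (Wv_le fun y hy h1 =>
  cj_le_iff.1 (Ucj hm y ▸ le_Wv (conj_mem hm hy) fun e => h1 (conj_eq_one_iff'.1 e))))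

theorem QC : Qz z ≤ C{z} := pcore_le _ _
theorem QN : C{z} ≤ N[Qz z] := (pcore_nml _ _).norm
theorem zN : C{z} ≤ N[zpowers z] := norm_zpowers_of_cent le_rfl

section
variable (h : CA S V z)
include h

theorem z2c : ♯(zpowers z) = 2 := card2 h.z_sq h.z1
theorem zV : zpowers z ≤ V := (zpowers_le (G := G)).2 h.z_mem
theorem cV : C[V] ≤ C{z} := C_le_C1 h.z_mem
theorem cz2 : ♯V ≤ 2 * ♯(zpowers z) := by rw [z2c h, h.card]
theorem nz (h1 : y ≠ 1) (h2 : y ≠ z) : y ∉ zpowers z := fun e => ((zp2 h.z_sq).1 e).elim h1 h2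
theorem UN : C{z} ≤ N[Uz V z] := h.U_nml.norm
theorem QM : Qz z ≤ N[V] := h.Q_le_S.trans h.nml.norm

theorem memV (hy : y ∈ V) (h1 : y ∉ zpowers z) (hw : w ∈ V) : w = 1 ∨ w = z ∨ w = y ∨ w = z * y := by
  by_cases h2 : w ∈ zpowers z
  · rcases (zp2 h.z_sq).1 h2 with e | e <;> simp [e]
  · rcases (zp2 h.z_sq).1 (mul2 (zV h) (cz2 h) hw h2 hy h1) with e | e
    · rw [eq_inv_of_mul_eq_one_left e, inv2 (esq h.ea hy)]; simp
    · rw [← e, mul_assoc, esq h.ea hy]; simp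

theorem genV (hy : y ∈ V) (h1 : y ∉ zpowers z) (h2 : z ∈ T) (h3 : y ∈ T) : V ≤ T :=
  gen2 (zV h) (cz2 h) hy h1 ((zpowers_le (G := G)).2 h2) h3

theorem nV (hg : g ∈ C{z}) (hy : y ∈ V) (h1 : y ∉ zpowers z) (h2 : g * y * g⁻¹ ∈ V) : g ∈ N[V] :=
  mem_N_of_cj_le (cj_le_iff.2 (genV h hy h1
    (mem_cj.2 (by rw [inv_inv, mem_C1_iff_conj.1 hg]; exact h.z_mem)) (mem_cj.2 (by rwa [inv_inv]))))

theorem infV (hg : g ∈ C{z}) (hg' : g ∉ N[V]) (hy : y ∈ V) (h2 : g * y * g⁻¹ ∈ V) : y ∈ zpowers z := by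
  by_contra e
  exact hg' (nV h hg hy e h2)

theorem xsw (hx : x ∈ C{z}) (hN : x ∈ N[V]) (hx' : x ∉ C[V]) (hy : y ∈ V) (h1 : y ∉ zpowers z) :
    x * y * x⁻¹ = z * y := by
  have h2 : x * y * x⁻¹ ∉ zpowers z := fun e => h1 ((conj_mem_iff (zN hx)).1 e)
  rcases memV h hy h1 (conj_mem hN hy) with e | e | e | e
  · exact absurd (e ▸ one_mem _) h2
  · exact absurd (e ▸ mem_zpowers _) h2
  · exact absurd (mem_C_iff_le_C1.2 (genV h hy h1 (mem_C1_comm.1 hx)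
      (mem_C1_comm.1 (mem_C1_iff_conj.2 e)))) hx'
  · exact e

theorem exX : ∃ x ∈ Qz z, x ∉ C[V] := SetLike.not_le_iff_exists.1 h.Q_not_le

theorem swap (hy : y ∈ V) (h1 : y ∉ zpowers z) : ∃ m ∈ N[V], m * z * m⁻¹ = y ∧ m * y * m⁻¹ = z := by
  obtain ⟨m, hm, e⟩ := h.trans hy fun e => h1 (e ▸ one_mem _)
  have h2 : m⁻¹ * z * m ∉ zpowers z := fun e' => h1 (by
    rcases (zp2 h.z_sq).1 e' with e' | e'
    · exact absurd (by simpa using conj_eq_one_iff'.1 (show m⁻¹ * z * m⁻¹⁻¹ = 1 by simpa using e')) h.z1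
    · rw [← e]; nth_rw 2 [← e']; simp [mul_assoc])
  rcases memV h hy h1 (conj_mem' hm.1 h.z_mem) with e' | e' | e' | e'
  · exact absurd (e' ▸ one_mem _) h2
  · exact absurd (by rw [e']; exact mem_zpowers _) h2
  · exact ⟨m, hm.1, e, by rw [← e']; group⟩
  · obtain ⟨x, hx, hx'⟩ := exX h
    refine ⟨m * x, mul_mem hm.1 (QM h hx), by rw [cjj, mem_C1_iff_conj.1 (QC hx), e], ?_⟩
    rw [cjj, xsw h (QC hx) (QM h hx) hx' hy h1, ← e']; group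

theorem exY : ∃ y ∈ V, y ∉ zpowers z := by
  by_contra! e
  have := card_le (show V ≤ zpowers z from e)
  rw [h.card, z2c h] at this
  omega

theorem not_le (hT : C{z} ≤ N[T]) (h1 : V ≤ T) : Uz V z ≤ T :=
  iSup_le fun g => iSup_le fun hg => cj_le_of_mem_N h1 (hT hg)

theorem exU : ∃ u ∈ Uz V z, u ∉ V := by
  by_contra! e
  exact h.nle (le_antisymm h.V_le_U e ▸ UN h)

theorem U8 : 8 ≤ ♯(Uz V z) := by
  obtain ⟨u, h1, h2⟩ := exU h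
  have := lt2 h.V_le_U h1 h2
  rwa [h.card] at this

theorem mQ (hg : g ∈ C[Uz V z]) : g ∈ Qz z :=
  h.mem_Q (cV h (C_anti h.V_le_U hg)) fun u hu => by rw [conj_eq_of_mem_C hg hu]; simp

theorem cQ (hx : x ∈ Qz z) (hy : y ∈ Uz V z) : x * y * x⁻¹ * y⁻¹ ∈ zpowers z :=
  h.comm_UQ ▸ commC (Qz z) (Uz V z) ▸ commutator_mem_commutator hx hy

theorem at1 (hy : y ∈ V) (h1 : y ≠ 1) : ∃ m ∈ N[V], m * z * m⁻¹ = y ∧ CA (cj m S) V y := by
  obtain ⟨m, hm, e⟩ := h.trans hy h1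
  exact ⟨m, hm.1, e, e ▸ h.conj hm.1⟩

theorem cardU (hy : y ∈ V) (h1 : y ≠ 1) : ♯(Uz V y) = ♯(Uz V z) := by
  obtain ⟨m, hm, rfl, -⟩ := at1 h hy h1
  rw [Ucj hm, card_cj]

theorem VU (hy : y ∈ V) (h1 : y ≠ 1) : V ≤ Uz V y := by
  obtain ⟨m, hm, -, h'⟩ := at1 h hy h1
  exact h'.V_le_U

theorem CU (hy : y ∈ V) (h1 : y ≠ 1) : C[V] ≤ N[Uz V y] := by
  obtain ⟨m, hm, -, h'⟩ := at1 h hy h1
  exact (cV h').trans (UN h')

theorem cardD : 2 * ♯(Dv V) ≤ ♯(Uz V z) := by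
  obtain ⟨y, hy, h1⟩ := exY h
  refine two_mul_le (lt_of_le_of_ne ?_ h.D_ne)
  rw [h.D_eq hy (fun e => h1 (e ▸ one_mem _)) fun e => h1 (e ▸ mem_zpowers _)]
  exact inf_le_left

variable (hU : Abl (Uz V z))
include hU

theorem Uea : EA (Uz V z) := by
  have : Uz V z ≤ OZ (Uz V z) := not_le h (norm_OZ (UN h)) fun v hv =>
    mem_OZ.2 ⟨h.V_le_U hv, hU.le_C (h.V_le_U hv), h.ea.2 v hv⟩
  exact ea_of fun x hx => OZ_sq (this hx)

theorem abl (hy : y ∈ V) (h1 : y ≠ 1) : Abl (Uz V y) := by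
  obtain ⟨m, hm, rfl, -⟩ := at1 h hy h1
  exact Ucj hm z ▸ hU.cj m

theorem Uea' (hy : y ∈ V) (h1 : y ≠ 1) : EA (Uz V y) := by
  obtain ⟨m, hm, -, h'⟩ := at1 h hy h1
  exact Uea h' (abl h hU hy h1)

theorem UC (hy : y ∈ V) (h1 : y ≠ 1) : Uz V y ≤ C[V] := (abl h hU hy h1).cents le_rfl (VU h hy h1)

theorem WR : Wv V ≤ S ⊓ C[V] := Wv_le fun y hy h1 => by
  obtain ⟨m, hm, -, h'⟩ := at1 h hy h1
  exact (le_inf h'.U_le_Q (UC h hU hy h1)).trans ((h.Q1_le hy h1).trans h.QV_le)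

theorem cmD (hy : y ∈ V) (h1 : y ≠ 1) (h2 : y ≠ z) (ha : a ∈ Uz V y) (hb : b ∈ Uz V z) :
    a * b * a⁻¹ * b⁻¹ ∈ Dv V := by
  rw [h.D_eq hy h1 h2]
  refine mem_inf.2 ⟨mul_mem (conj_mem (CU h h.z_mem h.z1 (UC h hU hy h1 ha)) hb) (inv_mem hb), ?_⟩
  have := mul_mem ha (conj_mem (CU h hy h1 (UC h hU h.z_mem h.z1 hb)) (inv_mem ha))
  simpa only [mul_assoc] using this

theorem nQ (hW : ¬ Abl (Wv V)) (hy : y ∈ V) (h1 : y ∉ zpowers z) : ¬ Uz V y ≤ Qz z := by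
  intro hQ
  have y1 : y ≠ 1 := fun e => h1 (e ▸ one_mem _)
  have k1 : Uz V y ≤ C[Uz V z] := by
    obtain ⟨m, hm, e1, e2⟩ := swap h hy h1
    have hQ' := cj_mono m hQ
    rw [← Ucj hm, e2, ← CA.Qz_conj, e1] at hQ'
    have h' : CA (cj m S) V y := e1 ▸ h.conj hm
    refine le_C_iff.2 fun a ha b hb => ?_
    have k := cQ h (hQ ha) hb
    have k' := inv_mem (cQ h' (hQ' hb) ha)
    rw [show (b * a * b⁻¹ * a⁻¹)⁻¹ = a * b * a⁻¹ * b⁻¹ by group] at k'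
    rcases (zp2 h'.z_sq).1 k' with e | e
    · exact cm_of_cj (mul_inv_eq_one.1 e)
    · exact absurd (e ▸ k) h1
  have k2 : Wv V ≤ C[Uz V z] := Wv_le fun w hw w1 => by
    obtain ⟨x, hx, hx'⟩ := exX h
    rcases memV h hy h1 hw with e | e | e | e
    · exact absurd e w1
    · exact e ▸ hU.le_C
    · exact e ▸ k1
    · rw [e, ← xsw h (QC hx) (QM h hx) hx' hy h1, Ucj (QM h hx), ← cj_of_mem_N (UN h (QC hx))]
      exact cent_cj k1 x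
  refine hW (abl_iff.2 (Wv_le fun w hw w1 => ?_))
  obtain ⟨m, hm, rfl, -⟩ := at1 h hw w1
  rw [Ucj hm, ← cj_of_mem_N (Wv_N hm)]
  exact cent_cj (cents_symm k2) m

omit hU
variable (h8 : ♯(Uz V z) = 8)
include h8

theorem DV : Dv V = V := (eq_of_card_ge h.V_le_D (by have := cardD h; rw [h.card]; omega)).symm

theorem infU (hy : y ∈ V) (h1 : y ≠ 1) (h2 : y ≠ z) (ha : a ∈ Uz V z) (hb : a ∈ Uz V y) : a ∈ V :=
  DV h h8 ▸ h.D_eq hy h1 h2 ▸ mem_inf.2 ⟨ha, hb⟩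

theorem idx6 : (Qz z).relIndex C{z} ∣ 6 := by
  obtain ⟨Γ, _, _, ι, ρ, hs, hm, hk, -⟩ := h.exists_md
  have e1 : pre ι ⊥ = zpowers z := by
    ext x
    exact ⟨fun hx => (hs.ker x (mem_pre_bot.1 hx).1).1 (mem_pre_bot.1 hx).2, fun hx =>
      mem_pre_bot.2 ⟨h.V_le_U (zV h hx), (hs.ker x (h.V_le_U (zV h hx))).2 hx⟩⟩
  have e2 : pre ρ ⊥ = Qz z := by
    ext x
    exact ⟨fun hx => (hk x (mem_pre_bot.1 hx).1).1 (mem_pre_bot.1 hx).2, fun hx =>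
      mem_pre_bot.2 ⟨QC hx, (hk x (QC hx)).2 hx⟩⟩
  have c1 := card_img_mul ι le_rfl
  rw [e1, inf_eq_left.2 ((zV h).trans h.V_le_U), z2c h, h8, img_dom] at c1
  have := six hm.ea (by omega) hm.le
  rwa [← inf_relIndex_right, inf_comm, hm.fa, relIndex_bot_left, ← img_dom, card_img ρ le_rfl, e2] at this

theorem exF : ∃ f ∈ C{z}, f ∉ N[V] ∧ f ^ 3 = 1 ∧ F2 C{z} ≤ Qz z ⊔ zpowers f := by
  obtain ⟨g, hg, hg'⟩ := SetLike.not_le_iff_exists.1 h.F_ne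
  obtain ⟨a, f, ha, hf, h1, h2, rfl⟩ := exists_piElt_decomp {2} g
  have hF := (zpowers_le (G := G)).2 hg
  have h3 : a ∈ Qz z := F2_two ha.isPi ((zpowers_le (G := G)).2 (hF h1)) (mem_zpowers a)
  have h4 : f ∉ Qz z := fun e => hg' (mul_mem h3 e)
  have h5 : f ∈ C{z} := F2_le _ (hF h2)
  obtain ⟨k, hk⟩ := idx6 h h8
  have h6 : f ^ 6 = 1 := ((pcore_pi _ _).piElt
    (by rw [hk, pow_mul]; exact pow_mem (pow_rel (pcore_nml _ _) h5) k)).eq_one (hf.pow 6)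
  have h7 : f ^ 3 = 1 := (piElt_of_pow_eq_one (piNat_self two_prime)
    (by rw [← pow_mul]; exact h6)).eq_one (hf.pow 3)
  refine ⟨f, h5, fun e => h4 (h.F_inf ▸ mem_inf.2 ⟨hF h2, e⟩), h7, (eq_of_card_ge
    (sup_le (Q2_le_F2 _) ((zpowers_le (G := G)).2 (hF h2))) ?_).ge⟩
  rw [card_sup_of_inf ((zpowers_le (G := G)).2 (QN h5)) ((pcore_pi _ _).inf_eq_bot hf.isPi), card_zpowers',
    orderOf_eq_prime h7 fun e => h4 (e ▸ one_mem _), ← card_mul_relIndex (Q2_le_F2 _)]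
  refine Nat.mul_le_mul_left _ (Nat.le_of_dvd (by norm_num) ?_)
  exact Nat.Coprime.dvd_of_dvd_mul_left (m := 2) (F2_odd _).coprime_two_right
    ((relIndex_dvd_of_nml (pcore_nml _ _) (F2_le _)).trans (idx6 h h8))

end

end H12.NG.A6
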