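import Cfsg.Agent.H12.NGA6a

/-!
# Case (A), `U` abelian: `W` is not abelian and `|U| = 8`
-/

set_option autoImplicit false
set_option linter.all false

namespace H12.NG

open Subgroup Cfsg H24 H26 H11.ZN H7.NC A6

universe u

variable {G : Type u} [Group G] [Finite G] {S V : Subgroup G} {z y t t' x u d f : G}

namespace CA
variable (h : CA S V z)
include h

theorem ab_W (h4 : SectionalPRankLE 2 4 G) (hU : Abl (Uz V z)) : ¬ Abl (Wv V) := by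
  intro hW
  have W0 : Wv V ≤ OZ (Wv V) := by
    refine Wv_le fun y hy h1 v hv => ?_
    have e := le_Wv hy h1 hv
    exact mem_OZ.2 ⟨e, hW.le_C e, (Uea' h hU hy h1).2 v hv⟩
  have We : EA (Wv V) := ea_of fun x hx => OZ_sq (W0 hx)
  have c1 := ea16 h4 We
  obtain ⟨y, hy, y1⟩ := exY h
  have y2 : y ≠ 1 := fun e => y1 (e ▸ one_mem _)
  have y3 : y ≠ z := fun e => y1 (e ▸ mem_zpowers _)
  have UW : Uz V z ≤ Wv V := le_Wv h.z_mem h.z1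
  have c0 := U8 h
  obtain ⟨w, hw, hw'⟩ : ∃ w ∈ Uz V y, w ∉ Uz V z := by
    by_contra! e
    have := cardD h
    rw [h.D_eq hy y2 y3, inf_eq_right.2 e, cardU h hy y2] at this
    omega
  have hw0 := le_Wv hy y2 hw
  have c2 := lt2 UW hw0 hw'
  have h8 : ♯(Uz V z) = 8 := by omega
  have c3 : ♯(Wv V) ≤ 2 * ♯(Uz V z) := by omega
  obtain ⟨f, fC, fV, f3, hF⟩ := exF h h8
  have WC : Wv V ≤ C[Uz V z] := hW.cents le_rfl UW
  have WQ : Wv V ≤ Qz z := fun w hw => mQ h (WC hw)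
  have nf : f ∉ N[Wv V] := fun e => h.not_norm (ea_pi We) (ne_bot_of_mem (UW (h.V_le_U h.z_mem)) h.z1)
    ((sup_le h.nml.norm h.L_nml.le).trans Wv_N)
    (hF.trans (sup_le ((QM h).trans Wv_N) ((zpowers_le (G := G)).2 e)))
  have k1 : ∀ x ∈ Qz z, x ∈ C[Uz V z] → ∀ a ∈ Wv V, x * a * x⁻¹ * a⁻¹ ∈ V := fun x hx hc a ha => by
    by_cases e : a ∈ Uz V z
    · rw [conj_eq_of_mem_C hc e]; simp
    · have e1 := mul2 UW c3 ha e hw0 hw'
      have e2 : x * w * x⁻¹ * w⁻¹ ∈ V := infU h h8 hy y2 y3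
        (cm2 UW c3 (UN h (QC hx)) (Wv_N (QM h hx)) hw0)
        (mul_mem (conj_mem (CU h hy y2 (C_anti h.V_le_U hc)) hw) (inv_mem hw))
      have e3 := conj_mem (QM h (h.U_le_Q e1)) e2
      have e4 : a = a * w * w := by rw [mul_assoc, esq We hw0, mul_one]
      rw [e4, cjm, conj_eq_of_mem_C hc e1]
      convert e3 using 1; group
  have k0 : ∀ g ∈ C{z}, ∀ a ∈ Wv V, g * a * g⁻¹ ∈ Qz z ∧ g * a * g⁻¹ ∈ C[Uz V z] := fun g hg a ha =>
    ⟨conj_mem (QN hg) (WQ ha), conj_mem (norm_C (UN h) hg) (WC ha)⟩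
  have k2 : ∀ g ∈ C{z}, g ∉ N[V] → cj g (Wv V) ≤ Kq (Wv V) (zpowers z) := fun g hg hg' x hx => by
    obtain ⟨a, ha, rfl⟩ := mem_cj'.1 hx
    refine ⟨zN (QC (k0 g hg a ha).1), fun b hb => infV h (inv_mem hg) (fun e => hg' (inv_mem_iff.1 e))
      (k1 _ (k0 g hg a ha).1 (k0 g hg a ha).2 b hb) ?_⟩
    have := inv_mem (k1 _ (k0 _ (inv_mem hg) b hb).1 (k0 _ (inv_mem hg) b hb).2 a ha)
    convert this using 1; group
  have k3 : ∀ a ∈ C{z}, ∀ b ∈ C{z}, b⁻¹ * a ∉ N[V] → cj a (Wv V) ≤ Kq (cj b (Wv V)) (zpowers z) :=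
    fun a ha b hb e => by
      have := cj_mono b (k2 _ (mul_mem (inv_mem hb) ha) e)
      rwa [cj_Kq, cj_of_mem_N (zN hb), ← cj_mul, mul_inv_cancel_left] at this
  have Ee : ∀ a, ∀ x ∈ cj a (Wv V), x * x = 1 := fun a x hx => by
    obtain ⟨b, hb, rfl⟩ := mem_cj'.1 hx
    rw [← cjm, esq We hb]; simp
  have Ez : ∀ a, ∀ x ∈ cj a (Wv V), x * x ∈ zpowers z := fun a x hx => by rw [Ee a x hx]; exact one_mem _
  have nrm : ∀ a ∈ C{z}, ∀ b ∈ C{z}, cj a (Wv V) ≤ N[cj b (Wv V)] := fun a ha b hb => by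
    have := norm_cj ((QM h).trans Wv_N) b
    rw [cj_of_mem_N (QN hb)] at this
    exact (cj_le_of_mem_N WQ (QN ha)).trans this
  have nc : ∀ a, ¬ cj a (Wv V) ≤ C[cj (a * f) (Wv V)] := fun a e => by
    have e1 := cent_cj e a⁻¹
    simp only [← cj_mul, inv_mul_cancel, inv_mul_cancel_left] at e1
    have := ea16 h4 (E := cj 1 (Wv V) ⊔ cj f (Wv V)) (ea_of fun x hx => mem_bot.1 (sq_sup
      (fun a ha => mem_bot.2 (Ee _ a ha)) (fun a ha => mem_bot.2 (Ee _ a ha))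
      (fun a ha => ⟨by simp [N_bot], fun b hb => by rw [conj_eq_of_mem_C (e1 ha) hb]; simp⟩)
      (nrm _ fC _ (one_mem _)) (by simp [N_bot]) hx))
    have e2 := eq_of_card_ge (le_sup_left : cj 1 (Wv V) ≤ cj 1 (Wv V) ⊔ cj f (Wv V))
      (by rw [card_cj]; omega)
    exact nf (mem_N_of_cj_le (by simpa using le_sup_right.trans e2.ge))
  have Ul : ∀ a ∈ C{z}, Uz V z ≤ cj a (Wv V) := fun a ha => cj_of_mem_N (UN h ha) ▸ cj_mono a UW
  have cm : ∀ a ∈ C{z}, ∀ b ∈ C{z}, ∀ p ∈ cj a (Wv V), ∀ q ∈ cj b (Wv V), p ∉ Uz V z → q ∉ Uz V z →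
      p * q = q * p → cj a (Wv V) ≤ C[cj b (Wv V)] := fun a ha b hb p hp q hq p1 q1 e =>
    cents_symm (gen2 (Ul b hb) (by rwa [card_cj]) hq q1 ((hW.cj a).cents (Ul a ha) le_rfl)
      (mem_C_iff_le_C1.2 (gen2 (Ul a ha) (by rwa [card_cj]) hp p1
        (mem_C_iff_le_C1.1 ((hW.cj b).cents le_rfl (Ul b hb) hq)) (mem_C1.2 e))))
  have ff : f * f = f⁻¹ := eq_inv_of_mul_eq_one_left (by rw [← f3, pow_three'])
  have fi := inv_mem fC
  have hw2 : f⁻¹ * w * f⁻¹⁻¹ ∈ cj f⁻¹ (Wv V) := conj_mem_cj _ hw0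
  have hw3 : f⁻¹ * w * f⁻¹⁻¹ ∉ Uz V z := fun e => hw' ((conj_mem_iff (UN h fi)).1 e)
  have n2 : f⁻¹ * w * f⁻¹⁻¹ ∉ cj 1 (Wv V) ⊔ cj f (Wv V) := fun e => by
    obtain ⟨p, hp, q, hq, e⟩ := (mem_sup_of_norm (nrm _ fC _ (one_mem _))).1 e
    by_cases p1 : p ∈ Uz V z
    · refine nc f ?_
      rw [ff]
      exact cm _ fC _ fi _ (by rw [e]; exact mul_mem (Ul _ fC p1) hq) _ hw2 hw3 hw3 rfl
    by_cases q1 : q ∈ Uz V z
    · refine nc f⁻¹ ?_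
      rw [inv_mul_cancel]
      exact cm _ fi _ (one_mem _) _ hw2 _ (by rw [e]; exact mul_mem hp (Ul _ (one_mem _) q1)) hw3 hw3 rfl
    refine nc 1 ?_
    rw [one_mul]
    refine cm _ (one_mem _) _ fC _ hp _ hq p1 q1 ?_
    have := Ee _ _ hw2
    rw [e] at this
    rw [← inv2 this, mul_inv_rev, inv2 (Ee _ _ hp), inv2 (Ee _ _ hq)]
  have n1 : ¬ cj f (Wv V) ≤ cj 1 (Wv V) := fun e => nf (mem_N_of_cj_le (by simpa using e))
  obtain ⟨q, hq, hq'⟩ := SetLike.not_le_iff_exists.1 n1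
  have d1 := lt2 le_sup_left (mem_sup_right hq) hq'
  have d2 := lt2 le_sup_left (mem_sup_right hw2) n2
  have XC : ∀ a ∈ C{z}, cj a (Wv V) ≤ C{z} := fun a ha => (cj_le_of_mem_N WQ (QN ha)).trans QC
  have d3 := sec16 h4 (K := zpowers z) (X := cj 1 (Wv V) ⊔ cj f (Wv V) ⊔ cj f⁻¹ (Wv V))
    ⟨(((zV h).trans h.V_le_U).trans (Ul _ fi)).trans le_sup_right,
      (sup_le (sup_le (XC _ (one_mem _)) (XC _ fC)) (XC _ fi)).trans zN⟩ fun x hx =>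
    sq_sup (fun a ha => sq_sup (fun a ha => Ez _ a ha) (fun a ha => Ez _ a ha)
      (k3 _ (one_mem _) _ fC (by simpa using fV)) (nrm _ fC _ (one_mem _)) ((XC _ fC).trans zN) ha)
      (fun a ha => Ez _ a ha)
      (sup_le (k3 _ (one_mem _) _ fi (by simpa using fV)) (k3 _ fC _ fi (by simpa [ff] using fV)))
      (norm_sup (nrm _ fi _ (one_mem _)) (nrm _ fi _ fC)) ((XC _ fi).trans zN) hx
  rw [card_cj] at d1
  rw [z2c h] at d3
  omega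

theorem ab_8 (h4 : ♯(Uz V z) ≤ 16) (hU : Abl (Uz V z)) (hW : ¬ Abl (Wv V)) : ♯(Uz V z) = 8 := by
  have c8 := U8 h
  by_contra hne
  have h16 : ♯(Uz V z) = 16 := by
    obtain ⟨k, hk⟩ := (ea_pi (Uea h hU)).card_eq_pow two_prime
    rw [hk] at c8 h4 hne ⊢
    have : k ≤ 4 := (Nat.pow_le_pow_iff_right (by norm_num)).1 (show 2 ^ k ≤ 2 ^ 4 from h4)
    interval_cases k <;> omega
  obtain ⟨y, hy, y1⟩ := exY h
  have y2 : y ≠ 1 := fun e => y1 (e ▸ one_mem _)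
  have y3 : y ≠ z := fun e => y1 (e ▸ mem_zpowers _)
  obtain ⟨t, ht, ht'⟩ := SetLike.not_le_iff_exists.1 (nQ h hU hW hy y1)
  obtain ⟨Γ, _, _, ι, ρ, hs, hm, hk, -⟩ := h.exists_md
  have e1 : pre ι ⊥ = zpowers z := by
    ext x
    exact ⟨fun hx => (hs.ker x (mem_pre_bot.1 hx).1).1 (mem_pre_bot.1 hx).2, fun hx =>
      mem_pre_bot.2 ⟨h.V_le_U (zV h hx), (hs.ker x (h.V_le_U (zV h hx))).2 hx⟩⟩
  have c1 := card_img_mul ι le_rfl
  rw [e1, inf_eq_left.2 ((zV h).trans h.V_le_U), z2c h, h16, img_dom] at c1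
  have tV := UC h hU hy y2 ht
  have tC := cV h tV
  have rρ : ∀ g ∈ C{z}, ap ρ g ∈ ρ.range := fun g hg => img_dom ρ ▸ ap_mem_img ρ hg hg
  have rι : ∀ g ∈ Uz V z, ap ι g ∈ ι.range := fun g hg => img_dom ι ▸ ap_mem_img ι hg hg
  have t2 : ap ρ t * ap ρ t = 1 := by rw [← ap_mul ρ tC tC, esq (Uea' h hU hy y2) ht, ap_one]
  obtain ⟨φ, hφ, φ1, hi⟩ := hm.inv (rρ t tC) t2 fun e => ht' ((hk t tC).1 e)
  have φH := Fitting_le _ hφ
  have φo : Odd (orderOf φ) := Nat.odd_iff.2 (Nat.two_dvd_ne_zero.1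
    ((piNat_compl_singleton two_prime).1 (hm.odd_F.piElt hφ)))
  have hn : zpowers φ ≤ N[ι.range] := (zpowers_le (G := Γ)).2 (hm.le φH)
  have dp := coprime_abelian_cent_dprod hn ((ea_pi hm.ea).coprime (hm.odd_F.piElt hφ).isPi) hm.ea.1
  have Ne : EA ⁅ι.range, zpowers φ⁆ := ea_of fun x hx => esq hm.ea (dp.left_le hx)
  have tφ : ap ρ t ∈ N[zpowers φ] := mem_N_iff_cj.2 (by rw [cj_zpowers, hi, zpowers_inv])
  have φN := norm_comm_right ι.range (zpowers φ) (mem_zpowers φ)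
  have tN : ap ρ t ∈ N[⁅ι.range, zpowers φ⁆] := norm_comm ((zpowers_le (G := Γ)).2 (hm.le (rρ t tC)))
    ((zpowers_le (G := Γ)).2 tφ) (mem_zpowers _)
  have c2 := (free_inv Ne φN tN φo (t2 ▸ one_mem _) (by rw [hi, inv_mul_cancel]; exact one_mem _)
    (by rw [← C_zpowers, ← dp.inf, ← inf_assoc, inf_eq_left.2 dp.left_le])).2
  have c3 := dp.card
  have c4 : ⁅ι.range, zpowers φ⁆ ≠ ⊥ := fun e =>
    φ1 (mem_bot.1 (hm.fa ▸ mem_inf.2 ⟨φH, comm_eq_bot'.1 e (mem_zpowers φ)⟩))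
  have c5 := one_lt_card c4
  have c6 := card_pos (ι.range ⊓ C[zpowers φ])
  obtain ⟨d1, d2, d3⟩ : ♯⁅ι.range, zpowers φ⁆ = 4 ∧ ♯(⁅ι.range, zpowers φ⁆ ⊓ C{ap ρ t}) = 2 ∧
      ♯(ι.range ⊓ C[zpowers φ]) = 2 := by
    generalize ♯⁅ι.range, zpowers φ⁆ = a at *
    generalize ♯(⁅ι.range, zpowers φ⁆ ⊓ C{ap ρ t}) = b at *
    generalize ♯(ι.range ⊓ C[zpowers φ]) = c at *
    have : a ≤ 8 := by nlinarith
    have : b ≤ 2 := by nlinarith
    interval_cases b <;> subst c2 <;> omega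
  have φ3 : orderOf φ = 3 := orderOf_eq_prime (mem_bot.1 (hm.fa ▸ mem_inf.2 ⟨pow_mem φH 3, by
    rw [dp.cp.C_eq]
    exact mem_inf.2 ⟨cube_C Ne d1 φN φo, pow_mem (cents_symm inf_le_right (mem_zpowers φ)) 3⟩⟩)) φ1
  have Hφ : ρ.range ≤ N[zpowers φ] := fun g hg => by
    have e : ⁅ι.range, zpowers (g * φ * g⁻¹)⁆ = cj g ⁅ι.range, zpowers φ⁆ := by
      rw [cj_comm, cj_zpowers, cj_of_mem_N (hm.le hg)]
    have g4 : ♯⁅ι.range, zpowers (g * φ * g⁻¹)⁆ = 4 := by rw [e, card_cj, d1]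
    rcases hm.m4 hφ ((Fitting_nml _).conj_mem hg hφ) φ3 (by rw [orderOf_conj, φ3]) d1 g4 with e' | e'
    · exact mem_N_iff_cj.2 (by rw [cj_zpowers, ← e'])
    · have l : ⁅ι.range, zpowers (g * φ * g⁻¹)⁆ ≤ ι.range := e ▸ cj_le_of_mem_N dp.left_le (hm.le hg)
      have := card_le (sup_le dp.left_le l)
      rw [card_sup_of_inf (Abl.norm hm.ea.1 l dp.left_le) e'.2.1, d1, g4] at this
      omega
  have HN := norm_comm hm.le Hφ
  have HZ := norm_inf hm.le (norm_C Hφ)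
  have gen : ∀ T, ρ.range ≤ N[T] → ♯T ≤ 4 → ap ι y ∉ T := fun T hT hc e => by
    have : Uz V z ≤ pre ι T := not_le h (le_N_iff.2 fun g hg x hx => mem_pre.2
      ⟨conj_mem (UN h hg) (mem_pre.1 hx).1, hs.act g hg x (mem_pre.1 hx).1 ▸
        conj_mem (hT (rρ g hg)) (mem_pre.1 hx).2⟩)
      (genV h hy y1 (ker_le_pre ι T (e1 ▸ mem_zpowers z)) (mem_pre.2 ⟨h.V_le_U hy, e⟩))
    have := card_le (img_le_of_le_pre this)
    rw [img_dom] at this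
    omega
  have fx : ∀ g ∈ C{z}, ∀ c ∈ ι.range ⊓ C[zpowers φ], ap ρ g * c * (ap ρ g)⁻¹ = c := fun g hg c hc =>
    mul_inv_eq_one.1 (mem_bot.1 (cm2 bot_le (by rw [d3, card_bot]) (by simp [N_bot]) (HZ (rρ g hg)) hc))
  obtain ⟨n, hn', c, hc, e⟩ := dp.isProd.mul _ (rι y (h.V_le_U hy))
  have n1 : n ∉ (⊥ : Subgroup Γ) := fun e' => gen _ HZ (by omega) (by rwa [e, mem_bot.1 e', one_mul])
  have nt : n ∈ C{ap ρ t} := by
    have := hs.act t tC y (h.V_le_U hy)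
    rw [conj_eq_of_mem_C tV hy, e, cjm, fx t tC c hc] at this
    exact mem_C1_comm.1 (mem_C1_iff_conj.2 (mul_right_cancel this).symm)
  obtain ⟨b, hb, hb'⟩ : ∃ b ∈ Uz V z, t * b * t⁻¹ * b⁻¹ ∉ zpowers z := by
    by_contra! e'
    exact ht' (h.mem_Q tC e')
  have bD := cmD h hU hy y2 y3 ht hb
  have DU : Dv V ≤ Uz V z ⊓ Uz V y := (h.D_eq hy y2 y3).le
  have b1 : ap ι (t * b * t⁻¹ * b⁻¹) ∈ ⁅ι.range, zpowers φ⁆ ⊓ C{ap ρ t} := by
    refine mem_inf.2 ⟨?_, mem_C1_comm.1 (mem_C1_iff_conj.2 ?_)⟩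
    · obtain ⟨n', hn', c', hc', e'⟩ := dp.isProd.mul _ (rι b hb)
      rw [ap_mul ι (conj_mem (UN h tC) hb) (inv_mem hb), ap_inv ι hb, hs.act t tC b hb, e', cjm,
        fx t tC c' hc', mul_inv_rev, mul_assoc, mul_inv_cancel_left]
      exact mul_mem (conj_mem tN hn') (inv_mem hn')
    · rw [← hs.act t tC _ (DU bD).1, cj_of_cm ((abl h hU hy y2).comm ht (DU bD).2)]
  have b2 := mem_bot.1 (mul2 bot_le (by rw [d2, card_bot]) b1
    (fun e' => hb' ((hs.ker _ (DU bD).1).1 (mem_bot.1 e'))) (mem_inf.2 ⟨hn', nt⟩) n1)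
  have eD := mul_mem bD (h.V_le_D hy)
  have b3 : ap ι (t * b * t⁻¹ * b⁻¹ * y) = c := by
    rw [ap_mul ι (DU bD).1 (h.V_le_U hy), e, ← mul_assoc, b2, one_mul]
  generalize t * b * t⁻¹ * b⁻¹ * y = a at eD b3
  have aV : a ∉ V := fun e' => by
    by_cases e2 : a ∈ zpowers z
    · exact gen _ HN (by omega) (by rwa [e, ← b3, (hs.ker a (DU eD).1).2 e2, mul_one])
    · have := (hs.ker _ (h.V_le_U (mul_mem e' hy))).2 (mul2 (zV h) (cz2 h) e' e2 hy y1)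
      rw [ap_mul ι (DU eD).1 (h.V_le_U hy), b3] at this
      exact gen _ HZ (by omega) (eq_inv_of_mul_eq_one_right this ▸ inv_mem hc)
  refine y1 ((h.comm_DQ eD aV hy y2).ge.trans ?_ (mem_zpowers y))
  rw [commC]
  refine commutator_le.2 fun q hq x hx => ?_
  rcases (zp2 (esq h.D_ea eD)).1 hx with rfl | rfl
  · simp
  · refine (hs.ker _ (mul_mem (conj_mem (UN h (cV h hq.2)) (DU eD).1) (inv_mem (DU eD).1))).1 ?_
    rw [ap_mul ι (conj_mem (UN h (cV h hq.2)) (DU eD).1) (inv_mem (DU eD).1), ap_inv ι (DU eD).1,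
      hs.act q (cV h hq.2) _ (DU eD).1, b3, fx q (cV h hq.2) c hc, mul_inv_cancel]

end CA

end H12.NG
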