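import Cfsg.Agent.H12.NGA6a

/-!
# Case (A), `|U| = 8`, `W` not abelian: the centralizer of `W`
-/

set_option autoImplicit false
set_option linter.all false

namespace H12.NG.A6

open Subgroup Cfsg H24 H26 H11.ZN H7.NC

universe u

variable {G : Type u} [Group G] [Finite G] {S V A B E H K R T X : Subgroup G}
  {a b d e f g m p q r s t u v w x y z : G}

local notation "⟪" a ", " b "⟫" => a * b * a⁻¹ * b⁻¹

structure B8 (S V : Subgroup G) (z : G) : Prop extends CA S V z where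
  ab : Abl (Uz V z)
  c8 : ♯(Uz V z) = 8
  nW : ¬ Abl (Wv V)

/-- the elements of `Q_y` that centralise `C(U_y) / U_y` -/
def Xf (V : Subgroup G) (y : G) : Subgroup G := Qz y ⊓ Kq C[Uz V y] (Uz V y)

theorem Xf_cj (hm : m ∈ N[V]) (y : G) : Xf V (m * y * m⁻¹) = cj m (Xf V y) := by
  rw [Xf, Xf, cj_inf, cj_Kq, cj_C, CA.Qz_conj, Ucj hm]

theorem cm_inv (a b : G) : ⟪a, b⟫⁻¹ = ⟪b, a⟫ := by group

theorem nrm3 (hV : EA V) (d3 : d ^ 3 = 1) (hd : d ∈ N[V]) (dV : V ⊓ C{d} = ⊥) (hw : w ∈ V) :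
    d * (d * w * d⁻¹) * d⁻¹ * w = d * w * d⁻¹ := by
  have h1 := conj_mem hd hw
  have h2 := conj_mem hd h1
  have e : d * (d * (d * w * d⁻¹) * d⁻¹) * d⁻¹ = w := by
    rw [show d * (d * (d * w * d⁻¹) * d⁻¹) * d⁻¹ = d * d * d * w * (d * d * d)⁻¹ by group, ← pow_three', d3]; simp
  have h3 : d * (d * w * d⁻¹) * d⁻¹ * w * (d * w * d⁻¹) ∈ V ⊓ C{d} := by
    refine mem_inf.2 ⟨mul_mem (mul_mem h2 hw) h1, mem_C1_comm.1 (mem_C1_iff_conj.2 ?_)⟩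
    rw [cjm d _ (d * w * d⁻¹), cjm d _ w, e, Abl.comm hV.1 (mul_mem hw h1) h2,
      mul_assoc (d * (d * w * d⁻¹) * d⁻¹) w]
  rw [dV, mem_bot] at h3
  rw [eq_inv_of_mul_eq_one_left h3, inv2 (esq hV h1)]

theorem fixd (hV : EA V) (d3 : d ^ 3 = 1) (hd : d ∈ N[V]) (dV : V ⊓ C{d} = ⊥) (h : ⟪d, g⟫ ∈ V) :
    ∃ v ∈ V, v * g ∈ C{d} := by
  refine ⟨_, conj_mem hd h, mem_C1_comm.1 (mem_C1_iff_conj.2 ?_)⟩
  rw [cjm]
  nth_rw 2 [← nrm3 hV d3 hd dV h]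
  group

namespace B8
variable (h : B8 S V z)
include h

theorem pt (hy : y ∈ V) (h1 : y ≠ 1) : ∃ m ∈ N[V], m * z * m⁻¹ = y ∧ B8 (cj m S) V y := by
  obtain ⟨m, hm, e, h'⟩ := at1 h.toCA hy h1
  exact ⟨m, hm, e, h', abl h.toCA h.ab hy h1, (cardU h.toCA hy h1).trans h.c8, h.nW⟩

theorem cV2 (hy : y ∈ V) (h1 : y ≠ 1) : ♯(Uz V y) ≤ 2 * ♯V := by
  rw [cardU h.toCA hy h1, h.c8, h.card]

theorem exT (hy : y ∈ V) (h1 : y ∉ zpowers z) : ∃ t ∈ Uz V y, t ∈ S ∧ t ∉ Qz z := by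
  obtain ⟨t, ht, ht'⟩ := SetLike.not_le_iff_exists.1 (nQ h.toCA h.ab h.nW hy h1)
  exact ⟨t, ht, (WR h.toCA h.ab (le_Wv hy (fun e => h1 (e ▸ one_mem _)) ht)).1, ht'⟩

theorem cSQ : ♯S = 2 * ♯(Qz z) := by
  obtain ⟨y, hy, y1⟩ := exY h.toCA
  obtain ⟨t, -, h1, h2⟩ := h.exT hy y1
  have c1 := lt2 h.Q_le_S h1 h2
  have c2 := card_mul_relIndex h.Q_le_S
  have c3 : (Qz z).relIndex S ∣ 2 := (h.syl.pi.relIndex _).dvd_of_dvd_mul (b := 3)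
    ((piNat_self Nat.prime_three).compl_of_ne (by norm_num))
    ((relIndex_dvd_of_nml (pcore_nml _ _) h.S_le_C).trans (idx6 h.toCA h.c8))
  have := Nat.mul_le_mul_left ♯(Qz z) (Nat.le_of_dvd two_pos c3)
  omega

theorem idxC : (Qz z).relIndex C{z} = 6 ∧ C{z} ⊓ N[V] ≤ S := by
  have c1 := card_mul_relIndex (QC (z := z))
  have c2 := card_mul_relIndex h.S_le_C
  have c3 := h.cSQ
  have c4 := Nat.le_of_dvd (by norm_num) (idx6 h.toCA h.c8)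
  have c5 := Syl.not_dvd two_prime (h.syl.of_le h.S_le_C le_top)
  have c6 : S.relIndex C{z} ≠ 1 := fun e => h.nle ((relIndex_eq_one.1 e).trans h.nml.norm)
  have c7 : (Qz z).relIndex C{z} = 2 * S.relIndex C{z} :=
    Nat.eq_of_mul_eq_mul_left (card_pos (Qz z)) (by rw [c1, ← c2, c3]; ring)
  have c8 : S.relIndex C{z} = 3 := by omega
  refine ⟨by omega, ?_⟩
  rcases covBy_eq_or (covBy_of_relIndex_prime h.S_le_C (c8 ▸ Nat.prime_three))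
    (le_inf h.S_le_C h.nml.norm) inf_le_left with e | e
  · exact e.le
  · exact absurd (inf_eq_left.1 e) h.nle

theorem CV : C[V] ≤ S := (le_inf (cV h.toCA) (C_le_N V)).trans h.idxC.2

theorem cSR : ♯S = 2 * ♯C[V] := by
  have := card_mul_relIndex (inf_le_left : S ⊓ C[V] ≤ S)
  rw [h.idx_R, inf_eq_right.2 h.CV] at this
  omega

theorem nMS : ¬ N[V] ≤ N[S] := fun e => h.mv fun g hg => by
  have := conj_mem (h.oz ▸ norm_OZ e hg) (mem_zpowers z)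
  rcases (zp2 h.z_sq).1 this with e | e
  · exact absurd (conj_eq_one_iff'.1 e) h.z1
  · exact mem_C1_iff_conj.2 e

theorem idxM : C[V].relIndex N[V] = 6 := by
  have c1 := card_mul_relIndex (C_le_N V)
  have c2 := card_mul_relIndex h.nml.norm
  have c3 := h.cSR
  have c4 := Nat.le_of_dvd (by norm_num) (six h.ea h.card le_rfl)
  have c5 := Syl.not_dvd two_prime (h.syl.of_le h.nml.norm le_top)
  have c6 : S.relIndex N[V] ≠ 1 := fun e => h.mv ((relIndex_eq_one.1 e).trans h.S_le_C)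
  have c7 : C[V].relIndex N[V] = 2 * S.relIndex N[V] :=
    Nat.eq_of_mul_eq_mul_left (card_pos C[V]) (by rw [c1, ← c2, c3]; ring)
  omega

theorem WC : Wv V ≤ C[V] := (WR h.toCA h.ab).trans inf_le_right
theorem YC : C[Uz V z] ≤ C[V] := C_anti h.V_le_U
theorem UW : Uz V z ≤ Wv V := le_Wv h.z_mem h.z1

theorem cmV (hy : y ∈ V) (h1 : y ≠ 1) (hr : r ∈ C[V]) (hp : p ∈ Uz V y) : ⟪r, p⟫ ∈ V :=
  cm2 (VU h.toCA hy h1) (h.cV2 hy h1) (C_le_N V hr) (CU h.toCA hy h1 hr) hp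

theorem cmul (hy : y ∈ V) (h1 : y ≠ 1) (hr : r ∈ C[V]) (hs : s ∈ C[V]) (hp : p ∈ Uz V y) :
    ⟪(r * s), p⟫ = ⟪r, p⟫ * ⟪s, p⟫ := by
  rw [Abl.comm h.ea.1 (h.cmV hy h1 hr hp) (h.cmV hy h1 hs hp), ← conj_eq_of_mem_C hr (h.cmV hy h1 hs hp)]
  group

theorem cmE (hy : y ∈ V) (h1 : y ≠ 1) (hr : r ∈ C[V]) (hp : p ∈ Uz V y) (hp' : p ∉ V) (hq : q ∈ Uz V y)
    (hq' : q ∉ V) : ⟪r, p⟫ = ⟪r, q⟫ := by
  have e := mul2 (VU h.toCA hy h1) (h.cV2 hy h1) (inv_mem hq) (fun e => hq' (inv_mem_iff.1 e)) hp hp'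
  rw [show p = q * (q⁻¹ * p) by group, cjm, conj_eq_of_mem_C hr e]
  group

theorem genU (hy : y ∈ V) (h1 : y ≠ 1) (hp : p ∈ Uz V y) (hp' : p ∉ V) (h2 : V ≤ T) (h3 : p ∈ T) :
    Uz V y ≤ T := gen2 (VU h.toCA hy h1) (h.cV2 hy h1) hp hp' h2 h3

theorem nz8 (hy : y ∈ V) (h1 : y ∉ zpowers z) (ha : a ∈ Uz V z) (ha' : a ∉ V) (hb : b ∈ Uz V y)
    (hb' : b ∉ V) : ⟪b, a⟫ ∉ zpowers z := fun e => by
  have y1 : y ≠ 1 := fun e => h1 (e ▸ one_mem _)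
  have bC := UC h.toCA h.ab hy y1 hb
  refine nQ h.toCA h.ab h.nW hy h1 (h.genU hy y1 hb hb' h.V_le_Q
    (h.mem_Q (cV h.toCA bC) fun c hc => ?_))
  by_cases e' : c ∈ V
  · rw [conj_eq_of_mem_C bC e']; simp
  · rwa [h.cmE h.z_mem h.z1 bC hc e' ha ha']

theorem cm8 (hy : y ∈ V) (h1 : y ∉ zpowers z) (ha : a ∈ Uz V z) (ha' : a ∉ V) (hb : b ∈ Uz V y)
    (hb' : b ∉ V) : ⟪b, a⟫ = z * y := by
  have y1 : y ≠ 1 := fun e => h1 (e ▸ one_mem _)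
  obtain ⟨m, -, -, h'⟩ := h.pt hy y1
  have k1 := h.nz8 hy h1 ha ha' hb hb'
  have k2 := h'.nz8 h.z_mem (nz h'.toCA h.z1 fun e => h1 (e ▸ mem_zpowers _)) hb hb' ha ha'
  rcases memV h.toCA hy h1 (h.cmV h.z_mem h.z1 (UC h.toCA h.ab hy y1 hb) ha) with e | e | e | e
  · exact absurd (e ▸ one_mem _) k1
  · exact absurd (by rw [e]; exact mem_zpowers _) k1
  · exact absurd (by rw [← cm_inv, e]; exact inv_mem (mem_zpowers _)) k2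
  · exact e

theorem zy (hy : y ∈ V) (h1 : y ∉ zpowers z) : z * y ∈ V ∧ z * y ∉ zpowers z :=
  ⟨mul_mem h.z_mem hy, fun e => h1 ((mul_mem_cancel_left (mem_zpowers z)).1 e)⟩

theorem exU' (hy : y ∈ V) (h1 : y ≠ 1) : ∃ p ∈ Uz V y, p ∉ V := by
  obtain ⟨m, -, -, h'⟩ := h.pt hy h1
  exact exU h'.toCA

theorem exW (hu : u ∈ Uz V z) (hu' : u ∉ V) (hv : v ∈ V) : ∃ w ∈ Wv V, ⟪w, u⟫ = v := by
  have k : ∀ y ∈ V, y ∉ zpowers z → ∃ w ∈ Wv V, ⟪w, u⟫ = z * y := fun y hy h1 => by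
    have y1 : y ≠ 1 := fun e => h1 (e ▸ one_mem _)
    obtain ⟨p, hp, hp'⟩ := h.exU' hy y1
    exact ⟨p, le_Wv hy y1 hp, h.cm8 hy h1 hu hu' hp hp'⟩
  obtain ⟨y, hy, h1⟩ := exY h.toCA
  obtain ⟨a, ha, e1⟩ := k y hy h1
  obtain ⟨b, hb, e2⟩ := k _ (h.zy hy h1).1 (h.zy hy h1).2
  rw [← mul_assoc z, h.z_sq, one_mul] at e2
  rcases memV h.toCA hy h1 hv with rfl | rfl | rfl | rfl
  · exact ⟨1, one_mem _, by simp⟩
  · refine ⟨a * b, mul_mem ha hb, ?_⟩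
    rw [h.cmul h.z_mem h.z1 (h.WC ha) (h.WC hb) hu, e1, e2, mul_assoc, esq h.ea hy, mul_one]
  · exact ⟨b, hb, e2⟩
  · exact ⟨a, ha, e1⟩

theorem memY (hu : u ∈ Uz V z) (hu' : u ∉ V) (hr : r ∈ C[V]) (e : ⟪r, u⟫ = 1) : r ∈ C[Uz V z] :=
  mem_C_iff_le_C1.2 (h.genU h.z_mem h.z1 hu hu' (mem_C_iff_le_C1.1 hr)
    (mem_C1_comm.1 (mem_C1_iff_conj.2 (mul_inv_eq_one.1 e))))

theorem RW (hr : r ∈ C[V]) : ∃ y ∈ C[Uz V z], ∃ w ∈ Wv V, r = y * w := by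
  obtain ⟨u, hu, hu'⟩ := exU h.toCA
  obtain ⟨w, hw, e⟩ := h.exW hu hu' (h.cmV h.z_mem h.z1 hr hu)
  refine ⟨r * w, h.memY hu hu' (mul_mem hr (h.WC hw)) ?_, w⁻¹, inv_mem hw, by simp⟩
  rw [h.cmul h.z_mem h.z1 hr (h.WC hw) hu, e, esq h.ea (h.cmV h.z_mem h.z1 hr hu)]

theorem KN : C{z} ≤ N[Kq C[Uz V z] (Uz V z)] := norm_Kq (norm_C (UN h.toCA)) (UN h.toCA)

theorem fK (hf : f ∈ C{z}) (f3 : f ^ 3 = 1) : f ∈ Kq C[Uz V z] (Uz V z) := by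
  obtain ⟨y, hy, y1⟩ := exY h.toCA
  obtain ⟨t, ht, h1, h2⟩ := h.exT hy y1
  refine odd_mem h.KN (pcore_nml _ _) (pcore_pi _ _) h.idxC.1 h.Q_le_S h.S_le_C h.cSQ.le
    (fun e => h2 (pcore_max' h.syl.pi h.S_le_C e h1)) ⟨UN h.toCA (h.S_le_C h1), fun a ha => ?_⟩ h1 h2 hf f3
  rw [← cm_inv]
  exact inv_mem (h.V_le_U (h.cmV hy (fun e => y1 (e ▸ one_mem _)) (h.YC ha) ht))

theorem notC (hg : g ∈ C{z}) (hg' : g ∉ N[V]) (hq : q ∈ C[V]) (h1 : g * q * g⁻¹ ∈ C[V]) : q ∈ C[Uz V z] := by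
  obtain ⟨y, hy, y1⟩ := exY h.toCA
  refine h.memY (conj_mem (UN h.toCA (inv_mem hg)) (h.V_le_U hy))
    (fun e => y1 (infV h.toCA (inv_mem hg) (fun e => hg' (inv_mem_iff.1 e)) hy e)) hq ?_
  rw [show ⟪q, (g⁻¹ * y * g⁻¹⁻¹)⟫ = g⁻¹ * (g * q * g⁻¹ * y * (g * q * g⁻¹)⁻¹ * y⁻¹) * g by group,
    conj_eq_of_mem_C h1 hy]
  simp

theorem exQ : ∃ q ∈ Wv V, q ∈ Qz z ∧ q ∉ C[Uz V z] := by
  obtain ⟨u, hu, hu'⟩ := exU h.toCA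
  obtain ⟨w, hw, e⟩ := h.exW hu hu' h.z_mem
  refine ⟨w, hw, h.mem_Q (cV h.toCA (h.WC hw)) fun c hc => ?_, fun e' => h.z1 ?_⟩
  · by_cases e' : c ∈ V
    · rw [conj_eq_of_mem_C (h.WC hw) e']; simp
    · rw [h.cmE h.z_mem h.z1 (h.WC hw) hc e' hu hu', e]; exact mem_zpowers _
  · rw [← e, conj_eq_of_mem_C e' hu]; simp

theorem exP (hf : f ∈ C{z}) (fV : f ∉ N[V]) : ∃ q ∈ Qz z, ⟪f, q⟫ ∉ C[V] := by
  obtain ⟨q, h1, h2, h3⟩ := h.exQ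
  exact ⟨q, h2, fun e => h3 (h.notC hf fV (h.WC h1) ((mul_mem_cancel_right (inv_mem (h.WC h1))).1 e))⟩

theorem exXf : ∃ x ∈ Xf V z, x ∉ C[V] := by
  obtain ⟨f, fC, fV, f3, -⟩ := exF h.toCA h.c8
  obtain ⟨q, hq, e⟩ := h.exP fC fV
  refine ⟨_, mem_inf.2 ⟨mul_mem (conj_mem (QN fC) hq) (inv_mem hq), ?_⟩, e⟩
  have := mul_mem (h.fK fC f3) (conj_mem (h.KN (QC hq)) (inv_mem (h.fK fC f3)))
  simpa only [mul_assoc] using this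

theorem EU (ha : a ∈ C[Wv V]) (hb : a ∈ Uz V z) : a ∈ V := by
  by_contra e
  obtain ⟨w, hw, e'⟩ := h.exW hb e h.z_mem
  rw [← cm_inv, conj_eq_of_mem_C ha hw] at e'
  exact h.z1 (by simpa using e'.symm)

theorem cEX (he : e ∈ C[Wv V]) (hx : x ∈ Xf V z) : ⟪x, e⟫ ∈ zpowers z := by
  have k : ∀ x ∈ Xf V z, ⟪x, e⟫ ∈ V := fun x hx => h.EU
    (mul_mem (conj_mem (norm_C Wv_N (QM h.toCA hx.1)) he) (inv_mem he)) (hx.2.2 e (C_anti h.UW he))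
  obtain ⟨f, fC, fV, f3, -⟩ := exF h.toCA h.c8
  have h1 : f * x * f⁻¹ ∈ Xf V z := conj_mem (norm_inf QN h.KN fC) hx
  have h2 := (h.fK fC f3).2 e (C_anti h.UW he)
  refine infV h.toCA fC fV (k x hx) ?_
  have := mul_mem (zV h.toCA (cQ h.toCA h1.1 h2)) (conj_mem (QM h.toCA (h.U_le_Q h2)) (k _ h1))
  convert this using 1; group

theorem cER (he : e ∈ C[Wv V]) (hr : r ∈ C[V]) (h1 : ⟪r, e⟫ ∈ V) : ⟪r, e⟫ ∈ zpowers z := by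
  obtain ⟨f, fC, fV, f3, -⟩ := exF h.toCA h.c8
  obtain ⟨y, hy, w, hw, rfl⟩ := h.RW hr
  have e1 : ⟪(y * w), e⟫ = ⟪y, e⟫ := by
    rw [cjj, cj_of_cm (comm_of_cent (cents_symm le_rfl) hw he)]
  rw [e1] at h1 ⊢
  refine infV h.toCA fC fV h1 ?_
  have eY := C_anti h.UW he
  have a1 := (h.fK fC f3).2 y hy
  have a2 := (h.fK fC f3).2 e eY
  have k : ∀ a ∈ Uz V z, ∀ b ∈ C[Uz V z], a * b * a⁻¹ = b := fun a ha b hb =>
    conj_eq_of_mem_C (le_CC _ ha) hb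
  have e2 : f * ⟪y, e⟫ * f⁻¹ = ⟪f, y⟫ * (y * ⟪f, e⟫ * y⁻¹ * (y * e * y⁻¹)) * ⟪f, y⟫⁻¹ * e⁻¹ * ⟪f, e⟫⁻¹ := by
    group
  rw [e2, conj_eq_of_mem_C hy a2, k _ a1 _ (mul_mem (h.ab.le_C a2) (mul_mem (mul_mem hy eY) (inv_mem hy))),
    mul_assoc _ _ e⁻¹, k _ a2 _ (h.ab.cents h.V_le_U le_rfl h1)]
  exact h1

theorem OZE : OZ C[Wv V] ≤ V := fun e he => by
  by_contra he'
  have MN : S ⊔ Lv V ≤ N[V] := sup_le h.nml.norm h.L_nml.le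
  have k := h.delta (X := Xf V) (fun y _ _ => inf_le_left) (fun y _ _ m hm => Xf_cj (MN hm) y)
    (fun e => by obtain ⟨x, h1, h2⟩ := h.exXf; exact h2 (e h1)) (OZ_ea _)
    (fun v hv => mem_OZ.2 ⟨cents_symm h.WC hv, cents_symm (C_anti (h.V_le_U.trans h.UW)) hv, h.ea.2 v hv⟩)
    (norm_OZ (norm_C (h.nml.norm.trans Wv_N))) (fun y hy h1 => ?_) he he'
  · obtain ⟨y, hy, y1⟩ := exY h.toCA
    obtain ⟨m, -, -, h'⟩ := h.pt hy fun e => y1 (e ▸ one_mem _)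
    have : ⁅zpowers e, Xf V z ⊓ C[V]⁆ ≤ zpowers y := by
      rw [commC]
      refine commutator_le.2 fun x hx a ha => ?_
      have aE := OZ_le _ ((zpowers_le (G := G)).2 he ha)
      exact h'.cER aE hx.2 (zV h.toCA (h.cEX aE hx.1))
    exact nz h'.toCA h.z1 (fun e => y1 (e ▸ mem_zpowers _)) (this (k ▸ mem_zpowers z))
  · obtain ⟨m, -, -, h'⟩ := h.pt hy h1
    rw [commC]
    exact commutator_le.2 fun x hx a ha => h'.cEX (OZ_le _ ha) hx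

theorem exD : ∃ d ∈ N[V] ⊓ N[S ⊓ C[V]], d ^ 3 = 1 ∧ V ⊓ C{d} = ⊥ := by
  obtain ⟨d, hd, ho, dV⟩ := h.exists_d
  refine ⟨d, mem_inf.2 ⟨h.L_nml.le hd.1, hd.2⟩, (h.syl.pi.piElt (h.CV (cube_C h.ea h.card
    (h.L_nml.le hd.1) ho))).eq_one (PiElt.pow ((piNat_compl_singleton two_prime).2 ?_) 3), dV⟩
  exact Nat.two_dvd_ne_zero.2 (Nat.odd_iff.1 ho)

theorem CW : C[Wv V] = V := by
  have VE : V ≤ C[Wv V] := cents_symm h.WC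
  refine le_antisymm (fun e he => ?_) VE
  obtain ⟨d, hd, d3, dV⟩ := h.exD
  obtain ⟨x, hx, hx'⟩ := h.exXf
  have dK : d ∈ Kq C[Wv V] V := odd_mem (norm_Kq (norm_C Wv_N) le_rfl) (C_nml_N V) (h.syl.pi.of_le h.CV)
    h.idxM h.CV h.nml.norm h.cSR.le h.nMS ⟨QM h.toCA hx.1, fun a ha => zV h.toCA (h.cEX ha hx)⟩
    (h.Q_le_S hx.1) hx' hd.1 d3
  have EC : C[Wv V] ≤ C[V] := C_anti (h.V_le_U.trans h.UW)
  have k : ∀ a ∈ C[Wv V], ∃ v ∈ V, v * a ∈ C[Wv V] ⊓ C{d} := fun a ha => by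
    obtain ⟨v, hv, e⟩ := fixd h.ea d3 hd.1 dV (dK.2 a ha)
    exact ⟨v, hv, mem_inf.2 ⟨mul_mem (VE hv) ha, e⟩⟩
  have k2 : C[Wv V] ⊓ C{d} = ⊥ := by
    by_contra e
    obtain ⟨c, hc, c1⟩ := exists_ne_one (OZ_ne_bot (h.syl.pi.of_le (inf_le_left.trans (EC.trans h.CV))) e)
    obtain ⟨h1, h2, h3⟩ := mem_OZ.1 hc
    refine c1 (mem_bot.1 (dV ▸ mem_inf.2 ⟨h.OZE (mem_OZ.2 ⟨h1.1, mem_C.2 fun a ha => ?_, h3⟩), h1.2⟩))
    obtain ⟨v, hv, e⟩ := k a ha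
    have := mem_C.1 h2 _ e
    rw [mul_assoc, ← mul_assoc c, ← mem_C.1 (EC h1.1) v hv, mul_assoc] at this
    exact mul_left_cancel this
  obtain ⟨v, hv, e'⟩ := k e he
  rw [k2, mem_bot] at e'
  exact eq_inv_of_mul_eq_one_right e' ▸ inv_mem hv

theorem sqR (hr : r ∈ C[V]) : r * r ∈ V := by
  rw [← h.CW]
  refine mem_C_iff_le_C1.2 (Wv_le fun y hy h1 p hp => mem_C1_comm.1 (mem_C1_iff_conj.2
    (mul_inv_eq_one.1 ?_)))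
  rw [h.cmul hy h1 hr hr hp, esq h.ea (h.cmV hy h1 hr hp)]

theorem genW (hy : y ∈ V) (h1 : y ∉ zpowers z) (h2 : Uz V z ≤ T) (h3 : Uz V y ≤ T) (h4 : Uz V (z * y) ≤ T) :
    Wv V ≤ T := Wv_le fun w hw w1 => by
  rcases memV h.toCA hy h1 hw with rfl | rfl | rfl | rfl
  exacts [absurd rfl w1, h2, h3, h4]

theorem cardW : ♯(Wv V) = 32 ∧ Wv V ⊓ C[Uz V z] = Uz V z := by
  obtain ⟨y, hy, y1⟩ := exY h.toCA
  obtain ⟨y2, y3⟩ := h.zy hy y1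
  have n1 : y ≠ 1 := fun e => y1 (e ▸ one_mem _)
  have n2 : z * y ≠ 1 := fun e => y3 (e ▸ one_mem _)
  have c1 := card_sup ((UC h.toCA h.ab hy n1).trans (CU h.toCA h.z_mem h.z1))
  have c2 := card_sup ((UC h.toCA h.ab y2 n2).trans (norm_sup (CU h.toCA h.z_mem h.z1) (CU h.toCA hy n1)))
  have c3 := card_le (le_inf h.V_le_U (VU h.toCA hy n1))
  have c4 := card_le (le_inf (h.V_le_U.trans (le_sup_left (b := Uz V y))) (VU h.toCA y2 n2))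
  have c5 := card_le (h.genW hy y1 (le_sup_left.trans le_sup_left) (le_sup_right.trans le_sup_left) le_sup_right)
  rw [cardU h.toCA hy n1] at c1
  rw [cardU h.toCA y2 n2] at c2
  rw [h.c8] at c1 c2
  rw [h.card] at c3 c4
  have c6 : ♯(Uz V z ⊔ Uz V y) ≤ 16 := by nlinarith
  have c7 : ♯(Wv V) ≤ 32 := by nlinarith
  obtain ⟨q, q1, q2, q3⟩ := h.exQ
  obtain ⟨t, t1, -, t3⟩ := h.exT hy y1
  have c8 := lt2 (inf_le_inf_left (Wv V) fun a ha => mQ h.toCA ha) (mem_inf.2 ⟨q1, q2⟩) fun e => q3 e.2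
  have c9 := lt2 (inf_le_left (b := Qz z)) (le_Wv hy n1 t1) fun e => t3 e.2
  have l := le_inf h.UW h.ab.le_C
  have c10 := card_le l
  rw [h.c8] at c10
  exact ⟨by omega, (eq_of_card_ge l (by rw [h.c8]; omega)).symm⟩

theorem cRY : ♯C[V] = 4 * ♯C[Uz V z] := by
  have p : IsProd C[Uz V z] (Wv V) C[V] := ⟨h.YC, h.WC, fun r hr => h.RW hr⟩
  have := p.card
  rw [inf_comm, h.cardW.2, h.cardW.1, h.c8] at this
  omega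

theorem cjR (hf : f ∈ C{z}) (fV : f ∉ N[V]) (f3 : f ^ 3 = 1) (hx : x ∈ Qz z) :
    ∃ g ∈ zpowers f, g * x * g⁻¹ ∈ C[V] := by
  obtain ⟨y, hy, y1⟩ := exY h.toCA
  have k : ∀ g ∈ zpowers f, ∀ w ∈ V, w ∉ zpowers z → ⟪x, (g⁻¹ * w * g)⟫ = 1 →
      ∃ g ∈ zpowers f, g * x * g⁻¹ ∈ C[V] := fun g hg w hw w1 e => by
    have gC := (zpowers_le (G := G)).2 hf hg
    refine ⟨g, hg, mem_C_iff_le_C1.2 (genV h.toCA hw w1 (mem_C1_comm.1 (QC (conj_mem (QN gC) hx)))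
      (mem_C1_comm.1 (mem_C1_iff_conj.2 ?_)))⟩
    rw [show g * x * g⁻¹ * w * (g * x * g⁻¹)⁻¹ = g * ⟪x, (g⁻¹ * w * g)⟫ * g⁻¹ * w by group, e]; simp
  have fi := inv_mem hf
  have fV' : f⁻¹ ∉ N[V] := fun e => fV (inv_mem_iff.1 e)
  have m1 := conj_mem' (UN h.toCA hf) (h.V_le_U hy)
  have m2 := conj_mem' (UN h.toCA fi) (h.V_le_U hy)
  rcases (zp2 h.z_sq).1 (cQ h.toCA hx m1) with e1 | e1
  · exact k f (mem_zpowers f) y hy y1 e1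
  rcases (zp2 h.z_sq).1 (cQ h.toCA hx m2) with e2 | e2
  · exact k f⁻¹ (inv_mem (mem_zpowers f)) y hy y1 e2
  have n1 : f⁻¹ * y * f ∉ V := fun e => y1 (infV h.toCA fi fV' hy (by rwa [inv_inv]))
  have n2 : f⁻¹⁻¹ * y * f⁻¹ ∉ V := fun e => y1 (infV h.toCA hf fV hy (by rwa [inv_inv] at e))
  refine k 1 (one_mem _) _ (mul2 h.V_le_U (h.cV2 h.z_mem h.z1) m1 n1 m2 n2) (fun e => n2 ?_) ?_
  · have := mul_mem hy (zV h.toCA (conj_mem (zN fi) e))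
    have ff : f⁻¹ * f⁻¹ = f := by rw [← mul_inv_rev, inv_eq_iff_mul_eq_one, ← pow_three', f3]
    have e' := mul_mem this hy
    rw [show y * (f⁻¹ * (f⁻¹ * y * f * (f⁻¹⁻¹ * y * f⁻¹)) * f⁻¹⁻¹) * y =
      y * (f⁻¹ * f⁻¹ * y * (f⁻¹ * f⁻¹)⁻¹) * (y * y) by simp [mul_assoc], ff, esq h.ea hy, mul_one] at e'
    simpa using (mul_mem_cancel_left hy).1 e'
  · rw [inv_one, one_mul, mul_one, cjm, eq_mul_of_mul_inv_eq e1, eq_mul_of_mul_inv_eq e2, mul_assoc z,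
      ← mul_assoc _ z, Abl.comm h.ab m1 (h.V_le_U h.z_mem), mul_assoc z]
    simp [mul_assoc, h.z_sq]

end B8

end H12.NG.A6
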