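import Mathlib
import Cfsg.Agent.H17.NA2
import Cfsg.Agent.H15.LX
import Cfsg.Agent.H25.TwE
import Cfsg.Agent.S1169

/-! N-groups, case (A): the `M₁₂` configuration does not occur. -/

set_option autoImplicit false
set_option linter.unusedSectionVars false
set_option maxRecDepth 100000
namespace H12.NG
open Subgroup Cfsg H24 H11.ZN
open H3.NG H17.NG H17.NA
open H17.NG.TG (val)
open H25.Tw hiding mk R0
universe u
variable {G : Type u} [Group G] [Finite G] {S V : Subgroup G} {z y t t' x u d f : G}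

theorem L2.not_emb₇ [IsSimpleGroup G] (l : L2 G) {ψ : S0 →* G} (h : H25.Tw.Emb ψ)
    (h2 : ∃ x y : G, orderOf x = 2 ∧ orderOf y = 2 ∧ ¬ IsConj x y) : False := by
  obtain ⟨φ, g, hf⟩ := h.fr
  have hp := hf.pat (fun S A hS h1 h2 h3 => by
    obtain ⟨T, rfl⟩ := hS.exists_sylow_top Nat.prime_two
    exact Cfsg.Agent.S1169.result T A h1 h2 h3) h2
  have hO := (l.cent (H25.Tw.Emb.sq z2) (hp.ne_one z1)).core
  obtain ⟨L, hL⟩ := hp.exists_L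
  have e1 := Cfsg.Agent.S0213.result (φ z0) (φ t0) (ord2 (H25.Tw.Emb.sq z2) (hp.ne_one z1))
    (ord2 (H25.Tw.Emb.sq t2') (hp.ne_one t1')) hp.nzt fun w hw =>
      hp.two_classes (H6.mul_self_of_orderOf_two hw) (H6.ne_one_of_orderOf_two hw)
  have e2 := hp.card_Ct hO hL
  rw [hp.n_z hO, hp.n_t hO hL, hp.card_Cz hO, e2] at e1
  rcases hp.m_cases hO hL with e | e <;> rw [e] at e1 e2
  · exact hp.card_ne hO e1
  have c := l.cent (H25.Tw.Emb.sq (φ := φ) t2') (hp.ne_one t1')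
  obtain ⟨X, hX, h5⟩ := exists_card_prime (H := C{φ t0}) Nat.prime_five (by rw [e2]; decide)
  obtain ⟨j, hj, j1⟩ := exists_ne_one (H := X) (by rintro rfl; simp at h5)
  have j5 : j ^ 5 = 1 := by simpa [h5] using congrArg Subtype.val (pow_card_eq_one' (x := (⟨j, hj⟩ : X)))
  have h3 := H15.XP.card_modEq_cent Nat.prime_five j5 ((Q2_nml _).norm (hX hj))
  have h4 : Q2 C{φ t0} ⊓ C{j} < Q2 C{φ t0} := inf_lt_left.2 fun e => j1
    (((pcore_pi _ _).piElt (c.2 ⟨hX hj, mem_C_iff_le_C1.2 e⟩)).eq_one (piElt_of_pow_eq_one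
      ((piNat_compl_singleton two_prime).2 (by decide)) j5))
  have h6 := one_lt_card (ne_bot_of_mem (H := Q2 C{φ t0} ⊓ C{j}) ⟨pcore_max (zp_two (H25.Tw.Emb.sq t2'))
    ⟨zpowers_le_C1 _, CA.zp_norm₁ _⟩ (mem_zpowers _), mem_C1_comm.1 (hX hj)⟩ (hp.ne_one t1'))
  have h7 := (hp.syl_ta (show ta t0 by decide +kernel)).card_dvd (pcore_pi _ _) (pcore_le _ _)
  rw [hp.card, card_C, show cc t0 = 16 by decide +kernel] at h7
  have h8 := card_dvd h4.le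
  have h9 := card_lt h4
  have := Nat.le_of_dvd (by decide) h7
  unfold Nat.ModEq at h3
  generalize ♯(Q2 C{φ t0} ⊓ C{j}) = a, ♯(Q2 C{φ t0}) = b at *
  interval_cases b <;> interval_cases a <;> omega

/-! ### NGA7 -/
theorem M12c.end128 [IsSimpleGroup G] (h : M12c S V z u d f) : ♯S ≠ 128 := fun hS => by
  obtain ⟨φ, m⟩ := h.exists_Wm
  have cR := h.card_R
  have dR := N_le_NC V h.dN.1
  have hW : φ.range = Wv V := eq_of_card_eq (h.range_le m (h.V_le_U.trans (le_sup3 h.z_mem h.z1))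
    (le_sup3 (X := Uz V) h.z_mem h.z1 h.u_mem) (mem_N_sup3 h.dN.1 fun y _ _ => Uz_cj₂ h.dN.1 y))
    (by rw [h.cardW, ← Nat.card_congr (MonoidHom.ofInjective m.inj).toEquiv, TG.card])
  have WR : Wv V ≤ C[V] := hW ▸ by rintro _ ⟨s, rfl⟩; exact h.mem_C m s
  have ix : (Wv V).relIndex C[V] = 2 := by have := card_mul_relIndex WR; rw [h.cardW] at this; omega
  have dW : d ∈ N[Wv V] := mem_N_sup3 h.dN.1 fun y _ _ => Uz_cj₂ h.dN.1 y
  have e : ∀ x, d * (d * x * d⁻¹) * d⁻¹ = d * d * x * (d * d)⁻¹ := fun x => by group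
  have cj : ∀ ρ ∈ C{d}, ∀ a b, ρ * a * ρ⁻¹ = b → ρ * (d * a * d⁻¹) * ρ⁻¹ = d * b * d⁻¹ :=
    fun ρ hρ a b e => by
      rw [← e, show d * (ρ * a * ρ⁻¹) * d⁻¹ = d * ρ * a * (d * ρ)⁻¹ by group, ← mem_C1.1 hρ]; group
  obtain ⟨ρ, ρV, ρd, hρ⟩ : ∃ ρ ∈ C[V], ρ ∈ C{d} ∧ ρ * u * ρ⁻¹ = u * (d * d * z * (d * d)⁻¹) := by
    have hp := H26.coprime_cent_prod (zpowers_le.2 dR) ((h.syl.pi.of_le h.CV).coprime
      (piElt_of_pow_eq_one ((piNat_compl_singleton two_prime).2 (by decide)) h.d3).isPi)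
      ((h.syl.pi.of_le h.CV).sol two_prime)
    have h1 : ⁅C[V], zpowers d⁆ ≤ Wv V := cm_le fun x hx y hy => by
      rw [mul_assoc, mul_assoc, ← mul_assoc y, mul_mem_idx2 ix hx
        (conj_mem (zpowers_le.2 dR hy) (inv_mem hx)), conj_mem_iff (zpowers_le.2 dW hy), inv_mem_iff]
    obtain ⟨ρ, ⟨a1, a2⟩, a3⟩ := SetLike.not_le_iff_exists.1 (show ¬ C[V] ⊓ C[zpowers d] ≤ Wv V from
      fun e => by
        have := card_le (show C[V] ≤ Wv V from fun x hx => by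
          obtain ⟨a, ha, b, hb, rfl⟩ := hp.mul x hx
          exact mul_mem (h1 ha) (e hb))
        rw [h.cardW] at this; omega)
    rw [C_zpowers] at a2
    have key : ∀ ρ ∈ C[V], ρ ∈ C{d} → ρ * u * ρ⁻¹ = u → ρ ∈ Wv V := fun ρ b1 b2 b3 =>
      (h.V_le_U.trans (le_sup3 h.z_mem h.z1)) (h.CW ▸ mem_C_iff_le_C1.2 (hW ▸ h.range_le m
        (mem_C_iff_le_C1.1 b1) (mem_C1_comm.1 (mem_C1_iff_conj.2 b3)) (norm_self _ (mem_C1_comm.1 b2))))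
    have r1 : ∀ v, ρ * u * ρ⁻¹ = u * v → v ∈ V →
        φ (w₇ 23) * ρ * u * (φ (w₇ 23) * ρ)⁻¹ = u * (z * v) := fun v e hv => by
      rw [mul_inv_rev, show ∀ a b, a * ρ * u * (ρ⁻¹ * b) = a * (ρ * u * ρ⁻¹) * b from fun a b => by group, e,
        cjm, conj_eq_of_mem_C (h.mem_C m _) hv, ← mul_assoc, ← m.e1, ← m.e8]
      simp only [← map_mul, ← map_inv]
      exact congrArg (φ · * v) (by decide +kernel)
    have r2 := mul_mem (h.mem_C m (w₇ 23)) a1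
    have r3 := mul_mem (mem_C1_comm.1 (h.d_r m)) a2
    obtain ⟨v, hv, e1⟩ := h.cj_u (one_mem _) (one_mem _) (C_le_N V a1)
      (by simpa using conj_eq_of_mem_C a1 h.z_mem)
    simp only [one_mul, inv_one, mul_one] at e1
    rcases four_cases h.ea h.card h.z_mem h.v2_mem h.z1 (cjne d h.z1) (h.d_ne h.z_mem h.z1).symm hv
      with rfl | rfl | rfl | rfl
    · exact absurd (key ρ a1 a2 (by simpa using e1)) a3
    · exact absurd ((mul_mem_cancel_left (hW.le ⟨_, rfl⟩)).1 (key _ r2 r3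
        (by simpa [h.z_sq] using r1 _ e1 hv))) a3
    · exact ⟨_, r2, r3, h.v3_eq ▸ r1 _ e1 hv⟩
    · exact ⟨ρ, a1, a2, h.v3_eq ▸ e1⟩
  have ρ2 : ρ * ρ = 1 := mem_bot.1 (h.dV ▸ mem_inf.2 ⟨h.sqR ρ ρV, mul_mem ρd ρd⟩)
  have hρ2 := cj ρ ρd _ _ hρ
  have hρ3 := cj ρ ρd _ _ hρ2
  rw [cjm d u, h.ddd] at hρ2 hρ3
  rw [cjm d _ z, e] at hρ3
  obtain ⟨ψ, ψ1, ψ2⟩ := homR φ ρ2
    (show _ * φ (w₇ 1) * _ = φ (w₇ 25) by rw [show w₇ 25 = w₇ 1 * w₇ 24 by decide +kernel, map_mul, m.e1, m.e24, hρ])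
    (show _ * φ (w₇ 2) * _ = φ (w₇ 10) by rw [show w₇ 10 = w₇ 2 * w₇ 8 by decide +kernel, map_mul, m.e2, m.e8, hρ2])
    (show _ * φ (w₇ 4) * _ = φ (w₇ 20) by rw [show w₇ 20 = w₇ 4 * w₇ 16 by decide +kernel, map_mul, m.e4, m.e16, hρ3])
    (conj_eq_of_mem_C ρV (m.e8 ▸ h.z_mem)) (conj_eq_of_mem_C ρV (m.e16 ▸ h.v2_mem))
  have inj : Function.Injective ψ := inj_of₇ ψ (fun s => ∃ t : W0, t ≠ 1 ∧ s = TG.mk t.val)
    (by rintro _ ⟨t, ht, rfl⟩; rw [ψ1, ← map_one φ]; exact m.inj.ne ht) (by decide +kernel)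
  have hR : ψ.range = C[V] := eq_of_card_eq (by
    rintro _ ⟨s, rfl⟩
    rcases (by decide +kernel : ∀ s : R0, ∃ t : W0, s = TG.mk t.val ∨ s = TG.mk t.val * TG.mk 32) s with
      ⟨t, rfl | rfl⟩
    · exact ψ1 t ▸ h.mem_C m t
    · rw [map_mul, ψ1, ψ2]; exact mul_mem (h.mem_C m t) ρV)
    (by rw [← Nat.card_congr (MonoidHom.ofInjective inj).toEquiv, TG.card]; omega)
  have r0 : φ (w₇ 23) = ψ (TG.mk 23) := (ψ1 _).symm
  have hA : C[V] ⊓ C{φ (w₇ 23)} = C[V] ⊓ C{ρ} := by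
    ext a
    refine and_congr_right fun ha => ?_
    obtain ⟨s, rfl⟩ := hR.ge ha
    change _ ∈ C{_} ↔ _ ∈ C{_}
    simp only [mem_C1, r0, ← ψ2, ← map_mul, inj.eq_iff]
    clear ha; revert s; decide +kernel
  have cA : ♯(C[V] ⊓ C{ρ}) ≤ 16 := by
    have : DecidablePred (· ∈ C{(TG.mk 32 : R0)}) := fun w => decidable_of_iff _ mem_C1.symm
    refine (card_le (show C[V] ⊓ C{ρ} ≤ C{TG.mk 32}.map ψ from fun a ⟨h1, h2⟩ => ?_)).trans_eq ?_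
    · obtain ⟨s, rfl⟩ := hR.ge h1
      exact ⟨s, mem_C1.2 (inj (by simpa only [map_mul, ψ2] using mem_C1.1 h2)), rfl⟩
    · rw [card_map_of_injective inj, card_sub, Finset.filter_congr fun w _ => mem_C1]
      decide +kernel
  obtain ⟨k, hk⟩ := tt_simple h.syl (fun e => h.r_u m (mem_C1.2 (e.comm (h.CV h.uC) (h.CV (h.mem_C m _)))))
    h.Q_le_S h.idx_Q ρ2
  obtain ⟨k', hk', sV⟩ := h.line₇ hk
  have sQ := h.comm_mem₂ h.u_mem ((CA.Q_nml₁ z).conj_mem hk' hk)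
  obtain ⟨w, hw⟩ := hR.ge sV
  obtain ⟨t, ht, c, hc, rfl⟩ := (by decide +kernel : ∀ w : R0, w * w = 1 →
    (TG.mk 1 * w * (TG.mk 1)⁻¹ * w⁻¹ = 1 ∨ TG.mk 1 * w * (TG.mk 1)⁻¹ * w⁻¹ = TG.mk 8) →
    ∃ t : W0, val t % 8 = 0 ∧ ∃ c : W0, (c = 1 ∨ c = w₇ 1 ∨ c = w₇ 23) ∧ w = TG.mk (t * c).val) w
    (inj (by rw [map_mul, hw, ← cjm, ← cjm, ρ2]; simp)) (by
      rw [mem_zp2 h.z_sq, ← hw, ← m.e1, ← m.e8, ← ψ1, ← ψ1, ← map_one ψ] at sQ
      simp only [← map_inv, ← map_mul, inj.eq_iff] at sQ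
      exact sQ)
  rw [ψ1, map_mul] at hw
  have h1 : cls S (φ t * φ c) ⊆ (· * (φ t * φ c)) '' V := by
    rintro _ ⟨g, hg, rfl⟩
    have tV := (h.mem_V m).2 ⟨t, ht, rfl⟩
    have : g * φ c * g⁻¹ * (φ c)⁻¹ ∈ V := by
      rcases hc with rfl | rfl | rfl
      · simp
      · obtain ⟨v, hv, e1⟩ := h.cj_u (one_mem _) (one_mem _) (h.nml.norm hg)
          (by simpa using mem_C1_iff_conj.1 (h.S_le_C hg))
        simp only [one_mul, inv_one, mul_one] at e1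
        rw [m.e1, e1]; exact conj_mem (C_le_N V h.uC) hv
      · exact h.cm_r m hg
    exact ⟨_, mul_mem (mul_mem (h.nml.conj_mem hg tV) this) (inv_mem tV), by group⟩
  have h2 := (Set.ncard_le_ncard h1).trans (Set.ncard_image_le)
  have h3 := cls_card S (φ t * φ c)
  rw [← Nat.card_coe_set_eq (V : Set G), SetLike.coe_sort_coe, h.card] at h2
  obtain ⟨T, T2, TA, Tρ, TN⟩ := exists_lt_norm_of_not_syl two_prime (h.syl.pi.of_le (inf_le_left.trans h.CV))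
    (inf_le_right (a := C[V]) (b := C{ρ})) fun e => by
      have h4 := Nat.le_of_dvd (card_pos _) (e.card_dvd ((h.syl.pi.inf_left C{φ t * φ c}).cj (k' * k)⁻¹) (by
        rw [cj_le_iff, inv_inv, cj_C1, hw]
        exact inf_le_right.trans_eq (by congr 2; group)))
      rw [card_cj] at h4
      have := Nat.mul_le_mul h2 (h4.trans cA)
      omega
  rw [← hA] at TN
  replace TN := TN.trans (h.NA_le m)
  obtain ⟨v, hv, v1⟩ := exists_ne_one (T2.inf_C_ne_bot two_prime (ea_pi h.ea) TN (ne_bot_of_mem h.z_mem h.z1))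
  obtain ⟨j, j1, j2, rfl⟩ : ∃ j ∈ N[V], j ∈ C{ρ} ∧ v = j * z * j⁻¹ := by
    have ρd' := mem_C1_comm.1 ρd
    rcases four_cases h.ea h.card h.z_mem h.v2_mem h.z1 (cjne d h.z1) (h.d_ne h.z_mem h.z1).symm hv.1
      with e | e | e | e
    exacts [absurd e v1, ⟨1, one_mem _, one_mem _, by simpa using e⟩, ⟨d, h.dN.1, ρd', e⟩,
      ⟨_, mul_mem h.dN.1 h.dN.1, mul_mem ρd' ρd', e.trans h.v3_eq.symm⟩]
  refine TA.not_ge fun g hg => ⟨?_, Tρ hg⟩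
  have g1 : j⁻¹ * g * j ∈ C{ρ} := mul_mem (mul_mem (inv_mem j2) (Tρ hg)) j2
  obtain ⟨s1, -, -, e1, -, -, a1, ⟨a2, -⟩ | ⟨a2, -⟩⟩ := h.act₇ m (mul_mem (mul_mem (inv_mem j1) (TN hg)) j1)
    (by rw [← mem_cj, cj_C1]; exact mem_C1.2 (hv.2 g hg))
  · exact (conj_mem_iff' (N_le_NC V j1)).1 a2
  have e2 := congrArg (fun x => j⁻¹ * g * j * x * (j⁻¹ * g * j)⁻¹) hρ
  simp only [← m.e1, ← m.e24] at e2
  rw [cjm, cjm, cjm _ (φ _), e1, a2, mem_C1_iff_conj.1 g1, mem_C1_iff_conj.1 (mem_C1_comm.1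
    (inv_mem (mem_C1_comm.1 g1))), ← ψ1, ← ψ1, ← ψ2] at e2
  exact absurd (inj (by simpa only [map_mul, map_inv] using e2)) ((by decide +kernel : ∀ s : W0,
    val s % 8 = 1 → (TG.mk 32 * TG.mk s.val * (TG.mk 32)⁻¹ : R0) ≠ TG.mk s.val * TG.mk (w₇ 16).val) s1 a1)

theorem M12c.end64 [IsSimpleGroup G] (h : M12c S V z u d f) : ♯S ≠ 64 := fun hS => by
  obtain ⟨φ, m⟩ := h.exists_Wm
  have cR := h.card_R
  have hR : φ.range = C[V] := eq_of_card_eq (by rintro _ ⟨s, rfl⟩; exact h.mem_C m s)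
    (by rw [← Nat.card_congr (MonoidHom.ofInjective m.inj).toEquiv, TG.card]; omega)
  obtain ⟨x, xQ, x2, xV⟩ := h.exists_x m
  have xz := (CA.Q_nml₁ z).le xQ
  have xv := four_mv h.ea h.card h.z_mem h.v2_mem h.z1 (cjne d h.z1) (h.d_ne h.z_mem h.z1).symm
    (h.Q_le_N₁ xQ) xz xV
  obtain ⟨b, hb⟩ := hR.ge (conj_mem (N_le_NC V (h.Q_le_N₁ xQ)) (h.mem_C m (w₇ 5)))
  obtain ⟨t, ht, xt⟩ : ∃ t, (t = w₇ 1 ∨ t = w₇ 17) ∧ x * φ t * x⁻¹ = φ t := by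
    rcases (mem_zp2 h.z_sq).1 (cm_symm (h.comm_mem₂ h.u_mem xQ)) with e | e
    · exact ⟨_, Or.inl rfl, m.e1 ▸ mul_inv_eq_one.1 e⟩
    · refine ⟨_, Or.inr rfl, ?_⟩
      rw [show w₇ 17 = w₇ 1 * w₇ 16 by decide +kernel, map_mul, cjm, m.e1, m.e16, xv,
        mul_inv_eq_iff_eq_mul.1 e, h.uC z h.z_mem, mul_assoc, mml h.z_sq]
  obtain ⟨ψ, ψ1, ψ2, ψ3, ψ4, ψ5⟩ := homS φ x2 (m.inj (by
    rw [map_mul, hb, ← cjm, ← map_mul, show w₇ 5 * w₇ 5 = w₇ 16 by decide +kernel, m.e16, xv, m.e24,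
      h.v3_eq])) ht hb.symm xt
  rw [m.e8] at ψ5
  have inj : Function.Injective ψ := inj_of₇ ψ (· = z0) (by rintro _ rfl; exact ψ5 ▸ h.z1)
    (by decide +kernel)
  have hψ : ψ.range = S := eq_of_card_eq (by
    rintro _ ⟨s, rfl⟩
    obtain ⟨a, b, c, d, rfl⟩ := (by decide +kernel : ∀ s : S0, ∃ a b : Fin 4, ∃ c d : Fin 2,
      s = x0 ^ a.1 * y0 ^ b.1 * t0 ^ c.1 * e0 ^ d.1) s
    simp only [map_mul, map_pow, ψ1, ψ2, ψ3, ψ4]
    exact mul_mem (mul_mem (mul_mem (pow_mem (h.CV (h.mem_C m _)) _) (pow_mem (h.CV (h.mem_C m _)) _))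
      (pow_mem (h.CV (h.mem_C m _)) _)) (pow_mem (h.Q_le_S xQ) _))
    (by rw [← Nat.card_congr (MonoidHom.ofInjective inj).toEquiv, card_S0, hS])
  have tU : ψ t0 ∈ Uz V z := by
    rcases ht with rfl | rfl
    · exact ψ3 ▸ m.e1 ▸ h.u_mem
    · rw [ψ3, show w₇ 17 = w₇ 1 * w₇ 16 by decide +kernel, map_mul, m.e1, m.e16]
      exact mul_mem h.u_mem (h.V_le_U h.v2_mem)
  have zp : ∀ s, ψ s ∈ zpowers z ↔ s = 1 ∨ s = z0 := fun s => by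
    rw [mem_zp2 h.z_sq, ← ψ5, ← map_one ψ, inj.eq_iff, inj.eq_iff]
  have hQ : ⁅Qz z, Qz z⁆ ≤ zpowers z := cm_le fun a ha b hb => by
    have h1 := h.comm_mem₂ tU ha
    have h2 := h.comm_mem₂ tU hb
    obtain ⟨a, rfl⟩ := hψ.ge (h.Q_le_S ha)
    obtain ⟨b, rfl⟩ := hψ.ge (h.Q_le_S hb)
    simp only [← map_inv, ← map_mul, zp] at h1 h2 ⊢
    clear ha hb; revert h2 b; revert a; decide +kernel
  have r2 : φ (w₇ 23) * φ (w₇ 23) = 1 := by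
    rw [← map_mul, show w₇ 23 * w₇ 23 = 1 by decide +kernel, map_one]
  have rV : φ (w₇ 23) ∉ V := fun e => h.r_u m (mem_C1.2 (h.uC _ e).symm)
  refine h.l2.not_emb₇ ⟨inj, hψ ▸ h.syl, ‹_›⟩ ⟨z, φ (w₇ 23), ord2 h.z_sq h.z1,
    ord2 r2 fun e => rV (e ▸ one_mem V), fun e => ?_⟩
  obtain ⟨g, hg⟩ := isConj_iff.1 e
  have eQ := CA.Qz_conj g z
  have cQ : ♯(Qz (φ (w₇ 23))) = 32 := by
    have := card_mul_relIndex h.Q_le_S
    rw [← hg, eQ, card_cj]; rw [h.idx_Q] at this; omega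
  replace hQ := cj_le_cj (g := g) |>.2 hQ
  rw [cj_comm, ← eQ, cj_zpowers, hg] at hQ
  have n := CA.Q_nml₁ (φ (w₇ 23))
  have Vr : V ≤ C{φ (w₇ 23)} := mem_C_iff_le_C1.1 (h.mem_C m _)
  have VQ : V ≤ Qz (φ (w₇ 23)) := by
    have h1 := card_sup (Vr.trans n.norm)
    have h2 := Nat.le_of_dvd (card_pos _) (h.syl.card_dvd ((pcore_pi _ _).sup (ea_pi h.ea)
      (Vr.trans n.norm)) le_top)
    obtain ⟨w, hw, w1⟩ := exists_ne_one (H := Qz (φ (w₇ 23)) ⊓ V) fun e => by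
      rw [e, card_bot, cQ, h.card] at h1; change ♯(Qz _ ⊔ V) ≤ _ at h2; omega
    exact four_le₂ h.card hw.2 (conj_mem h.dN.1 hw.2) w1 (cjne d w1) (h.d_ne hw.2 w1) hw.1
      (n.conj_mem (h.d_r m) hw.1)
  have rQ : zpowers (φ (w₇ 23)) ≤ Qz (φ (w₇ 23)) :=
    pcore_max (zp_two r2) ⟨zpowers_le_C1 _, CA.zp_norm₁ _⟩
  have AQ : C[V] ⊓ C{φ (w₇ 23)} ≤ Qz (φ (w₇ 23)) := fun a ⟨h1, h2⟩ => by
    obtain ⟨s, rfl⟩ := hR.ge h1
    rcases (by decide +kernel : ∀ s : W0, s * w₇ 23 = w₇ 23 * s → val s % 8 = 0 ∨ val (s * w₇ 23) % 8 = 0) s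
      (m.inj (by simpa only [map_mul] using mem_C1.1 h2)) with e | e
    · exact VQ ((h.mem_V m).2 ⟨_, e, rfl⟩)
    · exact (mul_mem_cancel_right (rQ (mem_zpowers _))).1 (VQ ((h.mem_V m).2 ⟨_, e, map_mul _ _ _⟩))
  have QN : Qz (φ (w₇ 23)) ≤ N[V] := (norm_of_comm_le_left ((comm_mono_left AQ).trans (hQ.trans
    (zpowers_le.2 ⟨h.mem_C m _, self_mem_C1 _⟩)))).trans (h.NA_le m)
  have QC : Qz (φ (w₇ 23)) ≤ C[V] := comm_eq_bot'.1 (eq_bot_iff.2 fun a ha => ((mem_zp2 r2).1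
    (hQ (comm_mono_left VQ ha))).resolve_right fun e => rV (e ▸ comm_le_left QN ha))
  exact h.r_u m (n.le ((eq_of_card_eq QC (by omega)).ge h.uC))

theorem CA.ab [IsSimpleGroup G] (h : CA S V z) (h4 : SectionalPRankLE 2 4 G) : ¬ Abl (Uz V z) := fun hU => by
  have hW := h.ab_W h4 hU
  have hE : Uz V z ≤ OZ (Uz V z) := ncl_le fun g hg x hx => mem_OZ.2
    ⟨le_ncl hg hx, Abl.le_C hU (le_ncl hg hx), (ea_cj h.ea g).2 x hx⟩
  have h16 : ♯(Uz V z) ≤ 16 := by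
    have : IsMulCommutative (Uz V z ⧸ (⊥ : Subgroup (Uz V z))) :=
      ⟨⟨fun a b => QuotientGroup.quotientBot.injective (by rw [map_mul, map_mul, hU.is_comm.comm])⟩⟩
    have := h4 (Uz V z) ⊥ ⊤ inferInstance fun a _ => by
      obtain ⟨⟨a, ha⟩, rfl⟩ := QuotientGroup.mk_surjective a
      rw [← QuotientGroup.mk_pow, show (⟨a, ha⟩ : Uz V z) ^ 2 = 1 from Subtype.ext (mem_OZ.1 (hE ha)).2.2]; rfl
    rwa [card_top, Nat.card_congr QuotientGroup.quotientBot.toEquiv] at this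
  obtain ⟨u, d, f, m⟩ := h.ab_str (h.ab_8 h16 hU hW) hU hW
  exact m.cardS.elim m.end64 m.end128

end H12.NG
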