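import Cfsg.Agent.H12.NGC0

/-!
# N-groups of characteristic two type: the configuration of the Tits group
-/

set_option autoImplicit false

namespace H12.NG

open Subgroup Cfsg H24 H11.ZN

universe u

variable {G : Type u} [Group G]

/-- `U = 2⁵`, `C(z) / O₂(C(z))` is a Frobenius group of order twenty -/
structure TitsC (S V : Subgroup G) (z : G) : Prop extends CA S V z where
  ab : Abl (Uz V z)
  nab : ¬ Abl (Wv V)
  cardU : ♯(Uz V z) = 32
  cardD : ♯(Dv V) = 8
  idxC : (Qz z).relIndex C{z} = 20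
  idxF : (Qz z).relIndex (F2 C{z}) = 5
  idxU : ∀ y ∈ V, y ≠ 1 → y ≠ z → (Qz z).relIndex (Uz V y) = 2
  gen : ∀ y ∈ V, y ≠ 1 → y ≠ z → S ≤ Qz z ⊔ (Qz y ⊓ C[V])

end H12.NG
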