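import Cfsg.Agent.H12.NGA2
import Cfsg.Agent.H12.NGC2
import Cfsg.Agent.H1.NGc3

/-!
# N-groups, case (A-II): `U` abelian, `W` not abelian
-/

set_option autoImplicit false

namespace H12.NG

open Subgroup Cfsg H24 H11.ZN

universe u

variable {G : Type u} [Group G] [Finite G] {S V : Subgroup G} {z : G}

theorem CA.ab_gen (h : CA S V z) (hU : Abl (Uz V z)) (hW : ¬ Abl (Wv V)) :
    ♯(Uz V z) = 8 ∨ TitsC S V z := by
  by_cases h8 : ♯(Uz V z) = 8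
  · exact Or.inl h8
  right
  obtain ⟨Γ, _, _, ι, ρ, d⟩ := H1.NG.exists_MD h
  have key : ∀ y ∈ V, y ≠ 1 → y ≠ z → ♯F[ρ.range] = 5 ∧ ♯ρ.range = 20 ∧
      ∀ T, IsPi {2} T → img ρ (Qz y ⊓ C[V]) ≤ T → T ≤ ρ.range → T ≤ img ρ (Qz y ⊓ C[V]) :=
    fun y hy h1 h2 => by
      have cU := d.card_U h
      obtain ⟨-, k2 | ⟨-, -, k4, vm, k5 | ⟨f, hf, g, hg, f1, fg, gf, n₀, hn₀, n₁, hn₁, gen⟩⟩⟩ :=
        H1.NG.run h hU hW hy h1 h2 d
      · omega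
      · exact k5
      · exact (H1.NG.kill h hU hW h8 hy h1 h2 d k4 vm hf hg f1 fg gf hn₀ hn₁ gen).elim
  obtain ⟨y, hy, h1, h2⟩ := H1.NG.exists_y h
  have p := H1.NG.pf h hU hW h8 hy h1 h2
  obtain ⟨k1, k2, -⟩ := key y hy h1 h2
  refine ⟨h, hU, hW, p.cU, p.cD, ?_, ?_, fun y hy h1 h2 => (H1.NG.pf h hU hW h8 hy h1 h2).idx,
    fun y hy h1 h2 => ?_⟩
  · rw [← d.pre_rho, ← card_img ρ le_rfl, img_dom]; exact k2
  · rw [← d.pre_rho, ← card_img ρ (F2_le _), d.F]; exact k1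
  · have TS : Qz y ⊓ C[V] ≤ S := (h.Q1_le hy h1).trans (h.QV_le.trans inf_le_left)
    have := (key y hy h1 h2).2.2 (img ρ S) ((H1.NG.S_pi h).img ρ) (img_mono ρ TS) (img_le_range _ _)
    rwa [img_le_img_iff h.S_le_C (TS.trans h.S_le_C), d.pre_rho, sup_comm] at this

end H12.NG
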