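import Cfsg.Agent.H12.NGC1
import Cfsg.Agent.H12.NGA6a

/-!
# Case (A), `U` and `W` abelian: vocabulary
-/

set_option autoImplicit false

namespace H12.NG

open Subgroup Cfsg H24 H11.ZN

universe u

variable {G : Type u} [Group G]

/-- case (A) with `U` and `W` abelian; `V` dominates all `Y_H` -/
structure CB (S V : Subgroup G) (z : G) : Prop extends CA S V z where
  ys : ∀ H, Ch2 H → S ≤ H → Ys H ≤ V
  abU : Abl (Uz V z)
  abW : Abl (Wv V)

/-- `T` is a Sylow subgroup of `P`, and a normal subgroup contains `O²(P)` or meets `T` inside `O₂(P)` -/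
def Prim (T P : Subgroup G) : Prop := Syl 2 P T ∧ ∀ Y, Y ⊴ P → Od2 P ≤ Y ∨ Y ⊓ T ≤ Q2 P

/-- `K / Q` is a minimal `C ∩ M`-invariant subgroup of `F / Q` -/
structure KD (S V : Subgroup G) (z : G) (K : Subgroup G) : Prop extends CB S V z where
  qk : Qz z ≤ K
  kf : K ≤ F2 C{z}
  nk : C{z} ⊓ N[V] ≤ N[K]
  ne : K ≠ Qz z
  min : ∀ X, Qz z ≤ X → X ≤ K → C{z} ⊓ N[V] ≤ N[X] → X = Qz z ∨ X = K

/-- `P = K (C ∩ M)` -/
def PK (V : Subgroup G) (z : G) (K : Subgroup G) : Subgroup G := K ⊔ (C{z} ⊓ N[V])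

/-- `⟨V^K⟩` -/
abbrev UK (V K : Subgroup G) : Subgroup G := ncl V K

/-- the kernel of `P` on `⟨V^K⟩ / ⟨z⟩` -/
def QK [Finite G] (V : Subgroup G) (z : G) (K : Subgroup G) : Subgroup G :=
  PK V z K ⊓ A6.Kq (UK V K) (zpowers z)

/-- the intersection of the three conjugates of `⟨V^K⟩` under `M` -/
def DK (V K : Subgroup G) : Subgroup G := ⨅ m ∈ N[V], cj m (UK V K)

/-- the product of the neighbours -/
def XK (V : Subgroup G) (z : G) (K : Subgroup G) : Subgroup G :=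
  ⨆ p ∈ PK V z K, ⨆ m ∈ N[V], cj (p * m) (UK V K)

/-- the symmetric part of a critical pair -/
structure CPs (V : Subgroup G) (z : G) (K : Subgroup G) (g m m' : G) : Prop where
  hm : m ∈ N[V]
  m1 : m ∉ C{z}
  hm' : m' ∈ N[V]
  m1' : m' ∉ C{z}
  c1 : cj g (UK V K) ≤ C[cj m (UK V K)]
  c2 : UK V K ≤ C[cj (g * m') (UK V K)]
  x1 : cj g (XK V z K) ≤ cj m (PK V z K)
  x2 : XK V z K ≤ cj (g * m') (PK V z K)
  two : (∃ p ∈ PK V z K, g = m * p * m'⁻¹) ∨ Abl (XK V z K)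

/-- `a` centralises a neighbour and induces a transvection with centre `r` on `⟨V^K⟩ / ⟨z⟩` -/
structure KT (S V : Subgroup G) (z : G) (K : Subgroup G) (m a r : G) : Prop extends KD S V z K where
  hm : m ∈ N[V]
  m1 : m ∉ C{z}
  ac : a ∈ C[cj m (UK V K)]
  a2 : a * a = 1
  rz : r ∉ zpowers z
  ex : ∃ b ∈ UK V K, r = a * b * a⁻¹ * b⁻¹
  all : ∀ u ∈ UK V K, a * u * a⁻¹ * u⁻¹ ∈ zpowers z ⊔ zpowers r

/-- the group generated by the transvections -/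
abbrev AK (V : Subgroup G) (a : G) : Subgroup G := ncl (zpowers a) C[V]

/-- the common axis of the transvections -/
def EK [Finite G] (V : Subgroup G) (z : G) (K : Subgroup G) (a : G) : Subgroup G :=
  UK V K ⊓ A6.Kq (AK V a) (zpowers z)

/-- numerical data when there are `n` components -/
structure Num [Finite G] (V : Subgroup G) (z : G) (K : Subgroup G) (a r : G) (n : ℕ) : Prop where
  e : (EK V z K a).relIndex (UK V K) = 2 ^ n
  rE : r ∈ EK V z K a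
  two : ∀ T ≤ PK V z K, PiNat {2} ((QK V z K).relIndex T) → 2 * (QK V z K).relIndex T ≤ 4 ^ n
  ea : ∀ T ≤ PK V z K, (∀ t ∈ T, t * t ∈ QK V z K) → (QK V z K).relIndex T ≤ 2 ^ n
  a1 : (QK V z K).relIndex (AK V a) = 2 ^ n
  c : 4 ^ n ≤ 2 * (V ⊔ UK V K ⊓ C[Qz z]).relIndex (UK V K)
  mv : ∀ k ∈ PK V z K, k ∉ N[V] → ∃ e ∈ C[V], ∃ v ∈ V,
    (k * e * a * e⁻¹ * k⁻¹) * v * (k * e * a * e⁻¹ * k⁻¹)⁻¹ * v⁻¹ ∉ zpowers z
  sp : ∀ k ∈ PK V z K, k ∉ N[V] → EK V z K a < V ⊔ ncl (cj k V) C[V]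

end H12.NG
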