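import Cfsg.Agent.H12.NGC0

/-!
# N-groups of characteristic two type: vocabulary for pushing up
-/

set_option autoImplicit false

namespace H12.NG

open Subgroup Cfsg H24 H11.ZN

universe u

variable {G : Type u} [Group G]

/-- `V` is a `2`-reduced normal subgroup of `H` -/
structure Red (V H : Subgroup G) : Prop where
  nml : V ⊴ H
  ea : EA V
  red : ∀ X, X ⊴ H → H ⊓ C[V] ≤ X → PiNat {2} ((H ⊓ C[V]).relIndex X) → X ≤ C[V]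

/-- the largest `2`-reduced normal subgroup -/
def Ys (H : Subgroup G) : Subgroup G := sSup {V | Red V H}

/-- `B` is a Sylow subgroup of `P`, `P / O₂(P)` is dihedral, `J(B) ≰ O₂(P)`, `[Ω₁Z(B), P] ≠ 1` -/
structure ParS (B P : Subgroup G) : Prop where
  syl : Syl 2 P B
  ch2 : Ch2 P
  idx : (Q2 P).relIndex B = 2
  dih : ∃ k ∈ P, P ≤ B ⊔ zpowers k ∧ ∀ t ∈ B, t ∉ Q2 P → t * k * t⁻¹ * k ∈ Q2 P
  nJ : ¬ JJ B ≤ Q2 P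
  nZ : ¬ P ≤ C[OZ B]

/-- the four-group `W_P` -/
def WP (P : Subgroup G) : Subgroup G := ⁅OZ (Q2 P), Od2 P⁆

/-- every `2`-local containing `P` has a Sylow subgroup with Baumann subgroup `B` -/
def LocB (B P : Subgroup G) : Prop :=
  ∀ Y : Subgroup G, IsPi {2} Y → Y ≠ ⊥ → P ≤ N[Y] → ∃ T, Syl 2 N[Y] T ∧ Bm T = B

/-- `X` lies in no `2`-local subgroup -/
def NoLoc (X : Subgroup G) : Prop := ∀ Y : Subgroup G, IsPi {2} Y → X ≤ N[Y] → Y = ⊥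

/-- `P = O²(P) T` is a minimal parabolic: `T` is a non-normal Sylow subgroup of `P` lying in a unique
maximal subgroup of `P` -/
structure MinP (T P : Subgroup G) : Prop where
  syl : Syl 2 P T
  nn : ¬ P ≤ N[T]
  uq : ∀ X Y, T ≤ X → T ≤ Y → X ≤ P → Y ≤ P → P ≤ X ⊔ Y → X = P ∨ Y = P

/-- case II: `V = Y*_M` dominates all `Y*_H` -/
structure CII (S M V : Subgroup G) : Prop where
  l2 : L2 G
  syl : Syl 2 ⊤ S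
  le : S ≤ M
  ys : V = Ys M
  nv : M = N[V]
  ne : V ≠ ⊥
  nB : N[Bm S] ≤ M
  par : ∀ P, ParS (Bm S) P → P ≤ M
  other : ∃ H, S ≤ H ∧ Q2 H ≠ ⊥ ∧ ¬ H ≤ M

/-- the product of the other components -/
def Cw (𝓦 : Set (Subgroup G)) (W : Subgroup G) : Subgroup G := sSup {W' | W' ∈ 𝓦 ∧ W' ≠ W}

/-- case II with at least two components -/
structure Om (S M V : Subgroup G) (𝓦 : Set (Subgroup G)) : Prop extends CII S M V where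
  card : ∀ W ∈ 𝓦, ♯W = 4
  sup : V = sSup 𝓦
  ind : ∀ W ∈ 𝓦, W ⊓ Cw 𝓦 W = ⊥
  perm : ∀ m ∈ M, ∀ W ∈ 𝓦, cj m W ∈ 𝓦
  three : ∀ W ∈ 𝓦, ∃ d ∈ M, d ∈ C[Cw 𝓦 W] ∧ W ⊓ C{d} = ⊥
  two : ∃ W ∈ 𝓦, ∃ W' ∈ 𝓦, W ≠ W'
  trans : ∀ W ∈ 𝓦, ∀ W' ∈ 𝓦, ∃ s ∈ S, cj s W = W'
  nf : ∀ W ∈ 𝓦, ∀ y ∈ Cw 𝓦 W, y ≠ 1 → C{y} ≤ M

/-- case II without components -/
structure Oz (S M V : Subgroup G) : Prop extends CII S M V where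
  m5 : ∀ A ≤ M, (∀ a ∈ A, a * a ∈ C[V]) → ¬ A ≤ C[V] →
    2 * (A ⊓ C[V]).relIndex A * ♯(V ⊓ C[A]) ≤ ♯V ∧
      (4 ≤ (A ⊓ C[V]).relIndex A → 4 * (A ⊓ C[V]).relIndex A * ♯(V ⊓ C[A]) ≤ ♯V)

/-- hypotheses of the tensor lemma -/
structure TLc (V X T : Subgroup G) : Prop where
  l2 : L2 G
  ea : EA V
  le : X ≤ V
  ne : X ≠ ⊥
  idx : X.relIndex V = 4
  syl : Syl 2 C[X] T
  nv : T ≤ N[V]
  idxT : (T ⊓ C[V]).relIndex T = 2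
  oz : OZ T = X
  nle : ¬ C[X] ≤ N[V]
  mx : ∀ Y, IsPi {2} Y → Y ≠ ⊥ → N[V] ≤ N[Y] → N[Y] ≤ N[V]
  nc : ∀ g, cj g V ≤ N[V] → V ≤ N[cj g V] → cj g V ≤ C[V]
  ic : ∀ g, V ⊓ cj g V ≠ ⊥ → cj g V ≤ C[V]

/-- the configuration of the L-lemma -/
structure Lc (H T V V₁ : Subgroup G) (v f : G) : Prop where
  le : V₁ ≤ V
  idx : V₁.relIndex V = 2
  vV : v ∈ V
  v1 : v ∉ V₁
  q : V ⊓ Q2 H ≤ V₁
  fF : f ∈ F2 H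
  odd : Odd (orderOf f)
  inv : v * f * v⁻¹ = f⁻¹
  fN : f ∉ N[V]
  cent : ∀ x ∈ V₁, x * f * x⁻¹ * f⁻¹ ∈ Q2 H
  A_le : cj f V₁ ≤ T
  V1_le : V₁ ≤ N[cj f V]
  f_mem : f ∈ V ⊔ cj f V
  D_le : V ⊓ cj f V ≤ V₁ ⊓ cj f V₁
  comm : ⁅V₁, cj f V₁⁆ ≤ V ⊓ cj f V
  cA : cj f V ⊓ C[V] = V ⊓ cj f V
  phi_mem : ∀ a ∈ cj f V₁, v * a * v⁻¹ * a⁻¹ ∈ V₁
  phi_inj : ∀ a ∈ cj f V₁, v * a * v⁻¹ * a⁻¹ ∈ cj f V → a ∈ V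
  phi_surj : ∀ x ∈ V₁, ∃ a ∈ cj f V₁, x * (v * a * v⁻¹ * a⁻¹) ∈ cj f V

end H12.NG
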