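import Mathlib
import Cfsg.Agent.H12.NGM
import Cfsg.Agent.H12.NGC1

/-!
# N-groups: reduced modules, Baumann subgroups, minimal parabolics
-/

set_option autoImplicit false
set_option linter.unusedSectionVars false

namespace H12.NG

open Subgroup Cfsg H24 H11.ZN
open scoped commutatorElement

universe u

variable {G : Type u} [Group G] [Finite G] {V H K H₀ T B P P' P₁ P₂ X Y M S A D D' L : Subgroup G}

theorem relIndex_inf_of_le (h : X ≤ H) (K : Subgroup G) : (H ⊓ K).relIndex X = K.relIndex X := by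
  rw [← inf_relIndex_right, inf_right_comm, inf_eq_right.2 h, inf_relIndex_left]

theorem piNat_relIndex_of_le {π : Set ℕ} (hn : X ≤ N[D]) (hL : L ≤ X) (hD : D ≤ D')
    (h : PiNat π (D.relIndex X)) : PiNat π (D'.relIndex L) := by
  have := relIndex_dvd_of_nml (nml_inf_of_norm hn) hL
  rw [relIndex_inf_of_le hL, inf_relIndex_left] at this
  exact h.dvd ((relIndex_dvd_of_le_left L hD).trans this)

theorem le_sup_syl (hT : Syl 2 H T) (hX : X ⊴ H) (h : PiNat {2} (D.relIndex X)) : X ≤ X ⊓ T ⊔ D :=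
  ((Hall.inf_nml' hT hX).isProd_of_idx inf_le_left (by rwa [inf_relIndex_left])).sup_eq.ge.trans
    (sup_le_sup_left inf_le_right _)

theorem Red.red' (h : Red V H) (hX : X ⊴ H) (h2 : PiNat {2} ((C[V]).relIndex X)) : X ≤ C[V] :=
  le_sup_right.trans (h.red (H ⊓ C[V] ⊔ X) (h.nml.infC.sup hX) le_sup_left (by
    rwa [relIndex_sup_of_norm (hX.le.trans h.nml.infC.norm), relIndex_inf_of_le hX.le]))

theorem Red.mk' (h1 : V ⊴ H) (h2 : EA V) (h3 : ∀ X, X ⊴ H → PiNat {2} ((C[V]).relIndex X) → X ≤ C[V]) :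
    Red V H := ⟨h1, h2, fun X hX _ e => h3 X hX (by rwa [relIndex_inf_of_le hX.le] at e)⟩

theorem Red.le_C (h : Red V H) : Q2 H ≤ C[V] := h.red' (Q2_nml H) ((pcore_pi _ _).relIndex _)

theorem Red.le_Ys (h : Red V H) : V ≤ Ys H := le_sSup h

theorem le_OZ (h1 : V ≤ X) (h2 : V ≤ C[X]) (h3 : EA V) : V ≤ OZ X :=
  fun x hx => mem_OZ.2 ⟨h1 hx, h2 hx, h3.2 x hx⟩

theorem Red.le_Q2 (h : Red V H) : V ≤ Q2 H := pcore_max (ea_pi h.ea) h.nml

theorem Red.le_OZ (h : Red V H) : V ≤ OZ (Q2 H) := NG.le_OZ h.le_Q2 (cents_symm h.le_C) h.ea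

theorem Ys_le' (H : Subgroup G) : Ys H ≤ OZ (Q2 H) := sSup_le fun _ h => Red.le_OZ h

theorem Ys_red' (H : Subgroup G) : Red (Ys H) H :=
  Red.mk' (nml_sSup fun _ h => Red.nml h) (ea_le (OZ_ea _) (Ys_le' H)) fun _ hX e =>
    cents_symm (sSup_le fun _ h => cents_symm (Red.red' h hX
      (e.dvd (relIndex_dvd_of_le_left _ (C_anti (Red.le_Ys h))))))

theorem Ys_red (h : Ch2 H) : Red (Ys H) H := Ys_red' H

theorem Ys_le (h : Ch2 H) : Ys H ≤ OZ (Q2 H) := Ys_le' H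

theorem Red.cj (h : Red V H) (g : G) : Red (cj g V) (cj g H) := by
  refine Red.mk' (h.nml.cj g) (ea_of_sq fun x hx => ?_) fun X hX e => ?_
  · obtain ⟨y, hy, rfl⟩ := mem_cj'.1 hx
    rw [conj_mul, ea_sq h.ea hy, mul_one, mul_inv_cancel]
  · obtain ⟨X, rfl⟩ : ∃ Y, X = H24.cj g Y := ⟨_, (cj_cj_inv g X).symm⟩
    rw [← cj_C, relIndex_cj] at e
    exact cent_cj (h.red' (nml_cj_iff.1 hX) e) g

theorem Ys_cj (g : G) (H : Subgroup G) : Ys (cj g H) = cj g (Ys H) := by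
  refine le_antisymm (le_cj_iff.2 ?_) ((Ys_red' H).cj g).le_Ys
  have := ((Ys_red' (cj g H)).cj g⁻¹).le_Ys
  rwa [cj_inv_cj] at this

theorem le_ncl_self (V H : Subgroup G) : V ≤ ncl V H := le_iSup₂_of_le 1 (one_mem H) (cj_one V).ge

theorem ncl_le_of_le_N (h1 : V ≤ X) (h2 : H ≤ N[X]) : ncl V H ≤ X :=
  iSup₂_le fun _ hg => cj_le_of_mem_N h1 (h2 hg)

theorem le_N_ncl (V H : Subgroup G) : H ≤ N[ncl V H] := fun g hg => mem_N_of_cj_le (by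
  rw [cj_le_iff]
  refine iSup₂_le fun x hx => ?_
  rw [← cj_le_iff, ← cj_mul]
  exact le_iSup₂_of_le (g * x) (mul_mem hg hx) le_rfl)

theorem red_ncl (hT : Syl 2 K T) (h1 : Y ≤ OZ (Q2 K))
    (h2 : ∀ X, X ⊴ K → PiNat {2} ((C[ncl Y K]).relIndex X) → X ⊓ T ≤ C[Y]) : Red (ncl Y K) K := by
  have e := ncl_le_of_le_N h1 (norm_OZ (Q2_nml K).norm)
  refine Red.mk' ⟨e.trans ((OZ_le _).trans (Q2_nml K).le), le_N_ncl Y K⟩ (ea_le (OZ_ea _) e) fun X hX i => ?_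
  exact cents_symm (ncl_le_of_le_N (cents_symm ((le_sup_syl hT hX i).trans
    (sup_le (h2 X hX i) (C_anti (le_ncl_self Y K))))) (norm_C hX.norm))

theorem OZ_le_Ys (h : Ch2 H) (hT : Syl 2 H T) : OZ T ≤ Ys H := by
  have e : OZ T ≤ C[Q2 H] := (OZ_le_C T).trans (C_anti (pcore_le_Hall hT))
  exact (le_ncl_self _ H).trans (red_ncl hT (le_OZ ((le_inf ((OZ_le T).trans hT.le) e).trans h.2) e (OZ_ea T))
    fun _ _ _ => inf_le_right.trans (le_C_OZ T)).le_Ys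

theorem Ys_mono (h : Ch2 H) (h' : Ch2 K) (hT : Syl 2 K T) (h1 : T ≤ H) (h2 : H ≤ K) : Ys H ≤ Ys K := by
  have r := Ys_red' H
  have e : Ys H ≤ C[Q2 K] := (cents_symm r.le_C).trans
    (C_anti (pcore_le_pcore_of_le h2 ((pcore_le_Hall hT).trans h1)))
  exact (le_ncl_self _ K).trans (red_ncl hT (le_OZ ((le_inf (r.nml.le.trans h2) e).trans h'.2) e r.ea)
    fun X hX i => (inf_le_inf_left X h1).trans (r.red' (hX.inf_right h2) (piNat_relIndex_of_le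
      (hX.le.trans (norm_C (le_N_ncl _ K))) inf_le_left (C_anti (le_ncl_self _ K)) i))).le_Ys

theorem Red.sub (h : Red V H) (h1 : V ≤ H₀) (h2 : H₀ ≤ H) (h3 : H ≤ (H ⊓ C[V]) ⊔ H₀) : Red V H₀ :=
  Red.mk' (h.nml.of_le h1 h2) h.ea fun X hX e => le_sup_right.trans (h.red (H ⊓ C[V] ⊔ X)
    ⟨sup_le inf_le_left (hX.le.trans h2), h3.trans (sup_le (norm_of_le le_sup_left)
      (norm_sup (h2.trans h.nml.infC.norm) hX.norm))⟩ le_sup_left (by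
    rwa [relIndex_sup_of_norm ((hX.le.trans h2).trans h.nml.infC.norm), relIndex_inf_of_le (hX.le.trans h2)]))

theorem Ys_eq_OZ (h : Ch2 H) (hT : Syl 2 H T) : Ys H = OZ (T ⊓ C[Ys H]) := by
  have r := Ys_red' H
  have e1 : Ys H ≤ OZ (T ⊓ C[Ys H]) := le_OZ (le_inf (r.le_Q2.trans (pcore_le_Hall hT)) (Abl.le_C r.ea.1))
    (cents_symm inf_le_right) r.ea
  refine le_antisymm e1 ?_
  have s := Hall.inf_nml hT r.nml.infC
  rw [← inf_assoc, inf_eq_left.2 hT.le] at s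
  have n : T ≤ H ⊓ N[T ⊓ C[Ys H]] := le_inf hT.le (norm_inf (norm_self T) (norm_C (hT.le.trans r.nml.norm)))
  have e2 := (e1.trans (OZ_le _)).trans (inf_le_left.trans n)
  have r' := r.sub e2 inf_le_left (Frattini_arg Nat.prime_two r.nml.infC s).sup_eq.ge
  have r2 : Red (OZ (T ⊓ C[Ys H])) (H ⊓ N[T ⊓ C[Ys H]]) :=
    Red.mk' ⟨(OZ_le _).trans (inf_le_left.trans n), norm_OZ inf_le_right⟩ (OZ_ea _) fun X hX i =>
      (le_sup_syl (hT.of_le n inf_le_left) hX i).trans (sup_le ((le_inf inf_le_right (inf_le_left.trans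
        (r'.red' hX (i.dvd (relIndex_dvd_of_le_left _ (C_anti e1)))))).trans (le_C_OZ _)) le_rfl)
  exact r2.le_Ys.trans (Ys_mono (h.norm s.pi (inf_le_left.trans hT.le)) h hT n inf_le_left)

theorem Sec.ker_bot {Γ : Type u} [Group Γ] {ι : V →* Γ} {ρ : H →* Γ} (h : Sec V ⊥ H ι ρ) :
    pre ι ⊥ = ⊥ ∧ pre ρ ⊥ = H ⊓ C[V] := by
  refine ⟨eq_bot_iff.2 fun x hx => (h.ker x (mem_pre_bot.1 hx).1).1 (mem_pre_bot.1 hx).2, ?_⟩
  ext g
  rw [mem_pre_bot]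
  refine and_congr_right fun hg => ?_
  rw [h.kerρ g hg]
  exact ⟨fun e => mem_C'.2 fun x hx => by
    have := mem_bot.1 (e x hx)
    rwa [mul_inv_eq_one, mul_inv_eq_iff_eq_mul] at this,
    fun e x hx => by rw [conj_eq_of_mem_C e hx, mul_inv_cancel]; exact one_mem _⟩

theorem Red.exists_md (h : Red V H) (hs : Sol H) :
    ∃ (Γ : Type u) (_ : Group Γ) (_ : Finite Γ) (ι : V →* Γ) (ρ : H →* Γ),
      Sec V ⊥ H ι ρ ∧ Md ι.range ρ.range := by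
  obtain ⟨Γ, _, _, ι, ρ, e⟩ := exists_sec (K := ⊥) (Nml.bot V) h.nml.norm (by simp)
  refine ⟨Γ, inferInstance, inferInstance, ι, ρ, e, e.md h.nml.norm
    (fun x hx => mem_bot.2 (ea_sq h.ea hx)) hs fun T hT h2 t ht => ?_⟩
  have e1 : IsPi {2} (img ρ T) := isPi_iff_piElt.2 fun z hz => by
    obtain ⟨x, hx, rfl⟩ := (mem_img_of_le hT.le).1 hz
    obtain ⟨n, hn⟩ := h2 x hx
    exact piElt_of_pow_eq_one (fun p hp hd =>
      (Nat.prime_dvd_prime_iff_eq hp Nat.prime_two).1 (hp.dvd_of_dvd_pow hd)) hn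
  have e2 := e1.piNat
  rw [card_img ρ hT.le, e.ker_bot.2, relIndex_inf_of_le hT.le] at e2
  exact (mem_pre_bot.1 (e.ker_bot.2 ▸ mem_inf.2 ⟨hT.le ht, h.red' hT e2 ht⟩)).2

/-- no over-offenders on a reduced module -/
theorem Red.m1 (h : Red V H) (hs : Sol H) (hA : A ≤ H) (h2 : ∀ a ∈ A, a * a ∈ C[V]) :
    (C[V]).relIndex A * ♯(V ⊓ C[A]) ≤ ♯V := by
  obtain ⟨Γ, _, _, ι, ρ, e, m⟩ := h.exists_md hs
  have e1 := m.m1 (A := img ρ A) (ea_of_sq fun z hz => by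
    obtain ⟨x, hx, rfl⟩ := (mem_img_of_le hA).1 hz
    rw [← ap_mul _ (hA hx) (hA hx)]
    exact (mem_pre_bot.1 (e.ker_bot.2 ▸ mem_inf.2 ⟨mul_mem (hA hx) (hA hx), h2 x hx⟩)).2) (img_le_range _ _)
  have c : ∀ X ≤ V, ♯(img ι X) = ♯X := fun X hX => card_img_of_inf ι hX (by rw [e.ker_bot.1, bot_inf_eq])
  rw [card_img ρ hA, e.ker_bot.2, relIndex_inf_of_le hA, ← img_dom ι, c V le_rfl] at e1
  refine le_trans (Nat.mul_le_mul_left _ ?_) e1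
  rw [← c _ inf_le_left]
  refine card_le (le_inf (img_mono _ inf_le_left) fun z hz => mem_C.2 fun w hw => ?_)
  obtain ⟨x, hx, rfl⟩ := (mem_img_of_le inf_le_left).1 hz
  obtain ⟨a, ha, rfl⟩ := (mem_img_of_le hA).1 hw
  rw [← mul_inv_eq_iff_eq_mul, ← e.act a (hA ha) x hx.1, mem_C.1 hx.2 a ha, mul_inv_cancel_right]

/-- `V ≤ J(T)` -/
theorem Red.le_JJ (h : Red V H) (hs : Sol H) (hT : Syl 2 H T) : V ≤ JJ T := by
  obtain ⟨A, hA⟩ := H12.exists_maxEA 2 T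
  have hV := h.le_Q2.trans (pcore_le_Hall hT)
  have e1 := h.m1 hs (hA.le.trans hT.le) fun a ha => by rw [ea_sq hA.ea ha]; exact one_mem _
  have e2 := card_inf_mul_relIndex C[V] A
  have e3 := card_sup (norm_of_cent (inf_le_left : C[V] ⊓ A ≤ C[V]))
  have e4 : ♯(V ⊓ (C[V] ⊓ A)) ≤ ♯(V ⊓ C[A]) :=
    card_le (inf_le_inf_left _ (inf_le_right.trans (Abl.le_C hA.ea.1)))
  refine le_sup_left.trans (hA.of_card_le (B := V ⊔ C[V] ⊓ A) (sup_le hV (inf_le_right.trans hA.le))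
    (H12.ea_sup h.ea (ea_le hA.ea inf_le_right) (cents_symm inf_le_left)) ?_).le_J
  have p := card_pos (V ⊓ C[A])
  refine Nat.le_of_mul_le_mul_right ?_ p
  calc ♯A * ♯(V ⊓ C[A]) = ♯(C[V] ⊓ A) * ((C[V]).relIndex A * ♯(V ⊓ C[A])) := by rw [← e2]; ring
    _ ≤ ♯(C[V] ⊓ A) * ♯V := Nat.mul_le_mul_left _ e1
    _ = _ := by rw [mul_comm, ← e3]
    _ ≤ _ := Nat.mul_le_mul_left _ e4

theorem OZ_Bm (T : Subgroup G) : OZ (Bm T) = OZ (JJ T) := by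
  refine le_antisymm ?_ (le_OZ ((OZ_le _).trans (JJ_le_Bm T)) (cents_symm inf_le_right) (OZ_ea _))
  obtain ⟨A, hA⟩ := H12.exists_maxEA 2 T
  have e := (OZ_le_C (Bm T)).trans (C_anti (JJ_le_Bm T))
  exact le_OZ ((hA.le_of_centralizer ((OZ_le _).trans (Bm_le T)) (e.trans (C_anti hA.le_J))
    (OZ_ea _).2).trans hA.le_J) e (OZ_ea _)

/-- every `2`-subgroup containing the Baumann subgroup of a Sylow subgroup has the same Baumann subgroup -/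
theorem Bm_eq_of_syl (hS : Syl 2 H S) (hT : IsPi {2} T) (hH : T ≤ H) (h : Bm S ≤ T) : Bm T = Bm S := by
  obtain ⟨g, -, hg⟩ := Sylow_subJ Nat.prime_two hS hT hH
  have e1 : JJ S ≤ JJ (cj g S) := (H12.J_eq_sSup S).le.trans (sSup_le fun A hA =>
    ((MaxEA.conj hA g).of_card_le ((MaxEA.le_J hA).trans ((JJ_le_Bm S).trans (h.trans hg))) (MaxEA.ea hA)
      (card_cj g A).le).le_J)
  have e2 := eq_of_card_eq e1 (by rw [JJ_cj, card_cj])
  have e3 : Bm S = Bm (cj g S) :=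
    eq_of_card_eq (le_inf (h.trans hg) (e2 ▸ inf_le_right)) (by rw [Bm_cj, card_cj])
  rw [e3] at h ⊢
  exact Bm_eq h hg

theorem exists_minP (hT : Syl 2 H T) (h1 : T ≤ M) (h2 : H ⊓ N[T] ≤ M) (h3 : ¬ H ≤ M) :
    ∃ P ≤ H, MinP T P ∧ ¬ P ≤ M := by
  obtain ⟨P, hP, ⟨e1, e2⟩, hm⟩ := exists_min (P := fun X => T ≤ X ∧ ¬ X ≤ M) ⟨hT.le, h3⟩
  refine ⟨P, hP, ⟨hT.of_le e1 hP, fun e => e2 ((le_inf hP e).trans h2), fun X Y x1 y1 x2 y2 e => ?_⟩, e2⟩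
  by_contra hn
  push Not at hn
  exact e2 (e.trans (sup_le (by_contra fun e' => hn.1 (hm X ⟨x1, e'⟩ x2))
    (by_contra fun e' => hn.2 (hm Y ⟨y1, e'⟩ y2))))

/-- `T` lies in a unique maximal subgroup -/
def Uq (T P : Subgroup G) : Prop := ∀ X Y, T ≤ X → T ≤ Y → X ≤ P → Y ≤ P → P ≤ X ⊔ Y → X = P ∨ Y = P

theorem Uq.exists_max (h : Uq T P) (h1 : T ≤ P) (h2 : T ≠ P) :
    ∃ M, T ≤ M ∧ M < P ∧ ∀ X, T ≤ X → X ≤ P → X ≤ M ∨ X = P := by
  obtain ⟨M, e1, e2, hm⟩ := H24.exists_max (P := fun X => X < P) (lt_of_le_of_ne h1 h2)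
  refine ⟨M, e1, e2, fun X x1 x2 => or_iff_not_imp_right.2 fun x3 => ?_⟩
  refine le_sup_left.trans (hm (X ⊔ M) (lt_of_le_of_ne (sup_le x2 e2.le) fun e => ?_) le_sup_right).le
  exact (h X M x1 e1 x2 e2.le e.ge).elim x3 e2.ne

theorem Uq.quo (h : Uq T P) (hK : K ⊴ P) (h1 : K ≤ T) (h2 : T ≤ P) : Uq (quo T K) (quo P K) := by
  intro X Y x1 y1 x2 y2 e
  have n := h2.trans hK.norm
  have := h _ _ ((quo_le_iff n).1 x1) ((quo_le_iff n).1 y1) (coq_le_of_le_quo hK x2) (coq_le_of_le_quo hK y2)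
    (coq_sup X Y ▸ (quo_le_iff hK.norm).1 e)
  exact this.imp (fun e => by rw [← e, quo_coq]) fun e => by rw [← e, quo_coq]

theorem Uq.F_sup (h : Uq T P) (hT : Syl 2 P T) (hs : Sol P) (h0 : Q2 P = ⊥) : P ≤ F[P] ⊔ T := by
  rcases eq_or_ne T P with rfl | e
  · exact le_sup_right
  obtain ⟨M, m1, m2, hm⟩ := h.exists_max hT.le e
  have nD := pcore_nml {2}ᶜ P
  have e1 : P ≤ O[{2}ᶜ, P] ⊔ T := by
    have nL := core2_nml {2}ᶜ {2} P
    have s := Hall.inf_nml hT nL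
    have n : T ≤ P ⊓ N[T ⊓ core2 {2}ᶜ {2} P] := le_inf hT.le (norm_inf (norm_self T) (hT.le.trans nL.norm))
    refine (h (O[{2}ᶜ, P] ⊔ T) _ le_sup_right n (sup_le nD.le hT.le) inf_le_left
      ((Frattini_arg Nat.prime_two nL s).sup_eq.ge.trans (sup_le_sup_right
        (s.sd_core2.sup.ge.trans (sup_le_sup_left inf_le_left _)) _))).elim ge_of_eq fun e' => ?_
    have e2 := s.quo_core2
    rw [eq_bot_of_le h0 (pcore_max' s.pi (inf_le_left.trans hT.le) (inf_eq_left.1 e')), H24.quo, img_bot] at e2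
    have e3 := cent_sub_pcore Nat.prime_two (hs.quo O[{2}ᶜ, P]) (pcore_quo_pcore _ _)
    rw [← e2, C_bot, inf_top_eq, le_bot_iff, quo_eq_bot nD.norm] at e3
    exact e3.trans le_sup_left
  have e2 := mt (le_of_syl_le (M := O[{2}ᶜ, P]) (L := M)) fun e => m2.not_ge (e1.trans (sup_le e m1))
  push Not at e2
  obtain ⟨p, hp, -, e2⟩ := e2
  obtain ⟨R, hR, n⟩ := H26.sol_coprime_Sylow_exists hp (hT.le.trans nD.norm)
    ((pcore_pi _ _).coprime' hT.pi) (Or.inr (hs.of_le nD.le))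
  have e3 := (hm (R ⊔ T) le_sup_right (sup_le (hR.le.trans nD.le) hT.le)).resolve_left
    fun e => e2 R hR (le_sup_left.trans e)
  exact e3.ge.trans (sup_le_sup_right ((pcore_max hR.pi (e3 ▸ nml_sup_left n)).trans
    (pcore_le_Fitting hp P)) _)

theorem MinP.F2_sup (h : MinP T P) (hs : Sol P) : P ≤ F2 P ⊔ T := by
  have n := Q2_nml P
  have e := Uq.F_sup (Uq.quo h.uq n (pcore_le_Hall h.syl) h.syl.le) (Hall.img h.syl _ n.norm) (hs.quo _)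
    (pcore_quo_pcore _ _)
  rw [← quo_F2, ← quo_sup ((F2_le P).trans n.norm) (h.syl.le.trans n.norm)] at e
  exact le_of_quo_le n.norm (n.of_le ((Q2_le_F2 P).trans le_sup_left) (sup_le (F2_le P) h.syl.le)) e

theorem Uq.exists_inv (h : Uq T P) (hT : Syl 2 P T) (hs : Sol P) (h0 : Q2 P = ⊥) (h1 : T ≤ M)
    (h2 : M < P) (hA : EA A) (hAT : A ≤ T) (hQ : A ≠ ⊥) : ∃ B ≤ A, B.relIndex A = 2 ∧ ∃ a ∈ A, a ∉ B ∧
      ∃ d ∈ F[P], d ∈ C[B] ∧ d * (a * d⁻¹ * a⁻¹) ∉ M := by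
  obtain ⟨M', m1, m2, hm⟩ := h.exists_max hT.le fun e => h2.not_ge (e ▸ h1)
  have nF := Fitting_nml P
  have oF := odd_Fitting h0
  have nM : ¬ F[P] ≤ M' := fun e => m2.not_ge ((h.F_sup hT hs h0).trans (sup_le e m1))
  have tF := hT.le.trans nF.norm
  have n0 : T ≤ N[F[P] ⊓ M'] := norm_inf tF (norm_of_le m1)
  have n1 : F[P] ≤ N[F[P] ⊓ M'] := by
    have e1 := (Fitting_nil P).proper_norm (lt_of_le_of_ne (inf_le_left : F[P] ⊓ M' ≤ _) (mt inf_eq_left.1 nM))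
    have e2 := (hm (F[P] ⊓ N[F[P] ⊓ M'] ⊔ T) le_sup_right (sup_le (inf_le_left.trans nF.le) hT.le)).resolve_left
      fun e => e1.not_ge (le_inf inf_le_left (le_sup_left.trans e))
    exact nF.le.trans (e2.ge.trans (sup_le inf_le_right n0))
  by_contra hn
  push Not at hn
  have e1 := H26.coprime_abelian_gen_cent (L := centQ A (F[P] ⊓ M')) hA.1 (hAT.trans tF)
    (oF.coprime' (ea_pi hA)) fun B hB ⟨c, hc, e⟩ d hd => (mem_centQ (hAT.trans n0)).2 ⟨n1 hd.1, fun a ha => by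
    by_cases aB : a ∈ B
    · rw [commutatorElement_eq_one_iff_mul_comm.2 (mem_C'.1 hd.2 a aB)]
      exact one_mem _
    have i2 : B.relIndex A = 2 := by
      have e1 : A = B ⊔ zpowers c := le_antisymm e (sup_le hB (zpowers_le.2 hc))
      have e2 := (isProd_sup (Abl.norm hA.1 (zpowers_le.2 hc) hB)).relIndex_dvd
      rw [← e1, card_zpowers'] at e2
      have e3 : orderOf c ∣ 2 := orderOf_dvd_of_pow_eq_one (hA.2 c hc)
      exact ((Nat.dvd_prime Nat.prime_two).1 (e2.trans e3)).resolve_left fun e => aB (relIndex_eq_one.1 e ha)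
    rw [show ⁅d, a⁆ = d * (a * d⁻¹ * a⁻¹) by rw [commutatorElement_def]; group]
    exact ⟨mul_mem hd.1 (conj_mem (tF (hAT ha)) (inv_mem hd.1)),
      (hm M h1 h2.le).resolve_right h2.ne (hn B hB i2 a ha aB d hd.1 hd.2)⟩⟩
  have e2 : A ≤ T ⊓ centQ F[P] (F[P] ⊓ M') := le_inf hAT ((le_centQ n1).2
    ⟨hAT.trans n0, commC F[P] A ▸ ((le_centQ (hAT.trans n0)).1 e1).2⟩)
  have e3 : T ≤ N[T ⊓ centQ F[P] (F[P] ⊓ M')] := norm_inf (norm_self T) (norm_centQ tF n0)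
  have e4 := ((le_centQ n1).1 (inf_le_right : T ⊓ centQ F[P] (F[P] ⊓ M') ≤ _)).2
  have e5 : T ⊓ centQ F[P] (F[P] ⊓ M') ≤ T := inf_le_left
  generalize T ⊓ centQ F[P] (F[P] ⊓ M') = D at e2 e3 e4 e5
  have e6 := (H26.coprime_cent_prod (e5.trans tF) (oF.coprime' (hT.pi.of_le e5)) (hs.of_le nF.le)).sup_eq
  have e7 := (hm (F[P] ⊓ C[D] ⊔ T) le_sup_right (sup_le (inf_le_left.trans nF.le) hT.le)).resolve_left
    fun e => nM (e6.ge.trans (sup_le (commC D F[P] ▸ e4.trans inf_le_right) (le_sup_left.trans e)))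
  exact hQ (eq_bot_of_le h0 (e2.trans (pcore_max' (hT.pi.of_le e5) (e5.trans hT.le)
    (e7.ge.trans (sup_le (norm_of_cent inf_le_right) e3)))))

/-- an element outside `M` inverted by an element of `A` and centralized by a hyperplane -/
theorem MinP.exists_inv (h : MinP T P) (hs : Sol P) (h1 : T ≤ M) (h2 : ¬ P ≤ M) {A : Subgroup G} (hA : EA A)
    (hAT : A ≤ T) (hQ : ¬ A ≤ Q2 P) : ∃ A₁ ≤ A, A₁.relIndex A = 2 ∧ A ⊓ Q2 P ≤ A₁ ∧ ∃ a ∈ A, a ∉ A₁ ∧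
      ∃ f ∈ F2 P, f ∉ M ∧ Odd (orderOf f) ∧ a * f * a⁻¹ = f⁻¹ ∧ ∀ x ∈ A₁, x * f * x⁻¹ * f⁻¹ ∈ Q2 P := by
  have n := Q2_nml P
  have qT := pcore_le_Hall h.syl
  have nA := hAT.trans (h.syl.le.trans n.norm)
  have nM : Q2 P ⊴ P ⊓ M := n.of_le (le_inf n.le (qT.trans h1)) inf_le_left
  have eA : EA (quo A (Q2 P)) := ea_of_sq fun z hz => by
    obtain ⟨x, hx, hx', rfl⟩ := mem_quo.1 hz
    rw [cs, ← ap_mul _ hx' hx', ea_sq hA hx]
    exact cs_of_mem (one_mem _)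
  obtain ⟨B, hB, i2, _, ha0, aB, _, hd0, dB, dM⟩ := Uq.exists_inv (Uq.quo h.uq n qT h.syl.le)
    (Hall.img h.syl _ n.norm) (hs.quo _) (pcore_quo_pcore _ _) (quo_mono _ (le_inf h.syl.le h1))
    ((quo_lt_quo nM n).2 (lt_of_le_of_ne inf_le_left (mt inf_eq_left.1 h2))) eA (quo_mono _ hAT)
    (mt (quo_eq_bot nA).1 hQ)
  have ho := (odd_quo_F2 P).piElt (mul_mem hd0 ((Fitting_nml _).conj_mem
    (quo_mono _ (hAT.trans h.syl.le) ha0) (inv_mem hd0)))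
  have yB := mul_mem dB (conj_mem (norm_C (Abl.norm eA.1 le_rfl hB) ha0) (inv_mem dB))
  rw [← quo_F2] at hd0
  obtain ⟨a, ha, ha', rfl⟩ := mem_quo.1 ha0
  obtain ⟨d, hd, hd', rfl⟩ := mem_quo.1 hd0
  have yF : d * (a * d⁻¹ * a⁻¹) ∈ F2 P :=
    mul_mem hd ((F2_nml P).conj_mem (h.syl.le (hAT ha)) (inv_mem hd))
  have yi : a * (d * (a * d⁻¹ * a⁻¹)) * a⁻¹ = (d * (a * d⁻¹ * a⁻¹))⁻¹ :=
    calc _ = a * d * (a * a) * (a⁻¹ * d⁻¹) * (a * a)⁻¹ := by group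
      _ = a * d * a⁻¹ * d⁻¹ := by rw [ea_sq hA ha]; group
      _ = _ := by group
  have ey : cs (Q2 P) (d * (a * d⁻¹ * a⁻¹)) =
      cs (Q2 P) d * (cs (Q2 P) a * (cs (Q2 P) d)⁻¹ * (cs (Q2 P) a)⁻¹) := by
    rw [cs, ap_mul _ hd' (mul_mem (mul_mem ha' (inv_mem hd')) (inv_mem ha')), ap_conj _ ha' (inv_mem hd'),
      ap_inv _ hd']
  rw [← ey] at ho yB dM
  generalize d * (a * d⁻¹ * a⁻¹) = y at *
  have yN := n.norm (F2_le P yF)
  have hc := constt_mem {2}ᶜ yN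
  have e1 : cs (Q2 P) (constt {2}ᶜ y) = cs (Q2 P) y := by rw [cs, constt_ap _ _ yN, constt_eq_self ho]
  refine ⟨A ⊓ coq (Q2 P) B, inf_le_left, by rwa [inf_relIndex_left, relIndex_coq B nA],
    inf_le_inf_left _ (le_coq B), a, ha, fun e => aB (mem_coq.1 e.2).2, constt {2}ᶜ y, constt_mem _ yF,
    fun e => dM (e1 ▸ cs_mem_quo (mem_inf.2 ⟨F2_le P (constt_mem _ yF), e⟩) hc),
    piElt_odd.1 (piElt_constt _ _), ?_, fun x hx => ?_⟩
  · obtain ⟨k, e⟩ := constt_mem_zpowers {2}ᶜ y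
    rw [← e]
    simp only
    rw [← conj_zpow, yi, inv_zpow]
  · have xN := nA hx.1
    rw [← cs_eq_one (mul_mem (mul_mem (mul_mem xN hc) (inv_mem xN)) (inv_mem hc)), cs,
      ap_mul _ (mul_mem (mul_mem xN hc) (inv_mem xN)) (inv_mem hc), ap_conj _ xN hc, ap_inv _ hc]
    change cs _ x * cs _ _ * (cs _ x)⁻¹ * (cs _ _)⁻¹ = 1
    rw [e1, mem_C.1 yB _ (mem_coq.1 hx.2).2]
    group

end H12.NG
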