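import Cfsg.Agent.H12.NGBk
import Cfsg.Agent.H26.NB1

/-! Case (A), `U` and `W` abelian: the centraliser of a point of `D`
(the other statements of this block are in `H26/NB1`) -/

set_option autoImplicit false
set_option linter.unusedSectionVars false
set_option linter.unusedVariables false

namespace H12.NG

open Subgroup Cfsg H24 H11.ZN H26 H26.NB A6
open H3.NG (cm_le mem_of_sq mem_zp2)

universe u

variable {G : Type u} [Group G] [Finite G] {S V K H H₀ T P P₁ P₂ X E K₁ : Subgroup G}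
  {z y a r b g k m m' u x f δ μ μ' : G} {n : ℕ}

theorem CA.exists_cδ (h : CA S V z) (hδ : δ ∈ Dv V) (hδ' : δ ∉ V) (hy : y ∈ V) (y1 : y ≠ 1) :
    ∃ x ∈ Qz y, x ∉ C[V] ∧ x ∈ C{δ} := by
  obtain ⟨x, hx, hx'⟩ := h.ex_x₁ hy y1
  have y2 := ea_sq h.ea hy
  have k : ∀ q ∈ Qz y, q ∉ C{δ} → q * δ * q⁻¹ = y * δ := fun q hq hq' =>
    mul_inv_eq_iff_eq_mul.1 (((mem_zp2 y2).1 (H3.NG.cm_symm (h.comm_DQ₁ hy y1 (H3.NG.cm_mem hδ hq)))).resolve_left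
      fun e => hq' (mem_C1_iff_conj.2 (mul_inv_eq_one.1 e)))
  by_cases e : x ∈ C{δ}
  · exact ⟨x, hx, hx', e⟩
  obtain ⟨q, hq, hq'⟩ := SetLike.not_le_iff_exists.1 fun e' : Qz y ⊓ C[V] ≤ C{δ} => y1 (mem_bot.1 (by
    rw [← comm_eq_bot'.2 (e'.trans (C_zpowers δ).ge), h.comm_DQ hδ hδ' hy y1]
    exact mem_zpowers y))
  refine ⟨x * q, mul_mem hx hq.1, fun e' => hx' ((mul_mem_cancel_right (mem_inf.1 hq).2).1 e'),
    mem_C1_iff_conj.2 ?_⟩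
  calc x * q * δ * (x * q)⁻¹ = x * (q * δ * q⁻¹) * x⁻¹ := by group
    _ = δ := by rw [k q hq.1 hq', H3.NG.cjm, k x hx e, mem_C1_iff_conj.1 (QC hx), H3.NG.mml y2]

theorem KD.Cdelta' (h : KD S V z K) (hm : m ∈ N[V]) (ac : a ∈ C[cj m (UK V K)]) (aS : a ∈ S)
    (hδ : δ ∈ DK V K) (hδ' : δ ∉ V) (hf : f ∈ K) (hc : f ∈ C{δ}) :
    a * f * a⁻¹ * f⁻¹ ∈ Qz z := by
  have c := h.toCA
  have dD := h.DK_le_D hδ
  have dU := c.D_le_U₂ dD
  have d2 := ea_sq c.D_ea dD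
  have d1 : δ ≠ 1 := fun e => hδ' (e ▸ one_mem _)
  have aV : a ∈ C[V] := C_anti ((cj_of_mem_N hm).ge.trans (cj_mono m h.V_le_UK)) ac
  have kq : ∀ g ∈ C{z}, g * δ * g⁻¹ * δ⁻¹ ∈ zpowers z → g ∈ Kq (zpowers δ) (zpowers z) := fun g hg e =>
    mem_Kq.2 ⟨zN hg, fun x hx => by
      rcases (mem_zp2 d2).1 hx with rfl | rfl
      · simp
      · exact e⟩
  have od : ∀ k ∈ K ⊓ Kq (zpowers δ) (zpowers z), Odd (orderOf k) → k ∈ C{δ} := fun k hk ho => by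
    refine mem_of_sq ho (mem_C1_iff_conj.2 ?_)
    have e1 : k * k * δ * (k * k)⁻¹ = k * (k * δ * k⁻¹) * k⁻¹ := by group
    rcases (mem_zp2 c.z_sq).1 (hk.2.2 δ (mem_zpowers δ)) with e | e
    · rw [e1, mul_inv_eq_one.1 e, mul_inv_eq_one.1 e]
    · rw [e1, mul_inv_eq_iff_eq_mul.1 e, H3.NG.cjm, mul_inv_eq_iff_eq_mul.1 e,
        mem_C1_iff_conj.1 (h.K_le_C hk.1), H3.NG.mml c.z_sq]
  have sM : S ≤ C{z} ⊓ N[V] := le_inf c.S_le_C c.nml.norm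
  have lM : Lv V ⊔ S ≤ N[V] := sup_le c.L_nml.le c.nml.norm
  refine c.endSR h.abU (H₀ := C{δ}) (T := S ⊓ C{δ}) (K₁ := K ⊓ Kq (zpowers δ) (zpowers z))
    (P₂ := (Lv V ⊔ S) ⊓ C{δ}) (E := V) (y := m * z * m⁻¹) (c.l2.cent d2 d1).1
    (inf_le_left.trans c.S_le_C) (c.syl.pi.inf_left _)
    (le_inf h.qk fun q hq => kq q (QC hq) (c.cm_U₁ dU hq)) (inf_le_left.trans h.kf)
    (norm_inf (inf_le_left.trans (sM.trans h.nk)) (norm_Kq (norm_zpowers_of_cent inf_le_right)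
      (inf_le_left.trans (c.S_le_C.trans zN))))
    ((closure_le _).2 fun k hk => od k hk.1 hk.2)
    (le_inf (inf_le_right.trans (sup_le c.Q_le_S inf_le_left)) inf_le_left) inf_le_right
    (inf_le_inf_right _ le_sup_right) c.V_le_U c.card c.z_mem (inf_le_left.trans lM)
    (le_inf ((inf_le_inf_right _ inf_le_left).trans c.L_inf) (inf_le_left.trans inf_le_right))
    ?_ ?_ (mem_inf.2 ⟨aS, C_le_C1 (DK_le hm hδ) ac⟩) aV (fun k hk ho => cm_le fun q hq j hj => ?_)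
    (fun k hk hk' => (le_Ca (QN (c.S_le_C aS)) (c.F_inf.le (mem_inf.2 ⟨h.kf hk.1, C_le_N V hk'⟩))).2)
    (conj_mem hm c.z_mem) (H3.NG.cjne m c.z1) (fun d hd e k hk => h.comm_QK (h.C_le_QK ?_) hk.1) f
    (mem_inf.2 ⟨hf, kq f (h.K_le_C hf) (by rw [mem_C1_iff_conj.1 hc, mul_inv_cancel]; exact one_mem _)⟩)
  · obtain ⟨x, hx, x1, x2⟩ := c.exists_cδ dD hδ' c.z_mem c.z1
    exact fun e => x1 (e (mem_inf.2 ⟨c.Q_le_S hx, x2⟩))
  · obtain ⟨y, hy, y1, yz⟩ := c.ex_w₁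
    obtain ⟨x, hx, x1, x2⟩ := c.exists_cδ dD hδ' hy y1
    intro e
    have := mem_C1_iff_conj.1 (e (mem_inf.2 ⟨mem_sup_left (CA.Q_le_L₁ hy y1 hx), x2⟩))
    rw [c.mv₁ hy y1 hx x1 c.z_mem c.z1 yz, mul_eq_right] at this
    exact y1 this
  · have j1 := zpowers_le.2 (od k hk ho) hj
    have j2 := zpowers_le.2 (h.K_le_C hk.1) hj
    have j3 : j * (q⁻¹ * δ * q) * j⁻¹ = q⁻¹ * δ * q := by
      have := c.cm_U₁ dU (inv_mem hq)
      rw [inv_inv] at this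
      rcases (mem_zp2 c.z_sq).1 this with e | e
      · rw [mul_inv_eq_one.1 e, mem_C1_iff_conj.1 j1]
      · rw [mul_inv_eq_iff_eq_mul.1 e, H3.NG.cjm, mem_C1_iff_conj.1 j1, mem_C1_iff_conj.1 j2]
    refine mul_mem (mem_C1_iff_conj.2 ?_) (inv_mem j1)
    calc q * j * q⁻¹ * δ * (q * j * q⁻¹)⁻¹ = q * (j * (q⁻¹ * δ * q) * j⁻¹) * q⁻¹ := by group
      _ = δ := by rw [j3]; group
  · have e1 := h.cj_UK_eq (mul_mem (lM hd.1) hm) (one_mem _) (Eq.trans (by group) (e.trans (by group)))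
    rw [cj_one, cj_mul] at e1
    rw [← e1, ← cj_C]
    exact conj_mem_cj d ac

theorem KD.Cdelta (h : KD S V z K) (hm : m ∈ N[V]) (m1 : m ∉ C{z}) (ac : a ∈ C[cj m (UK V K)])
    (a2 : a * a = 1) (hδ : δ ∈ DK V K) (hδ' : δ ∉ V) (hf : f ∈ K) (hc : f ∈ C{δ}) :
    a * f * a⁻¹ * f⁻¹ ∈ Qz z := by
  have c := h.toCA
  have aV : a ∈ C[V] := C_anti ((cj_of_mem_N hm).ge.trans (cj_mono m h.V_le_UK)) ac
  obtain ⟨g, hg, e⟩ := Sylow_Jsub two_prime c.syl_R (H3.NG.zp_two a2) (zpowers_le.2 aV)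
  have gN := C_le_N V hg
  have gz := c.CV_le₁ hg
  have e1 := h.cj_UK_eq (mul_mem gN hm) hm (by
    rw [← conj_eq_of_mem_C hg (conj_mem hm c.z_mem)]
    group)
  have k := h.Cdelta' (a := g * a * g⁻¹) (δ := g * δ * g⁻¹) (f := g * f * g⁻¹) hm
    (by rw [← e1, cj_mul, ← cj_C]; exact conj_mem_cj g ac) (e (conj_mem_cj g (mem_zpowers a))).1
    (conj_mem (DK_nml gN) hδ) (fun e => hδ' ((conj_mem_iff gN).1 e))
    (conj_mem (h.nk (mem_inf.2 ⟨gz, gN⟩)) hf) (by rw [← cj_C1]; exact conj_mem_cj g hc)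
  refine (conj_mem_iff (QN gz)).1 ?_
  convert k using 1
  group

end H12.NG
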