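import Cfsg.Agent.H12.NGBp
import Cfsg.Agent.H28.NT1

/-! Case (A), `U` and `W` abelian: critical pairs -/

set_option autoImplicit false
set_option linter.unusedSectionVars false
set_option linter.unusedVariables false

namespace H26.NB

open Subgroup Cfsg H24 H11.ZN H12.NG

universe u

variable {G : Type u} [Group G] {M P : Subgroup G} {g w w' m p : G} {n k : ℕ}

/-- the ball `(P M)ⁿ P` -/
def Bl (P M : Subgroup G) : ℕ → Set G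
  | 0 => P
  | n + 1 => {g | ∃ p ∈ P, ∃ m ∈ M, ∃ w ∈ Bl P M n, g = p * m * w}

theorem Bl.cons (hp : p ∈ P) (hm : m ∈ M) (hw : w ∈ Bl P M n) : p * m * w ∈ Bl P M (n + 1) :=
  ⟨p, hp, m, hm, w, hw, rfl⟩

theorem Bl.mulL (hp : p ∈ P) (hw : w ∈ Bl P M n) : p * w ∈ Bl P M n := by
  cases n with
  | zero => exact mul_mem hp hw
  | succ n =>
    obtain ⟨p', hp', m, hm, w, hw, rfl⟩ := hw
    exact ⟨_, mul_mem hp hp', m, hm, w, hw, by group⟩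

theorem Bl.mul (hw : w ∈ Bl P M n) (hw' : w' ∈ Bl P M k) : w * w' ∈ Bl P M (k + n) := by
  induction n generalizing w with
  | zero => exact Bl.mulL hw hw'
  | succ n ih =>
    obtain ⟨p, hp, m, hm, w, hw, rfl⟩ := hw
    rw [mul_assoc]
    exact Bl.cons hp hm (ih hw)

theorem Bl.mulR (hw : w ∈ Bl P M n) (hp : p ∈ P) : w * p ∈ Bl P M n := by
  simpa using Bl.mul (k := 0) hw hp

theorem Bl.one (hm : m ∈ M) : m ∈ Bl P M 1 := by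
  simpa using Bl.cons (n := 0) (one_mem P) hm (one_mem P)

theorem Bl.consM (hm : m ∈ M) (hw : w ∈ Bl P M n) : m * w ∈ Bl P M (n + 1) := Bl.mul (Bl.one hm) hw

theorem Bl.snoc (hw : w ∈ Bl P M n) (hm : m ∈ M) : w * m ∈ Bl P M (n + 1) :=
  add_comm 1 n ▸ Bl.mul hw (Bl.one hm)

theorem Bl.succ (hw : w ∈ Bl P M n) : w ∈ Bl P M (n + 1) := by
  simpa using Bl.snoc hw (one_mem M)

theorem Bl.mono (hw : w ∈ Bl P M n) (h : n ≤ k) : w ∈ Bl P M k := by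
  induction h with
  | refl => exact hw
  | step _ ih => exact Bl.succ ih

theorem Bl.inv (hw : w ∈ Bl P M n) : w⁻¹ ∈ Bl P M n := by
  induction n generalizing w with
  | zero => exact inv_mem hw
  | succ n ih =>
    obtain ⟨p, hp, m, hm, w, hw, rfl⟩ := hw
    rw [mul_inv_rev, mul_inv_rev, ← mul_assoc]
    exact Bl.mulR (Bl.snoc (ih hw) (inv_mem hm)) (inv_mem hp)

theorem Bl.unsnoc (hw : w ∈ Bl P M (n + 1)) : ∃ w' ∈ Bl P M n, ∃ m ∈ M, ∃ p ∈ P, w = w' * m * p := by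
  obtain ⟨p, hp, m, hm, w', hw', e⟩ := Bl.inv hw
  exact ⟨_, Bl.inv hw', _, inv_mem hm, _, inv_mem hp, by rw [← inv_inv w, e]; group⟩

theorem Bl.exists (hg : g ∈ M ⊔ P) : ∃ n, g ∈ Bl P M n :=
  (sup_le (fun _ hm => ⟨1, Bl.one hm⟩) (fun _ hp => ⟨0, hp⟩) : M ⊔ P ≤
    { carrier := {g | ∃ n, g ∈ Bl P M n}
      mul_mem' := fun ⟨_, h1⟩ ⟨_, h2⟩ => ⟨_, Bl.mul h1 h2⟩
      one_mem' := ⟨0, one_mem P⟩
      inv_mem' := fun ⟨_, h1⟩ => ⟨_, Bl.inv h1⟩ }) hg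

theorem sec_cm {Γ : Type u} [Group Γ] {X Z H : Subgroup G} {ι : X →* Γ} {ρ : H →* Γ} {u : G}
    (h : Sec X Z H ι ρ) (n : H ≤ N[X]) (hg : g ∈ H) (hu : u ∈ X) :
    ap ι (g * u * g⁻¹ * u⁻¹) = ap ρ g * ap ι u * (ap ρ g)⁻¹ * (ap ι u)⁻¹ := by
  rw [ap_mul _ (conj_mem (n hg) hu) (inv_mem hu), ap_inv _ hu, h.act g hg u hu]

theorem sec_cm' {Γ : Type u} [Group Γ] {X Z H : Subgroup G} {ι : X →* Γ} {ρ : H →* Γ} {u : G}
    (h : Sec X Z H ι ρ) (n : H ≤ N[X]) (hg : g ∈ H) (hu : u ∈ X) :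
    g * u * g⁻¹ * u⁻¹ ∈ Z ↔ ap ρ g ∈ C{ap ι u} := by
  rw [← h.ker _ (mul_mem (conj_mem (n hg) hu) (inv_mem hu)), sec_cm h n hg hu, mul_inv_eq_one,
    mem_C1_iff_conj]

end H26.NB

namespace H12.NG

open Subgroup Cfsg H24 H11.ZN H26 H26.NB A6
open H3.NG (mem_of_sq mem_zp2 ea_cj cm_symm)

universe u

variable {G : Type u} [Group G] [Finite G] {S V K H H₀ T P P₁ P₂ X E K₁ A : Subgroup G}
  {z y a r b g k m m' u x f δ μ μ' : G} {n : ℕ}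

namespace KD

variable (h : KD S V z K)
include h

theorem cm_cj (ha : a ∈ cj g (UK V K)) (hb : b ∈ cj g (QK V z K)) :
    b * a * b⁻¹ * a⁻¹ ∈ zpowers (g * z * g⁻¹) :=
  (mem_QK.1 ((QK_cj g V z K).ge hb)).2.2 a ((UK_cj g V K).ge ha)

theorem comm_of (ha : a ∈ cj g (UK V K)) (ha' : a ∈ QK V z K) (hb : b ∈ UK V K)
    (hb' : b ∈ cj g (QK V z K)) : a * b = b * a := by
  have c := h.toCA
  by_cases e : g * z * g⁻¹ = z
  · exact h.abU.comm ((cj_le_of_mem_N h.UK_le_U (UN c (mem_C1_iff_conj.2 e))) ha) (h.UK_le_U hb)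
  · rw [← mul_inv_eq_iff_eq_mul, ← mul_inv_eq_one]
    refine ((mem_zp2 c.z_sq).1 ((mem_QK.1 ha').2.2 b hb)).resolve_right fun e1 => ?_
    have := cm_symm (h.cm_cj ha hb')
    rw [e1, mem_zp2 (h.conjG g).toCA.z_sq] at this
    exact this.elim c.z1 fun e2 => e e2.symm

theorem good_C (hn : ∀ w ∈ Bl (PK V z K) N[V] n, cj w (UK V K) ≤ QK V z K)
    (hw : x⁻¹ * y ∈ Bl (PK V z K) N[V] n) : cj y (UK V K) ≤ C[cj x (UK V K)] := by
  rw [← cj_C, le_cj_iff, ← cj_mul]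
  exact le_C_iff.2 fun a ha b hb => h.comm_of ha (hn _ hw ha) hb (le_cj_iff.2 (hn _ (Bl.inv hw)) hb)

theorem good_X (hn : ∀ w ∈ Bl (PK V z K) N[V] (n + 1), cj w (UK V K) ≤ QK V z K)
    (hw : u ∈ Bl (PK V z K) N[V] (n + 1)) : cj u (XK V z K) ≤ PK V z K := by
  obtain ⟨p, hp, μ, hμ, w, hw, rfl⟩ := hw
  refine cj_le_iff.2 (XK_le fun k hk m hm => cj_le_iff.1 ?_)
  rw [← cj_mul]
  refine (h.good_C hn (x := p * μ) (by
    rw [show (p * μ)⁻¹ * (p * μ * w * (k * m)) = w * k * m by group]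
    exact Bl.snoc (Bl.mulR hw hk) hm)).trans ?_
  rw [cj_mul, ← cj_C]
  exact cj_le_of_mem ((C_anti ((cj_of_mem_N hμ).ge.trans (cj_mono μ h.V_le_UK))).trans h.CV_le_P) hp

end KD

theorem KD.exists_CP (h : KD S V z K) :
    ∃ g m m', CPs V z K g m m' ∧ ¬ cj g (UK V K) ≤ QK V z K := by
  have c := h.toCA
  have ex : ∃ n, ¬ ∀ w ∈ Bl (PK V z K) N[V] n, cj w (UK V K) ≤ QK V z K := by
    by_contra e
    have e1 := H28.NT.ea_ncl (S := N[V] ⊔ PK V z K) h.ea_UK fun g hg => by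
      obtain ⟨n, hn⟩ := Bl.exists hg
      have := h.good_C (not_not.1 fun e' => e ⟨n, e'⟩) (x := 1) (y := g) (by simpa using hn)
      rwa [cj_one] at this
    have e2 := le_N_ncl (UK V K) (N[V] ⊔ PK V z K)
    exact h.ne ((inf_eq_left.2 ((h.K_nml.le.trans (le_sup_right.trans e2)).trans (c.uq₂ (ea_pi e1)
      (ne_bot_of_mem (le_ncl_self _ _ h.z_mem_UK) c.z1) (le_sup_left.trans e2)))).symm.trans h.K_inf_M)
  classical
  have h1 := Nat.find_spec ex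
  have h2 := fun n => Nat.find_min ex (m := n)
  have g1 : ∀ w ∈ Bl (PK V z K) N[V] 1, cj w (UK V K) ≤ QK V z K := by
    rintro _ ⟨p, hp, m, hm, p', hp', rfl⟩
    rw [cj_mul, cj_of_mem_N (h.UK_nml.norm hp'), cj_mul]
    refine cj_le_of_mem_N (((h.cj_UK_le_W hm).trans (h.abW.le_C.trans (C_anti ?_))).trans h.C_le_QK)
      (h.QK_nml.norm hp)
    simpa using h.cj_UK_le_W (one_mem _)
  obtain ⟨k, hk⟩ : ∃ k, Nat.find ex = k + 2 := Nat.exists_eq_add_of_le' (not_lt.1 fun e =>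
    h1 fun w hw => g1 w (Bl.mono hw (by omega)))
  rw [hk] at h1
  replace h2 := not_not.1 (h2 (k + 1) (by omega))
  push Not at h1
  obtain ⟨_, ⟨p, hp, m, hm, w1, hw1, rfl⟩, hb⟩ := h1
  obtain ⟨w, hw, μ, hμ, p', hp', rfl⟩ := Bl.unsnoc hw1
  have bad : ¬ cj (m * w * μ) (UK V K) ≤ QK V z K := fun e => hb (by
    rw [show p * m * (w * μ * p') = p * (m * w * μ) * p' by group, cj_mul,
      cj_of_mem_N (h.UK_nml.norm hp'), cj_mul]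
    exact cj_le_of_mem_N e (h.QK_nml.norm hp))
  have w1 := Bl.snoc hw hμ
  have w2 := Bl.consM hm hw
  refine ⟨m * w * μ, m, μ⁻¹, ⟨hm, fun e => bad (h2 _ ?_), inv_mem hμ, fun e => bad (h2 _ ?_),
    h.good_C h2 (by rwa [mul_assoc, inv_mul_cancel_left]), cents_symm ?_, ?_, ?_, ?_⟩, bad⟩
  · exact Bl.snoc (Bl.mulL (h.CM_le_P (mem_inf.2 ⟨e, hm⟩)) hw) hμ
  · exact Bl.mulR w2 (h.CM_le_P (mem_inf.2 ⟨inv_mem_iff.1 e, hμ⟩))
  · have := h.good_C h2 (x := 1) (y := m * w) (by simpa using w2)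
    rwa [cj_one, ← mul_inv_cancel_right (m * w) μ] at this
  · rw [mul_assoc, cj_mul]
    exact cj_mono m (h.good_X h2 w1)
  · rw [mul_inv_cancel_right]
    exact le_cj_iff.2 (h.good_X h2 (Bl.inv w2))
  · rcases k with _ | k
    · exact Or.inl ⟨w, hw, by rw [inv_inv]⟩
    · refine Or.inr (abl_iff.2 (XK_le fun a ha b hb => cents_symm (XK_le fun a' ha' b' hb' =>
        h.good_C h2 (Bl.mono (n := 2) ?_ (by omega)))))
      rw [mul_inv_rev, mul_assoc, ← mul_assoc a⁻¹]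
      exact Bl.consM (inv_mem hb) (Bl.snoc (n := 0) (mul_mem (inv_mem ha) ha') hb')

theorem KD.P2 (h : KD S V z K) (h1 : cj g (UK V K) ≤ PK V z K) (h2 : UK V K ≤ cj g (PK V z K))
    (h3 : ¬ cj g (UK V K) ≤ QK V z K)
    (h4 : ¬ cj g (UK V K) ≤ C[UK V K ⊓ cj g (QK V z K)]) :
    (QK V z K).relIndex (cj g (UK V K)) = 2 ∧ g * z * g⁻¹ ∈ UK V K := by
  have c := h.toCA
  have c' := (h.conjG g).toCA
  have eA := ea_cj h.ea_UK g
  have nB := h.UK_nml.norm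
  have nA : UK V K ≤ N[cj g (UK V K)] := h2.trans (norm_cj nB g)
  have kq : ∀ a ∈ cj g (UK V K), a ∉ C[UK V K ⊓ cj g (QK V z K)] →
      ∃ b ∈ UK V K, a * b * a⁻¹ * b⁻¹ = g * z * g⁻¹ := fun a ha ha' => by
    obtain ⟨b, hb, hb'⟩ := SetLike.not_le_iff_exists.1 (mt mem_C_iff_le_C1.2 ha')
    exact ⟨b, hb.1, ((mem_zp2 c'.z_sq).1 (cm_symm (h.cm_cj ha hb.2))).resolve_left fun e =>
      hb' (mem_C1_comm.1 (mem_C1_iff_conj.2 (mul_inv_eq_one.1 e)))⟩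
  have qB : g * z * g⁻¹ ∈ UK V K := by
    obtain ⟨a, ha, ha'⟩ := SetLike.not_le_iff_exists.1 h4
    obtain ⟨b, hb, e⟩ := kq a ha ha'
    exact e ▸ mul_mem (conj_mem (nB (h1 ha)) hb) (inv_mem hb)
  refine ⟨?_, qB⟩
  obtain ⟨Γ, _, _, ι, ρ, sec, md, ker, hF⟩ := h.md
  obtain ⟨a, ha, a1, a2⟩ : ∃ a ∈ cj g (UK V K), a ∉ QK V z K ∧ (a ∈ C[UK V K ⊓ cj g (QK V z K)] ∨
      cj g (UK V K) ⊓ C[UK V K ⊓ cj g (QK V z K)] ≤ QK V z K) := by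
    by_cases e : cj g (UK V K) ⊓ C[UK V K ⊓ cj g (QK V z K)] ≤ QK V z K
    · obtain ⟨a, ha, ha'⟩ := SetLike.not_le_iff_exists.1 h3
      exact ⟨a, ha, ha', Or.inr e⟩
    · obtain ⟨a, ha, ha'⟩ := SetLike.not_le_iff_exists.1 e
      exact ⟨a, ha.1, ha', Or.inl ha.2⟩
  have aP := h1 ha
  have eA' : EA (img ρ (cj g (UK V K))) := ea_of_sq fun x hx => by
    obtain ⟨a, ha, ha', rfl⟩ := mem_img.1 hx
    rw [← ap_mul _ ha' ha', ea_sq eA ha, ap_one]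
  obtain ⟨B, hB, i2, aB, f, hf, f1, fB, fi⟩ := md.hyper eA' (img_le_range _ _) (ap_mem_img ρ ha aP)
    (mt (ker a aP).1 a1)
  replace fi := fi _ (ap_mem_img ρ ha aP) aB
  rw [← relIndex_pre ρ B h1] at i2
  by_cases e : cj g (UK V K) ⊓ pre ρ B ≤ C[UK V K ⊓ cj g (QK V z K)]
  · rcases a2 with a2 | a2
    · exact absurd ((sup_of_idx2 ((inf_relIndex_left _ _).trans i2) inf_le_left ha
        fun e' => aB (mem_pre.1 e'.2).2).le.trans (sup_le e (zpowers_le.2 a2))) h4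
    · have i3 := relIndex_le_of_le_left (L := cj g (UK V K)) ((le_inf inf_le_left e).trans a2)
        (relIndex_ne_zero' _ _)
      rw [inf_relIndex_left, i2] at i3
      have i4 := relIndex_pos (QK V z K) (cj g (UK V K))
      have i5 := mt relIndex_eq_one.1 h3
      omega
  exfalso
  obtain ⟨a', ha', a3⟩ := SetLike.not_le_iff_exists.1 e
  obtain ⟨b, hb, e1⟩ := kq a' ha'.1 a3
  have a4 := mem_pre.1 ha'.2
  have nW := md.le (img_le_range ρ ⊤ (ap_mem_img ρ (mem_top a') a4.1))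
  have fN : f ∈ N[⁅ι.range, zpowers (ap ρ a')⁆] :=
    mem_N_comm1 (md.nF hf) (norm_zpowers_of_cent le_rfl (C_le_C1 a4.2 fB))
  have aX : ap ρ a ∈ C[⁅ι.range, zpowers (ap ρ a')⁆] := mem_C_iff_le_C1.2 fun x hx => by
    obtain ⟨w, hw, rfl⟩ := (mem_comm1 md.ea.1 nW).1 hx
    obtain ⟨u, hu, -, rfl⟩ := mem_img.1 ((img_dom ι).ge hw)
    have m1 := mul_mem (conj_mem (nB a4.1) hu) (inv_mem hu)
    have m2 : a' * u * a'⁻¹ * u⁻¹ ∈ cj g (UK V K) := by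
      rw [mul_assoc, mul_assoc, ← mul_assoc u]
      exact mul_mem ha'.1 (conj_mem (nA hu) (inv_mem ha'.1))
    rw [← sec_cm sec nB a4.1 hu, mem_C1_comm, ← sec_cm' sec nB aP m1, H3.NG.ea_comm eA ha m2]
    simp
  have fX : f ∈ C[⁅ι.range, zpowers (ap ρ a')⁆] := mem_of_sq (md.odd hf) (by
    have e2 : f * f = f * (ap ρ a)⁻¹ * f⁻¹ * ap ρ a := by rw [← fi]; group
    rw [e2]
    exact mul_mem (conj_mem (N_le_NC _ fN) (inv_mem aX)) aX)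
  have fq : f ∈ C{ap ι (g * z * g⁻¹)} := C_le_C1 ((mem_comm1 md.ea.1 nW).2 ⟨ap ι b,
    (img_dom ι).le (ap_mem_img ι hb hb), by rw [← e1, sec_cm sec nB a4.1 hb]⟩) fX
  obtain ⟨k0, hk0, k1, rfl⟩ := mem_img.1 (hF.ge hf)
  obtain ⟨t, k, t2, k2, t1, hk, e2⟩ := exists_piElt_decomp {2} k0
  replace hk := zpowers_le.2 hk0 hk
  replace t1 := zpowers_le.2 hk0 t1
  have kP := h.K_nml.le hk
  have e3 : ap ρ k0 = ap ρ k := by
    rw [e2, ap_mul _ (h.K_nml.le t1) kP, (ker t (h.K_nml.le t1)).2 (h.Q_le_QK (zpowers_le.1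
      (F2_two t2.isPi (zpowers_le.2 (h.kf t1))))), one_mul]
  rw [e3] at fq fi f1 hf
  have k3 : k ∈ C{g * z * g⁻¹} := by
    refine mem_of_sq (piElt_odd.1 k2) (mem_C1_iff_conj.2 ?_)
    generalize g * z * g⁻¹ = q at qB fq
    have e4 : k * k * q * (k * k)⁻¹ = k * (k * q * k⁻¹) * k⁻¹ := by group
    rcases (mem_zp2 c.z_sq).1 ((sec_cm' sec nB kP qB).2 fq) with e | e
    · rw [e4, mul_inv_eq_one.1 e, mul_inv_eq_one.1 e]
    · rw [e4, mul_inv_eq_iff_eq_mul.1 e, H3.NG.cjm, mul_inv_eq_iff_eq_mul.1 e,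
        mem_C1_iff_conj.1 (h.K_le_C hk), H3.NG.mml c.z_sq]
  have aU : a ∈ Uz (cj g V) (g * z * g⁻¹) := (h.conjG g).UK_le_U ((UK_cj g V K).ge ha)
  have k4 : a * k * a⁻¹ * k⁻¹ ∈ Qz z := F2_two ((ea_pi (h.toCB.conjG g).ea_U).inf_left K)
    (inf_le_right.trans h.kf) (mem_inf.2 ⟨by
      rw [show a * k * a⁻¹ * k⁻¹ = a * (k * a⁻¹ * k⁻¹) by group]
      exact mul_mem aU (conj_mem (UN c' k3) (inv_mem aU)),
      mul_mem (conj_mem (h.K_nml.norm aP) hk) (inv_mem hk)⟩)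
  have k5 := (ker _ (h.K_nml.le (h.qk k4))).2 (h.Q_le_QK k4)
  rw [ap_mul _ (conj_mem (norm_self _ aP) kP) (inv_mem kP), ap_conj _ aP kP, fi, ap_inv _ kP,
    ← mul_inv_rev, inv_eq_one] at k5
  exact f1 ((piElt_two_of_sq k5).eq_one (piElt_odd.2 (md.odd hf)))

namespace KD

variable (h : KD S V z K)
include h

theorem m12 (hA : EA A) (h1 : A ≤ PK V z K) : (QK V z K).relIndex A ≤ C[A].relIndex (UK V K) ∧
    (C[A].relIndex (UK V K) ≤ (QK V z K).relIndex A → ¬ A ≤ QK V z K →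
      ∃ a ∈ A, a ∉ QK V z K ∧ (Ca (zpowers z) a).relIndex (UK V K) ≤ 2) := by
  obtain ⟨Γ, _, _, ι, ρ, sec, md, ker, hF⟩ := h.md
  have nB := h.UK_nml.norm
  have bz : UK V K ≤ N[zpowers z] := (h.UK_nml.le.trans h.P_le_C).trans zN
  have eA : EA (img ρ A) := ea_of_sq fun x hx => by
    obtain ⟨a, ha, ha', rfl⟩ := mem_img.1 hx
    rw [← ap_mul _ ha' ha', ea_sq hA ha, ap_one]
  have e1 : ♯(img ρ A) = (QK V z K).relIndex A := by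
    rw [card_img ρ h1]
    congr 1
    exact le_antisymm (fun x hx => (ker x (mem_pre_bot.1 hx).1).1 (mem_pre_bot.1 hx).2)
      fun x hx => mem_pre_bot.2 ⟨h.QK_nml.le hx, (ker x (h.QK_nml.le hx)).2 hx⟩
  have e2 := card_inf_mul_relIndex C[img ρ A] ι.range
  rw [inf_comm] at e2
  have e3 : C[img ρ A].relIndex ι.range ≤ C[A].relIndex (UK V K) := by
    rw [← img_dom ι, ← relIndex_pre ι _ le_rfl, ← inf_relIndex_right C[A]]
    refine relIndex_le_of_le_left (fun x hx => mem_pre.2 ⟨hx.2, mem_C.2 fun y hy => ?_⟩)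
      (relIndex_ne_zero' _ _)
    obtain ⟨a, ha, ha', rfl⟩ := mem_img.1 hy
    refine mem_C1.1 ((sec_cm' sec nB ha' hx.2).1 ?_)
    rw [mem_C.1 hx.1 a ha]
    simp
  have e4 := md.m1 eA (img_le_range ρ A)
  refine ⟨le_trans ?_ e3, fun i hn => ?_⟩
  · rw [← e2, mul_comm, e1] at e4
    exact Nat.le_of_mul_le_mul_left e4 (card_pos _)
  have e5 := md.m2 eA (img_le_range ρ A) (by
    rw [← e2, mul_comm, e1]
    exact Nat.mul_le_mul_right _ (e3.trans i))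
  obtain ⟨t, ht, tv⟩ : ∃ t ∈ img ρ A, Tv ι.range t := by
    by_contra e
    refine hn fun a ha => (ker a (h1 ha)).1 (mem_bot.1 ?_)
    exact (e5.trans ((closure_le ⊥).2 fun t ht => absurd ⟨t, ht.1, ht.2⟩ e)) (ap_mem_img ρ ha (h1 ha))
  obtain ⟨a, ha, ha', rfl⟩ := mem_img.1 ht
  unfold Tv at tv
  rw [inf_relIndex_left] at tv
  refine ⟨a, ha, fun e => ?_, ?_⟩
  · rw [(ker a ha').2 e, C1_one, relIndex_top_left] at tv
    exact absurd tv (by norm_num)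
  · rw [← tv, ← img_dom ι, ← relIndex_pre ι _ le_rfl]
    exact relIndex_le_of_le_left (fun x hx => ⟨bz (mem_pre.1 hx).1, (sec_cm' sec nB ha'
      (mem_pre.1 hx).1).2 (mem_C1_comm.1 (mem_pre.1 hx).2)⟩) (relIndex_ne_zero' _ _)

theorem tv_idx (ha : a ∈ PK V z K) (i : (Ca (zpowers z) a).relIndex (UK V K) ≤ 2) :
    ∀ b ∈ UK V K, ∀ u ∈ UK V K, a * b * a⁻¹ * b⁻¹ ∉ zpowers z →
      a * u * a⁻¹ * u⁻¹ ∈ zpowers z ⊔ zpowers (a * b * a⁻¹ * b⁻¹) := fun b hb u hu hn => by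
  by_cases e : u ∈ Ca (zpowers z) a
  · exact mem_sup_left e.2
  have i1 := relIndex_pos (Ca (zpowers z) a) (UK V K)
  have i2 := mt relIndex_eq_one.1 fun e' : UK V K ≤ Ca (zpowers z) a => e (e' hu)
  have k := ((mul_mem_idx2 (K := Ca (zpowers z) a) (by omega) hb hu).2
    (iff_of_false (fun e => hn e.2) e)).2
  have e1 : a * u * a⁻¹ * u⁻¹ = b⁻¹ * ((a * b * a⁻¹ * b⁻¹)⁻¹ * (a * (b * u) * a⁻¹ * (b * u)⁻¹)) * b := by
    group
  have m := mul_mem (conj_mem (h.UK_nml.norm ha) hu) (inv_mem hu)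
  have e2 : b * (a * u * a⁻¹ * u⁻¹) * b⁻¹ = a * u * a⁻¹ * u⁻¹ := by
    rw [H3.NG.ea_comm h.ea_UK hb m, mul_inv_cancel_right]
  rw [← e2, e1, ← mul_assoc, ← mul_assoc, mul_inv_cancel, one_mul, mul_inv_cancel_right]
  exact mul_mem (mem_sup_right (inv_mem (mem_zpowers _))) (mem_sup_left k)

theorem tv_b (h1 : cj g (UK V K) ≤ PK V z K) (h3 : ¬ cj g (UK V K) ≤ QK V z K)
    (h4 : cj g (UK V K) ≤ C[UK V K ⊓ cj g (QK V z K)])
    (i : (QK V z K).relIndex (cj g⁻¹ (UK V K)) = 2) :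
    ∃ a ∈ cj g (UK V K), a ∉ QK V z K ∧ (Ca (zpowers z) a).relIndex (UK V K) ≤ 2 := by
  obtain ⟨a, ha, ha'⟩ := SetLike.not_le_iff_exists.1 h3
  refine ⟨a, ha, ha', ?_⟩
  rw [← i, ← relIndex_cj g (QK V z K), cj_cj_inv, ← inf_relIndex_left (UK V K) (cj g _)]
  refine relIndex_le_of_le_left (fun x hx => ⟨zN (h.P_le_C (h.UK_nml.le hx.1)), ?_⟩)
    (relIndex_ne_zero' _ _)
  rw [← mem_C.1 (h4 ha) x hx]
  simp

theorem cls (h1 : cj g (UK V K) ≤ PK V z K) (h2 : cj g⁻¹ (UK V K) ≤ PK V z K)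
    (h3 : ¬ cj g (UK V K) ≤ QK V z K) : ∃ g', (g' = g ∨ g' = g⁻¹) ∧
      ∃ a ∈ cj g' (UK V K), a ∉ QK V z K ∧ ∀ b ∈ UK V K, ∀ u ∈ UK V K, a * b * a⁻¹ * b⁻¹ ∉ zpowers z →
        a * u * a⁻¹ * u⁻¹ ∈ zpowers z ⊔ zpowers (a * b * a⁻¹ * b⁻¹) := by
  have h1' := cj_le_iff.1 h1
  have h2' := le_cj_iff.2 h2
  have nc : ¬ cj g (UK V K) ≤ C[UK V K] := fun e => h3 (e.trans h.C_le_QK)
  have fin : ∀ g', cj g' (UK V K) ≤ PK V z K → (∃ a ∈ cj g' (UK V K), a ∉ QK V z K ∧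
      (Ca (zpowers z) a).relIndex (UK V K) ≤ 2) → ∃ a ∈ cj g' (UK V K), a ∉ QK V z K ∧
      ∀ b ∈ UK V K, ∀ u ∈ UK V K, a * b * a⁻¹ * b⁻¹ ∉ zpowers z →
        a * u * a⁻¹ * u⁻¹ ∈ zpowers z ⊔ zpowers (a * b * a⁻¹ * b⁻¹) :=
    fun g' h1 ⟨a, ha, a1, a2⟩ => ⟨a, ha, a1, h.tv_idx (h1 ha) a2⟩
  have idx : ∀ g', cj g' (UK V K) ≤ C[UK V K ⊓ cj g' (QK V z K)] →
      C[cj g' (UK V K)].relIndex (UK V K) ≤ (QK V z K).relIndex (cj g'⁻¹ (UK V K)) := fun g' e => by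
    rw [← relIndex_cj g' (QK V z K), cj_cj_inv, ← inf_relIndex_left (UK V K) (cj g' _)]
    exact relIndex_le_of_le_left (cents_symm e) (relIndex_ne_zero' _ _)
  by_cases i1 : cj g (UK V K) ≤ C[UK V K ⊓ cj g (QK V z K)]
  · refine ⟨g, Or.inl rfl, fin g h1 ?_⟩
    by_cases i2 : cj g⁻¹ (UK V K) ≤ C[UK V K ⊓ cj g⁻¹ (QK V z K)]
    · refine (h.m12 (ea_cj h.ea_UK g) h1).2 ((idx g i1).trans ((h.m12 (ea_cj h.ea_UK g⁻¹) h2).1.trans ?_)) h3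
      simpa using idx g⁻¹ i2
    · exact h.tv_b h1 h3 i1 (h.P2 h2 h1' (fun e => nc (i1.trans
        (C_anti (le_inf le_rfl (le_cj_iff.2 e))))) i2).1
  obtain ⟨i3, i4⟩ := h.P2 h1 h2' h3 i1
  by_cases h3' : cj g⁻¹ (UK V K) ≤ QK V z K
  · obtain ⟨a, ha, ha'⟩ := SetLike.not_le_iff_exists.1 h3
    have k : ∀ u ∈ UK V K, a * u * a⁻¹ * u⁻¹ = 1 ∨ a * u * a⁻¹ * u⁻¹ = g * z * g⁻¹ := fun u hu =>
      (mem_zp2 (h.conjG g).toCA.z_sq).1 (cm_symm (h.cm_cj ha (le_cj_iff.2 h3' hu)))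
    refine ⟨g, Or.inl rfl, a, ha, ha', fun b hb u hu hn => ?_⟩
    rw [(k b hb).resolve_left fun e => hn (e ▸ one_mem _)]
    rcases k u hu with e | e <;> rw [e]
    exacts [one_mem _, mem_sup_right (mem_zpowers _)]
  by_cases i2 : cj g⁻¹ (UK V K) ≤ C[UK V K ⊓ cj g⁻¹ (QK V z K)]
  · exact ⟨g⁻¹, Or.inr rfl, fin _ h2 (h.tv_b h2 h3' i2 (by rwa [inv_inv]))⟩
  · have i5 := (h.P2 h2 h1' h3' i2).2
    rw [inv_inv] at i5
    exact absurd (((cj_mono g h.UK_le_U).trans (h.toCB.PL (h.UK_le_U i4)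
      (mem_cj.2 (h.UK_le_U i5)))).trans (C_anti h.UK_le_U)) nc

theorem cp_le (c : CPs V z K g m m') : cj g (UK V K) ≤ PK V z K :=
  (c.c1.trans (C_anti ((cj_of_mem_N c.hm).ge.trans (cj_mono m h.V_le_UK)))).trans h.CV_le_P

theorem kt_of (c : CPs V z K g m m') (ha : a ∈ cj g (UK V K)) (a1 : a ∉ QK V z K)
    (a2 : ∀ b ∈ UK V K, ∀ u ∈ UK V K, a * b * a⁻¹ * b⁻¹ ∉ zpowers z →
      a * u * a⁻¹ * u⁻¹ ∈ zpowers z ⊔ zpowers (a * b * a⁻¹ * b⁻¹)) : ∃ r, KT S V z K m a r := by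
  have := mt (h.mem_Q' (h.cp_le c ha)) a1
  push Not at this
  obtain ⟨b, hb, hn⟩ := this
  exact ⟨_, h, c.hm, c.m1, c.c1 ha, ea_sq (ea_cj h.ea_UK g) ha, hn, ⟨b, hb, rfl⟩,
    fun u hu => a2 b hb u hu hn⟩

end KD

theorem KD.exists_tv (h : KD S V z K) :
    ∃ g m m' a r, CPs V z K g m m' ∧ a ∈ cj g (UK V K) ∧ KT S V z K m a r := by
  obtain ⟨g, m, m', c, h3⟩ := h.exists_CP
  obtain ⟨g', e, a, ha, a1, a2⟩ := h.cls (h.cp_le c) (h.cp_le c.symm) h3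
  rcases e with rfl | rfl
  · obtain ⟨r, hr⟩ := h.kt_of c ha a1 a2
    exact ⟨_, m, m', a, r, c, ha, hr⟩
  · obtain ⟨r, hr⟩ := h.kt_of c.symm ha a1 a2
    exact ⟨_, m', m, a, r, c.symm, ha, hr⟩

end H12.NG
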