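import Cfsg.Agent.H12.NGBk
import Cfsg.Agent.H3.NB1

/-! N-groups, case (A), `U` and `W` abelian: the transvection module. -/

set_option autoImplicit false
set_option linter.unusedSectionVars false
set_option linter.unusedVariables false

namespace H12.NG

open Subgroup Cfsg H24 H11.ZN H26 H3.NG H3.NB

universe u

variable {G : Type u} [Group G] [Finite G] {S V K X Y Z H : Subgroup G} {z a r g m u : G}

theorem Sec.cm₃ {Γ : Type u} [Group Γ] {ι : X →* Γ} {ρ : H →* Γ} (h : Sec X Z H ι ρ) (n : H ≤ N[X]) (hg : g ∈ H)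
    (hu : u ∈ X) : g * u * g⁻¹ * u⁻¹ ∈ Z ↔ ap ρ g ∈ C{ap ι u} := by
  have := conj_mem (n hg) hu
  rw [← h.ker _ (mul_mem this (inv_mem hu)), ap_mul _ this (inv_mem hu), ap_inv _ hu, h.act g hg u hu, mul_inv_eq_one,
    mem_C1_iff_conj]

theorem Sec.norm₃ {Γ : Type u} [Group Γ] [Finite Γ] {ι : X →* Γ} {ρ : H →* Γ} (h : Sec X Z H ι ρ) (l : Y ≤ X)
    (hg : g ∈ H) (n : g ∈ N[Y]) : ap ρ g ∈ N[img ι Y] := mem_N_of_finite fun x hx => by
  obtain ⟨y, hy, rfl⟩ := (mem_img_of_le l).1 hx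
  rw [← h.act g hg y (l hy)]
  exact ap_mem_img _ (conj_mem n hy) (l (conj_mem n hy))

theorem CA.F_cent₃ (h : CA S V z) : F2 C{z} ≤ C[OZ (Qz z)] := by
  have hF := F2_le C{z}
  have hFn := (norm_self C{z}).trans (N_le_N_F2 _)
  have hY : C{z} ≤ N[OZ (Qz z)] := norm_OZ (CA.Q_nml₁ z).norm
  obtain ⟨F0, hF0⟩ := Hall_exists {2}ᶜ (h.ch2.1.of_le hF)
  have hp := ((Syl.mk' Nat.prime_two (Q2_le_F2 C{z}) (pcore_pi _ _)
    (by rw [← even_iff_two_dvd, Nat.not_even_iff_odd]; exact F2_odd _)).isProd hF0).symm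
  refine comm_eq_bot'.1 ?_
  by_contra hn
  have h2 := h.z_mem_of₁ ((ea_pi (OZ_ea _)).of_le (comm_le_left (hF.trans hY)))
    (norm_comm (h.S_le_C.trans hY) (h.S_le_C.trans hFn)) hn
  rw [hp.comm_right_of_cent (le_C_OZ _)] at h2
  exact h.z1 (mem_bot.1 (coprime_abel_cent_TI ((hF0.le.trans hF).trans hY)
    ((ea_pi (OZ_ea _)).coprime hF0.pi) (OZ_ea _).1 ▸ mem_inf.2 ⟨h2, mem_C_iff_le_C1.2 (hF0.le.trans hF)⟩))

theorem KT.setup₃ (h : KT S V z K m a r) : ∃ (Γ : Type u) (_ : Group Γ) (_ : Finite Γ) (ι : UK V K →* Γ)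
    (ρ : PK V z K →* Γ) (w : G) (I : Type u) (_ : Fintype I) (s f c : I → Γ) (i : I),
    Sec (UK V K) (zpowers z) (PK V z K) ι ρ ∧ pre ρ ⊥ = QK V z K ∧ pre ι ⊥ = zpowers z ∧ img ρ K = F[ρ.range] ∧
      w ∈ V ∧ (∀ v ∈ V, v ∈ zpowers z ∨ ap ι v = ap ι w) ∧ (∀ g ∈ PK V z K, ap ρ g ∈ C{ap ι w} ↔ g ∈ N[V]) ∧
      Fam ι.range ρ.range (img ρ C[V]) (ap ι w) s f c ∧ s i = ap ρ a ∧ c i = ap ι r := by
  have k := h.toKD
  have ca := k.ca
  obtain ⟨Γ, _, _, ι, ρ, sec, md, hq, hF⟩ := k.md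
  obtain ⟨w, hw, w1, wz⟩ := ca.ex_w₁
  have nU := k.UK_nml.norm
  have zU := k.z_mem_UK
  have wU := k.V_le_UK hw
  have KP := k.K_nml.le
  have p1 : pre ρ ⊥ = QK V z K := ext fun g => mem_pre_bot.trans
    ⟨fun e => (hq g e.1).1 e.2, fun e => ⟨k.QK_nml.le e, (hq g (k.QK_nml.le e)).2 e⟩⟩
  have p2 : pre ι ⊥ = zpowers z := ext fun g => mem_pre_bot.trans
    ⟨fun e => (sec.ker g e.1).1 e.2, fun e => ⟨zpowers_le.2 zU e, (sec.ker g (zpowers_le.2 zU e)).2 e⟩⟩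
  have cs := fun v hv => four_cases ca.ea ca.card ca.z_mem hw ca.z1 w1 wz.symm (x := v) hv
  have hV : ∀ v ∈ V, v ∈ zpowers z ∨ ap ι v = ap ι w := fun v hv => by
    rcases cs v hv with rfl | rfl | rfl | rfl
    exacts [Or.inl (one_mem _), Or.inl (mem_zpowers _), Or.inr rfl,
      Or.inr (by rw [ap_mul _ zU wU, (sec.ker z zU).2 (mem_zpowers z), one_mul])]
  have hN : ∀ g ∈ PK V z K, ap ρ g ∈ C{ap ι w} ↔ g ∈ N[V] := fun g hg => by
    rw [← sec.cm₃ nU hg wU]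
    refine ⟨fun e => mem_N_of_finite fun v hv => ?_, fun e => four_cm ca.ea ca.card ca.z_mem ca.z1 e (k.P_le_C hg) hw⟩
    have e1 := mem_C1_iff_conj.1 (k.P_le_C hg)
    have e2 : g * w * g⁻¹ ∈ V := (mul_mem_cancel_right (inv_mem hw)).1 (zpowers_le.2 ca.z_mem e)
    rcases cs v hv with rfl | rfl | rfl | rfl
    exacts [by simp, e1.symm ▸ hv, e2, by rw [cjm, e1]; exact mul_mem ca.z_mem e2]
  have aP := k.CV_le_P h.a_CV
  have aH : ap ρ a ∈ ρ.range := ⟨⟨a, aP⟩, (ap_of_mem _ aP).symm⟩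
  have a2 : ap ρ a * ap ρ a = 1 := by rw [← ap_mul _ aP aP, h.a2, ap_one]
  obtain ⟨f, fF, f1, fi⟩ := md.inv aH a2 fun e => h.a_not ((hq a aP).1 e)
  have rU := h.r_mem
  have act : ∀ u ∈ UK V K, ap ι (a * u * a⁻¹ * u⁻¹) = ap ρ a * ap ι u * (ap ρ a)⁻¹ * (ap ι u)⁻¹ := fun u hu => by
    rw [ap_mul _ (conj_mem (nU aP) hu) (inv_mem hu), ap_inv _ hu, sec.act a aP u hu]
  have rg : ∀ u ∈ UK V K, ap ι u ∈ ι.range := fun u hu => ⟨⟨u, hu⟩, (ap_of_mem _ hu).symm⟩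
  have tf : Tf ι.range ρ.range (ap ρ a) f (ap ι r) := by
    refine ⟨md, aH, fF, f1, a2, fi, fun e => h.rz ((sec.ker r rU).1 e), le_antisymm (fun x hx => ?_) (zpowers_le.2 ?_)⟩
    · obtain ⟨_, ⟨u, rfl⟩, rfl⟩ := (mem_comm1 (ea_abl md.ea) (md.le aH)).1 hx
      have := ap_mem_img ι (h.all u u.2) (mul_mem (conj_mem (nU aP) u.2) (inv_mem u.2))
      rwa [act u u.2, ap_coe, img_sup _ (zpowers_le.2 zU) (zpowers_le.2 rU), ← p2, img_ker, bot_sup_eq,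
        img_zpowers _ rU] at this
    · obtain ⟨b, hb, e⟩ := h.ex
      exact (mem_comm1 (ea_abl md.ea) (md.le aH)).2 ⟨_, rg b hb, by rw [← act b hb, ← e]⟩
  obtain ⟨I, _, s, f', c, i, fam, e1, e2, -⟩ := exists_fam tf (img_le_range ρ C[V]) (by
      rintro _ ⟨g, rfl⟩
      obtain ⟨x, hx, c, hc, e⟩ := k.P_dec g.2
      exact ⟨_, hF ▸ ap_mem_img ρ hx (KP hx), _, ap_mem_img ρ hc (k.CV_le_P hc), by
        rw [← ap_mul _ (KP hx) (k.CV_le_P hc), ← e, ap_coe]⟩) (rg w wU)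
    (fun t ht => by
      obtain ⟨c, hc, rfl⟩ := (mem_img_of_le k.CV_le_P).1 ht
      exact (hN c (k.CV_le_P hc)).2 (C_le_N _ hc))
    (fun X hX hv n => by
      rw [← img_dom, img_le_iff le_rfl]
      refine ncl_le_of_norm (fun v hv' => mem_pre.2 ⟨k.V_le_UK hv', ?_⟩) fun g hg => mem_N_of_finite fun x hx => ?_
      · rcases hV v hv' with e | e
        · rw [(sec.ker v (k.V_le_UK hv')).2 e]; exact one_mem _
        · exact e ▸ hv
      · exact mem_pre.2 ⟨conj_mem (nU (KP hg)) (mem_pre.1 hx).1, sec.act g (KP hg) x (mem_pre.1 hx).1 ▸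
          conj_mem (n (hF ▸ ap_mem_img ρ hg (KP hg))) (mem_pre.1 hx).2⟩)
    (fun x hx e => by
      obtain ⟨g, hg, rfl⟩ := (mem_img_of_le KP).1 (hF.ge hx)
      exact (hq g (KP hg)).2 (k.Q_le_QK (k.K_inf_M.le ⟨hg, (hN g (KP hg)).1 e⟩)))
    (fun X hX n => by
      have e : img ρ (K ⊓ pre ρ X) = X := by rw [img_inf_pre, hF, inf_eq_right.2 hX]
      have q : Qz z ≤ pre ρ ⊥ := p1 ▸ k.Q_le_QK
      refine (k.min (K ⊓ pre ρ X) (le_inf k.qk (q.trans (ker_le_pre _ _))) inf_le_left (norm_inf k.nk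
        (ca.CM_le.trans (sup_le (norm_pre k.CV_le_P n) (norm_of_le (q.trans (ker_le_pre _ _))))))).imp
        (fun e' => ?_) fun e' => by rw [← e, e', hF]
      rw [← e, e', img_eq_bot (k.qk.trans KP)]
      exact q) (ap_mem_img ρ h.a_CV aP)
  exact ⟨Γ, _, inferInstance, ι, ρ, w, I, inferInstance, s, f', c, i, sec, p1, p2, hF, hw, hV, hN, fam, e1, e2⟩

theorem KT.exists_num (h : KT S V z K m a r) : ∃ n, Num V z K a r n := by
  have k := h.toKD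
  have ca := k.ca
  obtain ⟨Γ, _, _, ι, ρ, w, I, _, s, f, c, i, sec, p1, p2, hF, hw, hV, hN, fam, e1, e2⟩ := h.setup₃
  have nU := k.UK_nml.norm
  have KP := k.K_nml.le
  have CP := k.CV_le_P
  have aP := CP h.a_CV
  have wU := k.V_le_UK hw
  have AC : AK V a ≤ C[V] := ncl_le_of_norm (zpowers_le.2 h.a_CV) (norm_self _)
  have AP := AC.trans CP
  have rg : ∀ g ∈ PK V z K, ap ρ g ∈ ρ.range := fun u hu => ⟨⟨u, hu⟩, (ap_of_mem _ hu).symm⟩
  have eA : img ρ (AK V a) = ncl (zpowers (s i)) (img ρ C[V]) := by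
    rw [e1]
    refine le_antisymm ((img_le_iff AP).2 (ncl_le fun g hg => (img_le_iff (cj_le_of_mem (zpowers_le.2 aP) (CP hg))).1 ?_))
      (ncl_le fun t ht => ?_)
    · rw [img_cj _ (CP hg), img_zpowers _ aP]
      exact le_ncl (ap_mem_img ρ hg (CP hg))
    · obtain ⟨g, hg, rfl⟩ := (mem_img_of_le CP).1 ht
      rw [← img_zpowers _ aP, ← img_cj _ (CP hg)]
      exact img_mono _ (le_ncl hg)
  have eE : EK V z K a = pre ι (ι.range ⊓ C[ncl (zpowers (s i)) (img ρ C[V])]) := by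
    ext u
    rw [mem_pre, ← eA]
    refine and_congr_right fun hu => ⟨fun e => ⟨⟨⟨u, hu⟩, (ap_of_mem _ hu).symm⟩, mem_C.2 fun x hx => ?_⟩,
      fun e => ⟨CA.zp_norm₁ z (k.P_le_C (k.UK_nml.le hu)), fun x hx => cm_symm ((sec.cm₃ nU (AP hx) hu).2
        (mem_C_iff_le_C1.1 e.2 (ap_mem_img ρ hx (AP hx))))⟩⟩
    obtain ⟨g, hg, rfl⟩ := (mem_img_of_le AP).1 hx
    exact mem_C1.1 ((sec.cm₃ nU (AP hg) hu).1 (cm_symm (e.2 g hg)))
  refine ⟨Fintype.card I, ?_, ?_, fun T hT t => ?_, fun T hT t => ?_, ?_, ?_, fun g hg n => ?_, fun g hg n => ?_⟩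
  · rw [eE, relIndex_pre _ _ le_rfl, img_dom, fam.idx]
  · rw [eE, mem_pre, ← e2]
    exact ⟨h.r_mem, (fam.tf i).cW, (fam.mem_CA i).2 (fam.cs i)⟩
  · rw [← p1, ← card_img _ hT] at t ⊢
    exact fam.two_le i t (img_le_range _ _)
  · rw [← p1, ← card_img _ hT]
    refine fam.ea_le (H12.NG.ea_of_sq fun x hx => ?_) (img_le_range _ _)
    obtain ⟨y, hy, rfl⟩ := (mem_img_of_le hT).1 hx
    rw [← ap_mul _ (hT hy) (hT hy)]
    exact (mem_pre_bot.1 (p1.ge (t y hy))).2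
  · rw [← p1, ← card_img _ AP, eA, fam.card_A]
  · have l : V ⊔ UK V K ⊓ C[Qz z] ≤ UK V K := sup_le k.V_le_UK inf_le_left
    have := relIndex_img ι l le_rfl
    rw [p2, sup_eq_left.2 ((zpowers_le.2 ca.z_mem).trans le_sup_left), img_dom] at this
    rw [← this, img_sup _ k.V_le_UK inf_le_left]
    refine fam.big (sup_le_sup (fun x hx => ?_) fun x hx => ⟨img_le_range _ _ hx, mem_C.2 fun y hy => ?_⟩)
    · obtain ⟨v, hv, rfl⟩ := (mem_img_of_le k.V_le_UK).1 hx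
      rcases hV v hv with e | e
      · rw [(sec.ker v (k.V_le_UK hv)).2 e]; exact one_mem _
      · exact e ▸ mem_zpowers _
    · obtain ⟨u, hu, rfl⟩ := (mem_img_of_le inf_le_left).1 hx
      obtain ⟨g, hg, rfl⟩ := (mem_img_of_le KP).1 (hF.ge hy)
      refine mem_C1.1 ((sec.cm₃ nU (KP hg) hu.1).1 ?_)
      rw [conj_eq_of_mem_C (ca.F_cent₃ (k.kf hg)) (mem_OZ.2 ⟨ca.U_le_Q (k.UK_le_U hu.1), hu.2, k.ea_UK.2 u hu.1⟩),
        mul_inv_cancel]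
      exact one_mem _
  · obtain ⟨t, ht, e⟩ := fam.mv i (rg g hg) fun e => n ((hN g hg).1 e)
    obtain ⟨x, hx, rfl⟩ := (mem_img_of_le CP).1 ht
    have gx := mul_mem hg (CP hx)
    refine ⟨x, hx, w, hw, fun e' => e ?_⟩
    have := (sec.cm₃ nU (mul_mem (mul_mem (mul_mem gx aP) (inv_mem (CP hx))) (inv_mem hg)) wU).1 e'
    rwa [ap_mul _ (mul_mem (mul_mem gx aP) (inv_mem (CP hx))) (inv_mem hg), ap_mul _ (mul_mem gx aP) (inv_mem (CP hx)),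
      ap_mul _ gx aP, ap_mul _ hg (CP hx), ap_inv _ hg, ap_inv _ (CP hx), ← e1] at this
  · have l : V ⊔ ncl (cj g V) C[V] ≤ UK V K := sup_le k.V_le_UK (ncl_le_of_norm (k.cj_V_le hg) (CP.trans nU))
    have m1 : g * w * g⁻¹ ∈ V ⊔ ncl (cj g V) C[V] := mem_sup_right (self_le_ncl (conj_mem_cj g hw))
    obtain ⟨h1, h2⟩ := fam.sp (X := img ι (V ⊔ ncl (cj g V) C[V])) i (rg g hg) (fun e => n ((hN g hg).1 e))
      (ap_mem_img ι (mem_sup_left hw) wU) (sec.act g hg w wU ▸ ap_mem_img ι m1 (l m1)) fun t ht => by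
        obtain ⟨x, hx, rfl⟩ := (mem_img_of_le CP).1 ht
        exact sec.norm₃ l (CP hx) (norm_sup (C_le_N V) (norm_ncl _ _) hx)
    refine lt_of_le_of_ne ?_ fun e => h2 (sec.act g hg w wU ▸ (mem_pre.1 (eE.le (e.ge m1))).2.2)
    rw [eE, ← pre_img_of_ker_le (f := ι) l (p2.le.trans ((zpowers_le.2 ca.z_mem).trans le_sup_left))]
    exact pre_mono _ h1

theorem KT.split (h : KT S V z K m a r) (hr : r ∈ DK V K) :
    ♯(UK V K) = 8 ∨ ∃ δ ∈ DK V K, δ ∉ V ∧ ∃ f ∈ K, f ∉ Qz z ∧ f ∈ C{δ} ∧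
      a * f * a⁻¹ * f ∈ Qz z := by
  have k := h.toKD
  have ca := k.ca
  obtain ⟨Γ, _, _, ι, ρ, w, I, _, s, f, c, i, sec, p1, p2, hF, hw, hV, hN, fam, e1, e2⟩ := h.setup₃
  have nU := k.UK_nml.norm
  have KP := k.K_nml.le
  have CP := k.CV_le_P
  have aP := CP h.a_CV
  by_cases rV : r ∈ V
  · have := card_img_mul ι (le_refl (UK V K))
    rw [img_dom, fam.four (e2.trans ((hV r rV).resolve_left h.rz)), p2, inf_eq_left.2 (zpowers_le.2 k.z_mem_UK),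
      card_zp2 ca.z_sq ca.z1] at this
    exact Or.inl this.symm
  have yV := conj_mem h.hm ca.z_mem
  have y1 := cjne m ca.z1
  obtain ⟨x, hx, n⟩ : ∃ x ∈ Qz (m * z * m⁻¹) ⊓ C[V], x * r * x⁻¹ * r⁻¹ ∉ zpowers z := by
    by_contra! e
    have := (ca.comm_DQ (k.DK_le_D hr) rV yV y1).ge.trans (cm_le (K := zpowers z) fun y hy x hx => by
      rcases (mem_zp2 (H12.NG.ea_sq k.ea_UK h.r_mem)).1 hy with e' | e' <;> rw [e']
      exacts [by simp, cm_symm (e x hx)]) (mem_zpowers _)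
    exact h.m1 (mem_C1_iff_conj.2 (((mem_zp2 ca.z_sq).1 this).resolve_left y1))
  have xN := C_le_N _ hx.2
  have dD := conj_mem (DK_nml xN) hr
  have dU := DK_le_UK dD
  have o := fam.other (i := i) (ap_mem_img ρ hx.2 (CP hx.2)) fun e =>
    n ((sec.cm₃ nU (CP hx.2) h.r_mem).2 (mem_C1_iff_conj.2 (e2 ▸ e)))
  rw [e2, ← sec.act x (CP hx.2) r h.r_mem] at o
  obtain ⟨g, hg, e⟩ := (mem_img_of_le KP).1 (hF.ge (fam.tf i).fF)
  have hf := constt_mem {2}ᶜ hg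
  have e' : ap ρ (constt {2}ᶜ g) = f i := by
    rw [constt_ap _ _ (KP hg), e, constt_eq_self (piElt_of_odd (fam.md.odd (fam.tf i).fF))]
  have od := odd_of_piElt (piElt_constt {2}ᶜ g)
  generalize constt {2}ᶜ g = b at *
  refine Or.inr ⟨_, dD, fun e => rV ((conj_mem_iff xN).1 e), b, hf, fun q => (fam.tf i).f1
    (e' ▸ (mem_pre_bot.1 (p1.ge (k.Q_le_QK q))).2), mem_of_sq od (mem_C1_iff_conj.2 ?_),
    k.K_inf_QK.le ⟨mul_mem (conj_mem (k.K_nml.norm aP) hf) hf, p1.le (mem_pre_bot.2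
      ⟨mul_mem (conj_mem (norm_self _ aP) (KP hf)) (KP hf), ?_⟩)⟩⟩
  · generalize x * r * x⁻¹ = d at *
    have bz := mem_C1_iff_conj.1 (k.K_le_C hf)
    rcases (mem_zp2 ca.z_sq).1 ((sec.cm₃ nU (KP hf) dU).2 (e' ▸ mem_C1_comm.1 o)) with e | e
    · rw [show b * b * d * (b * b)⁻¹ = b * (b * d * b⁻¹) * b⁻¹ by group, mul_inv_eq_one.1 e, mul_inv_eq_one.1 e]
    · rw [show b * b * d * (b * b)⁻¹ = b * (b * d * b⁻¹) * b⁻¹ by group, mul_inv_eq_iff_eq_mul.1 e, cjm, bz,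
        mul_inv_eq_iff_eq_mul.1 e, mml ca.z_sq]
  · rw [ap_mul _ (conj_mem (norm_self _ aP) (KP hf)) (KP hf), ap_conj _ aP (KP hf), e', ← e1, (fam.tf i).inv,
      inv_mul_cancel]

end H12.NG
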