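import Cfsg.Agent.H12.NGBk
import Cfsg.Agent.H12.NGB3
import Cfsg.Agent.H1.NGc2

/-!
# Case (A), `U` and `W` abelian: neighbours at distance two, and the centre of a transvection
-/

set_option autoImplicit false
set_option linter.unusedSectionVars false

namespace H18.NJ

open Subgroup Cfsg H24 H11.ZN H12.NG H1.NG

universe u

variable {G : Type u} [Group G] [Finite G] {S V K A B E T X : Subgroup G} {z a r g j k m s u x μ μ' : G}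
  {n : ℕ}

theorem rle (h : A ⊓ T ≤ X) : X.relIndex T ≤ A.relIndex T := by
  rw [← inf_relIndex_right A]
  exact relIndex_le_of_le_left h (relIndex_ne_zero' _ _)

theorem two_le (hx : x ∈ T) (hx' : x ∉ A) : 2 ≤ A.relIndex T := by
  have h1 := relIndex_pos A T
  have h2 : A.relIndex T ≠ 1 := fun e => hx' (relIndex_eq_one.1 e hx)
  omega

theorem rlt (hx : x ∈ X) (hx' : x ∉ A) (hX : X ≤ T) : 2 * X.relIndex T ≤ (A ⊓ X).relIndex T := by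
  rw [← relIndex_mul_relIndex _ X T inf_le_right hX, inf_relIndex_right]
  exact Nat.mul_le_mul_right _ (two_le hx hx')

theorem le_two (h : ∀ a ∈ T, ∀ b ∈ T, a ∉ A → b ∉ A → a * b ∈ A) : A.relIndex T ≤ 2 := by
  refine Nat.le_of_dvd two_pos (relIndex_dvd_two_iff.2 ?_)
  by_cases k : T ≤ A
  · exact ⟨1, one_mem _, fun b hb => .inr (k hb)⟩
  · obtain ⟨a, ha, a1⟩ := SetLike.not_le_iff_exists.1 k
    exact ⟨a, ha, fun b hb => (em (b ∈ A)).elim .inr fun e => .inl (h b hb a ha e a1)⟩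

theorem idx2 (z2 : z * z = 1) (z1 : z ≠ 1) (hT : T ≤ C{z})
    (hc : ∀ t ∈ T, t * u * t⁻¹ * u⁻¹ ∈ zpowers z) : C{u}.relIndex T ≤ 2 :=
  le_two fun a ha b hb a1 b1 => (mul_C_iff z2 z1 (hT ha) (hc a ha) (hc b hb)).2 (iff_of_false a1 b1)

theorem pair (z2 : z * z = 1) (z1 : z ≠ 1) (B : Subgroup G) : ∀ T : Subgroup G, T ≤ C{z} → B ≤ C{z} →
    (∀ t ∈ T, ∀ u ∈ B, t * u * t⁻¹ * u⁻¹ ∈ zpowers z) → C[B].relIndex T ≤ C[T].relIndex B := by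
  induction B using subgroup_ind with
  | h B ih =>
  intro T hT hB hc
  by_cases k : T ≤ C[B]
  · rw [relIndex_eq_one.2 k]; exact relIndex_pos _ _
  obtain ⟨t, ht, t1⟩ := SetLike.not_le_iff_exists.1 k
  obtain ⟨u, hu, u1⟩ := SetLike.not_le_iff_exists.1 (mt mem_C_iff_le_C1.2 t1)
  have h1 := ih (C{t} ⊓ B) (lt_of_le_of_ne inf_le_right fun e => u1 (e.ge hu).1) (C{u} ⊓ T)
    (inf_le_right.trans hT) (inf_le_right.trans hB) fun a ha b hb => hc a ha.2 b hb.2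
  have h2 := relIndex_inf_mul_relIndex C[B] C{u} T
  have h3 := relIndex_inf_mul_relIndex C[T] C{t} B
  rw [inf_eq_left.2 (C_le_C1 hu)] at h2
  rw [inf_eq_left.2 (C_le_C1 ht)] at h3
  have h4 : C[B].relIndex (C{u} ⊓ T) ≤ C[C{t} ⊓ B].relIndex (C{u} ⊓ T) := rle fun x hx =>
    mem_C_iff_le_C1.2 fun w hw => by
      by_cases e : w ∈ C{t}
      · exact mem_C_iff_le_C1.1 hx.1 ⟨e, hw⟩
      · exact (mul_mem_cancel_right (mem_C1_comm.1 hx.2.1)).1 (mem_C_iff_le_C1.1 hx.1 (mem_inf.2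
          ⟨(mul_C_iff z2 z1 (hB hw) (comm_symm (hc t ht w hw)) (comm_symm (hc t ht u hu))).2
            (iff_of_false e u1), mul_mem hw hu⟩))
  have h5 : C[C{u} ⊓ T].relIndex (C{t} ⊓ B) ≤ C[T].relIndex (C{t} ⊓ B) :=
    rle (inf_le_left.trans (C_anti inf_le_right))
  rw [← h2, ← h3]
  exact Nat.mul_le_mul ((h4.trans h1).trans h5) ((idx2 z2 z1 hT fun a ha => hc a ha u hu).trans (two_le hu u1))

theorem piRel {π : Set ℕ} (h1 : IsPi π A) (h2 : E ≤ N[A]) (h3 : PiNat π (X.relIndex E)) :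
    PiNat π (X.relIndex (E ⊔ A)) := by
  refine (h3.mul (h1.relIndex E)).dvd ((relIndex_dvd_of_le_left _ (inf_le_left : X ⊓ E ≤ X)).trans ?_)
  rw [← relIndex_mul_relIndex _ E _ inf_le_right le_sup_left, inf_relIndex_right, relIndex_sup_of_norm' h2]

theorem cm2 (h : CA S V z) (hg : g ∈ C{z}) (gn : g ∈ N[V]) (g1 : g ∉ C[V]) (hk : k ∈ C{z}) (kn : k ∈ N[V])
    (k1 : k ∉ C[V]) : g * k ∈ C[V] := by
  obtain ⟨y, hy, y1⟩ := A6.exY h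
  refine mem_C_iff_le_C1.2 (A6.genV h hy y1 (mem_C1_comm.1 (mul_mem hg hk)) (mem_C1_comm.1
    (mem_C1_iff_conj.2 ?_)))
  calc _ = g * (k * y * k⁻¹) * g⁻¹ := by group
    _ = g * z * g⁻¹ * (g * y * g⁻¹) := by rw [A6.xsw h hk kn k1 hy y1]; group
    _ = _ := by rw [A6.xsw h hg gn g1 hy y1, mem_C1_iff_conj.1 hg, ← mul_assoc, h.z_sq, one_mul]

theorem pt (h : CA S V z) (hm : m ∈ N[V]) (m1 : m ∉ C{z}) : m * z * m⁻¹ ∈ V ∧ m * z * m⁻¹ ∉ zpowers z :=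
  ⟨conj_mem hm h.z_mem, A6.nz h (mt conj_eq_one_iff'.1 h.z1) (mt mem_C1_iff_conj.2 m1)⟩

theorem cenQ (h : CA S V z) (hu : u ∈ Uz V z) (hc : Qz z ⊓ C[V] ≤ C{u}) : ∃ v ∈ V, u * v ∈ C[Qz z] := by
  obtain ⟨x, hx, x1⟩ := A6.exX h
  obtain ⟨y, hy, y1⟩ := A6.exY h
  have k : ∀ v ∈ V, u * v ∈ C{x} → u * v ∈ C[Qz z] := fun v hv e => mem_C_iff_le_C1.2 fun q hq => by
    have k1 : Qz z ⊓ C[V] ≤ C{u * v} := fun w hw =>
      mem_C1_comm.1 (mul_mem (mem_C1_comm.1 (hc hw)) (mem_C_iff_le_C1.1 hw.2 hv))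
    by_cases e' : q ∈ C[V]
    · exact k1 ⟨hq, e'⟩
    · exact (mul_mem_cancel_right (mem_C1_comm.1 e)).1 (k1 (mem_inf.2 ⟨mul_mem hq hx,
        cm2 h (A6.QC hq) (A6.QM h hq) e' (A6.QC hx) (A6.QM h hx) x1⟩))
  by_cases e : u ∈ C{x}
  · exact ⟨1, one_mem _, k 1 (one_mem _) (by rwa [mul_one])⟩
  · exact ⟨y, hy, k y hy ((mulU h hu (h.V_le_U hy) hx).2 (iff_of_false e fun e' => x1
      (mem_C_iff_le_C1.2 (A6.genV h hy y1 (mem_C1_comm.1 (A6.QC hx)) e'))))⟩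

theorem DK1 (h : KD S V z K) (hm : m ∈ N[V]) (m1 : m ∉ C{z}) : DK V K = UK V K ⊓ cj m (UK V K) := by
  rw [h.DK_eq (one_mem _) hm fun e => m1 (mem_C1_iff_conj.2 (by simpa using e.symm)), cj_one]

theorem AKc (h : KT S V z K m a r) : AK V a ≤ C[cj m (UK V K)] :=
  ncl_le_of_le_N (zpowers_le.2 h.ac) (norm_C ((h.CV_norm h.hm).trans (norm_cj h.UK_nml.norm m)))

theorem DE (h : KT S V z K m a r) : DK V K ≤ EK V z K a := fun x hx =>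
  mem_inf.2 ⟨DK_le_UK hx, A6.mem_Kq.2 ⟨A6.zN (h.P_le_C (h.UK_nml.le (DK_le_UK hx))), fun b hb => by
    rw [mem_C.1 (AKc h hb) x (DK_le h.hm hx)]; simp⟩⟩

theorem tv (h : KT S V z K m a r) (hr : r ∉ DK V K) (hs : s ∈ C{z}) (sn : s ∈ N[V]) (hu : u ∈ UK V K)
    (hD : s * a * s⁻¹ * u * (s * a * s⁻¹)⁻¹ * u⁻¹ ∈ DK V K) :
    s * a * s⁻¹ * u * (s * a * s⁻¹)⁻¹ * u⁻¹ ∈ zpowers z := by
  have h1 := conj_mem' (DK_nml sn) hD
  have h2 := h.all _ (conj_mem' (h.UK_nml.norm (h.CM_le_P ⟨hs, sn⟩)) hu)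
  rw [← conj_mem_iff' (A6.zN hs)]
  rw [show a * (s⁻¹ * u * s) * a⁻¹ * (s⁻¹ * u * s)⁻¹ =
    s⁻¹ * (s * a * s⁻¹ * u * (s * a * s⁻¹)⁻¹ * u⁻¹) * s by group] at h2
  obtain ⟨b, hb, c, hc, e⟩ := (mem_sup_of_norm (norm_zpowers_of_cent
    (zpowers_le.2 (h.P_le_C (h.UK_nml.le h.r_mem))))).1 h2
  rw [e] at h1 ⊢
  rcases (mem_zp2 (H12.NG.ea_sq h.ea_UK h.r_mem)).1 hc with rfl | rfl
  · rwa [mul_one]
  · exact absurd ((mul_mem_cancel_left (h.V_le_DK (A6.zV h.ca hb))).1 h1) hr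

theorem step1 (h : KT S V z K m a r) (hr : r ∉ DK V K) (d : Num V z K a r n) (hk : k ∈ PK V z K)
    (hk' : k ∉ N[V]) (h1 : μ ∈ N[V]) (h2 : μ ∉ C{z}) (h3 : μ' ∈ N[V]) (h4 : μ' ∉ C{z})
    (j1 : j ∈ cj μ (UK V K)) (j2 : j ∈ cj (k * μ') (UK V K)) (j3 : j ∉ UK V K) :
    QK V z K ⊓ cj μ (QK V z K) ≤ C[cj k V] := by
  intro g hg
  have BN := h.UK_nml.norm
  have kC := h.P_le_C hk
  obtain ⟨g', hg'⟩ : ∃ g', g' = k⁻¹ * g * k := ⟨_, rfl⟩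
  have g1 : g' ∈ QK V z K := hg' ▸ conj_mem' (h.QK_nml.norm hk) hg.1
  have gC := h.P_le_C (h.QK_nml.le g1)
  have gN := h.QK_le_M g1
  rw [← cj_C, mem_cj, ← hg']
  by_contra g2
  obtain ⟨y1, y2⟩ := pt h.ca h3 h4
  obtain ⟨p1, p2⟩ := pt h.ca h1 h2
  obtain ⟨w1, w2⟩ := pt h.ca h.hm h.m1
  have sw := A6.xsw h.ca gC gN g2 y1 y2
  have n1 := mul_mem gN h3
  have n2 : g' * μ' ∉ C{z} := fun e => h4 ((mul_mem_cancel_left gC).1 e)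
  obtain ⟨i, hi⟩ : ∃ i, i = k⁻¹ * j * k := ⟨_, rfl⟩
  have i1 : i ∈ cj μ' (UK V K) := by rwa [cj_mul, mem_cj, ← hi] at j2
  have i2 : g' * i * g'⁻¹ ∈ cj (g' * μ') (UK V K) := cj_mul g' μ' _ ▸ conj_mem_cj g' i1
  have c1 : g * j * g⁻¹ * j⁻¹ = μ * z * μ⁻¹ := by
    have q := hg.2
    rw [← QK_cj] at q
    refine ((mem_zp2 (h.ca.conjG₁ μ).z_sq).1 ((mem_QK.1 q).2.2 j (UK_cj μ V K ▸ j1))).resolve_left
      fun e => j3 ?_
    have e' : g' * i * g'⁻¹ = i := by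
      rw [hg', hi]
      (conv_rhs => rw [← mul_inv_eq_one.1 e]); group
    rw [← conj_mem_iff' (BN hk), ← hi]
    refine DK_le_UK (h.DK_eq h3 n1 (fun e => h.z1 ?_) ▸ mem_inf.2 ⟨i1, e' ▸ i2⟩)
    rw [show g' * μ' * z * (g' * μ')⁻¹ = g' * (μ' * z * μ'⁻¹) * g'⁻¹ by group, sw] at e
    exact mul_eq_right.1 e.symm
  obtain ⟨e, he, v, hv, e1⟩ := d.mv k hk hk'
  obtain ⟨x, hx, x1⟩ : ∃ x ∈ Qz z, x * (m * z * m⁻¹) * x⁻¹ = μ' * z * μ'⁻¹ := by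
    obtain ⟨x, hx, x1⟩ := A6.exX h.ca
    rcases A6.memV h.ca w1 w2 y1 with t | t | t | t
    · exact absurd (t ▸ one_mem _) y2
    · exact absurd (t.symm ▸ mem_zpowers z) y2
    · exact ⟨1, one_mem _, by simp [t]⟩
    · exact ⟨x, hx, t ▸ A6.xsw h.ca (A6.QC hx) (A6.QM h.ca hx) x1 w1 w2⟩
  have sC := mul_mem (A6.QC hx) (A6.cV h.ca he)
  have sN := mul_mem (A6.QM h.ca hx) (C_le_N _ he)
  obtain ⟨b, hb⟩ : ∃ b, b = x * e * a * (x * e)⁻¹ := ⟨_, rfl⟩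
  have b1 : b ∈ C[V] := hb ▸ conj_mem (N_le_NC _ sN) h.a_CV
  have b2 : b * i * b⁻¹ = i := by
    have := conj_mem_cj (x * e) h.ac
    rw [cj_C, ← cj_mul, h.cj_UK_eq (mul_mem sN h.hm) h3 (by
      rw [← x1]; (conv_rhs => rw [← conj_eq_of_mem_C he w1]); group), ← hb] at this
    exact conj_eq_of_mem_C this i1
  have p3 := conj_mem' (BN hk) (h.V_le_UK p1)
  have b3 : b * (k⁻¹ * (μ * z * μ⁻¹) * k) * b⁻¹ * (k⁻¹ * (μ * z * μ⁻¹) * k)⁻¹ ∈ zpowers z := by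
    rw [hb]
    refine tv h hr sC sN p3 (DK1 h.toKD n1 n2 ▸ hb ▸ mem_inf.2
      ⟨mul_mem (conj_mem (BN (h.CV_le_P b1)) p3) (inv_mem p3), ?_⟩)
    have := mul_mem (conj_mem (norm_cj BN _ (h.CV_norm n1 b1)) i2) (inv_mem i2)
    convert this using 1
    calc _ = b * (g' * i * g'⁻¹) * b⁻¹ * (b * i * b⁻¹)⁻¹ * (g' * i * g'⁻¹ * i⁻¹)⁻¹ := by
          rw [← c1, hg', hi]; group
      _ = _ := by rw [b2]; group
  have bC := A6.cV h.ca b1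
  have b4 : k * b * k⁻¹ ∈ A6.Kq V (zpowers z) := by
    have kb := mul_mem (mul_mem kC bC) (inv_mem kC)
    have t0 : k * b * k⁻¹ * (μ * z * μ⁻¹) * (k * b * k⁻¹)⁻¹ * (μ * z * μ⁻¹)⁻¹ ∈ zpowers z := by
      convert conj_mem (A6.zN kC) b3 using 1
      group
    refine A6.mem_Kq.2 ⟨A6.zN kb, fun w hw => ?_⟩
    rcases A6.memV h.ca p1 p2 hw with rfl | rfl | rfl | rfl
    · simp
    · rw [mem_C1_iff_conj.1 kb]; simp
    · exact t0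
    · have := conj_mem (norm_self _ (mem_zpowers z)) t0
      convert this using 1
      rw [← mul_assoc _ z, mem_C1.1 kb]; group
  have x2 : k * x * k⁻¹ ∈ A6.Kq V (zpowers z) := by
    have := conj_mem (A6.QN kC) hx
    exact A6.mem_Kq.2 ⟨A6.zN (A6.QC this), fun w hw => A6.cQ h.ca this (h.V_le_U hw)⟩
  refine e1 ((A6.mem_Kq.1 ?_).2 v hv)
  convert mul_mem (mul_mem (inv_mem x2) b4) x2 using 1
  rw [hb]; group

end H18.NJ

namespace H12.NG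

open Subgroup Cfsg H24 H11.ZN H18.NJ

universe u

variable {G : Type u} [Group G] [Finite G] {S V K : Subgroup G} {z a r g k m m' μ μ' : G}

theorem KT.NJ (h : KT S V z K m a r) (hr : r ∉ DK V K) (hk : k ∈ PK V z K) (hk' : k ∉ N[V])
    (h1 : μ ∈ N[V]) (h2 : μ ∉ C{z}) (h3 : μ' ∈ N[V]) (h4 : μ' ∉ C{z}) :
    cj μ (UK V K) ⊓ cj (k * μ') (UK V K) ≤ UK V K := by
  intro j hj
  by_contra j3
  obtain ⟨n, d⟩ := h.exists_num
  obtain ⟨p1, p2⟩ := pt h.ca h1 h2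
  obtain ⟨w1, w2⟩ := pt h.ca h.hm h.m1
  obtain ⟨ν, hν, e1, e2⟩ := H1.NG.two_trans h.ca w1 (fun e => w2 (e ▸ one_mem _))
    (fun e => w2 (e.symm ▸ mem_zpowers z)) p1 (fun e => p2 (e ▸ one_mem _)) h.z_mem h.z1
    fun e => p2 (e ▸ mem_zpowers z)
  have n1 : ν ∉ C{z} := fun e => p2 (e1 ▸ (mem_C1_iff_conj.1 e).symm ▸ mem_zpowers z)
  have s1 := step1 h hr d hk hk' hν n1 h3 h4 (h.cj_UK_eq hν h1 e1 ▸ hj.1) hj.2 j3
  rw [← e1] at p1 p2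
  have BC : UK V K ≤ C{z} := h.UK_nml.le.trans h.P_le_C
  have s2 : QK V z K ⊓ cj ν (QK V z K) ≤ C[V ⊔ ncl (cj k V) C[V]] := by
    refine cents_sup (fun g hg => mem_C_iff_le_C1.2 (A6.genV h.ca p1 p2
      (mem_C1_comm.1 (h.P_le_C (h.QK_nml.le hg.1))) (mem_C1_comm.1 ?_))) (cents_symm (ncl_le_of_le_N
        (cents_symm s1) (norm_C (norm_inf (h.CV_le_P.trans h.QK_nml.norm)
          ((h.CV_norm hν).trans (norm_cj h.QK_nml.norm ν))))))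
    exact cj_C1 ν z ▸ cj_mono ν (h.QK_nml.le.trans h.P_le_C) hg.2
  have JB : V ⊔ ncl (cj k V) C[V] ≤ UK V K :=
    sup_le h.V_le_UK (ncl_le_of_le_N (h.cj_V_le hk) (h.CV_le_P.trans h.UK_nml.norm))
  have EC : cj ν (AK V a) ≤ C[UK V K] := by
    have := cent_cj (AKc h) ν
    rwa [← cj_mul, h.cj_UK_eq (mul_mem hν h.hm) (one_mem _) (by rw [← e2.trans (by simp : z = 1 * z * 1⁻¹)]; group),
      cj_one] at this
  have EV := EC.trans (C_anti h.V_le_UK)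
  obtain ⟨Z, hZ⟩ : ∃ Z, Z = cj ν (AK V a) ⊔ Qz z ⊓ C[V] := ⟨_, rfl⟩
  have ZQ : Z ≤ QK V z K := hZ ▸ sup_le (EC.trans h.C_le_QK) (inf_le_left.trans h.Q_le_QK)
  have ZV : Z ≤ C[V] := hZ ▸ sup_le EV inf_le_right
  have ZC := ZV.trans (A6.cV h.ca)
  have cm : ∀ t ∈ Z, ∀ u ∈ UK V K, t * u * t⁻¹ * u⁻¹ ∈ zpowers z := fun t ht => (mem_QK.1 (ZQ ht)).2.2
  have a1 : (cj ν (QK V z K)).relIndex (cj ν (AK V a)) = 2 ^ n := by rw [relIndex_cj, d.a1]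
  have i1 : 2 * (cj ν (QK V z K)).relIndex Z ≤ 4 ^ n := by
    have e : (cj ν (QK V z K)).relIndex Z = (QK V z K).relIndex (cj ν⁻¹ Z) := by
      rw [← relIndex_cj ν (QK V z K), cj_cj_inv]
    rw [e]
    refine d.two _ (le_cj_iff.1 (ZV.trans (h.CV_norm hν))) (e ▸ hZ ▸ piRel ((pcore_pi _ _).inf_left _)
      (EV.trans (norm_inf ((A6.cV h.ca).trans A6.QN) (norm_self _))) (a1 ▸ piNat_self_pow Nat.prime_two n))
  have i2 : 2 * C[UK V K].relIndex (cj ν (QK V z K) ⊓ Z) ≤ 2 ^ n := by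
    obtain ⟨x, hx, x1⟩ := SetLike.exists_of_lt (d.sp k hk hk')
    have := rlt hx x1 JB
    rw [inf_eq_left.2 (d.sp k hk hk').le, d.e] at this
    refine le_trans (Nat.mul_le_mul_left 2 ((pair h.z_sq h.z1 _ _ (inf_le_right.trans ZC) BC
      fun t ht => cm t ht.2).trans ?_)) this
    exact relIndex_le_of_le_left (cents_symm ((le_inf (inf_le_right.trans ZQ) inf_le_left).trans s2))
      (relIndex_ne_zero' _ _)
  have i3 : 4 ^ n ≤ 2 * C[UK V K].relIndex Z := by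
    refine d.c.trans (Nat.mul_le_mul_left 2 (le_trans (rle fun u hu => ?_)
      (pair h.z_sq h.z1 _ _ BC ZC fun u hu t ht => H1.NG.comm_symm (cm t ht u hu))))
    obtain ⟨v, hv, e⟩ := cenQ h.ca (h.UK_le_U hu.2) ((hZ ▸ le_sup_right).trans (mem_C_iff_le_C1.1 hu.1))
    exact (mul_mem_cancel_right (mem_sup_left hv)).1
      (mem_sup_right (mem_inf.2 ⟨mul_mem hu.2 (h.V_le_UK hv), e⟩))
  have i4 : 2 ^ n ≤ (cj ν (QK V z K)).relIndex (C[UK V K] ⊓ Z) :=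
    a1 ▸ relIndex_le_of_le_right (le_inf EC (hZ ▸ le_sup_left)) (relIndex_ne_zero' _ _)
  have i5 := relIndex_inf_mul_relIndex C[UK V K] (cj ν (QK V z K)) Z
  rw [inf_comm C[UK V K], ← relIndex_inf_mul_relIndex (cj ν (QK V z K)) C[UK V K] Z] at i5
  have := Nat.mul_le_mul i2 i1
  have := Nat.mul_le_mul i4 i3
  have : 0 < 2 ^ n * 4 ^ n := by positivity
  nlinarith

theorem KT.tc (h : KT S V z K m a r) (c : CPs V z K g m m') (ha : a ∈ cj g (UK V K)) :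
    r ∈ DK V K := by
  by_contra hr
  obtain ⟨n, d⟩ := h.exists_num
  have BN := h.UK_nml.norm
  have nj : ∀ w k μ μ' : G, k ∈ PK V z K → k ∉ N[V] → μ ∈ N[V] → μ ∉ C{z} → μ' ∈ N[V] → μ' ∉ C{z} →
      cj (w * μ) (UK V K) ⊓ cj (w * (k * μ')) (UK V K) ≤ cj w (UK V K) := fun w k μ μ' a1 a2 a3 a4 a5 a6 => by
    rw [cj_mul, cj_mul w, ← cj_inf]
    exact cj_mono w (h.NJ hr a1 a2 a3 a4 a5 a6)
  have BC : UK V K ≤ C[cj g V] := c.c2.trans (C_anti (by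
    rw [cj_mul]; exact cj_mono g ((cj_of_mem_N c.hm').ge.trans (cj_mono _ h.V_le_UK))))
  have BP : UK V K ≤ cj g (PK V z K) := BC.trans (cj_C g V ▸ cj_mono g h.CV_le_P)
  have AC : cj g (UK V K) ≤ C[V] :=
    c.c1.trans (C_anti ((cj_of_mem_N c.hm).ge.trans (cj_mono _ h.V_le_UK)))
  obtain ⟨b, hb, rb⟩ := h.ex
  have rA : r ∈ cj g (UK V K) := by
    simpa only [rb, mul_assoc] using mul_mem ha (conj_mem (norm_cj BN g (BP hb)) (inv_mem ha))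
  have key : ∀ k ∈ PK V z K, ∀ μ ∈ N[V], μ ∉ C{z} → r ∈ cj (m * (k * μ)) (UK V K) → k ∈ N[V] :=
    fun k hk μ a1 a2 a3 => by_contra fun k1 => hr (DK1 h.toKD h.hm h.m1 ▸ mem_inf.2 ⟨h.r_mem,
      nj m k m⁻¹ μ hk k1 (inv_mem h.hm) (mt inv_mem_iff.1 h.m1) a1 a2
        (mem_inf.2 ⟨by simpa using h.r_mem, a3⟩)⟩)
  rcases c.two with ⟨p, hp, e⟩ | ab
  · have g1 : g ∈ N[V] := e ▸ mul_mem (mul_mem h.hm (key p hp _ (inv_mem c.hm') (mt inv_mem_iff.1 c.m1')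
      (by rwa [← mul_assoc, ← e]))) (inv_mem c.hm')
    refine h.rz ?_
    rw [rb, h.abW.comm (h.cj_UK_le_W g1 ha) (h.cj_UK_le_W (one_mem _) (by rwa [cj_one]))]
    simp
  have XM : cj g (XK V z K) ≤ N[V] := fun x hx => by
    have := key _ (mem_cj.1 (c.x1 hx)) _ (inv_mem h.hm) (mt inv_mem_iff.1 h.m1) (by
      rw [show m * (m⁻¹ * x * m * m⁻¹) = x by group,
        ← conj_eq_of_mem_C (cj_C g _ ▸ cj_mono g h.XK_le_C hx) rA]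
      exact conj_mem_cj x h.r_mem)
    exact (conj_mem_iff' (norm_self _ h.hm)).1 this
  obtain ⟨k, hk, v, hv, v1⟩ : ∃ k ∈ K, ∃ v ∈ V, g * k * v * (g * k)⁻¹ ∉ QK V z K := by
    by_contra! e
    refine h.a_not (cj_le_iff.2 (iSup₂_le fun k hk x hx => ?_) ha)
    obtain ⟨v, hv, rfl⟩ := mem_cj'.1 hx
    rw [mem_cj]
    convert e k hk v hv using 1
    group
  have kP := h.K_nml.le hk
  obtain ⟨w, hw⟩ : ∃ w, w = g * k := ⟨_, rfl⟩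
  rw [← hw] at v1
  have w1 : ∀ X : Subgroup G, k ∈ N[X] → cj w X = cj g X := fun X e => by rw [hw, cj_mul, cj_of_mem_N e]
  have v2 : v ∉ zpowers z := fun e => v1 (h.C_le_QK (cents_symm BC (cj_mono g (A6.zV h.ca)
    (w1 _ (A6.zN (h.K_le_C hk)) ▸ conj_mem_cj w e))))
  obtain ⟨μ, ⟨hμ, -⟩, rfl⟩ := h.trans hv fun e => v2 (e ▸ one_mem _)
  have μ1 : μ ∉ C{z} := fun e => v2 ((mem_C1_iff_conj.1 e).symm ▸ mem_zpowers z)
  have aD := conj_mem_cj w (h.V_le_DK hv)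
  obtain ⟨b, hb, b1⟩ : ∃ b ∈ UK V K, w * (μ * z * μ⁻¹) * w⁻¹ * b * (w * (μ * z * μ⁻¹) * w⁻¹)⁻¹ * b⁻¹ ∉
      zpowers z := by
    by_contra! e
    exact v1 (h.mem_Q' (h.CV_le_P (AC (w1 _ (BN kP) ▸ cj_mono w DK_le_UK aD))) e)
  have AX : cj (w * μ) (UK V K) ≤ cj g (XK V z K) := by
    rw [hw, mul_assoc, cj_mul]
    exact cj_mono g (le_XK kP hμ)
  have DA : cj w (DK V K) ≤ cj (w * μ) (UK V K) := cj_mul w μ _ ▸ cj_mono w (DK_le hμ)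
  have cA : ∀ y ∈ cj (w * μ) (UK V K), y ∈ C{b} → y ∈ cj w (DK V K) := fun y hy yb => by
    have k1 : w⁻¹ * b * w ∈ PK V z K := mem_cj.1 (w1 _ (norm_self _ kP) ▸ BP hb)
    have k2 : y ∈ cj (w * (w⁻¹ * b * w * μ)) (UK V K) := by
      rw [show w * (w⁻¹ * b * w * μ) = b * (w * μ) by group, cj_mul, ← mem_C1_iff_conj.1 (mem_C1_comm.1 yb)]
      exact conj_mem_cj b hy
    by_cases k3 : w⁻¹ * b * w ∈ N[V]
    · rw [h.DK_eq hμ (mul_mem k3 hμ) fun e => b1 ?_, cj_inf, ← cj_mul, ← cj_mul]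
      · exact ⟨hy, k2⟩
      · rw [show w * (μ * z * μ⁻¹) * w⁻¹ * b * (w * (μ * z * μ⁻¹) * w⁻¹)⁻¹ * b⁻¹ = w * ((μ * z * μ⁻¹) *
          (w⁻¹ * b * w * μ * z * (w⁻¹ * b * w * μ)⁻¹)⁻¹) * w⁻¹ by group, ← e]
        simp
    · rw [DK1 h.toKD hμ μ1, cj_inf, ← cj_mul]
      exact ⟨nj w _ μ μ k1 k3 hμ μ1 hμ μ1 ⟨hy, k2⟩, hy⟩
  obtain ⟨A, hA⟩ : ∃ A, A = cj (w * μ) (UK V K) := ⟨_, rfl⟩
  have i1 : 2 * 2 ^ n ≤ (cj w (DK V K)).relIndex A := by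
    have := rlt d.rE hr (inf_le_left : EK V z K a ≤ UK V K)
    rwa [inf_eq_left.2 (DE h), d.e, ← relIndex_cj (w * μ), ← hA, cj_mul, cj_of_mem_N (DK_nml hμ)] at this
  have eA : EA A := hA ▸ H3.NG.ea_cj h.ea_UK _
  rw [← hA] at AX DA cA
  have i2 := rlt aD v1 DA
  have i3 : (QK V z K ⊓ cj w (DK V K)).relIndex A ≤ (C{b} ⊓ (QK V z K ⊓ C[V])).relIndex A :=
    rle fun y hy => ⟨hy.1.2.1, cA y hy.2 hy.1.1⟩
  rw [← relIndex_inf_mul_relIndex C{b}, ← relIndex_inf_mul_relIndex (QK V z K) C[V]] at i3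
  have i4 := d.ea (C[V] ⊓ A) (inf_le_left.trans h.CV_le_P) fun t ht => ea_sq eA ht.2 ▸ one_mem _
  have Am : A ≤ C{m * z * m⁻¹} := cj_C1 m z ▸ (AX.trans c.x1).trans (cj_mono m h.P_le_C)
  have cm : ∀ t ∈ QK V z K ⊓ C[V] ⊓ A, t * b * t⁻¹ * b⁻¹ ∈ zpowers z := fun t ht =>
    (mem_QK.1 ht.1.1).2.2 b hb
  have i5 : C{b}.relIndex (QK V z K ⊓ C[V] ⊓ A) * C[V].relIndex A ≤ 2 := by
    by_cases e : QK V z K ⊓ C[V] ⊓ A ≤ C{b}
    · rw [relIndex_eq_one.2 e, one_mul]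
      exact le_two fun s hs t ht s1 t1 =>
        cm2 (h.conj h.hm) (Am hs) (XM (AX hs)) s1 (Am ht) (XM (AX ht)) t1
    · obtain ⟨t, ht, t1⟩ := SetLike.not_le_iff_exists.1 e
      have k1 := ((H1.NG.mem_zp2 h.z_sq).1 (cm t ht)).resolve_left fun e =>
        t1 (mem_C1_iff_conj.2 (mul_inv_eq_one.1 e))
      have k2 : z ∈ cj g (XK V z K) := by
        simpa only [← k1, mul_assoc] using
          mul_mem (AX ht.2) (conj_mem (norm_cj XK_nml g (BP hb)) (inv_mem (AX ht.2)))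
      obtain ⟨p1, p2⟩ := pt h.ca h.hm h.m1
      rw [relIndex_eq_one.2 fun y hy => mem_C_iff_le_C1.2 (A6.genV h.ca p1 p2
        (mem_C1.2 ((ab.cj g).comm k2 (AX hy))) (mem_C1_comm.1 (Am hy))), mul_one]
      exact idx2 h.z_sq h.z1 ((inf_le_left.trans inf_le_right).trans (A6.cV h.ca)) cm
  have := Nat.mul_le_mul i5 i4
  have : 0 < 2 ^ n := by positivity
  nlinarith

end H12.NG
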