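import Cfsg.Agent.H12.NGBk
import Cfsg.Agent.H1.NGa2
import Cfsg.Agent.H28.NT1

/-! # Case (A), `U` and `W` abelian: the case `|U| = 8` -/

set_option autoImplicit false
set_option linter.all false

namespace H12.NG

open Subgroup Cfsg H24 H11.ZN
open H26 H3.NG

universe u

variable {G : Type u} [Group G] [Finite G] {S V K H H₀ T P P₁ P₂ X E K₁ : Subgroup G}
  {z y a r b g k m m' u x f δ μ μ' w w' s c : G} {n : ℕ}

theorem zp_inf_eq (hz : z * z = 1) (hr : r * r = 1) (hne : z ≠ r) (h1 : x ∈ zpowers z)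
    (h2 : x ∈ zpowers r) : x = 1 := by
  rcases (mem_zp2 hz).1 h1 with e | e
  · exact e
  · exact ((mem_zp2 hr).1 h2).resolve_right fun e' => hne (e.symm.trans e')

namespace CB
variable (h : CB S V z)
include h

theorem ca : CA S V z := h.toCA

theorem cj_U_le_W (hm : m ∈ N[V]) : cj m (Uz V z) ≤ Wv V := by
  rw [← CA.Uz_conj₁ hm]; exact le_sup3 (X := Uz V) (conj_mem hm h.ca.z_mem) (cjne m h.z1)

theorem cmW (g : G) (hm : m ∈ N[V]) (hm' : m' ∈ N[V]) :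
    cj (g * m) (Uz V z) ≤ C[cj (g * m') (Uz V z)] := by
  rw [cj_mul, cj_mul]; exact cent_cj (h.abW.cents (h.cj_U_le_W hm) (h.cj_U_le_W hm')) g

theorem cjU (g : G) (hk : k ∈ C{z}) : cj (g * k) (Uz V z) = cj g (Uz V z) := by
  rw [cj_mul, cj_of_mem_N (h.ca.U_nml.norm hk)]

theorem V_le_cjU (g : G) (hm : m ∈ N[V]) : cj g V ≤ cj (g * m) (Uz V z) := by
  have := cj_mono (g * m) h.ca.V_le_U
  rwa [cj_mul g m V, cj_of_mem_N hm] at this

theorem cmU (g : G) (hk : k ∈ C{z}) (hm : m ∈ N[V]) : cj (g * k * m) (Uz V z) ≤ C[cj g (Uz V z)] := by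
  have := h.cmW (g * k) hm (one_mem _)
  rwa [mul_one, h.cjU g hk] at this

theorem normU (hw : w ∈ C{g * z * g⁻¹}) : w ∈ N[cj g (Uz V z)] := by
  rw [← cj_C1] at hw
  rw [← cj_N]; exact cj_mono g h.ca.U_nml.norm hw

theorem pt_mem (g : G) (hm : m ∈ N[V]) : g * m * z * (g * m)⁻¹ ∈ cj g V := by
  have := conj_mem_cj g (conj_mem hm h.ca.z_mem)
  convert this using 1; group

theorem half (h8 : ♯(Uz V z) = 8) (hk : k ∈ C{z}) (hm : m ∈ N[V]) (hw : w ∈ C[Uz V z])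
    (hw' : w' ∈ cj (k * m) (Uz V z)) : w * w' * w⁻¹ * w'⁻¹ ∈ cj k V := by
  have h1 : w ∈ C[cj k V] := C_anti (le_ncl hk) hw
  exact A6.cm2 (h.V_le_cjU k hm) (by rw [card_cj, card_cj, h8, h.card]) (C_le_N _ h1)
    (h.normU (C_le_C1 (h.pt_mem k hm) h1)) hw'

theorem K1' (h8 : ♯(Uz V z) = 8) (hk : k ∈ C{z}) (hm : m ∈ N[V]) (hm' : m' ∈ N[V])
    (hw : w ∈ cj (k * m) (Uz V z)) (hw' : w' ∈ cj m' (Uz V z)) :
    w * w' * w⁻¹ * w'⁻¹ ∈ zpowers z := by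
  by_cases hkM : k ∈ N[V]
  · have := h.cmW 1 (mul_mem hkM hm) hm'
    rw [one_mul, one_mul] at this
    rw [conj_eq_of_mem_C (this hw) hw']; simp
  have c1 := h.cmU 1 hk hm
  have c2 := h.cmU 1 (one_mem _) hm'
  simp only [one_mul, cj_one] at c1 c2
  have e1 := h.half h8 (one_mem _) hm' (c1 hw) (by rwa [one_mul])
  have e2 := cm_symm (h.half h8 hk hm (c2 hw') hw)
  rw [cj_one] at e1
  have := A6.infV h.ca (inv_mem hk) (fun e => hkM (inv_mem_iff.1 e)) e1 (by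
    rw [inv_inv]; exact mem_cj.1 e2)
  exact this

theorem K1 (h8 : ♯(Uz V z) = 8) (g : G) (hk : k ∈ C{z}) (hm : m ∈ N[V]) (hm' : m' ∈ N[V])
    (hw : w ∈ cj (g * k * m) (Uz V z)) (hw' : w' ∈ cj (g * m') (Uz V z)) :
    w * w' * w⁻¹ * w'⁻¹ ∈ zpowers (g * z * g⁻¹) := by
  rw [mul_assoc, cj_mul] at hw
  rw [cj_mul] at hw'
  obtain ⟨w, hw1, rfl⟩ := mem_cj'.1 hw
  obtain ⟨w', hw2, rfl⟩ := mem_cj'.1 hw'
  rw [← cj_zpowers]
  convert conj_mem_cj g (h.K1' h8 hk hm hm' hw1 hw2) using 1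
  group

/-- one commuting pair of generators suffices -/
theorem K2 (h8 : ♯(Uz V z) = 8) (hk : k ∈ C{z}) (hc : c ∈ C{z}) (hm : m ∈ N[V]) (hm' : m' ∈ N[V])
    (hw : w ∈ cj (k * m) (Uz V z)) (n1 : w ∉ cj k V) (hw' : w' ∈ cj (c * m') (Uz V z))
    (n2 : w' ∉ cj c V) (e : w ∈ C{w'}) : cj (k * m) (Uz V z) ≤ C[cj (c * m') (Uz V z)] := by
  have c1 := h.cmU 1 hk hm
  have c2 := h.cmU 1 hc hm'
  simp only [one_mul, cj_one] at c1 c2
  have h1 : cj (c * m') (Uz V z) ≤ C{w} :=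
    A6.gen2 (h.V_le_cjU c hm') (by rw [card_cj, card_cj, h8, h.card]) hw' n2
      (mem_C_iff_le_C1.1 (C_anti (le_ncl hc) (c1 hw))) (mem_C1_comm.1 e)
  exact A6.gen2 (h.V_le_cjU k hm) (by rw [card_cj, card_cj, h8, h.card]) hw n1
    (cents_symm (cents_of_le c2 (le_ncl hk))) (mem_C_iff_le_C1.2 h1)

theorem mvz (hx : x ∈ Qz z) (hu : u ∈ Uz V z) (hn : x ∉ C{u}) : x * u * x⁻¹ = z * u := by
  rcases (mem_zp2 h.ca.z_sq).1 (h.ca.cm_U₁ hu hx) with e | e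
  · exact absurd (mem_C1_iff_conj.2 (mul_inv_eq_one.1 e)) hn
  · rw [← e]; group

theorem three (h8 : ♯(Uz V z) = 8) (hs : s ∈ Uz V z) (n1 : s ∉ V) (hr : r ∈ V) (n2 : r ∉ zpowers z) :
    ∃ e ∈ C{z}, e * s * e⁻¹ ∉ V ∧ e * r * e⁻¹ ∉ V := by
  obtain ⟨f, hf, fV, f3, -⟩ := A6.exF h.ca h8
  have f1 : f * r * f⁻¹ ∉ V := fun e => fV (A6.nV h.ca hf hr n2 e)
  have f2 : f * f * r * (f * f)⁻¹ ∉ V := fun e => fV (by
    have := A6.nV h.ca (mul_mem hf hf) hr n2 e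
    have e2 : f = f * f * (f * f) := by
      calc f = f ^ 3 * f := by rw [f3, one_mul]
        _ = _ := by rw [pow_succ, pow_two]; group
    rw [e2]; exact mul_mem this this)
  by_cases e1 : f * s * f⁻¹ ∈ V
  · refine ⟨f * f, mul_mem hf hf, fun e2 => fV (A6.nV h.ca hf e1 (fun e3 => n1 ?_) ?_), f2⟩
    · exact A6.zV h.ca ((conj_mem_iff (A6.zN hf)).1 e3)
    · convert e2 using 1; group
  · exact ⟨f, hf, e1, f1⟩

theorem exx (h8 : ♯(Uz V z) = 8) (hs : s ∈ Uz V z) (n1 : s ∉ V) :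
    ∃ x ∈ Qz z, x ∈ C{s} ∧ x ∉ C[V] := by
  by_contra hn
  push Not at hn
  obtain ⟨r, hr, n2⟩ := A6.exY h.ca
  obtain ⟨x₀, hx₀, hx₀'⟩ := A6.exX h.ca
  have VU := h.ca.V_le_U
  have c8 : ♯(Uz V z) ≤ 2 * ♯V := by rw [h8, h.card]
  have ab := h.abU
  have QC := (CA.Q_nml₁ z).le
  have k0 : ∀ x ∈ Qz z, x ∉ C[V] → x ∈ C{r * s} := fun x hx hx' => by
    rw [mem_C1_iff_conj, cjm, A6.xsw h.ca (QC hx) (h.ca.Q_le_N₁ hx) hx' hr n2,
      h.mvz hx hs fun e => hx' (hn x hx e)]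
    calc z * r * (z * s) = z * (r * z) * s := by group
      _ = r * s := by rw [ab.comm (VU hr) (VU h.ca.z_mem), ← mul_assoc, h.ca.z_sq, one_mul]
  have k1 : Qz z ≤ C{r * s} := fun x hx => by
    by_cases hx' : x ∈ C[V]
    · have := k0 (x * x₀) (mul_mem hx hx₀) fun e => hx₀' ((mul_mem_cancel_left hx').1 e)
      exact (mul_mem_cancel_right (k0 x₀ hx₀ hx₀')).1 this
    · exact k0 x hx hx'
  have t1 : r * s ∉ V := fun e => n1 ((mul_mem_cancel_left hr).1 e)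
  have tU : r * s ∈ Uz V z := mul_mem (VU hr) hs
  -- conjugate `r * s` into `V`
  have key : ∀ e ∈ C{z}, e * (r * s) * e⁻¹ ∉ V := fun e he hV => by
    have n3 : e * (r * s) * e⁻¹ ∉ zpowers z := fun e3 =>
      t1 (A6.zV h.ca ((conj_mem_iff (A6.zN he)).1 e3))
    have : Qz z ≤ C{e * (r * s) * e⁻¹} := by
      rw [← cj_C1, ← cj_of_mem_N (A6.QN he)]; exact cj_mono e k1
    exact hx₀' (mem_C_iff_le_C1.2 (A6.genV h.ca hV n3 (mem_C1_comm.1 (QC hx₀))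
      (mem_C1_comm.1 (this hx₀))))
  obtain ⟨f, hf, fV, f3, -⟩ := A6.exF h.ca h8
  have nU := h.ca.U_nml.norm hf
  have a1 := conj_mem nU tU
  have a2 := conj_mem nU a1
  have b1 := key f hf
  have b2 : f * (f * (r * s) * f⁻¹) * f⁻¹ ∉ V := by
    have := key (f * f) (mul_mem hf hf); convert this using 1; group
  have d1 := A6.mul2 VU c8 tU t1 a1 b1
  have d2 := A6.mul2 VU c8 a1 b1 a2 b2
  rw [← cjm] at d2
  have d3 := A6.infV h.ca hf fV d1 d2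
  have q1 : f * (r * s) * f⁻¹ = r * s * (r * s * (f * (r * s) * f⁻¹)) := by
    rw [← mul_assoc (r * s) (r * s), ea_sq h.ea_U tU, one_mul]
  -- `f` fixes `r s` modulo `z`; also look at `r`
  have f1 : f * r * f⁻¹ ∉ V := fun e => fV (A6.nV h.ca hf hr n2 e)
  have g1 := A6.mul2 VU c8 (conj_mem nU (VU hr)) f1 tU t1
  have g2 : f * (f * r * f⁻¹) * f⁻¹ ∉ V := fun e => fV (by
    have := A6.nV h.ca (mul_mem hf hf) hr n2 (by convert e using 1; group)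
    have e2 : f = f * f * (f * f) := by
      calc f = f ^ 3 * f := by rw [f3, one_mul]
        _ = _ := by rw [pow_succ, pow_two]; group
    rw [e2]; exact mul_mem this this)
  have g3 := A6.mul2 VU c8 (conj_mem nU (conj_mem nU (VU hr))) g2 a1 b1
  rw [← cjm] at g3
  have g4 := A6.infV h.ca hf fV g1 g3
  refine key f⁻¹ (inv_mem hf) ?_
  have g5 := mul_mem hr (A6.zV h.ca (conj_mem' (A6.zN hf) g4))
  convert g5 using 1
  calc _ = r * r * (f⁻¹ * (r * s) * f⁻¹⁻¹) := by rw [ea_sq h.ea hr, one_mul]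
    _ = _ := by group

theorem kappa (h8 : ♯(Uz V z) = 8) (hk : k ∈ C{z}) (hm : m ∈ N[V]) (hm' : m' ∈ N[V]) :
    cj (k * m) (Uz V z) ≤ C[cj m' (Uz V z)] := by
  by_contra hn
  have VU := h.ca.V_le_U
  have c8 : ♯(Uz V z) ≤ 2 * ♯V := by rw [h8, h.card]
  have z2 := h.ca.z_sq
  have kM : k ∉ N[V] := fun e => hn (by simpa using h.cmW 1 (mul_mem e hm) hm')
  have m1 : m ∉ C{z} := fun e => hn (by
    rw [h.cjU k e, cj_of_mem_N (h.ca.U_nml.norm hk)]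
    simpa using h.cmW 1 (one_mem _) hm')
  have m2 : m' ∉ C{z} := fun e => hn (by
    rw [cj_of_mem_N (h.ca.U_nml.norm e)]; simpa using h.cmU 1 hk hm)
  have nz : ∀ μ ∈ N[V], μ ∉ C{z} → μ * z * μ⁻¹ ∉ zpowers z := fun μ h1 h2 =>
    A6.nz h.ca (cjne μ h.z1) fun e => h2 (mem_C1_iff_conj.2 e)
  set r := m'⁻¹ * z * m'⁻¹⁻¹ with hr
  have rV : r ∈ V := conj_mem (inv_mem hm') h.ca.z_mem
  have rz : r ∉ zpowers z := nz _ (inv_mem hm') fun e => m2 (inv_mem_iff.1 e)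
  have r2 := ea_sq h.ea rV
  have zr : z ≠ r := fun e => rz (e ▸ mem_zpowers z)
  obtain ⟨a, ha, ha'⟩ : ∃ a ∈ cj (m'⁻¹ * k * m) (Uz V z), a ∉ C[Uz V z] := by
    by_contra e
    push Not at e
    have := cent_cj (fun a ha => e a ha : cj (m'⁻¹ * k * m) (Uz V z) ≤ C[Uz V z]) m'
    rw [← cj_mul, mul_assoc, mul_inv_cancel_left] at this
    exact hn this
  have aV : a ∈ C[V] := C_anti (by simpa using h.V_le_cjU 1 (inv_mem hm')) (h.cmU _ hk hm ha)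
  have aC := h.ca.CV_le₁ aV
  have a2 : a * a = 1 := ea_sq (ea_cj h.ea_U _) ha
  have sw : ∀ s ∈ Uz V z, s ∉ V → a * s * a⁻¹ = r * s := fun s hs n1 => by
    rcases (mem_zp2 r2).1 (h.K1 h8 m'⁻¹ hk hm hm' ha (by simpa using hs)) with e | e
    · exact absurd (mem_C_iff_le_C1.2 (A6.gen2 VU c8 hs n1 (mem_C_iff_le_C1.1 aV)
        (mem_C1_comm.1 (mem_C1_iff_conj.2 (mul_inv_eq_one.1 e))))) ha'
    · rw [← e]; group
  have st3 : ∀ c ∈ C{z}, cj (c * m) (Uz V z) ≤ C[cj (a * c * m) (Uz V z)] := fun c hc => by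
    obtain ⟨u, hu, hu'⟩ := A6.exU h.ca
    have hw : c * m * u * (c * m)⁻¹ ∈ cj (c * m) (Uz V z) := conj_mem_cj _ hu
    have n1 : c * m * u * (c * m)⁻¹ ∉ cj c V := by
      rw [← cj_of_mem_N hm, ← cj_mul, conj_mem_cj_iff]; exact hu'
    generalize c * m * u * (c * m)⁻¹ = w at hw n1
    have w2 : w * w = 1 := ea_sq (ea_cj h.ea_U _) hw
    have hw' : a * w * a⁻¹ ∈ cj (a * c * m) (Uz V z) := by
      rw [mul_assoc a c, cj_mul]; exact conj_mem_cj a hw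
    have wr : w ∈ C{r} := C_le_C1 (VU rV) (by simpa using h.cmU 1 hc hm (by rwa [one_mul]))
    have e1 := h.K1 h8 (a * c) (k := c⁻¹ * a⁻¹ * c) (mul_mem (mul_mem (inv_mem hc) (inv_mem aC)) hc)
      hm hm (w := w) (by convert hw using 2; group) hw'
    rw [mem_C1_iff_conj.1 (mul_mem aC hc)] at e1
    have e3 : m'⁻¹ * k * z * (m'⁻¹ * k)⁻¹ = r := by
      calc _ = m'⁻¹ * (k * z * k⁻¹) * m'⁻¹⁻¹ := by group
        _ = _ := by rw [mem_C1_iff_conj.1 hk]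
    have e2 := h.K1 h8 (m'⁻¹ * k) (k := (m'⁻¹ * k)⁻¹ * w * (m'⁻¹ * k)) (by
        rw [← mem_cj, cj_C1, e3]; exact wr) hm hm (w := w * a * w⁻¹) (by
        rw [show m'⁻¹ * k * ((m'⁻¹ * k)⁻¹ * w * (m'⁻¹ * k)) * m = w * (m'⁻¹ * k * m) by group, cj_mul]
        exact conj_mem_cj w ha) ha
    rw [e3] at e2
    have e4 : w * a * w⁻¹ * a * (w * a * w⁻¹)⁻¹ * a⁻¹ = w * (a * w * a⁻¹) * w⁻¹ * (a * w * a⁻¹)⁻¹ := by
      simp only [mul_inv_rev, inv_inv, inv_sq w2, inv_sq a2, mul_assoc]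
    rw [e4] at e2
    refine h.K2 h8 hc (mul_mem aC hc) hm hm hw n1 hw' (by rw [cj_mul, conj_mem_cj_iff]; exact n1)
      (mem_C1_iff_conj.2 (mul_inv_eq_one.1 (zp_inf_eq z2 r2 zr e1 e2)))
  have pV : k * m * z * (k * m)⁻¹ ∉ V := fun e => nz m hm m1 (A6.infV h.ca hk kM
    (conj_mem hm h.ca.z_mem) (by convert e using 1; group))
  have pU : k * m * z * (k * m)⁻¹ ∈ Uz V z := le_ncl hk (h.pt_mem k hm)
  obtain ⟨e, he, n1, n2⟩ := h.three h8 pU pV (conj_mem hm' h.ca.z_mem) (nz m' hm' m2)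
  have nU := h.ca.U_nml.norm he
  have sU := conj_mem nU pU
  have sU' := conj_mem nU (VU (conj_mem hm' h.ca.z_mem))
  have d1 := A6.mul2 VU c8 sU' n2 sU n1
  have d2 : e * (m' * z * m'⁻¹) * e⁻¹ * (e * (k * m * z * (k * m)⁻¹) * e⁻¹) ∉ zpowers z := fun e1 => by
    rw [← cjm, conj_mem_iff (A6.zN he)] at e1
    exact pV ((mul_mem_cancel_left (conj_mem hm' h.ca.z_mem)).1 (A6.zV h.ca e1))
  have s3 := st3 (e * k) (mul_mem he hk)
  have fin : cj (e * k * m) (Uz V z) ≤ C[cj (e * m') (Uz V z)] → False := fun e1 => hn (by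
    have := cent_cj e1 e⁻¹
    rwa [← cj_mul, ← cj_mul, mul_assoc e, inv_mul_cancel_left, inv_mul_cancel_left] at this)
  have sw' := sw _ sU n1
  have s2 := ea_sq h.ea_U sU
  rcases A6.memV h.ca rV rz d1 with e1 | e1 | e1 | e1
  · exact d2 (by rw [e1]; exact one_mem _)
  · exact d2 (by rw [e1]; exact mem_zpowers z)
  · refine fin ?_
    rwa [h.ca.cj_U_eq (g := e * m') (k := a * (e * k) * m) ?_]
    calc _ = e * (m' * z * m'⁻¹) * e⁻¹ * (e * (k * m * z * (k * m)⁻¹) * e⁻¹ *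
        (e * (k * m * z * (k * m)⁻¹) * e⁻¹)) := by rw [s2]; group
      _ = a * (e * (k * m * z * (k * m)⁻¹) * e⁻¹) * a⁻¹ := by rw [← mul_assoc, e1, sw']
      _ = _ := by group
  · obtain ⟨x, hx, hx1, hx2⟩ := h.exx h8 sU n1
    have xC := (CA.Q_nml₁ z).le hx
    refine fin ?_
    have s4 := cent_cj s3 x
    rw [← cj_mul, ← cj_mul] at s4
    rwa [h.ca.cj_U_eq (g := e * m') (k := x * (a * (e * k) * m)) ?_,
      h.ca.cj_U_eq (g := e * k * m) (k := x * (e * k * m)) ?_]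
    · calc _ = e * (k * m * z * (k * m)⁻¹) * e⁻¹ := by group
        _ = x * (e * (k * m * z * (k * m)⁻¹) * e⁻¹) * x⁻¹ := (mem_C1_iff_conj.1 hx1).symm
        _ = _ := by group
    · calc _ = e * (m' * z * m'⁻¹) * e⁻¹ * (e * (k * m * z * (k * m)⁻¹) * e⁻¹ *
          (e * (k * m * z * (k * m)⁻¹) * e⁻¹)) := by rw [s2]; group
        _ = x * (a * (e * (k * m * z * (k * m)⁻¹) * e⁻¹) * a⁻¹) * x⁻¹ := by
          rw [← mul_assoc, e1, sw', cjm x r, mem_C1_iff_conj.1 hx1,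
            A6.xsw h.ca xC (h.ca.Q_le_N₁ hx) hx2 rV rz]
        _ = _ := by group

theorem dec (hr : r ∈ V) (hr' : r ∈ cj g V) (r1 : r ≠ 1) :
    ∃ ν ∈ N[V], ∃ k ∈ C{z}, ∃ m ∈ N[V], g = ν * k * m ∧ ν * z * ν⁻¹ = r := by
  obtain ⟨ν, hν, e, h'⟩ := h.ca.exists_at₂ hr r1
  obtain ⟨c, hc, e'⟩ := h'.line hr'
  refine ⟨ν, hν, ν⁻¹ * c * ν, by rw [← mem_cj, cj_C1, e]; exact hc, ν⁻¹ * (c⁻¹ * g),
    mul_mem (inv_mem hν) (cj_eq_cj_iff.1 e'), by group, e⟩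

theorem nq (hr : r ∈ V) (hr' : r ∈ cj g V) (r1 : r ≠ 1) (rz : r ≠ z) (rq : r ≠ g * z * g⁻¹)
    (hne : cj g V ≠ V) : g * z * g⁻¹ ∉ Uz V z := fun hq => by
  obtain ⟨ν, hν, e, h'⟩ := h.ca.exists_at₂ hr r1
  obtain ⟨c, hc, e'⟩ := h'.line hr'
  have q1 := conj_mem_cj g h.ca.z_mem
  refine hne (h'.line_D hr' (four_le₂ (by rw [card_cj, h.card]) hr' q1 r1 (cjne g h.z1) rq.symm
    (h.ca.V_le_D hr) ?_))
  rw [h.ca.D_eq hr r1 rz]
  exact ⟨hq, le_ncl hc (e' ▸ q1)⟩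

variable {Γ : Type u} [Group Γ] [Finite Γ] {ι : Uz V z →* Γ} {ρ : C{z} →* Γ}

theorem core8 (d : H1.NG.MD V z ι ρ) (hA : cj g (Uz V z) ≤ C{z}) (hq : g * z * g⁻¹ ∉ Uz V z) :
    ♯(cj g (Qz z) ⊓ Uz V z) ≤ 2 * ♯(ι.range ⊓ C[img ρ (cj g (Uz V z))]) := by
  rw [← d.card_pre h.ca inf_le_left]
  refine card_le_of_le fun x hx => mem_pre.2 ⟨hx.2, H1.NG.ap_rng ι hx.2, mem_C_iff_le_C1.2 fun γ hγ => ?_⟩
  obtain ⟨a, ha, -, rfl⟩ := mem_img.1 hγ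
  refine mem_C1_comm.1 ((d.C1 h.ca (hA ha) hx.2).2 ?_)
  have h' := h.ca.conjG₁ g
  have e := h'.cm_U₁ (y := a) (g := x) (by rwa [CA.Uz_conj]) (by rw [CA.Qz_conj]; exact hx.1)
  rcases (mem_zp2 h'.z_sq).1 (cm_symm e) with e1 | e1
  · rw [e1]; exact one_mem _
  · exact absurd (e1 ▸ mul_mem (conj_mem (h.ca.U_nml.norm (hA ha)) hx.2) (inv_mem hx.2)) hq

theorem ea_img (d : H1.NG.MD V z ι ρ) (hA : cj g (Uz V z) ≤ C{z}) : EA (img ρ (cj g (Uz V z))) :=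
  ea_of_sq fun γ hγ => by
    obtain ⟨a, ha, -, rfl⟩ := mem_img.1 hγ
    rw [← ap_mul _ (hA ha) (hA ha), ea_sq (ea_cj h.ea_U g) ha, ap_one]

theorem card_img8 (d : H1.NG.MD V z ι ρ) (hA : X ≤ C{z}) : ♯(img ρ X) = (Qz z).relIndex X := by
  rw [card_img _ hA]
  congr 1
  ext x; rw [mem_pre_bot]
  exact ⟨fun e => (d.ker x e.1).1 e.2, fun e => ⟨A6.QC e, (d.ker x (A6.QC e)).2 e⟩⟩

theorem gen_tv (d : H1.NG.MD V z ι ρ) (hA : cj g (Uz V z) ≤ C{z}) (hB : Uz V z ≤ C{g * z * g⁻¹})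
    (hq : g * z * g⁻¹ ∉ Uz V z) (hz : z ∉ cj g (Uz V z)) :
    img ρ (cj g (Uz V z)) ≤ closure {t | t ∈ img ρ (cj g (Uz V z)) ∧ Tv ι.range t} := by
  refine d.md.m2 (h.ea_img d hA) (img_le_range _ _) ?_
  have hA' : cj g⁻¹ (Uz V z) ≤ C{z} := by rwa [← le_cj_iff, cj_C1]
  have a1 := h.core8 d hA hq
  have a2 := h.core8 d hA' (by rw [inv_inv, ← mem_cj]; exact hz)
  have a3 := d.md.m1 (h.ea_img d hA') (img_le_range _ _)
  rw [h.card_img8 d hA', ← relIndex_cj g, cj_cj_inv] at a3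
  rw [← card_cj g, cj_inf, cj_cj_inv] at a2
  rw [h.card_img8 d hA]
  have a4 := d.card_U h.ca
  have a5 := card_inf_mul_relIndex (Qz z) (cj g (Uz V z))
  have a6 := card_inf_mul_relIndex (cj g (Qz z)) (Uz V z)
  rw [card_cj] at a5
  have p : 0 < ♯(Qz z ⊓ cj g (Uz V z)) := Nat.card_pos
  have a7 : (cj g (Qz z)).relIndex (Uz V z) ≤ (Qz z).relIndex (cj g (Uz V z)) := by
    refine Nat.le_of_mul_le_mul_left ?_ p
    nlinarith
  nlinarith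

end CB

theorem KD.eight (h : KD S V z K) (h8 : ♯(UK V K) = 8) (h1 : cj g (UK V K) ≤ C[V])
    (h2 : UK V K ≤ C[cj g V]) : cj g (UK V K) ≤ QK V z K := by
  intro a ha
  by_contra ha'
  have c := h.toCB
  have c8 : ♯(UK V K) ≤ 2 * ♯V := by rw [h8, h.card]
  have aP := h.CV_le_P (h1 ha)
  obtain ⟨b, hb, rz⟩ : ∃ b ∈ UK V K, a * b * a⁻¹ * b⁻¹ ∉ zpowers z := by
    by_contra e
    push Not at e
    exact ha' (h.mem_Q' aP e)
  have rV := A6.cm2 h.V_le_UK c8 (C_le_N _ (h1 ha)) (h.UK_nml.norm aP) hb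
  have rV' := cm_symm (A6.cm2 (cj_mono g h.V_le_UK) (by rw [card_cj, card_cj]; exact c8) (C_le_N _ (h2 hb))
    (by rw [← cj_N]; exact cj_mono g (h.CV_le_P.trans h.UK_nml.norm) (by rw [cj_C]; exact h2 hb)) ha)
  set r := a * b * a⁻¹ * b⁻¹ with hr
  have r1 : r ≠ 1 := fun e => rz (by rw [e]; exact one_mem _)
  have rz' : r ≠ z := fun e => rz (by rw [e]; exact mem_zpowers z)
  have fin : cj g (Uz V z) ≤ C[Uz V z] → False := fun e =>
    ha' (h.C_le_QK (C_anti h.UK_le_U (e (cj_mono g h.UK_le_U ha))))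
  obtain ⟨ν, hν, k, hk, m, hm, e, er⟩ := c.dec rV rV' r1
  have n1 := c.cmU ν hk hm
  have n2 := c.cmU ν (one_mem _) (inv_mem hν)
  rw [← e] at n1
  rw [mul_one, mul_inv_cancel, cj_one] at n2
  have hA : cj g (Uz V z) ≤ C[V] := cents_of_le n1 (by simpa using c.V_le_cjU 1 hν)
  have hB : Uz V z ≤ C[cj g V] := cents_of_le n2 (by
    rw [e, cj_mul, cj_of_mem_N hm, cj_mul]; exact cj_mono ν (le_ncl hk))
  have hne : cj g V ≠ V := fun e1 => fin (by simpa using c.cmW 1 (mem_N_iff_cj.2 e1) (one_mem _))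
  have rq : r ≠ g * z * g⁻¹ := fun e1 => fin (by
    rw [h.ca.cj_U_eq (k := ν) (by rw [← e1, er])]; exact cents_symm n2)
  have hq := c.nq rV rV' r1 rz' rq hne
  have hz : z ∉ cj g (Uz V z) := by
    have := c.nq (g := g⁻¹) (mem_cj.1 rV') (by simpa using conj_mem_cj g⁻¹ rV) (by simpa using cjne g⁻¹ r1)
      (fun e1 => rq (by rw [← e1]; group)) (fun e1 => rz' (by simpa using e1))
      (fun e1 => hne (cj_eq_iff.2 e1.symm))
    rwa [inv_inv, ← mem_cj] at this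
  obtain ⟨Γ, _, _, ι, ρ, d⟩ := H1.NG.exists_MD h.ca
  have AC := hA.trans h.ca.CV_le₁
  have gen := c.gen_tv d AC (hB.trans (C_le_C1 (conj_mem_cj g h.ca.z_mem))) hq hz
  have KF : img ρ K ≤ F[ρ.range] := d.F ▸ img_mono ρ h.kf
  have aA := cj_mono g h.UK_le_U ha
  obtain ⟨t, ht, hT, ht'⟩ : ∃ t ∈ img ρ (cj g (Uz V z)), Tv ι.range t ∧ t ∉ C[img ρ K] := by
    by_contra e1
    push Not at e1
    have := (closure_le _).2 (fun t ht => e1 t ht.1 ht.2) (gen (ap_mem_img ρ aA (AC aA)))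
    refine ha' (h.mem_QK_of (AC aA) (C_le_N _ (hA aA)) fun w hw => ?_)
    have wC := h.K_le_C hw
    have m1 := conj_mem (norm_self _ (AC aA)) wC
    rw [← d.ker _ (mul_mem m1 (inv_mem wC)), ap_mul _ m1 (inv_mem wC), ap_conj _ (AC aA) wC, ap_inv _ wC,
      conj_eq_of_mem_C this (ap_mem_img ρ hw wC), mul_inv_cancel]
  have t2 := ea_sq (c.ea_img d AC) ht
  have tN : t ∈ N[img ρ K] := img_norm ρ (hA.trans (h.CV_le_P.trans h.K_nml.norm)) ht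
  obtain ⟨κ, hκ, hκ'⟩ : ∃ κ ∈ img ρ K, ¬ t * κ = κ * t := by
    by_contra e1
    push Not at e1
    exact ht' (mem_C'.2 e1)
  have fK : κ * (t * κ⁻¹ * t⁻¹) ∈ img ρ K := mul_mem hκ (conj_mem tN (inv_mem hκ))
  have f1 : κ * (t * κ⁻¹ * t⁻¹) ≠ 1 := fun e1 => hκ' (by
    calc t * κ = κ * (t * κ⁻¹ * t⁻¹) * (t * κ) := by rw [e1, one_mul]
      _ = _ := by group)
  have fi : t * (κ * (t * κ⁻¹ * t⁻¹)) * t⁻¹ = (κ * (t * κ⁻¹ * t⁻¹))⁻¹ := by
    simp only [mul_inv_rev, inv_inv, inv_sq t2, mul_assoc, t2, mul_one]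
  generalize κ * (t * κ⁻¹ * t⁻¹) = f at fK f1 fi
  obtain ⟨f3, f4⟩ := d.md.m3 (img_le_range _ _ ht) hT (KF fK) f1 fi
  have Fv := d.F_v h.ca rV r1 rz'
  have fN := d.md.nF (KF fK)
  have UC := h.UK_le_U
  -- `v` lies in `[U, f]`
  have vN : ap ι r ∈ ⁅ι.range, zpowers f⁆ := by
    obtain ⟨f', hf', -, rfl⟩ := mem_img.1 fK
    have fC := h.K_le_C hf'
    have c4 : ♯(img ι (UK V K)) = 4 := by
      have := d.card_pre h.ca (img_le_range ι (UK V K))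
      rw [pre_img_of_ker_le UC (by rw [d.pre_bot h.ca]; exact zpowers_le.2 h.z_mem_UK), h8] at this
      omega
    have n0 : ap ρ f' ∈ N[img ι (UK V K)] := mem_N_of_finite fun w hw => by
      obtain ⟨u, hu, -, rfl⟩ := mem_img.1 hw
      have := h.UK_nml.conj_mem (h.K_nml.le hf') hu
      rw [← d.sec.act _ fC _ (UC hu)]; exact ap_mem_img ι this (UC this)
    have v0 := ap_mem_img ι (h.V_le_UK rV) (UC (h.V_le_UK rV))
    set Y := ⁅ι.range, zpowers (ap ρ f')⁆ ⊓ img ι (UK V K) with hY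
    have y1 : ap ρ f' * ap ι r * (ap ρ f')⁻¹ * (ap ι r)⁻¹ ∈ Y :=
      ⟨cm_symm (cm_mem (img_le_range _ _ v0) (mem_zpowers _)), Subgroup.mul_mem _ (conj_mem n0 v0) (Subgroup.inv_mem _ v0)⟩
    have y2 : ¬ ♯Y ≤ 2 := fun e1 => by
      have := mem_C_of_card_le_two (mem_N_inf (norm_comm_right _ _ (mem_zpowers _)) n0) e1
      have e2 := (d.md.TI (KF fK)).le ⟨y1.1, mem_C1_comm.1 (C_le_C1 y1 this)⟩
      exact f1 (Fv _ (KF fK) (mem_C1_iff_conj.2 (mul_inv_eq_one.1 (mem_bot.1 e2))))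
    have y3 : ♯Y ∣ 4 := c4 ▸ card_dvd_of_le inf_le_right
    have y4 : ♯Y = 4 := by
      have := Nat.le_of_dvd (by norm_num) y3
      interval_cases h : ♯Y <;> simp_all
    have : Y = img ι (UK V K) := eq_of_le_of_card_ge inf_le_right (by rw [y4, c4])
    exact (this ▸ v0 : ap ι r ∈ Y).1
  have nN : ρ.range ≤ N[⁅ι.range, zpowers f⁆] := fun γ hγ => by
    have γN := d.md.le hγ
    have e1 : ⁅ι.range, zpowers (γ * f * γ⁻¹)⁆ = cj γ ⁅ι.range, zpowers f⁆ := by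
      rw [cj_comm, cj_of_mem_N γN, cj_zpowers]
    have m1 := (Fitting_nml _).conj_mem hγ (KF fK)
    rcases d.md.m4 (KF fK) m1 f3 (by rw [← f3]; exact (MulAut.conj γ).orderOf_eq f) f4 (by rw [e1, card_cj, f4]) with
      e2 | ⟨-, -, e2⟩
    · rw [mem_N_iff_cj, ← e1, ← e2]
    · exact absurd (Fv _ m1 (C_le_C1 vN e2)) (cjne γ f1)
  have le1 : ⁅ι.range, zpowers f⁆ ≤ ι.range := comm1_le fN
  have u1 : Uz V z ≤ pre ι ⁅ι.range, zpowers f⁆ := A6.not_le h.ca (fun x hx => mem_N_of_finite fun u hu =>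
    mem_pre.2 ⟨conj_mem (h.ca.U_nml.norm hx) (pre_le _ _ hu), by
      rw [d.sec.act _ hx _ (pre_le _ _ hu)]
      exact conj_mem (nN (H1.NG.ap_rng ρ hx)) (mem_pre.1 hu).2⟩)
    fun v hv => mem_pre.2 ⟨h.ca.V_le_U hv, zpowers_le.2 vN (d.ap_V h.ca rV r1 rz' hv)⟩
  have u2 := card_le_of_le u1
  rw [d.card_pre h.ca le1, f4] at u2
  have := cent_cj (c.kappa (le_antisymm u2 (A6.U8 h.ca)) hk hm (inv_mem hν)) ν
  rw [← cj_mul, ← cj_mul, mul_inv_cancel, cj_one, ← mul_assoc, ← e] at this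
  exact fin this

end H12.NG
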