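import Cfsg.Agent.H12.NGB1
import Cfsg.Agent.H12.NGB2
import Cfsg.Agent.H12.NGB3
import Cfsg.Agent.H12.NGB4
import Cfsg.Agent.H12.NGB5

/-! # Case (A): `U` and `W` are not both abelian -/

set_option autoImplicit false
set_option linter.all false

namespace H12.NG

open Subgroup Cfsg H24 H11.ZN

universe u

variable {G : Type u} [Group G] [Finite G] {S V : Subgroup G} {z : G}

theorem CB.false (h : CB S V z) : False := by
  obtain ⟨K, hK⟩ := h.exists_KD
  obtain ⟨g, m, m', a, r, c, ha, t⟩ := hK.exists_tv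
  rcases t.split (t.tc c ha) with h8 | ⟨δ, hδ, hδ', f, hf, hf', hc, hi⟩
  · refine t.a_not (hK.eight h8 (cents_of_le c.c1 (hK.V_le_DK.trans (DK_le c.hm)))
      (cents_of_le c.c2 ?_) ha)
    rw [cj_mul]
    exact cj_mono g (hK.V_le_DK.trans (DK_le c.hm'))
  · have h1 := hK.Cdelta t.hm t.m1 t.ac t.a2 hδ hδ' hf hc
    have h2 : f * f ∈ Qz z := by
      have := conj_mem' (A6.QN (hK.K_le_C hf)) (mul_mem (inv_mem h1) hi)
      convert this using 1
      group
    have hn : Qz z ⊴ K := (CA.Q_nml₁ z).of_le hK.qk hK.K_le_C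
    obtain ⟨j, hj⟩ := hK.K_odd
    have h3 := A6.pow_rel hn hf
    rw [hj, pow_succ, pow_mul, pow_two] at h3
    exact hf' ((mul_mem_cancel_left (pow_mem h2 j)).1 h3)

end H12.NG
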