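import Cfsg.Agent.H12.NGB0
import Cfsg.Agent.H12.NGY
import Cfsg.Agent.H12.NGA2

/-! # Case (A), `U` and `W` abelian: basic facts -/

set_option autoImplicit false
set_option linter.all false

namespace H12.NG

open Subgroup Cfsg H24 H11.ZN
open H26 H3.NG

universe u

variable {G : Type u} [Group G] [Finite G] {S V K H H₀ T P P₁ P₂ X E K₁ : Subgroup G}
  {z y a r b g k m m' u x f δ μ μ' : G} {n : ℕ}

theorem F2_cj_le (g : G) (H : Subgroup G) : cj g (F2 H) ≤ F2 (cj g H) := by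
  have e : Q2 (cj g H) = cj g (Q2 H) := pcore_cj _ _ _
  have hN : F2 H ≤ N[Q2 H] := (F2_le H).trans (Q2_nml H).norm
  have hN' : cj g (F2 H) ≤ N[Q2 (cj g H)] := e ▸ norm_cj hN g
  have m : ∀ x ∈ N[Q2 H], g * x * g⁻¹ ∈ N[Q2 (cj g H)] := fun x hx => by
    rw [e, ← cj_N]; exact conj_mem_cj g hx
  let φ : N[Q2 H] →* N[Q2 (cj g H)] :=
    ((MulAut.conj g).toMonoidHom.comp (N[Q2 H]).subtype).codRestrict _ fun x => m x x.2
  let f' := (coset (Q2 (cj g H))).comp φ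
  have hf : ∀ x ∈ N[Q2 H], ap f' x = cs (Q2 (cj g H)) (g * x * g⁻¹) := fun x hx => by
    rw [ap_of_mem _ hx]; exact (ap_of_mem (coset (Q2 (cj g H))) (m x hx)).symm
  have hn : Nil (img f' (F2 H)) := nil_img (f := coset (Q2 H)) hN hN (fun x hx e1 => by
    rw [hf x (hN hx)]
    exact cs_of_mem (e ▸ conj_mem_cj g ((cs_eq_one (hN hx)).1 e1)))
    (by have := Fitting_nil (quo H (Q2 H)); rwa [← quo_F2] at this)
  refine (quo_le_iff hN').1 (Fitting_max (((F2_nml H).cj g).quo _) (hn.of_le fun w hw => ?_))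
  obtain ⟨x, hx, -, rfl⟩ := mem_quo.1 hw
  obtain ⟨x, hx', rfl⟩ := mem_cj'.1 hx
  exact hf x (hN hx') ▸ ap_mem_img _ hx' (hN hx')

theorem F2_cj (g : G) (H : Subgroup G) : F2 (cj g H) = cj g (F2 H) :=
  le_antisymm (le_cj_iff.2 (by simpa using F2_cj_le g⁻¹ (cj g H))) (F2_cj_le g H)

theorem Ch2.cj' (h : Ch2 H) (g : G) : Ch2 (cj g H) :=
  ⟨h.1.cj g, by rw [Q2, pcore_cj, ← cj_C, ← cj_inf, cj_le_cj]; exact h.2⟩

theorem Wv_cj_le (g : G) (V : Subgroup G) : Wv (cj g V) ≤ cj g (Wv V) := sup3_le fun y hy y1 => by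
  obtain ⟨w, hw, rfl⟩ := mem_cj'.1 hy
  rw [CA.Uz_conj]
  exact cj_mono _ (le_sup3 (X := Uz V) hw fun e => y1 (by simp [e]))

theorem CB.conjG (h : CB S V z) (g : G) : CB (cj g S) (cj g V) (g * z * g⁻¹) where
  toCA := h.toCA.conjG₁ g
  ys := fun H h1 h2 => by
    rw [le_cj_iff, ← Ys_cj]
    exact h.ys _ (h1.cj' _) (cj_le_iff.1 h2)
  abU := by rw [CA.Uz_conj]; exact h.abU.cj g
  abW := (h.abW.cj g).of_le (Wv_cj_le g V)

theorem CB.ea_U (h : CB S V z) : EA (Uz V z) := A6.Uea h.toCA h.abU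

theorem CB.ea_W (h : CB S V z) : EA (Wv V) := ea_of_sq fun x hx => by
  let Y : Subgroup G :=
    { carrier := {x | x ∈ Wv V ∧ x * x = 1}
      one_mem' := ⟨one_mem _, by simp⟩
      mul_mem' := fun {a b} ha hb => ⟨mul_mem ha.1 hb.1, by
        calc a * b * (a * b) = a * (b * a) * b := by group
          _ = a * a * (b * b) := by rw [h.abW.comm hb.1 ha.1]; group
          _ = 1 := by rw [ha.2, hb.2, one_mul]⟩
      inv_mem' := fun {a} ha => ⟨inv_mem ha.1, by rw [← mul_inv_rev, ha.2, inv_one]⟩ }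
  have : Wv V ≤ Y := sup3_le fun y hy y1 w hw =>
    ⟨le_sup3 (X := Uz V) hy y1 hw, ea_sq (A6.Uea' h.toCA h.abU hy y1) hw⟩
  exact (this hx).2

theorem CA.CM_dec (h : CA S V z) (hg : g ∈ C{z}) (hn : g ∈ N[V]) : ∃ c ∈ C[V], ∃ q ∈ Qz z, g = c * q := by
  by_cases hc : g ∈ C[V]
  · exact ⟨g, hc, 1, one_mem _, by simp⟩
  obtain ⟨x, hx, hx'⟩ := h.ex_x₁ h.z_mem h.z1
  exact ⟨g * x, four_ix h.ea h.card h.z_mem h.z1 hn hg (h.Q_le_N₁ hx) ((CA.Q_nml₁ z).le hx) hc hx',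
    x⁻¹, inv_mem hx, by group⟩

theorem CA.CM_le (h : CA S V z) : C{z} ⊓ N[V] ≤ C[V] ⊔ Qz z := fun g hg => by
  obtain ⟨c, hc, q, hq, rfl⟩ := h.CM_dec hg.1 hg.2
  exact mul_mem_sup hc hq

theorem inv_mul_mem_C1 (e : g * z * g⁻¹ = k * z * k⁻¹) : k⁻¹ * g ∈ C{z} := mem_C1_iff_conj.2 (by
  calc _ = k⁻¹ * (g * z * g⁻¹) * k := by group
    _ = z := by rw [e]; group)

theorem CA.cj_U_eq (h : CA S V z) (e : g * z * g⁻¹ = k * z * k⁻¹) :
    cj g (Uz V z) = cj k (Uz V z) := cj_eq_cj_iff.2 (h.U_nml.norm (inv_mul_mem_C1 e))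

theorem CB.exists_KD (h : CB S V z) : ∃ K, KD S V z K := by
  obtain ⟨K, -, ⟨h1, h2, h3, h4⟩, h5⟩ := exists_min
    (P := fun K => Qz z ≤ K ∧ K ≤ F2 C{z} ∧ C{z} ⊓ N[V] ≤ N[K] ∧ K ≠ Qz z) (H := F2 C{z})
    ⟨Q2_le_F2 _, le_rfl, inf_le_left.trans (F2_nml _).norm, fun e => h.F_ne e.le⟩
  refine ⟨K, h, h1, h2, h3, h4, fun X a b c => ?_⟩
  by_cases e : X = Qz z
  · exact .inl e
  · exact .inr (h5 X ⟨a, b.trans h2, c, e⟩ b)

theorem UK_cj (g : G) (V K : Subgroup G) : UK (cj g V) (cj g K) = cj g (UK V K) := (cj_ncl g V K).symm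

theorem PK_cj (g : G) (V : Subgroup G) (z : G) (K : Subgroup G) :
    PK (cj g V) (g * z * g⁻¹) (cj g K) = cj g (PK V z K) := by
  rw [PK, PK, cj_sup, cj_inf, cj_C1, cj_N]

theorem QK_cj (g : G) (V : Subgroup G) (z : G) (K : Subgroup G) :
    QK (cj g V) (g * z * g⁻¹) (cj g K) = cj g (QK V z K) := by
  rw [QK, QK, cj_inf, PK_cj, A6.cj_Kq, UK_cj, cj_zpowers]

theorem mem_DK : x ∈ DK V K ↔ ∀ m ∈ N[V], x ∈ cj m (UK V K) := by simp [DK, mem_iInf]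

theorem DK_cj_le (g : G) (V K : Subgroup G) : cj g (DK V K) ≤ DK (cj g V) (cj g K) := fun x hx => by
  obtain ⟨w, hw, rfl⟩ := mem_cj'.1 hx
  refine mem_DK.2 fun m hm => ?_
  rw [← cj_N] at hm
  obtain ⟨m, hm', rfl⟩ := mem_cj'.1 hm
  rw [UK_cj, ← cj_mul, inv_mul_cancel_right, cj_mul]
  exact conj_mem_cj g (mem_DK.1 hw m hm')

theorem DK_cj (g : G) (V K : Subgroup G) : DK (cj g V) (cj g K) = cj g (DK V K) :=
  le_antisymm (le_cj_iff.2 (by simpa using DK_cj_le g⁻¹ (cj g V) (cj g K))) (DK_cj_le g V K)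

theorem le_XK (hk : k ∈ PK V z K) (hm : m ∈ N[V]) : cj (k * m) (UK V K) ≤ XK V z K :=
  le_iSup₂_of_le k hk (le_iSup₂_of_le m hm le_rfl)

theorem XK_le (h : ∀ k ∈ PK V z K, ∀ m ∈ N[V], cj (k * m) (UK V K) ≤ X) : XK V z K ≤ X :=
  iSup₂_le fun k hk => iSup₂_le fun m hm => h k hk m hm

theorem XK_cj_le (g : G) (V : Subgroup G) (z : G) (K : Subgroup G) :
    XK (cj g V) (g * z * g⁻¹) (cj g K) ≤ cj g (XK V z K) := XK_le fun k hk m hm => by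
  rw [PK_cj] at hk
  rw [← cj_N] at hm
  obtain ⟨k, hk', rfl⟩ := mem_cj'.1 hk
  obtain ⟨m, hm', rfl⟩ := mem_cj'.1 hm
  rw [UK_cj, ← cj_mul, show g * k * g⁻¹ * (g * m * g⁻¹) * g = g * (k * m) by group, cj_mul]
  exact cj_mono _ (le_XK hk' hm')

theorem XK_cj (g : G) (V : Subgroup G) (z : G) (K : Subgroup G) :
    XK (cj g V) (g * z * g⁻¹) (cj g K) = cj g (XK V z K) := by
  refine le_antisymm (XK_cj_le g V z K) (cj_le_iff.2 ?_)
  have := XK_cj_le g⁻¹ (cj g V) (g * z * g⁻¹) (cj g K)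
  rwa [cj_inv_cj, cj_inv_cj, show g⁻¹ * (g * z * g⁻¹) * g⁻¹⁻¹ = z by group] at this

theorem mem_QK : g ∈ QK V z K ↔ g ∈ PK V z K ∧ g ∈ N[zpowers z] ∧
    ∀ u ∈ UK V K, g * u * g⁻¹ * u⁻¹ ∈ zpowers z := Iff.rfl

theorem XK_nml : PK V z K ≤ N[XK V z K] := fun p hp => mem_N_of_le_cj (XK_le fun k hk m hm => by
  rw [le_cj_iff, ← cj_mul, ← mul_assoc]
  exact le_XK (mul_mem (inv_mem hp) hk) hm)

theorem DK_le (hm : m ∈ N[V]) : DK V K ≤ cj m (UK V K) := fun _ hx => mem_DK.1 hx m hm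

theorem DK_le_UK : DK V K ≤ UK V K := by simpa using DK_le (K := K) (one_mem N[V])

theorem DK_nml : N[V] ≤ N[DK V K] := fun g hg => mem_N_of_finite fun x hx => mem_DK.2 fun m hm => by
  have := conj_mem_cj g (DK_le (mul_mem (inv_mem hg) hm) hx)
  rwa [← cj_mul, mul_inv_cancel_left] at this

theorem CPs.symm (c : CPs V z K g m m') : CPs V z K g⁻¹ m' m where
  hm := c.hm'
  m1 := c.m1'
  hm' := c.hm
  m1' := c.m1
  c1 := by have := cent_cj c.c2 g⁻¹; rwa [← cj_mul, inv_mul_cancel_left] at this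
  c2 := by have := cent_cj c.c1 g⁻¹; rwa [cj_inv_cj, ← cj_mul] at this
  x1 := by have := cj_mono g⁻¹ c.x2; rwa [← cj_mul, inv_mul_cancel_left] at this
  x2 := by have := cj_mono g⁻¹ c.x1; rwa [cj_inv_cj, ← cj_mul] at this
  two := c.two.imp_left fun ⟨p, hp, e⟩ => ⟨p⁻¹, inv_mem hp, by rw [e]; group⟩

namespace KD
variable (h : KD S V z K)
include h

theorem conjG (g : G) : KD (cj g S) (cj g V) (g * z * g⁻¹) (cj g K) where
  toCB := h.toCB.conjG g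
  qk := by rw [CA.Qz_conj]; exact cj_mono _ h.qk
  kf := by rw [← cj_C1, F2_cj]; exact cj_mono _ h.kf
  nk := by rw [← cj_C1, ← cj_N, ← cj_inf]; exact norm_cj h.nk g
  ne := by rw [CA.Qz_conj, Ne, cj_inj]; exact h.ne
  min := fun X h1 h2 h3 => by
    rw [CA.Qz_conj] at h1 ⊢
    rw [← cj_C1, ← cj_N, ← cj_inf, cj_le_iff, cj_N] at h3
    rcases h.min _ (cj_le_iff.1 h1) (le_cj_iff.1 h2) h3 with e | e
    · left; rw [← e, cj_cj_inv]
    · right; rw [← e, cj_cj_inv]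

theorem ca : CA S V z := h.toCA
theorem K_le_C : K ≤ C{z} := h.kf.trans (F2_le _)
theorem P_le_C : PK V z K ≤ C{z} := sup_le h.K_le_C inf_le_left
theorem K_nml : K ⊴ PK V z K := ⟨le_sup_left, sup_le (norm_self _) h.nk⟩
theorem CM_le_P : C{z} ⊓ N[V] ≤ PK V z K := le_sup_right
theorem CV_le_P : C[V] ≤ PK V z K := (le_inf h.ca.CV_le₁ (norm_of_cent le_rfl)).trans h.CM_le_P
theorem S_le_P : S ≤ PK V z K := (le_inf h.ca.S_le_C h.nml.norm).trans h.CM_le_P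

theorem P_dec (hg : g ∈ PK V z K) : ∃ k ∈ K, ∃ c ∈ C[V], g = k * c := by
  obtain ⟨k, hk, w, hw, rfl⟩ := (mem_sup_of_norm h.nk).1 hg
  obtain ⟨c, hc, q, hq, rfl⟩ := h.ca.CM_dec hw.1 hw.2
  exact ⟨k * (c * q * c⁻¹), mul_mem hk (h.K_nml.conj_mem (h.CV_le_P hc) (h.qk hq)), c, hc, by group⟩

theorem K_inf_M : K ⊓ N[V] = Qz z :=
  le_antisymm (h.ca.F_inf ▸ inf_le_inf_right _ h.kf) (le_inf h.qk h.ca.Q_le_N₁)

theorem K_odd : Odd ((Qz z).relIndex K) :=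
  Odd.of_dvd_nat (F2_odd C{z}) (Dvd.intro _ (relIndex_mul_relIndex _ _ _ h.qk h.kf))

theorem V_le_UK : V ≤ UK V K := self_le_ncl
theorem z_mem_UK : z ∈ UK V K := h.V_le_UK h.ca.z_mem
theorem UK_le_U : UK V K ≤ Uz V z := ncl_le fun _ hg => le_ncl (h.K_le_C hg)

theorem cj_V_le (hg : g ∈ PK V z K) : cj g V ≤ UK V K := by
  obtain ⟨k, hk, c, hc, rfl⟩ := h.P_dec hg
  rw [cj_mul, cj_of_mem_C hc]; exact le_ncl hk

theorem UK_nml : UK V K ⊴ PK V z K :=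
  ⟨(h.UK_le_U.trans h.ca.U_le_Q).trans (h.qk.trans le_sup_left), fun p hp =>
    mem_N_of_le_cj (ncl_le fun k hk => by
      rw [le_cj_iff, ← cj_mul]; exact h.cj_V_le (mul_mem (inv_mem hp) (h.K_nml.le hk)))⟩

theorem ea_UK : EA (UK V K) := ea_le h.toCB.ea_U h.UK_le_U

theorem mem_Q' (hg : g ∈ PK V z K) (hc : ∀ u ∈ UK V K, g * u * g⁻¹ * u⁻¹ ∈ zpowers z) :
    g ∈ QK V z K := ⟨hg, CA.zp_norm₁ z (h.P_le_C hg), hc⟩

theorem Q_le_QK : Qz z ≤ QK V z K := fun _ hg =>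
  h.mem_Q' (h.K_nml.le (h.qk hg)) fun _ hu => h.ca.cm_U₁ (h.UK_le_U hu) hg

theorem QK_nml : QK V z K ⊴ PK V z K :=
  nml_inf_of_norm (A6.norm_Kq h.UK_nml.norm (h.P_le_C.trans (CA.zp_norm₁ z)))

theorem QK_le_M : QK V z K ≤ N[V] := fun g hg => mem_N_of_finite fun v hv => by
  have := mul_mem (zpowers_le.2 h.ca.z_mem (hg.2.2 v (h.V_le_UK hv))) hv
  rwa [inv_mul_cancel_right] at this

theorem K_inf_QK : K ⊓ QK V z K = Qz z :=
  le_antisymm (h.K_inf_M ▸ inf_le_inf_left _ h.QK_le_M) (le_inf h.qk h.Q_le_QK)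

theorem comm_QK (hg : g ∈ QK V z K) (hk : k ∈ K) : g * k * g⁻¹ * k⁻¹ ∈ Qz z := by
  rw [← h.K_inf_QK]
  refine ⟨K.mul_mem (h.K_nml.conj_mem hg.1 hk) (K.inv_mem hk), ?_⟩
  have := (QK V z K).mul_mem hg (h.QK_nml.conj_mem (h.K_nml.le hk) ((QK V z K).inv_mem hg))
  simpa [mul_assoc] using this

theorem mem_QK_of (hg : g ∈ C{z}) (hn : g ∈ N[V]) (hc : ∀ k ∈ K, g * k * g⁻¹ * k⁻¹ ∈ Qz z) :
    g ∈ QK V z K := by
  have hP := h.CM_le_P ⟨hg, hn⟩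
  let Y : Subgroup G := UK V K ⊓ A6.Kq (zpowers g) (zpowers z)
  have hY : ∀ u ∈ UK V K, g * u * g⁻¹ * u⁻¹ ∈ zpowers z → u ∈ Y := fun u hu e => by
    refine ⟨hu, CA.zp_norm₁ z (h.P_le_C (h.UK_nml.le hu)), fun a ha => ?_⟩
    have : zpowers g ≤ A6.Kq (zpowers u) (zpowers z) := zpowers_le.2 ⟨CA.zp_norm₁ z hg, fun w hw => by
      rcases (mem_zp2 (ea_sq h.ea_UK hu)).1 hw with rfl | rfl
      · simp
      · exact e⟩
    exact cm_symm ((this ha).2 u (mem_zpowers u))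
  refine h.mem_Q' hP fun u hu => cm_symm ((ncl_le (X := Y) (fun k hk => ?_) hu).2.2 g (mem_zpowers g))
  intro w hw
  obtain ⟨v, hv, rfl⟩ := mem_cj'.1 hw
  refine hY _ (le_ncl hk hw) ?_
  have h1 := four_cm h.ea h.card h.ca.z_mem h.z1 hn hg hv
  have h2 := conj_mem (CA.zp_norm₁ z (h.K_le_C hk)) h1
  have hq := hc k hk
  have h3 := h.ca.cm_U₁ (h.UK_le_U (le_ncl hk (conj_mem_cj k (conj_mem hn hv)))) hq
  convert mul_mem h3 h2 using 1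
  group

theorem C_le_QK : C[UK V K] ≤ QK V z K := fun g hg =>
  h.mem_Q' (h.CV_le_P (C_anti h.V_le_UK hg)) fun u hu => by rw [conj_eq_of_mem_C hg hu]; simp

theorem md : ∃ (Γ : Type u) (_ : Group Γ) (_ : Finite Γ) (ι : UK V K →* Γ) (ρ : PK V z K →* Γ),
    Sec (UK V K) (zpowers z) (PK V z K) ι ρ ∧ Md ι.range ρ.range ∧
      (∀ g ∈ PK V z K, ap ρ g = 1 ↔ g ∈ QK V z K) ∧ img ρ K = F[ρ.range] := by
  have hz := h.P_le_C.trans (CA.zp_norm₁ z)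
  obtain ⟨Γ, _, _, ι, ρ, hs⟩ := exists_sec (K := zpowers z) (X := UK V K)
    ⟨zpowers_le.2 h.z_mem_UK, h.UK_nml.le.trans hz⟩ h.UK_nml.norm hz
  have k : ∀ g ∈ PK V z K, ap ρ g = 1 ↔ g ∈ QK V z K := fun g hg =>
    (hs.kerρ g hg).trans ⟨h.mem_Q' hg, fun e => e.2.2⟩
  have KP := h.K_nml.le
  have k0 : pre ρ ⊥ = QK V z K := by
    ext g; rw [mem_pre_bot]; exact ⟨fun e => (k g e.1).1 e.2, fun e => ⟨e.1, (k g e.1).2 e⟩⟩
  have nK : img ρ K ⊴ ρ.range := img_dom ρ ▸ h.K_nml.img ρ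
  have sP : Sol (PK V z K) := h.ca.ch2.1.of_le h.P_le_C
  have oK : IsPi {2}ᶜ (img ρ K) := by
    rw [isPi_odd, card_img _ KP, k0, ← inf_relIndex_right, inf_comm, h.K_inf_QK]; exact h.K_odd
  have neK : img ρ K ≠ ⊥ := fun e => h.ne (by
    rw [img_eq_bot KP, k0] at e
    rw [← h.K_inf_QK, inf_eq_left.2 e])
  have mn : ∀ Y, Y ⊴ ρ.range → Y ≤ img ρ K → Y = ⊥ ∨ Y = img ρ K := fun Y hY hY' => by
    have e : img ρ (K ⊓ pre ρ Y) = Y := by rw [img_inf_pre, inf_eq_right.2 hY']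
    rcases h.min (K ⊓ pre ρ Y) (le_inf h.qk (h.Q_le_QK.trans (k0 ▸ ker_le_pre _ _))) inf_le_left
      (norm_inf h.nk (norm_pre h.CM_le_P ((img_le_range _ _).trans hY.norm))) with e1 | e1
    · left; rw [← e, e1, img_eq_bot (h.qk.trans KP), k0]; exact h.Q_le_QK
    · right; rw [← e, e1]
  have ab : Abl (img ρ K) := by
    rcases mn _ nK.der1 (der1_le _) with e | e
    · exact der1_eq_bot.1 e
    · exact absurd e (((sP.of_le KP).img ρ).der1_lt neK).ne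
  have sc : ∀ g ∈ PK V z K, ap ρ g ∈ C[img ρ K] → ap ρ g ∈ img ρ K := fun g hg hc => by
    obtain ⟨k₀, hk₀, c, hc', rfl⟩ := h.P_dec hg
    have cP := h.CV_le_P hc'
    have m0 := ap_mem_img ρ hk₀ (KP hk₀)
    rw [ap_mul _ (KP hk₀) cP] at hc ⊢
    have c1 : ap ρ c ∈ C[img ρ K] := by simpa using mul_mem (inv_mem (ab.le_C m0)) hc
    have : c ∈ QK V z K := h.mem_QK_of (h.ca.CV_le₁ hc') (norm_of_cent le_rfl hc') fun w hw => by
      have w1 := mul_mem (h.K_nml.conj_mem cP hw) (inv_mem hw)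
      rw [← h.K_inf_QK]
      refine ⟨w1, (k _ (KP w1)).1 ?_⟩
      rw [ap_mul _ (KP (h.K_nml.conj_mem cP hw)) (KP (inv_mem hw)), ap_conj _ cP (KP hw),
        ap_inv _ (KP hw), conj_eq_of_mem_C c1 (ap_mem_img ρ hw (KP hw)), mul_inv_cancel]
    rw [(k c cP).2 this, mul_one]; exact m0
  refine ⟨Γ, _, ‹_›, ι, ρ, hs, hs.md h.UK_nml.norm (fun x hx => by rw [ea_sq h.ea_UK hx]; exact one_mem _)
    sP fun T hT h1 t ht => ?_, k, le_antisymm (Fitting_max nK ab.nil) ?_⟩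
  · have pT : IsPi {2} (img ρ T) := isPi_iff_piElt.2 fun x hx => by
      obtain ⟨t, ht, -, rfl⟩ := mem_img.1 hx
      obtain ⟨n, hn⟩ := h1 t ht
      exact piElt_of_pow_eq_one ((piNat_self two_prime).pow n) hn
    have nT : img ρ T ⊴ ρ.range := img_dom ρ ▸ hT.img ρ
    have m1 := ap_mem_img ρ ht (hT.le ht)
    exact (pT.piElt m1).eq_one (oK.piElt (sc t (hT.le ht)
      (cents_of_inf_eq_bot (nT.le.trans nK.norm) (nK.le.trans nT.norm) (pT.inf_eq_bot oK) m1)))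
  · have : img ρ K ⊓ C[F[ρ.range]] = img ρ K :=
      (mn _ ⟨inf_le_left.trans nK.le, norm_inf nK.norm (norm_C (Fitting_nml _).norm)⟩
        inf_le_left).resolve_left ((Fitting_nil _).inf_C_ne_bot
          (nK.of_le (Fitting_max nK ab.nil) (Fitting_le _)) neK)
    intro x hx
    obtain ⟨g, hg, -, rfl⟩ := mem_img.1 (img_dom ρ ▸ Fitting_le _ hx)
    exact sc g hg (cents_symm (inf_eq_left.1 this) hx)

theorem cj_UK_eq (hm : m ∈ N[V]) (hm' : m' ∈ N[V]) (e : m * z * m⁻¹ = m' * z * m'⁻¹) :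
    cj m (UK V K) = cj m' (UK V K) :=
  cj_eq_cj_iff.2 (h.UK_nml.norm (h.CM_le_P ⟨inv_mul_mem_C1 e, (N[V]).mul_mem ((N[V]).inv_mem hm') hm⟩))

theorem CV_norm (hm : m ∈ N[V]) : C[V] ≤ cj m (PK V z K) := by
  have := cj_mono m h.CV_le_P
  rwa [cj_C, cj_of_mem_N hm] at this

theorem V_le_DK : V ≤ DK V K := fun v hv => mem_DK.2 fun m hm => by
  have := cj_mono m h.V_le_UK
  rw [cj_of_mem_N hm] at this
  exact this hv

theorem cj_UK_le_U (hm : m ∈ N[V]) : cj m (UK V K) ≤ Uz V (m * z * m⁻¹) := by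
  rw [CA.Uz_conj₁ hm]; exact cj_mono _ h.UK_le_U

theorem DK_eq (hm : m ∈ N[V]) (hm' : m' ∈ N[V]) (e : m * z * m⁻¹ ≠ m' * z * m'⁻¹) :
    DK V K = cj m (UK V K) ⊓ cj m' (UK V K) := by
  refine le_antisymm (le_inf (DK_le hm) (DK_le hm')) fun a ha => mem_DK.2 fun μ hμ => ?_
  have y := conj_mem hm h.ca.z_mem
  have y' := conj_mem hm' h.ca.z_mem
  have y1 := cjne m h.z1
  have y1' := cjne m' h.z1
  rcases four_cases h.ea h.card y y' y1 y1' e (conj_mem hμ h.ca.z_mem) with e1 | e1 | e1 | e1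
  · exact absurd e1 (cjne μ h.z1)
  · exact h.cj_UK_eq hμ hm e1 ▸ ha.1
  · exact h.cj_UK_eq hμ hm' e1 ▸ ha.2
  obtain ⟨x, hx, hx'⟩ := h.ca.ex_x₁ y y1
  have xN := h.ca.Qy_le_N₁ y y1 hx
  rw [h.cj_UK_eq hμ (mul_mem xN hm') (by rw [e1, ← h.ca.mv₁ y y1 hx hx' y' y1' e]; group), cj_mul]
  have a1 := (h.ca.conj hm).cm_U₁ (h.cj_UK_le_U hm ha.1) (inv_mem hx)
  have := mul_mem (DK_le hm' (h.V_le_DK (zpowers_le.2 y a1))) ha.2
  rwa [inv_mul_cancel_right, inv_inv, ← mem_cj] at this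

theorem DK_le_D : DK V K ≤ Dv V := le_inf3 fun y hy y1 => by
  obtain ⟨m, hm, rfl⟩ := h.ca.trans hy y1
  exact (DK_le hm.1).trans (h.cj_UK_le_U hm.1)

theorem cj_UK_le_W (hm : m ∈ N[V]) : cj m (UK V K) ≤ Wv V :=
  (h.cj_UK_le_U hm).trans (le_sup3 (X := Uz V) (conj_mem hm h.ca.z_mem) (cjne m h.z1))

theorem XK_le_C : XK V z K ≤ C[UK V K] := XK_le fun k hk m hm => by
  have := cent_cj (h.abW.cents (h.cj_UK_le_W hm) (h.cj_UK_le_W (one_mem _))) k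
  rwa [cj_one, cj_of_mem_N (h.UK_nml.norm hk), ← cj_mul] at this

end KD

theorem KT.conjG (h : KT S V z K m a r) (g : G) :
    KT (cj g S) (cj g V) (g * z * g⁻¹) (cj g K) (g * m * g⁻¹) (g * a * g⁻¹) (g * r * g⁻¹) where
  toKD := h.toKD.conjG g
  hm := by rw [← cj_N]; exact conj_mem_cj g h.hm
  m1 := by rw [← cj_C1, conj_mem_cj_iff]; exact h.m1
  ac := by rw [UK_cj, ← cj_mul, inv_mul_cancel_right, cj_mul, ← cj_C]; exact conj_mem_cj g h.ac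
  a2 := by rw [← cjm, h.a2]; simp
  rz := by rw [← cj_zpowers, conj_mem_cj_iff]; exact h.rz
  ex := by
    obtain ⟨b, hb, e⟩ := h.ex
    exact ⟨g * b * g⁻¹, by rw [UK_cj]; exact conj_mem_cj g hb, by rw [e]; group⟩
  all := fun u hu => by
    rw [UK_cj] at hu
    obtain ⟨u, hu', rfl⟩ := mem_cj'.1 hu
    rw [← cj_zpowers, ← cj_zpowers, ← cj_sup]
    convert conj_mem_cj g (h.all u hu') using 1
    group

theorem KT.a_CV (h : KT S V z K m a r) : a ∈ C[V] :=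
  C_anti (h.toKD.V_le_DK.trans (DK_le h.hm)) h.ac

theorem KT.r_mem (h : KT S V z K m a r) : r ∈ UK V K := by
  obtain ⟨b, hb, rfl⟩ := h.ex
  exact mul_mem (h.toKD.UK_nml.conj_mem (h.toKD.CV_le_P h.a_CV) hb) (inv_mem hb)

theorem KT.a_not (h : KT S V z K m a r) : a ∉ QK V z K := fun e => by
  obtain ⟨b, hb, e'⟩ := h.ex
  exact h.rz (e' ▸ e.2.2 b hb)

end H12.NG
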