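import Cfsg.Agent.H12.NGB1
import Cfsg.Agent.H1.NGc2
import Cfsg.Agent.H21.OddInv

/-!
# Case (A), `U` and `W` abelian: points in each other's `U` have commuting `U`
-/

set_option autoImplicit false
set_option linter.unusedSectionVars false

namespace H18.PL

open Subgroup Cfsg H24 H11.ZN H12.NG H1.NG

universe u

variable {G : Type u} [Group G] [Finite G]

theorem mod_pl {W H T D : Subgroup G} {v t : G} (h : Md W H) (ht : t ∈ H) (t1 : t ≠ 1) (t2 : t * t = 1)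
    (TH : T ≤ H) (pT : IsPi {2} T) (Tt : T ≤ C{t}) (DW : D ≤ W) (WD : ⁅W, zpowers t⁆ ≤ D) (hv : v ∈ D)
    (fx : ∀ w ∈ D, w ∈ C[T] → w ∈ C[F[H]] ∨ w * v ∈ C[F[H]])
    (a6 : ∀ g ∈ H, g * v * g⁻¹ ∈ D → g * v * g⁻¹ ∈ C[F[H]] ∨ g * v * g⁻¹ * v ∈ C[F[H]]) :
    v ∉ C[F[H]] ∧ (∀ f ∈ F[H], f ∈ C{t} → f ∈ C{v}) ∧
      ∃ c ∈ D ⊓ C[F[H]], (∀ g ∈ H, g ∈ C{v} → g ∈ C{c}) ∧ (c = 1 → (∀ f ∈ F[H], f ∈ C{v} → f = 1) →
        ∀ P, IsPi {2} P → P ≤ H → t ∈ P → P ≤ C{v}) := by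
  have FH := Fitting_nml H
  have TI := odd_TI h.ea (FH.le.trans h.le) h.odd_F
  have e1 : ∀ x ∈ ⁅W, F[H]⁆, x ∈ C[F[H]] → x = 1 := fun x h1 h2 => mem_bot.1 (TI.le (mem_inf.2 ⟨h1, h2⟩))
  have HN : H ≤ N[⁅W, F[H]⁆] := norm_comm h.le FH.norm
  have HC : H ≤ N[C[F[H]]] := norm_C FH.norm
  have NW : ⁅W, F[H]⁆ ≤ W := comm_le_left (FH.le.trans h.le)
  have XN : ⁅⁅W, F[H]⁆, zpowers t⁆ ≤ ⁅W, F[H]⁆ := comm1_le (HN ht)
  have XD : ⁅⁅W, F[H]⁆, zpowers t⁆ ≤ D := (comm_mono_left NW).trans WD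
  have nX : ∀ g ∈ H, g ∈ C{t} → g ∈ N[⁅⁅W, F[H]⁆, zpowers t⁆] := fun g hg hc =>
    mem_N_comm1 (HN hg) (norm_zpowers_of_cent le_rfl hc)
  have X1 : ⁅⁅W, F[H]⁆, zpowers t⁆ ≠ ⊥ := fun e => by
    have k : H ⊓ C[⁅W, F[H]⁆] ⊴ H := nml_inf_of_norm (norm_C HN)
    have k1 : t ∈ H ⊓ C[⁅W, F[H]⁆] := mem_inf.2 ⟨ht, zpowers_le.1 (comm_eq_bot'.1 e)⟩
    have k2 := h.faF (le_refl F[H])
    exact t1 (mem_bot.1 (k2.le (mem_inf.2 ⟨cent_sub_Fitting h.sol (mem_inf.2 ⟨ht,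
      cents_of_inf_eq_bot (k.le.trans FH.norm) (FH.le.trans k.norm) (eq_bot_iff.2 fun x hx =>
        k2.le (mem_inf.2 ⟨(mem_inf.1 hx).2, (mem_inf.1 (mem_inf.1 hx).1).2⟩)) k1⟩), (mem_inf.1 k1).2⟩)))
  obtain ⟨n, hn, n1⟩ := exists_ne_one (IsPi.inf_C_ne_bot Nat.prime_two pT
    ((ea_pi h.ea).of_le (XN.trans NW)) (fun g hg => nX g (TH hg) (Tt hg)) X1)
  obtain ⟨nX', nT⟩ := mem_inf.1 hn
  have cF := (fx n (XD nX') nT).resolve_left fun e => n1 (e1 n (XN nX') e)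
  have cD := mul_mem (XD nX') hv
  have nW := NW (XN nX')
  obtain ⟨c, rfl⟩ : ∃ c, v = n * c := ⟨n⁻¹ * v, by group⟩
  rw [← mul_assoc, H12.NG.ea_sq h.ea nW, one_mul] at cF cD
  have v1 : n * c ∉ C[F[H]] := fun e => n1 (e1 n (XN nX') ((mul_mem_cancel_right cF).1 e))
  have key : ∀ g ∈ H, g ∈ C{t} → g ∈ C{c} → g ∈ C{n * c} := fun g hg h1 h2 => by
    have k : g * (n * c) * g⁻¹ = g * n * g⁻¹ * c := by
      rw [← mem_C1_iff_conj.1 h2]; rw [mem_C1_iff_conj.1 h2]; nth_rw 2 [← mem_C1_iff_conj.1 h2]; group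
    have m := conj_mem (nX g hg h1) nX'
    rcases a6 g hg (k ▸ mul_mem (XD m) cD) with e | e
    · exact absurd ((conj_mem_iff (HC hg)).1 e) v1
    · rw [k, mul_assoc, ← mul_assoc c, H3.NG.ea_comm h.ea (DW cD) nW, mul_assoc n, H12.NG.ea_sq h.ea (DW cD),
        mul_one] at e
      rw [mem_C1_iff_conj, k, eq_inv_of_mul_eq_one_left (e1 _ (mul_mem (XN m) (XN nX')) e),
        H3.NG.ea_inv h.ea nW]
  refine ⟨v1, fun f hf hc => key f (FH.le hf) hc (mem_C_iff_le_C1.1 cF hf), c, mem_inf.2 ⟨cD, cF⟩,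
    fun g hg hc => ?_, fun c1 hf P pP PH tP s hs => key s (PH hs) ?_ (by simp [c1])⟩
  · have k := mem_C1_iff_conj.1 hc
    have : n⁻¹ * (g * n * g⁻¹) = c * (g * c * g⁻¹)⁻¹ := by
      rw [eq_mul_inv_iff_mul_eq, mul_assoc, inv_mul_eq_iff_eq_mul, ← k]; group
    have k' := e1 _ (mul_mem (inv_mem (XN nX')) (conj_mem (HN hg) (XN nX')))
      (this ▸ mul_mem cF (inv_mem (conj_mem (HC hg) cF)))
    rw [this, mul_inv_eq_one] at k'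
    exact mem_C1_iff_conj.2 k'.symm
  · have iv : ∀ f ∈ F[H], t * f * t⁻¹ = f⁻¹ := fun f hf' => by
      obtain ⟨y, w, hy, ty, hw, rfl⟩ := H21.exists_cent_mul_inverted t2 (isPi_odd.1 h.odd_F)
        (fun x hx => conj_mem (FH.norm ht) hx) hf'
      rw [hf y hy (key y (FH.le hy) (mem_C1.2 ty.symm) (by simp [c1])), one_mul]
      exact hw.2
    have m := mul_mem (conj_mem (norm_self P hs) tP) (inv_mem tP)
    have k : s * t * s⁻¹ * t⁻¹ ∈ C[F[H]] := mem_C_iff_le_C1.2 fun f hf' => mem_C1_comm.1 (mem_C1_iff_conj.2 (by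
      have a1 := iv _ (conj_mem' (FH.norm ht) hf')
      have a2 := iv _ (conj_mem' (FH.norm (PH hs)) (inv_mem hf'))
      calc _ = s * t * s⁻¹ * (t⁻¹ * f * t) * s * t⁻¹ * s⁻¹ := by group
        _ = s * (t * (s⁻¹ * f⁻¹ * s) * t⁻¹) * s⁻¹ := by
          rw [show t⁻¹ * f * t = f⁻¹ by rw [eq_inv_iff_mul_eq_one, ← eq_inv_iff_mul_eq_one, ← inv_inj, ← a1]; group]
          group
        _ = f := by rw [a2]; group))
    have := mem_bot.1 ((pP.inf_eq_bot h.odd_F).le (mem_inf.2 ⟨m, cent_sub_Fitting h.sol (mem_inf.2 ⟨PH m, k⟩)⟩))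
    exact mem_C1_iff_conj.2 (mul_inv_eq_one.1 this)

/-- `n ∈ Q_z Q_q` swaps the points `z` and `q ∈ U_z` -/
structure PS (S V : Subgroup G) (z q n : G) : Prop extends CB S V z where
  e1 : n * z * n⁻¹ = q
  e2 : n * q * n⁻¹ = z
  qU : q ∈ Uz V z
  ne : q ≠ z
  nL : n ∈ Qz z ⊔ Qz q
  nc : ¬ cj n (Uz V z) ≤ C[Uz V z]

/-- `V* = ⟨z, q⟩` -/
abbrev EE (z q : G) : Subgroup G := zpowers z ⊔ zpowers q

theorem EEc (z q : G) : EE q z = EE z q := sup_comm _ _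

namespace PS

variable {S V : Subgroup G} {z q n e g s x v w : G} (h : PS S V z q n)
include h

theorem cb : CB (cj n S) (cj n V) q := h.e1 ▸ h.toCB.conjG n
theorem UA : Uz (cj n V) q = cj n (Uz V z) := h.e1 ▸ CA.Uz_conj V n z
theorem nn : cj n (cj n (Uz V z)) = Uz V z := by
  rw [← cj_mul, cj_of_mem_N (h.U_nml.norm (mem_C1_iff_conj.2 (by
    rw [show n * n * z * (n * n)⁻¹ = n * (n * z * n⁻¹) * n⁻¹ by group, h.e1, h.e2])))]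
theorem symm : PS (cj n S) (cj n V) q z n :=
  ⟨h.cb, h.e2, h.e1, by rw [h.UA]; simpa only [h.e2] using conj_mem_cj n h.qU, h.ne.symm, sup_comm (Qz z) _ ▸ h.nL, by
    rw [h.UA, h.nn]; exact fun k => h.nc (cents_symm k)⟩
theorem zU : z ∈ Uz V z := h.V_le_U h.z_mem
theorem EU : EE z q ≤ Uz V z := sup_le (zpowers_le.2 h.zU) (zpowers_le.2 h.qU)
theorem EA' : EE z q ≤ cj n (Uz V z) := h.UA ▸ EEc z q ▸ h.symm.EU
theorem eaE : EA (EE z q) := ea_le h.toCB.ea_U h.EU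
omit h in
theorem zE (z q : G) : z ∈ EE z q := mem_sup_left (mem_zpowers z)
omit h in
theorem qE (z q : G) : q ∈ EE z q := mem_sup_right (mem_zpowers q)
theorem q1 : q ≠ 1 := h.cb.z1
theorem inf1 (h1 : w ∈ zpowers z) (h2 : w ∈ zpowers q) : w = 1 :=
  ((mem_zp2 h.z_sq).1 h1).resolve_right fun e =>
    ((mem_zp2 h.cb.z_sq).1 (e ▸ h2)).elim h.z1 h.ne.symm
theorem cardE : ♯(EE z q) = 4 := by
  rw [card_sup_of_inf (zpowers_le.2 (A6.zN (h.U_le_C₂ h.qU))) (eq_bot_iff.2 fun w hw => h.inf1 hw.1 hw.2),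
    card_zp2 h.z_sq h.z1, card_zp2 h.cb.z_sq h.q1]
theorem cases (hw : w ∈ EE z q) : w = 1 ∨ w = z ∨ w = q ∨ w = z * q :=
  H3.NG.four_cases h.eaE h.cardE (zE z q) (qE z q) h.z1 h.q1 h.ne.symm hw
theorem UC : Uz V z ≤ C[EE z q] := h.abU.cents le_rfl h.EU
theorem AC : cj n (Uz V z) ≤ C[EE z q] := (h.abU.cj n).cents le_rfl h.EA'
theorem Cz : C[EE z q] ≤ C{z} := C_le_C1 (zE z q)
theorem Cq : C[EE z q] ≤ C{q} := C_le_C1 (qE z q)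
theorem CA' : C[EE z q] ≤ N[cj n (Uz V z)] := h.UA ▸ h.Cq.trans h.cb.U_nml.norm
theorem QN : Qz z ≤ N[EE z q] := le_N_iff.2 fun x hx w hw => by
  simpa using mul_mem (mem_sup_left (h.cm_U₁ (h.EU hw) hx) : _ ∈ EE z q) hw
theorem QN' : Qz q ≤ N[EE z q] := EEc z q ▸ h.symm.QN
theorem LN : Qz z ⊔ Qz q ≤ N[EE z q] := sup_le h.QN h.QN'
theorem memN (hg : g ∈ C{z}) : g ∈ N[EE z q] ↔ g * q * g⁻¹ * q⁻¹ ∈ zpowers z :=
  ⟨fun k => H3.NG.four_cm h.eaE h.cardE (zE z q) h.z1 k hg (qE z q), fun k => mem_N_of_cj_le (by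
    rw [cj_sup, cj_zpowers, cj_zpowers, mem_C1_iff_conj.1 hg]
    exact sup_le le_sup_left (zpowers_le.2 (by simpa using mul_mem (mem_sup_left k : _ ∈ EE z q) (qE z q))))⟩
theorem exx : ∃ x ∈ Qz z, x ∉ C[EE z q] := SetLike.not_le_iff_exists.1 fun k =>
  h.ne (h.e1 ▸ h.toCB.Z0 (h.e1 ▸ h.U_le_Q h.qU) (h.e1 ▸ cents_symm k (qE z q)))
theorem mvE (hx : x ∈ Qz z) (hx' : x ∉ C[EE z q]) : x * q * x⁻¹ = z * q :=
  H3.NG.four_mv h.eaE h.cardE (zE z q) (qE z q) h.z1 h.q1 h.ne.symm (h.QN hx) (A6.QC hx) hx'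
theorem ix (hg : g ∈ C{z}) (hN : g ∈ N[EE z q]) : ∃ x ∈ Qz z, g * x ∈ C[EE z q] := by
  by_cases e : g ∈ C[EE z q]
  · exact ⟨1, one_mem _, by simpa using e⟩
  · obtain ⟨x, hx, hx'⟩ := h.exx
    exact ⟨x, hx, H3.NG.four_ix h.eaE h.cardE (zE z q) h.z1 hN hg (h.QN hx) (A6.QC hx) e hx'⟩
theorem CL : C[EE z q] ≤ N[Qz z ⊔ Qz q] := norm_sup (h.Cz.trans A6.QN) (h.Cq.trans A6.QN)
theorem nL' (hg : g ∈ C{z}) (hN : g ∈ N[EE z q]) : g ∈ N[Qz z ⊔ Qz q] := by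
  obtain ⟨x, hx, k⟩ := h.ix hg hN
  exact (mul_mem_cancel_right (norm_self _ (mem_sup_left hx))).1 (h.CL k)
theorem dih : (Qz z ⊔ Qz q) ⊓ C[EE z q] ≤ Q2 C[EE z q] ∧ ⁅Qz z ⊔ Qz q, C[EE z q]⁆ ≤ Q2 C[EE z q] :=
  dih2 h.eaE h.cardE (pcore_pi _ _) (pcore_pi _ _) h.QN h.QN' (h.Cz.trans A6.QN) (h.Cq.trans A6.QN)
theorem Qn : cj n (Qz q) = Qz z := by rw [← CA.Qz_conj, h.e2]

theorem nl (hg : g ∈ C{z}) : q ∉ cj g V := fun k => by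
  obtain ⟨y, hy, e⟩ := mem_cj'.1 k
  have y1 : y ≠ 1 := by rintro rfl; exact h.q1 (by simpa using e)
  obtain ⟨m, hm, rfl⟩ := h.trans hy y1
  have k1 : cj n (Uz V z) = cj (g * m) (Uz V z) := h.toCA.cj_U_eq (by rw [h.e1, e]; group)
  refine h.nc ?_
  rw [k1, cj_mul, ← cj_of_mem_N (h.U_nml.norm hg), ← cj_C, cj_of_mem_N (h.U_nml.norm hg), cj_le_cj,
    ← A6.Ucj (mem_inf.1 hm).1]
  exact h.abW.cents (A6.le_Wv hy y1) (A6.le_Wv h.z_mem h.z1)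

theorem nQ : ¬ cj n (Uz V z) ≤ Qz z := fun k => h.nc (le_C_iff.2 fun a ha u hu => by
  have k' : Uz V z ≤ Qz q := by
    have := cj_mono n k
    rwa [h.nn, h.symm.Qn] at this
  have := h.inf1 (h.cm_U₁ hu (k ha)) (H3.NG.cm_symm (h.cb.cm_U₁ (h.UA ▸ ha) (k' hu)))
  rwa [mul_inv_eq_one, mul_inv_eq_iff_eq_mul] at this)

theorem cmD (hs : s ∈ Qz z ⊔ Qz q) (he : e ∈ Uz V z ⊓ cj n (Uz V z)) : s * e * s⁻¹ * e⁻¹ ∈ EE z q :=
  ((sup_le (fun _ hx => ⟨h.QN hx, fun _ ha => mem_sup_left (h.cm_U₁ ha.1 hx)⟩)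
    (fun _ hx => ⟨h.QN' hx, fun _ ha => mem_sup_right (h.cb.cm_U₁ (h.UA ▸ ha.2) hx)⟩) :
      _ ≤ A6.Kq (Uz V z ⊓ cj n (Uz V z)) (EE z q)) hs).2 e he

theorem cmD' (hs : s ∈ Qz z ⊔ Qz q) (he : e ∈ Uz V z ⊓ cj n (Uz V z)) :
    ∃ v ∈ EE z q, s * e * s⁻¹ = e * v :=
  ⟨_, h.cmD hs he, by rw [← mem_C.1 (h.UC he.1) _ (h.cmD hs he)]; group⟩

theorem half (he : e ∈ Uz V z) (hc : Qz z ⊓ C[EE z q] ≤ C{e}) : Qz z ≤ C{e} ∨ Qz z ≤ C{e * q} := by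
  obtain ⟨x, hx, hx'⟩ := h.exx
  have k : ∀ p, Qz z ⊓ C[EE z q] ≤ C{p} → x ∈ C{p} → Qz z ≤ C{p} := fun p h1 h2 s hs => by
    by_cases e : s ∈ C[EE z q]
    · exact h1 ⟨hs, e⟩
    · exact (mul_mem_cancel_right h2).1 (h1 ⟨mul_mem hs hx, H3.NG.four_ix h.eaE h.cardE (zE z q) h.z1
        (h.QN hs) (A6.QC hs) (h.QN hx) (A6.QC hx) e hx'⟩)
  rcases (mem_zp2 h.z_sq).1 (h.cm_U₁ he hx) with e1 | e1
  · exact .inl (k e hc (mem_C1_iff_conj.2 (mul_inv_eq_one.1 e1)))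
  · refine .inr (k _ (fun s hs => mem_C1_comm.1 (mul_mem (mem_C1_comm.1 (hc hs))
      (mem_C1_comm.1 (h.Cq hs.2)))) (mem_C1_iff_conj.2 ?_))
    rw [show x * (e * q) * x⁻¹ = x * e * x⁻¹ * (x * q * x⁻¹) by group, h.mvE hx hx',
      mul_inv_eq_iff_eq_mul.1 e1, ← mem_C1.1 (h.U_le_C₂ he), mul_assoc, ← mul_assoc z, h.z_sq, one_mul]

theorem AD (he : e ∈ Uz V z ⊓ cj n (Uz V z)) (hc : Qz q ⊓ C[EE z q] ≤ C{e}) :
    ∃ v ∈ EE z q, e * v ∈ C[Qz z] ∧ e * v ∈ C[Qz q] := by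
  have k1 : Qz z ⊓ C[EE z q] ≤ C{e} := fun s hs => by
    obtain ⟨v, hv, k⟩ := h.cmD' (inv_mem h.nL) he
    have m : n⁻¹ * s * n ∈ Qz q ⊓ C[EE z q] :=
      ⟨mem_cj.1 (h.Qn ▸ hs.1), conj_mem' (N_le_NC _ (h.LN h.nL)) hs.2⟩
    have := mul_mem (mem_C1_comm.1 (hc m)) (mem_C1_comm.1 (C_le_C1 hv m.2))
    rw [← k, show n⁻¹ * s * n = n⁻¹ * s * n⁻¹⁻¹ by rw [inv_inv], ← cj_C1] at this
    exact mem_C1_comm.1 (conj_mem_cj_iff.1 this)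
  have z1 : z ∈ C[Qz z] := mem_C_iff_le_C1.2 A6.QC
  have q1 : q ∈ C[Qz q] := mem_C_iff_le_C1.2 A6.QC
  rcases h.half he.1 k1 with a | a <;>
    rcases h.symm.half (h.UA ▸ he.2) ((EEc z q).symm ▸ hc) with b | b <;>
    rw [← mem_C_iff_le_C1] at a b
  · exact ⟨1, one_mem _, by simpa using a, by simpa using b⟩
  · exact ⟨z, zE z q, mul_mem a z1, b⟩
  · exact ⟨q, qE z q, a, mul_mem b q1⟩
  · refine ⟨z * q, mul_mem (zE z q) (qE z q), ?_, mul_assoc e z q ▸ mul_mem b q1⟩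
    rw [← mem_C1.1 (h.U_le_C₂ h.qU), ← mul_assoc]
    exact mul_mem a z1

theorem shift (he : e ∈ Uz V z ⊓ cj n (Uz V z)) (hn : ∀ v ∈ EE z q, e * v ∉ C[Qz z]) (hv : v ∈ EE z q) :
    ∃ s ∈ (Qz z ⊔ Qz q) ⊓ C[EE z q], s * e * s⁻¹ = e * v := by
  have k1 : ∀ e ∈ Uz V z ⊓ cj n (Uz V z), (∀ v ∈ EE z q, e * v ∉ C[Qz z]) →
      ∃ s ∈ (Qz z ⊔ Qz q) ⊓ C[EE z q], s * e * s⁻¹ = e * q := fun e he hn => by
    obtain ⟨s, hs, k⟩ := SetLike.not_le_iff_exists.1 fun k =>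
      let ⟨v, hv, a, _⟩ := h.AD he k; hn v hv a
    refine ⟨s, ⟨mem_sup_right hs.1, hs.2⟩, ?_⟩
    rw [← mem_C.1 (h.UC he.1) q (qE z q), ← mul_inv_eq_iff_eq_mul]
    exact ((mem_zp2 h.cb.z_sq).1 (h.cb.cm_U₁ (h.UA ▸ he.2) hs.1)).resolve_left fun e =>
      k (mem_C1_iff_conj.2 (mul_inv_eq_one.1 e))
  obtain ⟨s, hs, k2⟩ := k1 e he hn
  obtain ⟨w, hw, k3⟩ := h.cmD' (inv_mem h.nL) he
  obtain ⟨s', hs', k4⟩ := k1 (e * w) (mul_mem he ⟨h.EU hw, h.EA' hw⟩) fun v hv =>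
    mul_assoc e w v ▸ hn _ (mul_mem hw hv)
  have m : n * s' * n⁻¹ ∈ (Qz z ⊔ Qz q) ⊓ C[EE z q] :=
    ⟨conj_mem (norm_self _ h.nL) hs'.1, conj_mem (N_le_NC _ (h.LN h.nL)) hs'.2⟩
  have k5 : n * s' * n⁻¹ * e * (n * s' * n⁻¹)⁻¹ = e * z := by
    calc _ = n * (s' * (n⁻¹ * e * n⁻¹⁻¹) * s'⁻¹) * n⁻¹ := by group
      _ = e * (n * q * n⁻¹) := by rw [k3, k4, ← k3]; group
      _ = _ := by rw [h.e2]
  rcases h.cases hv with rfl | rfl | rfl | rfl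
  · exact ⟨1, one_mem _, by simp⟩
  · exact ⟨_, m, k5⟩
  · exact ⟨s, hs, k2⟩
  · refine ⟨_, mul_mem hs m, ?_⟩
    calc _ = s * (n * s' * n⁻¹ * e * (n * s' * n⁻¹)⁻¹) * s⁻¹ := by group
      _ = s * e * s⁻¹ * (s * z * s⁻¹) := by rw [k5]; group
      _ = _ := by rw [k2, mem_C1_iff_conj.1 (h.Cz hs.2), mul_assoc, mem_C1.1 (h.U_le_C₂ h.qU)]

theorem Ltr (hw : w ∈ EE z q) (w1 : w ≠ 1) : ∃ l ∈ Qz z ⊔ Qz q, l * z * l⁻¹ = w := by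
  rcases h.cases hw with rfl | rfl | rfl | rfl
  · exact absurd rfl w1
  · exact ⟨1, one_mem _, by simp⟩
  · exact ⟨n, h.nL, h.e1⟩
  · obtain ⟨x, hx, hx'⟩ := h.exx
    exact ⟨x * n, mul_mem (mem_sup_left hx) h.nL, by rw [← h.mvE hx hx', ← h.e1]; group⟩

theorem a6 (hg : g ∈ C{z}) (hD : g * q * g⁻¹ ∈ Uz V z ⊓ cj n (Uz V z)) :
    ∃ v ∈ EE z q, g * q * g⁻¹ * v ∈ C[Qz z] := by
  by_contra hn
  push Not at hn
  have c := h.toCB.conjG (g * n)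
  have U1 := CA.Uz_conj V (g * n) z
  have z1 : z ∈ cj (g * n) (Uz V z) := by
    have := conj_mem_cj g (h.EA' (zE z q))
    rwa [mem_C1_iff_conj.1 hg, ← cj_mul] at this
  have z2 : (g * n)⁻¹ * (g * q * g⁻¹) * (g * n)⁻¹⁻¹ = z := by rw [← h.e1]; group
  rw [show g * n * z * (g * n)⁻¹ = g * q * g⁻¹ by rw [← h.e1]; group] at c U1
  generalize g * q * g⁻¹ = y at *
  have yE : y ∉ EE z q := fun k => hn _ (inv_mem k) (by simp)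
  have y2 := c.z_sq
  have hE : EE z q ⊔ zpowers y ≤ Uz V z ⊓ cj n (Uz V z) := sup_le (le_inf h.EU h.EA') (zpowers_le.2 hD)
  have eaE := ea_le h.toCB.ea_U (hE.trans inf_le_left)
  have hyN : zpowers y ≤ N[EE z q] := zpowers_le.2 (C_le_N _ (h.UC hD.1))
  have k1 : ∀ a ∈ EE z q ⊔ zpowers y, a ∉ EE z q → ∃ v ∈ EE z q, a = y * v := fun a ha ha' => by
    obtain ⟨v, hv, s, hs, rfl⟩ := (mem_sup_of_norm hyN).1 ha
    rcases (mem_zp2 y2).1 hs with rfl | rfl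
    · exact absurd (mul_mem hv (one_mem _)) ha'
    · exact ⟨v, hv, mem_C.1 (h.UC hD.1) v hv⟩
  have h1 : N[EE z q ⊔ zpowers y] ≤ N[EE z q] := e8_plane eaE (by
      rw [card_sup_of_inf hyN (eq_bot_iff.2 fun x hx =>
        ((mem_zp2 y2).1 hx.2).resolve_right fun e => yE (e ▸ hx.1)), h.cardE, card_zp2 y2 c.z1])
    le_rfl (h.l2 _ (ea_pi eaE) (ne_bot_of_mem (mem_sup_left (zE z q)) h.z1)).1
    le_sup_left h.cardE (L := Qz z ⊔ Qz q) (le_N_iff.2 fun l hl a ha => by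
      simpa using mul_mem (mem_sup_left (h.cmD hl (hE ha))) ha) h.LN
    (fun a ha a1 b hb b1 => by
      obtain ⟨l, hl, rfl⟩ := h.Ltr ha a1
      obtain ⟨k, hk, rfl⟩ := h.Ltr hb b1
      exact ⟨k * l⁻¹, mul_mem hk (inv_mem hl), by group⟩)
    fun a ha a1 b hb b1 => by
      obtain ⟨v, hv, rfl⟩ := k1 a ha a1
      obtain ⟨w, hw, rfl⟩ := k1 b hb b1
      obtain ⟨s, hs, e3⟩ := h.shift (hE ha) (fun u hu => mul_assoc y v u ▸ hn _ (mul_mem hv hu))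
        (mul_mem (inv_mem hv) hw)
      exact ⟨s, hs.1, by rw [e3]; group⟩
  have q1 : q ∈ Uz (cj (g * n) V) y := by
    obtain ⟨v, hv, k⟩ := h.cmD' h.nL hD
    obtain ⟨s, hs, k'⟩ := h.shift hD hn hv
    have := conj_mem (c.U_nml.norm (mem_C1_iff_conj.2 (show s⁻¹ * n * y * (s⁻¹ * n)⁻¹ = y by
      rw [show s⁻¹ * n * y * (s⁻¹ * n)⁻¹ = s⁻¹ * (n * y * n⁻¹) * s by group, k, ← k']; group))) (U1 ▸ z1)
    rwa [show s⁻¹ * n * z * (s⁻¹ * n)⁻¹ = s⁻¹ * (n * z * n⁻¹) * s⁻¹⁻¹ by group, h.e1,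
      mem_C1_iff_conj.1 (inv_mem (h.Cq hs.2))] at this
  have h2 : EE z q ⊔ zpowers y ≤ Uz (cj (g * n) V) y :=
    sup_le (sup_le (zpowers_le.2 (U1 ▸ z1)) (zpowers_le.2 q1)) (zpowers_le.2 (c.V_le_U c.z_mem))
  have h3 : Qz y ≤ N[EE z q] := fun x hx => h1 (mem_N_of_finite fun w hw => by
    simpa using mul_mem (mem_sup_right (c.cm_U₁ (h2 hw) hx) : _ ∈ EE z q ⊔ zpowers y) hw)
  refine yE (c.Z0 (g := (g * n)⁻¹) (z2 ▸ c.U_le_Q (U1 ▸ z1)) (z2 ▸ mem_C_iff_le_C1.2 fun x hx =>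
    mem_C1_iff_conj.2 (mul_inv_eq_one.1 ?_)) ▸ z2 ▸ zE z q)
  exact ((mem_zp2 y2).1 (c.cm_U₁ (U1 ▸ z1) hx)).resolve_right fun e =>
    yE (e ▸ mul_mem (conj_mem (h3 hx) (zE z q)) (inv_mem (zE z q)))

theorem fin {T H₀ K₁ : Subgroup G} {t : G} (hT : Syl 2 (C{z} ⊓ N[EE z q]) T) (ht : t ∈ cj n (Uz V z))
    (hs : Sol H₀) (h1 : Qz z ≤ K₁) (h2 : K₁ ≤ F2 C{z}) (h3 : T ≤ N[K₁]) (h4 : K₁ ≤ H₀)
    (h5 : Qz z ⊔ Qz q ≤ H₀) (h6 : T ≤ H₀) : ∀ k ∈ K₁, t * k * t⁻¹ * k⁻¹ ∈ Qz z := by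
  have QT : Qz z ≤ T := hT.nml_le (pcore_pi _ _) ⟨le_inf A6.QC h.QN, inf_le_left.trans A6.QN⟩
  have OT : Q2 C[EE z q] ≤ T := hT.nml_le (pcore_pi _ _)
    ⟨(pcore_le _ _).trans (le_inf h.Cz (C_le_N _)), inf_le_right.trans (norm_pcore _ (N_le_NC _))⟩
  have pA := ea_pi (H3.NG.ea_cj h.toCB.ea_U n)
  obtain ⟨x, hx, hx'⟩ := h.exx
  refine h.endSR h.abU hs (hT.le.trans inf_le_left) hT.pi h1 h2 h3 ((Od2_le _).trans h4)
    (inf_le_right.trans (sup_le QT le_rfl)) (P₂ := (Qz z ⊔ Qz q) ⊔ T) (sup_le h5 h6) le_sup_right h.EU h.cardE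
    (zE z q) (sup_le h.LN (hT.le.trans inf_le_right)) (fun p hp => ?_) (fun k => hx' (k (QT hx)))
    (fun k => h.ne (h.e1 ▸ mem_C1_iff_conj.1 (k (mem_sup_left h.nL))))
    (OT (pcore_max pA ⟨h.AC, h.CA'⟩ ht)) (h.AC ht)
    (fun k hk _ => comm_le_of_le (h1.trans h4) (zpowers_le.2 (h4 hk)))
    (fun k hk hc => F2_two (pA.of_le (inf_le_left : _ ⊓ F2 C{z} ≤ _)) inf_le_right (mem_inf.2 ⟨?_, ?_⟩)) (qE z q) h.q1
    fun d _ e k hk => ?_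
  · obtain ⟨l, hl, s, hs, rfl⟩ := (mem_sup_of_norm fun s hs => h.nL' (hT.le hs).1 (hT.le hs).2).1 hp.1
    obtain ⟨y, hy, k⟩ := h.ix (hT.le hs).1 (hT.le hs).2
    have m := conj_mem (hT.le.trans (inf_le_left.trans A6.QN) hs) (inv_mem hy)
    have := mul_mem (OT (h.dih.1 (mem_inf.2 ⟨mul_mem hl (mem_sup_left m), by
      convert mul_mem (mem_inf.1 hp).2 (inv_mem k) using 1
      group⟩))) (mul_mem hs (QT hy))
    convert this using 1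
    group
  · simpa only [mul_assoc] using mul_mem ht (conj_mem (h.CA' hc) (inv_mem ht))
  · exact mul_mem (conj_mem ((F2_nml _).norm (h.Cz (h.AC ht))) (h2 hk)) (inv_mem (h2 hk))
  · have : d * t * d⁻¹ ∈ Qz z := h.U_le_Q (by
      have := h.toCA.cj_U_eq (g := d * n) (k := 1) (by
        rw [show d * n * z * (d * n)⁻¹ = d * (n * z * n⁻¹) * d⁻¹ by group, h.e1, e]; simp)
      rw [cj_one, cj_mul] at this
      exact this ▸ conj_mem_cj d ht)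
    simpa only [mul_assoc] using mul_mem this (conj_mem (A6.QN (F2_le _ (h2 hk))) (inv_mem this))

theorem false : False := by
  obtain ⟨Γ, _, _, ι, ρ, d⟩ := exists_MD h.toCA
  obtain ⟨t, ht, tQ⟩ := SetLike.not_le_iff_exists.1 h.nQ
  obtain ⟨T, hT⟩ := Sylow_exists Nat.prime_two (C{z} ⊓ N[EE z q])
  have UN := h.U_nml.norm
  have tC := h.Cz (h.AC ht)
  have t2 := H12.NG.ea_sq (H3.NG.ea_cj h.toCB.ea_U n) ht
  have TC : Qz q ⊓ C[EE z q] ≤ C{z} := inf_le_right.trans h.Cz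
  have zD : zpowers z ≤ Uz V z ⊓ cj n (Uz V z) := le_sup_left.trans (le_inf h.EU h.EA')
  have FC : F2 C{z} ≤ C{z} := F2_le _
  have i1 : ∀ w ∈ zpowers z, ap ι w = 1 := fun w hw => (d.sec.ker w (zD hw).1).2 hw
  have toF : ∀ u ∈ Uz V z, u ∈ C[Qz z] → ap ι u ∈ C[F[ρ.range]] := fun u hu hc =>
    mem_C_iff_le_C1.2 fun γ hγ => by
      obtain ⟨f, hf, rfl⟩ := d.exF hγ
      refine mem_C1_comm.1 ((d.C1 h.toCA (FC hf) hu).2 ?_)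
      rw [conj_eq_of_mem_C (h.F_cent' h.abU hf) ⟨hu, hc⟩]; simp
  have apE : ∀ v ∈ EE z q, ap ι v = 1 ∨ ap ι v = ap ι q := fun v hv => by
    rcases h.cases hv with rfl | rfl | rfl | rfl
    exacts [.inl (i1 _ (one_mem _)), .inl (i1 _ (mem_zpowers _)), .inr rfl,
      .inr (by rw [ap_mul _ h.zU h.qU, i1 _ (mem_zpowers _), one_mul])]
  have fxE : ∀ e ∈ Uz V z, ∀ v ∈ EE z q, e * v ∈ C[Qz z] →
      ap ι e ∈ C[F[ρ.range]] ∨ ap ι e * ap ι q ∈ C[F[ρ.range]] := fun e he v hv hc => by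
    have := toF _ (mul_mem he (h.EU hv)) hc
    rw [ap_mul _ he (h.EU hv)] at this
    exact (apE v hv).imp (fun k => by simpa [k] using this) fun k => by rwa [k] at this
  have cen : ∀ e ∈ Uz V z ⊓ cj n (Uz V z), (∀ s ∈ Qz q ⊓ C[EE z q], ap ι e ∈ C{ap ρ s}) →
      Qz q ⊓ C[EE z q] ≤ C{e} := fun e he hc s hs => mem_C1_iff_conj.2 (mul_inv_eq_one.1 (h.inf1
    ((d.C1 h.toCA (TC hs) he.1).1 (hc s hs)) (h.cb.cm_U₁ (h.UA ▸ he.2) hs.1)))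
  have fq : ∀ g ∈ C{z}, ap ρ g ∈ C{ap ι q} ↔ g ∈ N[EE z q] := fun g hg => by
    rw [mem_C1_comm, d.C1 h.toCA hg h.qU, h.memN hg]
  have cq : ∀ a ∈ C{z}, ∀ b ∈ C{z}, a * b * a⁻¹ * b⁻¹ ∈ Qz z → ap ρ a ∈ C{ap ρ b} := fun a ha b hb k => by
    have m := mul_mem (mul_mem ha hb) (inv_mem ha)
    rw [← d.ker _ (mul_mem m (inv_mem hb)), ap_mul _ m (inv_mem hb), ap_conj _ ha hb, ap_inv _ hb,
      mul_inv_eq_one] at k
    exact mem_C1_iff_conj.2 k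
  obtain ⟨v1, cF, c, hc, c1, c2⟩ := mod_pl (T := img ρ (Qz q ⊓ C[EE z q])) (v := ap ι q)
    (D := img ι (Uz V z ⊓ cj n (Uz V z))) d.md (ap_rng ρ tC) (mt (d.ker t tC).1 tQ)
    (by rw [← ap_mul _ tC tC, t2, ap_one]) (img_le_range _ _) (((pcore_pi _ _).inf_left _).img ρ)
    (fun γ hγ => by
      obtain ⟨s, hs, sC, rfl⟩ := mem_img.1 hγ
      exact cq s sC t tC (h.U_le_Q (zpowers_le.2 h.qU (h.cb.cm_U₁ (h.UA ▸ ht) hs.1))))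
    (img_le_range _ _) (fun x hx => by
      obtain ⟨w, hw, rfl⟩ := (mem_comm1 (H3.NG.ea_abl d.md.ea) (d.md.le (ap_rng ρ tC))).1 hx
      obtain ⟨u, hu, rfl⟩ := mem_rng.1 hw
      have m := mul_mem (conj_mem (UN tC) hu) (inv_mem hu)
      rw [← sec_comm d.sec UN tC hu]
      exact ap_mem_img ι (mem_inf.2 ⟨m, by
        simpa only [mul_assoc] using mul_mem ht (conj_mem (h.CA' (h.UC hu)) (inv_mem ht))⟩) m)
    (ap_mem_img ι ⟨h.qU, h.EA' (qE z q)⟩ h.qU) (fun w hw hc => by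
      obtain ⟨e, he, -, rfl⟩ := mem_img.1 hw
      obtain ⟨v, hv, k, -⟩ := h.AD he (cen e he fun s hs => C_le_C1 (ap_mem_img ρ hs (TC hs)) hc)
      exact fxE e he.1 v hv k) fun γ hγ e => by
      obtain ⟨g, hg, rfl⟩ := mem_rng.1 hγ
      rw [← d.sec.act g hg q h.qU] at e ⊢
      have k1 := d.mem_of h.toCA zD (conj_mem (UN hg) h.qU) e
      obtain ⟨v, hv, k⟩ := h.a6 hg k1
      exact fxE _ k1.1 v hv k
  have fin : ∀ H₀ K₁ : Subgroup G, Sol H₀ → Qz z ≤ K₁ → K₁ ≤ F2 C{z} → T ≤ N[K₁] → K₁ ≤ H₀ →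
      Qz z ⊔ Qz q ≤ H₀ → T ≤ H₀ → K₁ ≤ N[EE z q] := fun H₀ K₁ a1 a2 a3 a4 a5 a6 a7 k hk =>
    (fq k (FC (a3 hk))).1 (cF _ (d.F ▸ ap_mem_img ρ (a3 hk) (FC (a3 hk)))
      (mem_C1_comm.1 (cq t tC k (FC (a3 hk)) (h.fin hT ht a1 a2 a3 a4 a5 a6 a7 k hk))))
  have nF : ¬ F2 C{z} ≤ N[EE z q] := fun k => v1 (mem_C_iff_le_C1.2 fun γ hγ => by
    obtain ⟨f, hf, rfl⟩ := d.exF hγ
    exact (fq f (FC hf)).2 (k hf))
  have TF : T ≤ N[F2 C{z}] := (hT.le.trans inf_le_left).trans (F2_nml _).norm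
  by_cases hF : F2 C{z} ⊓ N[EE z q] ≤ Qz z
  · by_cases c0 : c = 1
    · obtain ⟨k, hk, e⟩ := Sylow_subJ Nat.prime_two (h.syl.of_le h.S_le_C le_top) (H3.NG.zp_two t2)
        (zpowers_le.2 tC)
      have c' := h.toCB.conjG k
      rw [mem_C1_iff_conj.1 hk] at c'
      have k1 : cj k S ≤ N[EE z q] := fun s hs => (fq s (c'.S_le_C hs)).1 (c2 c0 (fun γ hγ k => by
        obtain ⟨f, hf, rfl⟩ := d.exF hγ
        exact (d.ker f (FC hf)).2 (hF ⟨hf, (fq f (FC hf)).1 k⟩)) _ (c'.syl.pi.img ρ) (img_le_range _ _)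
        (ap_mem_img ρ (e (mem_zpowers t)) tC) (ap_mem_img ρ hs (c'.S_le_C hs)))
      have k2 := h.l2 _ (ea_pi h.eaE) (ne_bot_of_mem (zE z q) h.z1)
      have k3 := conj_mem ((Ys_red k2).nml.norm (h.LN h.nL)) (OZ_le_Ys k2 (c'.syl.of_le k1 le_top) c'.z_OZ₁)
      rw [h.e1] at k3
      exact h.nl hk (c'.ys _ k2 k1 k3)
    · obtain ⟨e, he, -, rfl⟩ := mem_img.1 (mem_inf.1 hc).1
      obtain ⟨v, hv, k1, k2⟩ := h.AD he (cen e he fun s hs => mem_C1_comm.1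
        (c1 _ (ap_rng ρ (TC hs)) ((fq s (TC hs)).2 (C_le_N _ hs.2))))
      have m := mul_mem he.1 (h.EU hv)
      have k3 : ap ι (e * v) = ap ι e := by
        have := toF _ m k1
        rw [ap_mul _ he.1 (h.EU hv)] at this ⊢
        rw [(apE v hv).resolve_right fun k => v1 (k ▸ (mul_mem_cancel_left (mem_inf.1 hc).2).1 this), mul_one]
      have k4 : e * v ∈ C[Qz z ⊔ Qz q] := by rw [C_sup]; exact ⟨k1, k2⟩
      refine nF (fin C{e * v} _ (h.l2.cent (H12.NG.ea_sq h.toCB.ea_U m) fun k => c0 (by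
        rw [← k3, k, ap_one])).1 (Q2_le_F2 _) le_rfl TF (mem_C_iff_le_C1.1
          (cents_symm (h.F_cent' h.abU) ⟨m, k1⟩)) (mem_C_iff_le_C1.1 k4) fun s hs => ?_)
      have sC := (hT.le hs).1
      refine mem_C1_iff_conj.2 (mul_inv_eq_one.1 (((mem_zp2 h.z_sq).1 ((d.C1 h.toCA sC m).1 (k3 ▸
        mem_C1_comm.1 (c1 _ (ap_rng ρ sC) ((fq s sC).2 (hT.le hs).2))))).resolve_right fun k => h.ne ?_))
      have := mul_mem (conj_mem (N_le_NC _ (h.nL' sC (hT.le hs).2)) k4) (inv_mem k4)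
      rw [k] at this
      rw [← h.e1, mem_C.1 this n h.nL, mul_inv_cancel_right]
  · obtain ⟨K, hK⟩ : ∃ K, K = Od2 (F2 C{z} ⊓ N[EE z q]) := ⟨_, rfl⟩
    have n1 : C{z} ⊓ N[EE z q] ≤ N[F2 C{z} ⊓ N[EE z q]] :=
      norm_inf (inf_le_left.trans (F2_nml _).norm) (norm_of_le inf_le_right)
    have n2 : N[F2 C{z} ⊓ N[EE z q]] ≤ N[K] := hK ▸ N_le_N_Od2 _
    have KC : K ≤ C[EE z q] := hK ▸ (closure_le _).2 fun g hg =>
      H3.NG.four_odd h.eaE h.cardE (zE z q) h.z1 hg.1.2 (FC hg.1.1) hg.2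
    have K1 : K ≠ ⊥ := fun e => hF (F2_two (Od2_eq_bot.1 (hK ▸ e)) inf_le_left)
    have KL : Qz z ⊔ Qz q ≤ N[K] := by
      rw [← Od2_sup (hK ▸ Od2_Od2 _ : Od2 K = K) (pcore_pi _ C[EE z q])
        (((pcore_le _ _).trans (le_inf h.Cz (C_le_N _))).trans (n1.trans n2))]
      exact (norm_of_comm_le_right ((comm_mono_right (sup_le KC (pcore_le _ _))).trans
        (h.dih.2.trans le_sup_right))).trans (N_le_N_Od2 _)
    have h7 := (KC.trans h.Cz).trans A6.QN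
    have h8 : K ⊓ Qz z ≠ ⊥ := fun e => K1 (eq_bot_of_le e (le_inf le_rfl ((le_inf (KC.trans h.Cz)
      (cents_of_inf_eq_bot h7 (le_sup_left.trans KL) e)).trans h.ch2.2)))
    have QF : Qz z ≤ F2 C{z} ⊓ N[EE z q] := le_inf (Q2_le_F2 _) h.QN
    have := fin N[Q2 K] (F2 C{z} ⊓ N[F2 C{z} ⊓ N[EE z q]]) (h.l2 _ (pcore_pi _ _) (ne_bot_of_le h8
      (pcore_max ((pcore_pi _ _).inf_right _) (nml_inf_of_norm h7)))).1
      (le_inf (Q2_le_F2 _) (norm_of_le QF)) inf_le_left (norm_inf TF (norm_N (hT.le.trans n1)))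
      (inf_le_right.trans (n2.trans (N_le_N_pcore _ _))) (KL.trans (N_le_N_pcore _ _))
      (hT.le.trans (n1.trans (n2.trans (N_le_N_pcore _ _))))
    exact nF ((F2_norm QF inf_le_left (le_inf inf_le_left this)).ge.trans inf_le_right)

end PS

end H18.PL

namespace H12.NG

open Subgroup Cfsg H24 H11.ZN H18.PL

universe u

variable {G : Type u} [Group G] [Finite G] {S V : Subgroup G} {z g : G}

theorem CB.PL (h : CB S V z) (h1 : g * z * g⁻¹ ∈ Uz V z) (h2 : z ∈ cj g (Uz V z)) :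
    cj g (Uz V z) ≤ C[Uz V z] := by
  by_cases e : g * z * g⁻¹ = z
  · rw [cj_of_mem_N (h.U_nml.norm (mem_C1_iff_conj.2 e))]
    exact h.abU.le_C
  by_contra hn
  have c := h.conjG g
  have U1 := CA.Uz_conj V g z
  have z2 : g⁻¹ * (g * z * g⁻¹) * g⁻¹⁻¹ = z := by group
  obtain ⟨x, hx, x1⟩ := SetLike.not_le_iff_exists.1 fun k : Qz z ≤ C{g * z * g⁻¹} =>
    e (h.Z0 (h.U_le_Q h1) (mem_C_iff_le_C1.2 k))
  obtain ⟨y, hy, y1⟩ := SetLike.not_le_iff_exists.1 fun k : Qz (g * z * g⁻¹) ≤ C{z} =>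
    e (z2.symm.trans (c.Z0 (g := g⁻¹) (z2.symm ▸ c.U_le_Q (U1 ▸ h2)) (z2.symm ▸ mem_C_iff_le_C1.2 k))).symm
  have a1 := mul_inv_eq_iff_eq_mul.1 (((H1.NG.mem_zp2 h.z_sq).1 (h.cm_U₁ h1 hx)).resolve_left fun k =>
    x1 (mem_C1_iff_conj.2 (mul_inv_eq_one.1 k)))
  have a2 := mul_inv_eq_iff_eq_mul.1 (((H1.NG.mem_zp2 c.z_sq).1 (c.cm_U₁ (U1 ▸ h2) hy)).resolve_left fun k =>
    y1 (mem_C1_iff_conj.2 (mul_inv_eq_one.1 k)))
  have a3 := mem_C1_iff_conj.1 (A6.QC hx)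
  have a4 := mem_C1_iff_conj.1 (A6.QC hy)
  have a5 := mem_C1.1 (h.U_le_C₂ h1)
  have q2 := c.z_sq
  have e1 : x * y * x * z * (x * y * x)⁻¹ = g * z * g⁻¹ := by
    calc _ = x * (y * (x * z * x⁻¹) * y⁻¹) * x⁻¹ := by group
      _ = x * (g * z * g⁻¹) * x⁻¹ * (x * z * x⁻¹) := by (conv_lhs => rw [a3, a2]); group
      _ = _ := by rw [a1, a3, ← a5, mul_assoc, h.z_sq, mul_one]
  refine PS.false (n := x * y * x) ⟨h, e1, ?_, h1, e, mul_mem (mul_mem (mem_sup_left hx) (mem_sup_right hy))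
    (mem_sup_left hx), by rwa [h.toCA.cj_U_eq e1]⟩
  calc _ = x * (y * (x * (g * z * g⁻¹) * x⁻¹) * y⁻¹) * x⁻¹ := by group
    _ = x * (y * z * y⁻¹ * (y * (g * z * g⁻¹) * y⁻¹)) * x⁻¹ := by rw [a1]; group
    _ = _ := by rw [a2, a4, a5, mul_assoc z, q2, mul_one, a3]

end H12.NG
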