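import Mathlib
import Cfsg.Prelude.Def_CaseTheorems
import Cfsg.Prelude.Def_Exceptional
import Cfsg.Prelude.Def_Sporadic
import Cfsg.Prelude.Def_Sz
import Cfsg.Prelude.Def_LieTwisted
import Cfsg.Prelude.Def_Classical

set_option autoImplicit false
open Cfsg

namespace H12.NG
universe u

/-- the list of the main theorem, without the Tits group -/
def Concl0 (G : Type u) [Group G] : Prop :=
  (∃ (F : Type) (_ : Field F) (_ : Fintype F), 4 ≤ Fintype.card F ∧
      Nonempty (G ≃* Matrix.ProjectiveSpecialLinearGroup (Fin 2) F)) ∨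
    Lie.IsoSuzuki G ∨
    (∃ (F : Type) (_ : Field F) (_ : Fintype F) (n : ℕ), 2 ≤ n ∧ Fintype.card F = (2 ^ n) ^ 2 ∧
      Nonempty (G ≃* PSU 3 F (2 ^ n))) ∨
    (∃ (F : Type) (_ : Field F) (_ : Fintype F), Fintype.card F = 3 ∧
      Nonempty (G ≃* Matrix.ProjectiveSpecialLinearGroup (Fin 3) F)) ∨
    (∃ (F : Type) (_ : Field F) (_ : Fintype F), Fintype.card F = 9 ∧ Nonempty (G ≃* PSU 3 F 3)) ∨
    Nonempty (G ≃* alternatingGroup (Fin 7)) ∨ IsM11 G

/-- all 2-local subgroups are solvable -/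
def Sol2 (G : Type u) [Group G] : Prop := ∀ N : Subgroup G, IsTwoLocal N → Group.IsSolvable N

/-- the main theorem, up to an exceptional configuration `T` -/
def Main (T : ∀ (G : Type u) [Group G], Prop) : Prop :=
  ∀ (G : Type u) [Group G] [Finite G] [IsSimpleGroup G], ¬ IsMulCommutative G → Sol2 G →
    Concl0 G ∨ T G

theorem Main.mono {T T' : ∀ (G : Type u) [Group G], Prop} (h : Main T)
    (h' : ∀ (G : Type u) [Group G] [Finite G] [IsSimpleGroup G], T G → T' G) : Main T' :=
  fun G _ _ _ h1 h2 => (h G h1 h2).imp_right (h' G)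

end H12.NG
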