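import Cfsg.Agent.H12.NGDefs
import Cfsg.Agent.H8.NG1
import Cfsg.Agent.S0810

/-! Consequences of the main theorem on groups with solvable 2-local subgroups, part one. -/

set_option autoImplicit false
open Cfsg
namespace H12.NG
universe u

/-- every non-solvable finite group has a minimal simple section -/
theorem exists_minSimple {G : Type u} [Group G] [Finite G] (h : ¬ Group.IsSolvable G) :
    ∃ (H : Subgroup G) (N : Subgroup H) (_ : N.Normal), IsMinimalSimple (H ⧸ N) :=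
  H8.NG.exists_minSimple h

theorem isSuzuki_of_isoSuzuki {G : Type u} [Group G] [IsSimpleGroup G] (h : Lie.IsoSuzuki G) :
    IsSuzuki G := by
  obtain ⟨F, _, _, m, hm, hF, ⟨e⟩⟩ := h
  exact ⟨inferInstance, m, hm, (Nat.card_congr e.toEquiv).trans (H8.NG.card_lie_Sz hm hF)⟩

/-- the minimal simple groups on the list, with models -/
theorem min_list0 {G : Type u} [Group G] [Finite G] (hG : Cfsg.IsMinimalSimple G) (h0 : Concl0 G) :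
    (∃ (F : Type) (_ : Field F) (_ : Fintype F),
      Nonempty (G ≃* Matrix.ProjectiveSpecialLinearGroup (Fin 2) F)) ∨
    (∃ (F : Type) (_ : Field F) (_ : Fintype F), Fintype.card F = 3 ∧
      Nonempty (G ≃* Matrix.ProjectiveSpecialLinearGroup (Fin 3) F)) ∨
    (∃ (F : Type) (_ : Field F) (_ : Fintype F) (m : ℕ), 1 ≤ m ∧ Fintype.card F = 2 ^ (2 * m + 1) ∧
      (2 * m + 1).Prime ∧ Nonempty (G ≃* Lie.Sz F (2 ^ (m + 1)))) := by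
  rcases h0 with ⟨F, _, _, -, e⟩ | ⟨F, _, _, m, hm, hF, ⟨e⟩⟩ | ⟨F, _, _, n, hn, hF, ⟨e⟩⟩ | h |
    ⟨F, _, _, hF, ⟨e⟩⟩ | ⟨⟨e⟩⟩ | h
  · exact Or.inl ⟨F, _, inferInstance, e⟩
  · exact Or.inr (Or.inr ⟨F, _, _, m, hm, hF,
      H8.NG.prime_of_min_Sz hm hF (H8.NG.IsMinimalSimple.congr hG e), ⟨e⟩⟩)
  · exact absurd (H8.NG.IsMinimalSimple.nGroup hG) ((H8.NG.bigC_U3 hn hF).of_equiv e).not_nGroup
  · exact Or.inr (Or.inl h)
  · exact absurd (H8.NG.IsMinimalSimple.congr hG e) (H8.NG.not_min_U33 hF)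
  · exact absurd (H8.NG.IsMinimalSimple.congr hG e) H8.NG.not_min_A7
  · exact absurd hG (H8.NG.not_min_M11 h)

/-- the minimal simple groups on the list -/
theorem min_list {G : Type u} [Group G] [Finite G] (hG : Cfsg.IsMinimalSimple G) (h0 : Concl0 G) :
    (∃ p : ℕ, p.Prime ∧ ∃ (F : Type) (_ : Field F) (_ : Fintype F), Fintype.card F = 2 ^ p ∧ Nonempty (G ≃* Matrix.ProjectiveSpecialLinearGroup (Fin 2) F)) ∨
      (∃ p : ℕ, p.Prime ∧ p ≠ 2 ∧ ∃ (F : Type) (_ : Field F) (_ : Fintype F), Fintype.card F = 3 ^ p ∧ Nonempty (G ≃* Matrix.ProjectiveSpecialLinearGroup (Fin 2) F)) ∨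
      (∃ p : ℕ, p.Prime ∧ (p = 5 ∨ (5 < p ∧ (p % 5 = 2 ∨ p % 5 = 3))) ∧ ∃ (F : Type) (_ : Field F) (_ : Fintype F), Fintype.card F = p ∧ Nonempty (G ≃* Matrix.ProjectiveSpecialLinearGroup (Fin 2) F)) ∨
      (∃ (F : Type) (_ : Field F) (_ : Fintype F), Fintype.card F = 3 ∧ Nonempty (G ≃* Matrix.ProjectiveSpecialLinearGroup (Fin 3) F)) ∨
      (Cfsg.IsSuzuki G ∧ ∃ p : ℕ, p.Prime ∧ Nat.card G = (2 ^ p) ^ 2 * ((2 ^ p) ^ 2 + 1) * (2 ^ p - 1)) := by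
  rcases min_list0 hG h0 with ⟨F, _, _, ⟨e⟩⟩ | h | ⟨F, _, _, m, hm, hF, hp, ⟨e⟩⟩
  · rcases (Cfsg.Agent.S0810.result (F := F) rfl).1 (H8.NG.IsMinimalSimple.congr hG e) with
      ⟨r, hr, h⟩ | ⟨r, hr, hr2, h⟩ | ⟨h1, h2⟩ | h
    · exact Or.inl ⟨r, hr, F, _, _, h, ⟨e⟩⟩
    · exact Or.inr (Or.inl ⟨r, hr, hr2, F, _, _, h, ⟨e⟩⟩)
    · exact Or.inr (Or.inr (Or.inl ⟨_, h1, Or.inr h2, F, _, _, rfl, ⟨e⟩⟩))
    · exact Or.inr (Or.inr (Or.inl ⟨5, by norm_num, Or.inl rfl, F, _, _, h, ⟨e⟩⟩))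
  · exact Or.inr (Or.inr (Or.inr (Or.inl h)))
  · have := hG.1
    exact Or.inr (Or.inr (Or.inr (Or.inr ⟨isSuzuki_of_isoSuzuki ⟨F, _, _, m, hm, hF, ⟨e⟩⟩, _, hp,
      (Nat.card_congr e.toEquiv).trans (H8.NG.card_lie_Sz hm hF)⟩)))

theorem s0487 (HM : Main.{u} (fun G _ => IsTits G)) {G : Type u} [Group G] [Finite G] [IsSimpleGroup G]
    (hG : ¬ IsMulCommutative G) (hN : Cfsg.IsNGroup G) :
    (∃ (F : Type) (_ : Field F) (_ : Fintype F), 4 ≤ Fintype.card F ∧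
        Nonempty (G ≃* Matrix.ProjectiveSpecialLinearGroup (Fin 2) F)) ∨
      Cfsg.IsSuzuki G ∨
      (∃ (F : Type) (_ : Field F) (_ : Fintype F), Fintype.card F = 3 ∧ Nonempty (G ≃* Matrix.ProjectiveSpecialLinearGroup (Fin 3) F)) ∨
      (∃ (F : Type) (_ : Field F) (_ : Fintype F), Fintype.card F = 9 ∧ Nonempty (G ≃* Cfsg.PSU 3 F 3)) ∨
      Nonempty (G ≃* alternatingGroup (Fin 7)) ∨ Cfsg.IsM11 G ∨ Cfsg.IsTits G := by
  rcases HM G hG (fun N ⟨T, h1, h2, h3⟩ => hN N ⟨2, T, Nat.prime_two, h1, h2, h3⟩) with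
    (h | h | ⟨F, _, _, n, hn, hF, ⟨e⟩⟩ | h | h | h | h) | h
  · exact Or.inl h
  · exact Or.inr (Or.inl (isSuzuki_of_isoSuzuki h))
  · exact absurd hN ((H8.NG.bigC_U3 hn hF).of_equiv e).not_nGroup
  · exact Or.inr (Or.inr (Or.inl h))
  · exact Or.inr (Or.inr (Or.inr (Or.inl h)))
  · exact Or.inr (Or.inr (Or.inr (Or.inr (Or.inl h))))
  · exact Or.inr (Or.inr (Or.inr (Or.inr (Or.inr (Or.inl h)))))
  · exact Or.inr (Or.inr (Or.inr (Or.inr (Or.inr (Or.inr h)))))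

theorem concl0_of_min (HM : Main.{u} (fun G _ => Lie.IsoTits G)) {G : Type u} [Group G] [Finite G]
    (hG : Cfsg.IsMinimalSimple G) : Concl0 G :=
  have := hG.1
  (HM G hG.2.1 (H8.NG.IsMinimalSimple.sol2 hG)).resolve_right fun h => H8.NG.not_min_isoTits h hG

theorem s0488 (HM : Main.{u} (fun G _ => Lie.IsoTits G)) {G : Type u} [Group G] [Finite G] (hG : Cfsg.IsMinimalSimple G) :
    (∃ p : ℕ, p.Prime ∧ ∃ (F : Type) (_ : Field F) (_ : Fintype F), Fintype.card F = 2 ^ p ∧ Nonempty (G ≃* Matrix.ProjectiveSpecialLinearGroup (Fin 2) F)) ∨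
      (∃ p : ℕ, p.Prime ∧ p ≠ 2 ∧ ∃ (F : Type) (_ : Field F) (_ : Fintype F), Fintype.card F = 3 ^ p ∧ Nonempty (G ≃* Matrix.ProjectiveSpecialLinearGroup (Fin 2) F)) ∨
      (∃ p : ℕ, p.Prime ∧ (p = 5 ∨ (5 < p ∧ (p % 5 = 2 ∨ p % 5 = 3))) ∧ ∃ (F : Type) (_ : Field F) (_ : Fintype F), Fintype.card F = p ∧ Nonempty (G ≃* Matrix.ProjectiveSpecialLinearGroup (Fin 2) F)) ∨
      (∃ (F : Type) (_ : Field F) (_ : Fintype F), Fintype.card F = 3 ∧ Nonempty (G ≃* Matrix.ProjectiveSpecialLinearGroup (Fin 3) F)) ∨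
      (Cfsg.IsSuzuki G ∧ ∃ p : ℕ, p.Prime ∧ Nat.card G = (2 ^ p) ^ 2 * ((2 ^ p) ^ 2 + 1) * (2 ^ p - 1)) :=
  min_list hG (concl0_of_min HM hG)

end H12.NG
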