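import Cfsg.Agent.H12.NGDefs
import Cfsg.Agent.H12.NGE1
import Cfsg.Agent.H8.NG3

/-! Consequences of the main theorem on groups with solvable 2-local subgroups, part two. -/

set_option autoImplicit false
open Cfsg
namespace H12.NG
universe u

/-- the minimal simple groups of the list with at most three prime divisors -/
theorem three_list {X : Type u} [Group X] [Finite X] (hX : IsMinimalSimple X) (h0 : Concl0 X)
    (h3 : (Nat.card X).primeFactors.card ≤ 3) :
    ∃ (F : Type) (_ : Field F) (_ : Fintype F),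
      ((Fintype.card F = 5 ∨ Fintype.card F = 7 ∨ Fintype.card F = 8 ∨ Fintype.card F = 17) ∧
          Nonempty (X ≃* Matrix.ProjectiveSpecialLinearGroup (Fin 2) F)) ∨
        (Fintype.card F = 3 ∧ Nonempty (X ≃* Matrix.ProjectiveSpecialLinearGroup (Fin 3) F)) := by
  rcases min_list0 hX h0 with ⟨F, _, _, ⟨e⟩⟩ | ⟨F, _, _, h⟩ | ⟨F, _, _, m, hm, hF, -, ⟨e⟩⟩
  · have hc := H7.card_psl_two (F := F) rfl
    rw [← Nat.card_congr e.toEquiv] at hc
    have hodd : Odd (Fintype.card F) → Nat.gcd 2 (Fintype.card F - 1) = 2 := fun h =>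
      Nat.gcd_eq_left (by rw [Nat.odd_iff] at h; omega)
    have hpr : ∀ p, p.Prime → 5 ≤ p → Fintype.card F = p → Fintype.card F = 5 ∨
        Fintype.card F = 7 ∨ Fintype.card F = 8 ∨ Fintype.card F = 17 := fun p hp h5 hF => by
      rw [hodd (hF ▸ hp.odd_of_ne_two (by omega)), hF] at hc
      have := H8.NG.three_prime h3 hp h5 hc
      omega
    rcases (Cfsg.Agent.S0810.result (F := F) rfl).1 (H8.NG.IsMinimalSimple.congr hX e) with
      ⟨r, hr, h⟩ | ⟨r, hr, hr2, h⟩ | ⟨h1, h2, -⟩ | h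
    · have h1 : Nat.gcd 2 (Fintype.card F - 1) = 1 := by
        have : 2 ∣ Fintype.card F := h ▸ dvd_pow_self 2 hr.ne_zero
        have := Fintype.card_pos (α := F)
        exact Nat.coprime_two_left.2 (Nat.odd_iff.2 (by omega))
      rw [h1, one_mul, h] at hc
      rcases H8.NG.three_two_pow h3 hr hc with rfl | rfl
      · have : Fact (Nat.Prime 5) := ⟨by norm_num⟩
        obtain ⟨e1⟩ := H7.psl2_four_equiv_A5 h
        obtain ⟨e2⟩ := H7.psl2_five_equiv_A5 (F := ZMod 5) (ZMod.card 5)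
        exact ⟨ZMod 5, inferInstance, inferInstance,
          Or.inl ⟨Or.inl (ZMod.card 5), ⟨(e.trans e1).trans e2.symm⟩⟩⟩
      · exact ⟨F, _, _, Or.inl ⟨Or.inr (Or.inr (Or.inl h)), ⟨e⟩⟩⟩
    · rw [hodd (h ▸ Odd.pow (by decide)), h] at hc
      exact (H8.NG.three_three_pow h3 hr hr2 hc).elim
    · exact ⟨F, _, _, Or.inl ⟨hpr _ h1 h2.le rfl, ⟨e⟩⟩⟩
    · exact ⟨F, _, _, Or.inl ⟨Or.inl h, ⟨e⟩⟩⟩
  · exact ⟨F, _, _, Or.inr h⟩
  · exfalso
    have hc := (Nat.card_congr e.toEquiv).trans (H8.NG.card_lie_Sz hm hF)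
    obtain ⟨r, hr, hr5, hd⟩ := H16.QT.exists_prime_four_pow (k := 2 * m + 1) (by omega)
    have h5 : 5 ∣ 4 ^ (2 * m + 1) + 1 := by
      simpa using Odd.nat_add_dvd_pow_add_pow 4 1 (odd_two_mul_add_one m)
    have hq : 4 ^ (2 * m + 1) = (2 ^ (2 * m + 1)) ^ 2 := by
      rw [← pow_mul, mul_comm _ 2, pow_mul 2]; norm_num
    rw [hq] at hd h5
    have h2 : 2 ∣ 2 ^ (2 * m + 1) := dvd_pow_self 2 (by omega)
    have h8 : 8 ≤ 2 ^ (2 * m + 1) := Nat.pow_le_pow_right (n := 2) (i := 3) (by norm_num) (by omega)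
    generalize 2 ^ (2 * m + 1) = q at *
    have hco := H8.NG.coprime_sz (even_iff_two_dvd.2 h2) (by omega)
    obtain ⟨t, ht, htq⟩ := Nat.exists_prime_and_dvd (n := q - 1) (by omega)
    have h22 : 2 ∣ q ^ 2 := h2.trans (dvd_pow_self q two_ne_zero)
    have nd : ∀ s : ℕ, s.Prime → s ∣ q ^ 2 + 1 → ¬ s ∣ q - 1 := fun s hs h1 h2 =>
      hs.one_lt.ne' (Nat.eq_one_of_dvd_coprimes hco h1 (h2.mul_left _))
    rcases H8.NG.eq_of_three h3 Nat.card_pos.ne' Nat.prime_two (by norm_num : Nat.Prime 5) hr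
      (hc ▸ (h22.mul_right _).mul_right _) (hc ▸ (h5.mul_left _).mul_right _)
      (hc ▸ (hd.mul_left _).mul_right _) (by norm_num) (by rintro rfl; omega) hr5.symm ht
      (hc ▸ htq.mul_left _) with rfl | rfl | rfl
    · omega
    · exact nd _ ht h5 htq
    · exact nd _ ht hd htq

theorem card_section_dvd {G : Type u} [Group G] (H : Subgroup G) (N : Subgroup H) [N.Normal] :
    Nat.card (H ⧸ N) ∣ Nat.card G :=
  (Subgroup.card_quotient_dvd_card N).trans H.card_subgroup_dvd_card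

theorem s0492 (HM : Main.{u} (fun G _ => 30 ∣ Nat.card G)) {G : Type u} [Group G] [Finite G] [IsSimpleGroup G]
    (hG : ¬ IsMulCommutative G) (h3 : (Nat.card G).primeFactors.card = 3) :
    (Nat.card G).primeFactors = {2, 3, 5} ∨ (Nat.card G).primeFactors = {2, 3, 7} ∨
      (Nat.card G).primeFactors = {2, 3, 13} ∨ (Nat.card G).primeFactors = {2, 3, 17} := by
  obtain ⟨H, N, _, hX⟩ := exists_minSimple (H8.NG.not_solvable_of_simple hG)
  have hd := card_section_dvd H N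
  have key : ∀ p : ℕ, p.Prime → 3 < p → 6 * p ∣ Nat.card (H ⧸ N) →
      (Nat.card G).primeFactors = {2, 3, p} := fun p hp hp3 h =>
    H8.NG.primeFactors_eq_of_three h3.le Nat.card_pos.ne' Nat.prime_two Nat.prime_three hp
      (Dvd.dvd.trans ⟨3 * p, by ring⟩ (h.trans hd)) (Dvd.dvd.trans ⟨2 * p, by ring⟩ (h.trans hd))
      ((Dvd.intro_left _ rfl).trans (h.trans hd)) (by norm_num) (by omega) (by omega)
  have := hX.1
  rcases HM (H ⧸ N) hX.2.1 (H8.NG.IsMinimalSimple.sol2 hX) with h0 | h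
  swap
  · exact Or.inl (key 5 (by norm_num) (by norm_num) h)
  obtain ⟨F, _, _, ⟨hF, ⟨e⟩⟩ | ⟨hF, ⟨e⟩⟩⟩ := three_list hX h0
    ((Finset.card_le_card (Nat.primeFactors_mono hd Nat.card_pos.ne')).trans h3.le)
  · have hc := H7.card_psl_two (F := F) rfl
    rw [← Nat.card_congr e.toEquiv] at hc
    rcases hF with hF | hF | hF | hF <;> rw [hF] at hc <;> norm_num at hc
    · exact Or.inl (key 5 (by norm_num) (by norm_num) (by omega))
    · exact Or.inr (Or.inl (key 7 (by norm_num) (by norm_num) (by omega)))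
    · exact Or.inr (Or.inl (key 7 (by norm_num) (by norm_num) (by omega)))
    · exact Or.inr (Or.inr (Or.inr (key 17 (by norm_num) (by norm_num) (by omega))))
  · have hc := H7.card_psl hF 3 (by norm_num)
    rw [← Nat.card_congr e.toEquiv] at hc
    norm_num [Fin.prod_univ_three] at hc
    exact Or.inr (Or.inr (Or.inl (key 13 (by norm_num) (by norm_num) (by omega))))

theorem s0491 (HM : Main.{u} (fun G _ => IsTits G)) {G : Type u} [Group G] [Finite G]
    (hG : ¬ Group.IsSolvable G) (h3 : (Nat.card G).primeFactors.card ≤ 3) :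
    ∃ (H : Subgroup G) (N : Subgroup H) (_ : N.Normal) (F : Type) (_ : Field F) (_ : Fintype F),
      ((Fintype.card F = 5 ∨ Fintype.card F = 7 ∨ Fintype.card F = 8 ∨ Fintype.card F = 17) ∧
          Nonempty (H ⧸ N ≃* Matrix.ProjectiveSpecialLinearGroup (Fin 2) F)) ∨
        (Fintype.card F = 3 ∧ Nonempty (H ⧸ N ≃* Matrix.ProjectiveSpecialLinearGroup (Fin 3) F)) := by
  obtain ⟨H, N, hN, hX⟩ := exists_minSimple hG
  have h4 := (Finset.card_le_card (Nat.primeFactors_mono (card_section_dvd H N)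
    Nat.card_pos.ne')).trans h3
  have := hX.1
  rcases HM (H ⧸ N) hX.2.1 (H8.NG.IsMinimalSimple.sol2 hX) with h0 | h
  · exact ⟨H, N, hN, three_list hX h0 h4⟩
  · have := H8.NG.eq_of_three (d := 13) h4 Nat.card_pos.ne' Nat.prime_two Nat.prime_three
      (by norm_num : Nat.Prime 5) (by rw [h.2]; norm_num) (by rw [h.2]; norm_num)
      (by rw [h.2]; norm_num) (by norm_num) (by norm_num) (by norm_num) (by norm_num)
      (by rw [h.2]; norm_num)
    omega

theorem s0490 (HM : Main.{u} (fun G _ => Lie.IsoTits G)) {G : Type u} [Group G] [Finite G] :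
    ¬ Group.IsSolvable G ↔ ∃ a b c : G, a ≠ 1 ∧ b ≠ 1 ∧ c ≠ 1 ∧ (orderOf a).Coprime (orderOf b) ∧
      (orderOf b).Coprime (orderOf c) ∧ (orderOf a).Coprime (orderOf c) ∧ a * b * c = 1 := by
  refine ⟨H8.NG.tri_of_min (fun X _ _ hX => ?_) _ G rfl, H8.NG.Tri.not_solvable⟩
  rcases min_list0 hX (concl0_of_min HM hX) with ⟨F, _, _, ⟨e⟩⟩ | ⟨F, _, _, hF, ⟨e⟩⟩ |
    ⟨F, _, _, m, hm, hF, -, ⟨e⟩⟩
  · exact (H8.NG.tri_L2 (H8.NG.IsMinimalSimple.not_solvable
      (H8.NG.IsMinimalSimple.congr hX e))).of_equiv e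
  · exact (H8.NG.tri_L33 hF).of_equiv e
  · exact (H8.NG.tri_Sz hm hF).of_equiv e

end H12.NG
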