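import Cfsg.Agent.H12.NGDefs
import Cfsg.Agent.H8.NG8

/-! Consequences of the main theorem on groups with solvable 2-local subgroups, part three. -/

set_option autoImplicit false
open Cfsg
namespace H12.NG
universe u

theorem s0517 (HM : Main.{u} (fun G _ => ¬ SectionalPRankLE 2 4 G)) {G : Type u} [Group G] [Finite G]
    (hG : ¬ Group.IsSolvable G) (h4 : Cfsg.SectionalPRankLE 2 4 G)
    (hL : ∀ N : Subgroup G, Cfsg.IsTwoLocal N → Group.IsSolvable N) :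
    (∃ (F : Type) (_ : Field F) (_ : Fintype F),
        (Odd (Fintype.card F) ∨ Fintype.card F = 8 ∨ Fintype.card F = 16) ∧
          Nonempty (↥(commutator G) ⧸ Cfsg.oddCore ↥(commutator G) ≃* Matrix.ProjectiveSpecialLinearGroup (Fin 2) F)) ∨
      (∃ (F : Type) (_ : Field F) (_ : Fintype F), Fintype.card F = 3 ∧
          Nonempty (↥(commutator G) ⧸ Cfsg.oddCore ↥(commutator G) ≃* Matrix.ProjectiveSpecialLinearGroup (Fin 3) F)) ∨
      (∃ (F : Type) (_ : Field F) (_ : Fintype F) (q : ℕ), Fintype.card F = q ^ 2 ∧ (q = 3 ∨ q = 4) ∧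
          Nonempty (↥(commutator G) ⧸ Cfsg.oddCore ↥(commutator G) ≃* Cfsg.PSU 3 F q)) ∨
      Nonempty (↥(commutator G) ⧸ Cfsg.oddCore ↥(commutator G) ≃* alternatingGroup (Fin 7)) ∨
      (IsSimpleGroup (↥(commutator G) ⧸ Cfsg.oddCore ↥(commutator G)) ∧
        (Nat.card (↥(commutator G) ⧸ Cfsg.oddCore ↥(commutator G)) = 29120 ∨
          Nat.card (↥(commutator G) ⧸ Cfsg.oddCore ↥(commutator G)) = 7920)) := by
  obtain ⟨L, _, _, hs, hna, h2, hr, hoa⟩ := H8.NG.exists_L hG h4 hL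
  have tr : ∀ {X : Type} [Group X], (L ≃* X) → SectionalPRankLE 2 4 X := fun e =>
    H8.NG.sec_of_sec hr (MonoidHom.id L) Function.injective_id e.toMonoidHom e.surjective
  have ch : ∀ {F : Type} [Field F] [Fintype F], Even (Fintype.card F) →
      CharP F 2 ∧ ∃ n, Fintype.card F = 2 ^ n := fun {F} _ _ h => by
    obtain ⟨p, hp, n, hp', hn⟩ := FiniteField.card' F
    obtain rfl : 2 = p := (Nat.prime_dvd_prime_iff_eq Nat.prime_two hp').1
      (Nat.prime_two.dvd_of_dvd_pow (hn ▸ even_iff_two_dvd.1 h))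
    exact ⟨hp, n, hn⟩
  have aut : ∀ {X : Type} [Group X] (_ : L ≃* X) {k : ℕ}, k = 2 ∨ k = 4 →
      Nat.card (MulAut X) = k * Nat.card X → H8.NG.OA L := fun e k hk h =>
    H8.NG.oa_of_card hna hk (by
      rw [Nat.card_congr e.toEquiv, Nat.card_congr (MulAut.congr e).toEquiv, h])
  rcases (HM L hna h2).resolve_right (not_not.2 hr) with ⟨F, _, _, hF, ⟨e⟩⟩ |
    ⟨F, _, _, m, hm, hF, ⟨e⟩⟩ | ⟨F, _, _, n, hn, hF, ⟨e⟩⟩ | ⟨F, _, _, hF, ⟨e⟩⟩ |
    ⟨F, _, _, hF, ⟨e⟩⟩ | ⟨⟨e⟩⟩ | h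
  · obtain ⟨d⟩ := hoa (H8.NG.oa_L2.congr e)
    left
    rcases Nat.even_or_odd (Fintype.card F) with he | ho
    · obtain ⟨_, n, hn⟩ := ch he
      have h16 := H8.NG.rank_L2 (tr e)
      rw [Nat.card_eq_fintype_card, hn] at h16
      have h1 : n ≤ 4 := (Nat.pow_le_pow_iff_right (a := 2) (by norm_num)).1 h16
      have h0 : 2 ≤ n := (Nat.pow_le_pow_iff_right (a := 2) (by norm_num)).1 (hn ▸ hF)
      interval_cases n
      · have : Fact (Nat.Prime 5) := ⟨by norm_num⟩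
        obtain ⟨e1⟩ := H7.psl2_four_equiv_A5 hn
        obtain ⟨e2⟩ := H7.psl2_five_equiv_A5 (F := ZMod 5) (ZMod.card 5)
        exact ⟨ZMod 5, inferInstance, inferInstance, Or.inl (by rw [ZMod.card]; decide),
          ⟨((d.trans e).trans e1).trans e2.symm⟩⟩
      · exact ⟨F, _, _, Or.inr (Or.inl hn), ⟨d.trans e⟩⟩
      · exact ⟨F, _, _, Or.inr (Or.inr hn), ⟨d.trans e⟩⟩
    · exact ⟨F, _, _, Or.inl ho, ⟨d.trans e⟩⟩
  · obtain ⟨d⟩ := hoa ((H8.NG.oa_Sz hm hF).congr e)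
    obtain rfl := H8.NG.rank_Sz hm hF (tr e)
    exact Or.inr (Or.inr (Or.inr (Or.inr ⟨d.isSimpleGroup, Or.inl
      ((Nat.card_congr (d.trans e).toEquiv).trans (H8.NG.card_lie_Sz hm hF))⟩)))
  · obtain ⟨_, -⟩ := ch (F := F) (hF ▸ (Nat.even_pow' two_ne_zero).2
      ((Nat.even_pow' (by omega)).2 even_two))
    have h16 := H8.NG.rank_U3 hF (tr e)
    rw [Nat.card_eq_fintype_card, hF, ← pow_mul] at h16
    have h1 : n * 2 ≤ 4 := (Nat.pow_le_pow_iff_right (a := 2) (by norm_num)).1 h16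
    obtain rfl : n = 2 := by omega
    obtain ⟨d⟩ := hoa (aut e (Or.inr rfl) (Cfsg.Agent.S0815.result 2 2 (by norm_num) rfl hF 3 le_rfl
      (by norm_num)))
    exact Or.inr (Or.inr (Or.inl ⟨F, _, _, 4, hF, Or.inr rfl, ⟨d.trans e⟩⟩))
  · have : Fact (Nat.Prime 3) := ⟨Nat.prime_three⟩
    have h1 := Cfsg.Agent.S0813.result 3 1 le_rfl hF 3 (by norm_num) (by norm_num)
    have h3 := H7.card_psl hF 3 (by norm_num)
    have h5 := H7.card_sl hF 3 (by norm_num)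
    rw [← H7.card_pgl_eq_card_sl] at h5
    norm_num [Fin.prod_univ_three] at h1 h3 h5
    obtain ⟨d⟩ := hoa (aut e (Or.inl rfl) (by omega))
    exact Or.inr (Or.inl ⟨F, _, _, hF, ⟨d.trans e⟩⟩)
  · have : Fact (Nat.Prime 3) := ⟨Nat.prime_three⟩
    obtain ⟨d⟩ := hoa (aut e (Or.inl rfl) (Cfsg.Agent.S0815.result 3 1 le_rfl rfl hF 3 le_rfl
      (by norm_num)))
    exact Or.inr (Or.inr (Or.inl ⟨F, _, _, 3, hF, Or.inl rfl, ⟨d.trans e⟩⟩))
  · obtain ⟨d⟩ := hoa (H8.NG.oa_A7.congr e)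
    exact Or.inr (Or.inr (Or.inr (Or.inl ⟨d.trans e⟩)))
  · obtain ⟨d⟩ := hoa (H8.NG.oa_M11 h)
    exact Or.inr (Or.inr (Or.inr (Or.inr ⟨d.isSimpleGroup, Or.inr
      ((Nat.card_congr d.toEquiv).trans h.2)⟩)))

end H12.NG
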