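import Cfsg.Agent.H12.NGE2
import Cfsg.Agent.H8.NG4

/-! The consequences `s0488`, `s0490` with the exceptional case given by the order and a triple. -/

set_option autoImplicit false
open Cfsg
namespace H12.NG
universe u

theorem concl0_of_min' (HM : Main.{u} (fun G _ => Nat.card G = 17971200 ∧
      ∃ a b : G, orderOf a = 2 ∧ orderOf b = 3 ∧ orderOf (a * b) = 5))
    {G : Type u} [Group G] [Finite G] (hG : Cfsg.IsMinimalSimple G) : Concl0 G :=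
  have := hG.1
  (HM G hG.2.1 (H8.NG.IsMinimalSimple.sol2 hG)).resolve_right fun ⟨h, _, _, ha, hb, hab⟩ =>
    H8.NG.not_min_of_235 (by omega) ha hb hab hG

theorem s0488' (HM : Main.{u} (fun G _ => Nat.card G = 17971200 ∧
      ∃ a b : G, orderOf a = 2 ∧ orderOf b = 3 ∧ orderOf (a * b) = 5))
    {G : Type u} [Group G] [Finite G] (hG : Cfsg.IsMinimalSimple G) :
    (∃ p : ℕ, p.Prime ∧ ∃ (F : Type) (_ : Field F) (_ : Fintype F), Fintype.card F = 2 ^ p ∧ Nonempty (G ≃* Matrix.ProjectiveSpecialLinearGroup (Fin 2) F)) ∨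
      (∃ p : ℕ, p.Prime ∧ p ≠ 2 ∧ ∃ (F : Type) (_ : Field F) (_ : Fintype F), Fintype.card F = 3 ^ p ∧ Nonempty (G ≃* Matrix.ProjectiveSpecialLinearGroup (Fin 2) F)) ∨
      (∃ p : ℕ, p.Prime ∧ (p = 5 ∨ (5 < p ∧ (p % 5 = 2 ∨ p % 5 = 3))) ∧ ∃ (F : Type) (_ : Field F) (_ : Fintype F), Fintype.card F = p ∧ Nonempty (G ≃* Matrix.ProjectiveSpecialLinearGroup (Fin 2) F)) ∨
      (∃ (F : Type) (_ : Field F) (_ : Fintype F), Fintype.card F = 3 ∧ Nonempty (G ≃* Matrix.ProjectiveSpecialLinearGroup (Fin 3) F)) ∨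
      (Cfsg.IsSuzuki G ∧ ∃ p : ℕ, p.Prime ∧ Nat.card G = (2 ^ p) ^ 2 * ((2 ^ p) ^ 2 + 1) * (2 ^ p - 1)) :=
  min_list hG (concl0_of_min' HM hG)

theorem s0490' (HM : Main.{u} (fun G _ => Nat.card G = 17971200 ∧
      ∃ a b : G, orderOf a = 2 ∧ orderOf b = 3 ∧ orderOf (a * b) = 5))
    {G : Type u} [Group G] [Finite G] :
    ¬ Group.IsSolvable G ↔ ∃ a b c : G, a ≠ 1 ∧ b ≠ 1 ∧ c ≠ 1 ∧ (orderOf a).Coprime (orderOf b) ∧
      (orderOf b).Coprime (orderOf c) ∧ (orderOf a).Coprime (orderOf c) ∧ a * b * c = 1 := by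
  refine ⟨H8.NG.tri_of_min (fun X _ _ hX => ?_) _ G rfl, H8.NG.Tri.not_solvable⟩
  rcases min_list0 hX (concl0_of_min' HM hX) with ⟨F, _, _, ⟨e⟩⟩ | ⟨F, _, _, hF, ⟨e⟩⟩ |
    ⟨F, _, _, m, hm, hF, -, ⟨e⟩⟩
  · exact (H8.NG.tri_L2 (H8.NG.IsMinimalSimple.not_solvable
      (H8.NG.IsMinimalSimple.congr hX e))).of_equiv e
  · exact (H8.NG.tri_L33 hF).of_equiv e
  · exact (H8.NG.tri_Sz hm hF).of_equiv e

end H12.NG
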