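import Cfsg.Agent.H12.NGM
import Cfsg.Agent.H12.NGY
import Cfsg.Agent.H3.NF2
import Cfsg.Agent.H3.NF3

/-! N-groups, pushing up: dihedral parabolics and components. -/

set_option autoImplicit false
set_option linter.unusedSectionVars false
set_option linter.unusedVariables false
namespace H12.NG
open Subgroup Cfsg H24 H11.ZN
open H3.NG
universe u
variable {G : Type u} [Group G] [Finite G] {V H K H₀ T B P P' P₁ P₂ X Y M S : Subgroup G}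

theorem ParS.cj (h : ParS B P) (g : G) : ParS (cj g B) (cj g P) := by
  obtain ⟨k, hk, h1, h2⟩ := h.dih
  have e : Q2 (H24.cj g P) = H24.cj g (Q2 P) := pcore_cj _ g P
  refine ⟨h.syl.cj g, ⟨h.ch2.1.cj g, ?_⟩, ?_, ⟨_, conj_mem_cj g hk, ?_, fun t ht ht' => ?_⟩, ?_, ?_⟩
  · rw [e, ← cj_C, ← cj_inf]; exact cj_mono g h.ch2.2
  · rw [e, relIndex_cj, h.idx]
  · rw [← cj_zpowers, ← cj_sup]; exact cj_mono g h1
  · obtain ⟨s, hs, rfl⟩ := mem_cj'.1 ht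
    rw [e, conj_mem_cj_iff] at ht'
    have := conj_mem_cj g (h2 s hs ht')
    rw [e]
    convert this using 1
    group
  · rw [e, JJ_cj, cj_le_cj]; exact h.nJ
  · rw [OZ_cj, ← cj_C, cj_le_cj]; exact h.nZ

theorem Od2_cj_le (g : G) (P : Subgroup G) : cj g (Od2 P) ≤ Od2 (cj g P) := by
  rw [cj_le_iff]
  exact (closure_le _).2 fun x hx => by
    have := mem_Od2 (conj_mem_cj g hx.1) (by rw [orderOf_conj]; exact hx.2)
    exact mem_cj.2 (by simpa using this)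

theorem Od2_cj' (g : G) (P : Subgroup G) : Od2 (cj g P) = cj g (Od2 P) := by
  refine le_antisymm (le_cj_iff.2 ?_) (Od2_cj_le g P)
  simpa using Od2_cj_le g⁻¹ (cj g P)

theorem WP_cj (g : G) (P : Subgroup G) : WP (cj g P) = cj g (WP P) := by
  unfold WP Q2
  rw [pcore_cj, OZ_cj, Od2_cj', cj_comm]

theorem ParS.red (h : ParS B P) : Red (OZ (Q2 P)) P := let ⟨_, _, _, h⟩ := exists_PS h; h.red
theorem ParS.card_W (h : ParS B P) : ♯(WP P) = 4 := let ⟨_, _, _, h⟩ := exists_PS h; h.cardW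
theorem ParS.W_nml (h : ParS B P) : WP P ⊴ P := let ⟨_, _, _, h⟩ := exists_PS h; h.W_nml
theorem ParS.W_inf (h : ParS B P) : WP P ⊓ C[P] = ⊥ := let ⟨_, _, _, h⟩ := exists_PS h; h.W_inf
theorem ParS.Z_eq (h : ParS B P) : OZ (Q2 P) = WP P ⊔ (OZ (Q2 P) ⊓ C[P]) :=
  let ⟨_, _, _, h⟩ := exists_PS h; h.dp.sup.symm
theorem ParS.idx_C (h : ParS B P) : (P ⊓ C[WP P]).relIndex P = 6 := let ⟨_, _, _, h⟩ := exists_PS h; h.idxC
theorem ParS.C_eq (h : ParS B P) : P ⊓ C[WP P] = P ⊓ C[OZ (Q2 P)] := let ⟨_, _, _, h⟩ := exists_PS h; h.C_eq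
theorem ParS.idx_D (h : ParS B P) : (OZ B ⊓ C[P]).relIndex (OZ B) = 2 :=
  let ⟨_, _, _, h⟩ := exists_PS h; h.D_eq' ▸ h.idxD
theorem ParS.W_le_Ys (h : ParS (Bm T) P) (hH : Ch2 H) (hT : Syl 2 H T) (hP : P ≤ H) : WP P ≤ Ys H :=
  let ⟨_, _, _, h⟩ := exists_PS h; h.W_le_Ys hH hT hP
theorem ParS.Q2_norm (h : ParS (Bm T) P) (hH : Ch2 H) (hT : Syl 2 H T) (hP : P ≤ H) : Q2 H ≤ N[P] :=
  let ⟨_, _, _, h⟩ := exists_PS h; h.Q2_norm hH hT hP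

theorem Tv.conj {t g : G} (h : Tv V t) (hg : g ∈ N[V]) : Tv V (g * t * g⁻¹) := by
  unfold Tv at *
  rw [← cj_C1, ← cj_of_mem_N hg, ← cj_inf, relIndex_cj, h]

theorem Red.le_syl (h : Red V H) (hT : Syl 2 H T) : V ≤ T := hT.nml_le (ea_pi h.ea) h.nml

/-- a dihedral parabolic is generated by `B` and a transvection, and `W_P` is a component -/
theorem ParS.comp {Ω : Set G} (h : ParS (Bm T) P) (c : Cp V H Ω) (hT : Syl 2 H T) (hV : V ≤ T) (hP : P ≤ H)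
    (hW : WP P ≤ V) : (∃ t ∈ P, Tv V t ∧ P ≤ Bm T ⊔ zpowers t) ∧ ∃ f ∈ Ω, WP P = ⁅V, zpowers f⁆ := by
  obtain ⟨A, k, a, h⟩ := exists_PS h
  have hA := (H12.maxEA_iff_of_J_le (JJ_le_Bm T) (Bm_le T)).1 h.mx
  obtain ⟨t, ht, tv, n⟩ : ∃ t ∈ A, Tv V t ∧ t ∉ C[WP P] := by
    by_contra e
    push Not at e
    exact h.a_ncW (c.mx_le hT.pi hT.le hV hA (inf_le_right.trans (C_anti hW)) e h.aA)
  replace h := h.change ht fun e => n (h.QW e)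
  have tH := hP h.aP
  have tv' := tv.conj (c.nml.norm (hP h.kP))
  have tP := conj_mem (norm_self P h.kP) h.aP
  refine ⟨⟨_, tP, tv', h.gena le_sup_left (mem_sup_right (mem_zpowers _))⟩, ?_⟩
  obtain ⟨f, hf, n1⟩ := c.tv_ex tH tv
  obtain ⟨w, hw, w1⟩ := exists_ne_one (c.tv_ne tH tv)
  have wW := c.tv_le' tH tv hW (h.W_nml.norm h.aP) n hw
  have wf := c.tv_le hf tH tv n1 hw
  have wB : Bm T ≤ C{w} := h.genB (h.QW.trans (C_le_C1 wW))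
    (mem_C1_comm.1 (comm1_le_C c.ea (c.nml.norm tH) (h.a2 ▸ one_mem _) hw).2)
  have nw : ¬ P ≤ C{w} := fun e =>
    w1 (mem_bot.1 (h.W_inf ▸ (⟨wW, mem_C_iff_le_C1.2 e⟩ : w ∈ WP P ⊓ C[P])))
  have n2 : k * t * k⁻¹ ∉ C[⁅V, zpowers f⁆] := fun e => nw (h.gena wB (C_le_C1 wf e))
  have wf' : k * w * k⁻¹ ∈ ⁅V, zpowers f⁆ :=
    c.tv_le hf (hP tP) tv' n2 (c.W_cj (hP h.kP) t ▸ conj_mem_cj k hw)
  refine ⟨f, hf, eq_of_card_eq (fun x hx => ?_) (h.cardW.trans (c.card f hf).symm)⟩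
  rcases four_cases h.W_ea h.cardW wW (h.W_nml.conj_mem h.kP wW) w1 (cjne k w1)
    (fun e => nw (h.genk wB (mem_C1_iff_conj.2 e.symm))) hx with rfl | rfl | rfl | rfl
  exacts [one_mem _, wf, wf', mul_mem wf wf']

theorem ParS.par_norm (h : ParS (Bm T) P) (h' : ParS (Bm T) P') (hH : Ch2 H) (hT : Syl 2 H T) (hP : P ≤ H)
    (hP' : P' ≤ H) : P' ≤ N[WP P] := by
  obtain ⟨Ω, c⟩ := exists_Cp (Ys_red hH) hH.1
  have hV := (Ys_red hH).le_syl hT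
  obtain ⟨-, f, hf, e⟩ := h.comp c hT hV hP (h.W_le_Ys hH hT hP)
  obtain ⟨⟨t, ht, tv, g⟩, -⟩ := h'.comp c hT hV hP' (h'.W_le_Ys hH hT hP')
  rw [e]
  exact g.trans (sup_le (c.B_norm hT.pi hT.le hV hf) (zpowers_le.2 (c.tv_norm hf (hP' ht) tv)))

theorem Ys_small (hH : Ch2 H) (hT : Syl 2 H T) (hJ : ¬ JJ T ≤ C[Ys H])
    (h : ♯(Ys H ⊓ C[Bm T]) ≤ 2 * ♯(Ys H ⊓ C[H])) : ♯(Ys H) = 4 * ♯(Ys H ⊓ C[H]) :=
  let ⟨_, c⟩ := exists_Cp (Ys_red hH) hH.1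
  c.small hT.pi hT.le ((Ys_red hH).le_syl hT) hJ h

/-- every element of a reduced module is conjugate into the centralizer of the Baumann subgroup -/
theorem Red.conj_Bm (h : Red V H) (hs : Sol H) (hT : Syl 2 H T) {y : G} (hy : y ∈ V) :
    ∃ g ∈ H, g * y * g⁻¹ ∈ C[Bm T] := by
  obtain ⟨Ω, c⟩ := exists_Cp h hs
  obtain ⟨g, hg, h1, -⟩ := c.conjJ hT.pi hT.le (h.le_syl hT) hy
  exact ⟨g, hg, c.fixJ hT.pi hT.le (h.le_syl hT) ⟨conj_mem (h.nml.norm hg) hy, h1⟩⟩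

end H12.NG
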