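import Cfsg.Agent.H12.NGF1

/-! N-groups, pushing up: the factorization of a group of characteristic two. -/

set_option autoImplicit false
set_option linter.unusedSectionVars false
set_option linter.unusedVariables false
namespace H12.NG
open Subgroup Cfsg H24 H11.ZN
open H3.NG
universe u
variable {G : Type u} [Group G] [Finite G] {V H K H₀ T B P P' P₁ P₂ X Y M S : Subgroup G}

theorem frattini_Bm (hT : Syl 2 H T) (hK : K ⊴ H) (hB : Bm T ≤ K) : IsProd K (H ⊓ N[Bm T]) H :=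
  (Frattini_arg two_prime hK (hT.inf_nml hK)).mono_right (inf_le_inf_left _ (by
    rw [← Bm_eq (le_inf (Bm_le T) hB) inf_le_left]; exact N_le_N_Bm _)) inf_le_left

theorem fac_f {Ω : Set G} {f t : G} (c : Cp V H Ω) (hH : Ch2 H) (hT : Syl 2 H T) (hQ : Q2 H ≤ C[V]) (hV : V ≤ T)
    (h1 : H ⊓ C[V] ≤ X) (h2 : T ≤ X) (h3 : ∀ P ≤ H, ParS (Bm T) P → P ≤ X)
    (hf : f ∈ Ω) (ht : t ∈ JJ T) (t2 : t * t = 1) (tv : Tv V t) (n : t ∉ C[⁅V, zpowers f⁆]) : f ∈ X := by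
  obtain ⟨w, hw, w1, cw⟩ := c.ex_w hT.pi hT.le hV hf
  have tT := JJ_le T ht
  have tH := hT.le tT
  have fH := c.le f hf
  have We := c.W_ea hf
  have W4 := c.card f hf
  have WV := c.W_le hf
  have fW := c.nW f
  have tW := c.tv_norm hf tH tv
  have tw : t ∈ C{w} := mem_C_iff_le_C1.1 cw ht
  have nC : H ≤ N[H ⊓ C[V]] := c.nml.infC.norm
  have inv : t * f * t⁻¹ * f ∈ C[V] := by
    refine (c.same' (c.conj t tH f hf) hf (by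
      rw [c.W_cj tH, cj_of_mem_N tW, inf_idem]; exact c.W_ne hf)).resolve_left fun e => n ?_
    refine mem_C_iff_le_C1.2 ((four_irr (Y := ⁅V, zpowers f⁆ ⊓ C{t}) W4 (c.fpf hf) inf_le_left
      (mem_N_of_finite fun u hu => ⟨conj_mem fW hu.1, mem_C1_comm.1 (mem_C1_iff_conj.2 ?_)⟩)
      (ne_bot_of_mem ⟨hw, mem_C1_comm.1 tw⟩ w1)).ge.trans inf_le_right)
    have e1 := conj_eq_of_mem_C e (WV (conj_mem fW hu.1))
    have e2 := mem_C1_iff_conj.1 (mem_C1_comm.1 hu.2)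
    have e3 : t⁻¹ * u * t = u := by nth_rw 1 [← e2]; group
    calc _ = t * f * (t⁻¹ * u * t) * f⁻¹ * t⁻¹ := by rw [e3]; group
      _ = t * f * t⁻¹ * f⁻¹ * (f * u * f⁻¹) * (t * f * t⁻¹ * f⁻¹)⁻¹ := by group
      _ = _ := e1
  have fp := c.fpf hf
  have c3 : f ^ 3 ∈ C[V] := c.cent hf (cube_mem_C We W4 fW (c.odd f hf))
    (pow_mem (mem_C_iff_le_C1.2 inf_le_right) 3)
  have cf := fun x hx => c.cent_f (x := x) hf hx
  have n0 : T ⊓ C{w} ≤ N[⁅V, zpowers f⁆] := fun x hx =>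
    c.norm_of hf (hT.le hx.1) hw w1 (by rwa [mem_C1_iff_conj.1 hx.2])
  have hB : Bm T ≤ T ⊓ C{w} := le_inf (Bm_le T) (mem_C_iff_le_C1.1 (c.fixJ hT.pi hT.le hV ⟨WV hw, cw⟩))
  generalize ⁅V, zpowers f⁆ = W at *
  have nI : T ⊓ C{w} ≤ N[T ⊓ C[W]] := norm_inf (inf_le_left.trans (norm_self T)) (norm_C n0)
  have IT : T ⊓ C[W] ≤ T ⊓ C{w} := inf_le_inf_left _ (C_le_C1 hw)
  have IH : T ⊓ C[W] ≤ H := inf_le_left.trans hT.le
  have s1 : Syl 2 (H ⊓ C[V] ⊔ T ⊓ C[W]) (T ⊓ C[W]) := by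
    have := hT.inf_of_isProd ((isProd_sup (hT.le.trans nC)).symm.mono_right
      (B' := H ⊓ C[V] ⊔ T ⊓ C[W]) le_sup_left (sup_le_sup_left inf_le_left _)) (sup_le inf_le_left hT.le)
    rwa [le_antisymm (inf_le_inf_left T (sup_le (inf_le_right.trans (C_anti WV)) inf_le_right))
      (le_inf inf_le_left le_sup_right)] at this
  have fY : f ∈ N[H ⊓ C[V] ⊔ T ⊓ C[W]] := mem_N_of_cj_le (by
    rw [cj_sup, cj_of_mem_N (nC fH)]
    refine sup_le le_sup_left fun y hy => ?_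
    obtain ⟨x, hx, rfl⟩ := mem_cj'.1 hy
    refine (mul_mem_cancel_right (inv_mem (mem_sup_right hx))).1 (mem_sup_left (mem_inf.2 ⟨?_, ?_⟩))
    · exact mul_mem (conj_mem (norm_self H fH) (IH hx)) (inv_mem (IH hx))
    · exact cm_symm (cf x (IH hx) hx.2))
  obtain ⟨y, hy, e⟩ := Sylow_trans two_prime s1 (s1.cj_mem_N fY)
  obtain ⟨d, hd, s, hs, rfl⟩ := (mem_sup_of_norm (IH.trans nC)).1 hy
  have gI : d⁻¹ * f ∈ N[T ⊓ C[W]] := by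
    rw [mem_N_iff_cj, cj_mul, e, cj_mul, cj_of_mem hs]; simp
  have gH : d⁻¹ * f ∈ H := mul_mem (inv_mem hd.1) fH
  have gW : d⁻¹ * f ∈ N[W] := mul_mem (inv_mem (C_le_N _ (C_anti WV hd.2))) fW
  have k1 : t * (d⁻¹ * f) * t⁻¹ * (d⁻¹ * f)⁻¹ * (f * f) ∈ C[V] := by
    have nV := norm_C c.nml.norm
    have := mul_mem (mul_mem (conj_mem (nV tH) (inv_mem hd.2)) inv) (conj_mem' (nV (mul_mem fH fH)) hd.2)
    convert this using 1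
    group
  have k2 : t * (t * (d⁻¹ * f) * t⁻¹ * (d⁻¹ * f)⁻¹) * t⁻¹ * (t * (d⁻¹ * f) * t⁻¹ * (d⁻¹ * f)⁻¹) ∈
      (⊥ : Subgroup G) := by
    rw [mem_bot]
    generalize d⁻¹ * f = g
    calc _ = (t * t) * g * (t * t)⁻¹ * t * g⁻¹ * g * t⁻¹ * g⁻¹ := by group
      _ = 1 := by rw [t2]; group
  have k3 : t * (d⁻¹ * f) * t⁻¹ * (d⁻¹ * f)⁻¹ ∈ H ⊓ N[T ⊓ C[W]] ⊓ N[W] :=
    have a : t ∈ H ⊓ N[T ⊓ C[W]] ⊓ N[W] := ⟨⟨tH, nI ⟨tT, tw⟩⟩, tW⟩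
    have b : d⁻¹ * f ∈ H ⊓ N[T ⊓ C[W]] ⊓ N[W] := ⟨⟨gH, gI⟩, gW⟩
    mul_mem (mul_mem (mul_mem a b) (inv_mem a)) (inv_mem b)
  generalize t * (d⁻¹ * f) * t⁻¹ * (d⁻¹ * f)⁻¹ = k0 at k1 k2 k3
  obtain ⟨y, k, hy', hk, yk, kk, ek⟩ := exists_piElt_decomp {2} k0
  have k4 := zpowers_le.2 k3 kk
  have ko := odd_of_piElt hk
  have k5 : t * k * t⁻¹ * k = 1 := mem_bot.1 (inv_pow_mod (by simp) (by simp) k2 kk)
  have kn : k ∉ C[W] := fun e => by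
    obtain ⟨u, hu, u1⟩ := exists_ne_one (IsPi.inf_C_ne_bot two_prime hy'.isPi (ea_pi We)
      (zpowers_le.2 (zpowers_le.2 k3 yk).2) (ne_bot_of_mem hw w1))
    have e1 : k0 ∈ C{u} := ek ▸ mul_mem (mem_C_iff_le_C1.1 hu.2 (mem_zpowers y)) (C_le_C1 hu.1 e)
    have e2 := mem_of_sq (c.odd f hf) ((mul_mem_cancel_left e1).1 (C_le_C1 (WV hu.1) k1))
    exact u1 (mem_bot.1 (fp ▸ (⟨hu.1, mem_C1_comm.1 e2⟩ : u ∈ W ⊓ C{f})))
  have kp : W ⊓ C{k} = ⊥ := eq_bot_iff.2 fun u hu => by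
    by_contra u1
    exact kn (four_odd We W4 hu.1 u1 k4.2 (mem_C1_comm.1 hu.2) ko)
  have hi : ∀ s ∈ T ⊓ C{w}, s ∉ T ⊓ C[W] → s * k * s⁻¹ * k ∈ T ⊓ C[W] := fun s hs ns => by
    have r : s * t ∈ T ⊓ C[W] := ⟨mul_mem hs.1 tT,
      four_ix We W4 hw w1 (n0 hs) hs.2 tW tw (fun e => ns ⟨hs.1, e⟩) n⟩
    have := mul_mem r (conj_mem' k4.1.2 (inv_mem r))
    convert this using 1
    rw [← eq_inv_of_mul_eq_one_left k5]
    calc _ = s * (t * t) * k * (t * t)⁻¹ * s⁻¹ * k := by rw [t2]; group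
      _ = s * t * (t * k * t⁻¹ * (s * t)⁻¹ * k) := by group
  have PH : T ⊓ C{w} ⊔ zpowers k ≤ H := sup_le (inf_le_left.trans hT.le) (zpowers_le.2 k4.1.1)
  have PI : T ⊓ C{w} ⊔ zpowers k ≤ N[T ⊓ C[W]] := sup_le nI (zpowers_le.2 k4.1.2)
  have s2 : Syl 2 (T ⊓ C{w} ⊔ zpowers k) (T ⊓ C{w}) := by
    refine IsProd.hall_right (A := zpowers k) ⟨le_sup_right, le_sup_left, fun x hx => ?_⟩ hk.isPi
      (hT.pi.of_le inf_le_left)
    have nK := nml_sup_zp nI k4.1.2 le_rfl hi (mem_zpowers k)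
    obtain ⟨a, ha, b, hb, rfl⟩ := (mem_sup_of_norm (le_sup_left.trans nK)).1
      ((sup_le le_sup_right (le_sup_right.trans le_sup_left) : _ ≤ _ ⊔ zpowers k ⊔ _) hx)
    rw [sup_comm] at ha
    obtain ⟨z, hz, q, hq, rfl⟩ := (mem_sup_of_norm' (zpowers_le.2 k4.1.2)).1 ha
    exact ⟨z, hz, q * b, mul_mem (IT hq) hb, mul_assoc _ _ _⟩
  have eQ : Q2 (T ⊓ C{w} ⊔ zpowers k) = T ⊓ C[W] := by
    have l := pcore_le_Hall s2
    refine le_antisymm (le_inf (l.trans inf_le_left) (cents_symm ?_))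
      (pcore_max' (hT.pi.of_le inf_le_left) (IT.trans le_sup_left) PI)
    exact (four_irr W4 kp inf_le_left (mem_N_inf k4.2 (norm_C (pcore_nml _ _).norm
      (mem_sup_right (mem_zpowers k)))) (ne_bot_of_mem ⟨hw, mem_C_iff_le_C1.2 (l.trans inf_le_right)⟩ w1)).ge.trans
      inf_le_right
  have par : ParS (T ⊓ C{w}) (T ⊓ C{w} ⊔ zpowers k) := by
    refine ⟨s2, hH.of_le ((le_inf (pcore_le_Hall hT) (hQ.trans (C_anti WV))).trans (IT.trans le_sup_left)) PH, ?_,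
      ⟨k, mem_sup_right (mem_zpowers k), le_rfl, eQ.symm ▸ hi⟩, ?_, fun e => ?_⟩
    · rw [eQ, ← four_idx We W4 hw w1 n0 inf_le_right fun e => n (e ⟨tT, tw⟩), inf_assoc,
        inf_eq_right.2 (C_le_C1 hw)]
    · rw [eQ, JJ_eq ((JJ_le_Bm T).trans hB) inf_le_left]
      exact fun e => n (e ht).2
    · have : w ∈ OZ (T ⊓ C{w}) := mem_OZ.2 ⟨⟨hV (WV hw), mem_C1.2 rfl⟩, mem_C_iff_le_C1.2 inf_le_right,
        by rw [sq]; exact ea_sq We hw⟩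
      exact w1 (mem_bot.1 (kp ▸ (⟨hw, mem_C_iff_le_C1.1 (e (mem_sup_right (mem_zpowers k))) this⟩ : w ∈ W ⊓ C{k})))
  obtain ⟨A, k', a, ps⟩ := exists_PS par
  obtain ⟨N, p1, p2, p3⟩ := ps.baumann
  rw [Bm_eq hB inf_le_left] at p1
  have kX : k ∈ X := (p3.trans (sup_le (h3 N (p2.trans PH) p1) (inf_le_left.trans h2))) (mem_sup_right (mem_zpowers k))
  have k6 : k0 ∈ H ⊓ C[V] ⊔ zpowers f := (mul_mem_cancel_right (mem_sup_right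
    (mul_mem (mem_zpowers f) (mem_zpowers f)))).1 (mem_sup_left ⟨mul_mem k3.1.1 (mul_mem fH fH), k1⟩)
  obtain ⟨z, hz, p, hp, rfl⟩ := (mem_sup_of_norm (zpowers_le.2 (nC fH))).1 (zpowers_le.2 k6 kk)
  obtain ⟨m, rfl⟩ := mem_powers_iff_mem_zpowers.2 hp
  have c4 : (f ^ 3) ^ (m / 3) ∈ H ⊓ C[V] := pow_mem (mem_inf.2 ⟨pow_mem fH 3, c3⟩) _
  have e4 : f ^ m = (f ^ 3) ^ (m / 3) * f ^ (m % 3) := by rw [← pow_mul, ← pow_add, Nat.div_add_mod]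
  beta_reduce at kX kn
  rw [e4, ← mul_assoc] at kX kn
  have e5 := (mul_mem_cancel_left (h1 (mul_mem hz c4))).1 kX
  have e6 : m % 3 < 3 := Nat.mod_lt _ (by norm_num)
  generalize m % 3 = r at *
  interval_cases r
  · exact absurd (by simpa using C_anti WV (mul_mem hz c4).2) kn
  · simpa using e5
  · exact mem_of_sq (c.odd f hf) (by rwa [← sq])

theorem fac (hH : Ch2 H) (hT : Syl 2 H T) (h1 : H ⊓ C[Ys H] ≤ X) (h2 : H ⊓ N[Bm T] ≤ X)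
    (h3 : ∀ P ≤ H, ParS (Bm T) P → P ≤ X) : H ≤ X := by
  have r := Ys_red hH
  obtain ⟨Ω, c⟩ := exists_Cp r hH.1
  have hV := r.le_syl hT
  have hQ := r.le_C
  generalize Ys H = V at *
  have TX : T ≤ X := (le_inf hT.le ((norm_self T).trans (N_le_N_Bm T))).trans h2
  have n0 : H ⊓ ⨅ f : Ω, N[⁅V, zpowers (f : G)⁆] ⊴ H := by
    refine ⟨inf_le_left, norm_inf (norm_self H) (le_N_iff.2 fun g hg x hx => mem_iInf.2 fun f => ?_)⟩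
    have := mem_iInf.1 hx ⟨_, c.conj g⁻¹ (inv_mem hg) f f.2⟩
    rw [c.W_cj (inv_mem hg), ← cj_N, mem_cj] at this
    simpa using this
  have p0 := frattini_Bm hT n0 (le_inf ((Bm_le T).trans hT.le) (le_iInf fun f => c.B_norm hT.pi hT.le hV f.2))
  have n1 : ncl (JJ T) H ⊔ H ⊓ C[V] ⊴ H :=
    Nml.sup ⟨ncl_le_of_norm ((JJ_le T).trans hT.le) (norm_self H), norm_ncl _ _⟩ c.nml.infC
  have p1 := frattini_Bm hT n1 fun b hb => by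
    obtain ⟨j, hj, e⟩ := c.B_le hT.pi hT.le hV hb
    exact (mul_mem_cancel_right (mem_sup_left (self_le_ncl hj))).1
      (mem_sup_right ⟨hT.le (mul_mem (Bm_le T hb) (JJ_le T hj)), e⟩)
  refine p1.sup_eq.ge.trans (sup_le (sup_le (ncl_le fun g hg => ?_) h1) h2)
  obtain ⟨n, hn, m, hm, rfl⟩ := p0.mul g hg
  have nH : n ∈ H := hn.1
  have mJ : m ∈ N[JJ T] := JJ_Bm T ▸ N_le_N_JJ _ hm.2
  rw [cj_mul, cj_of_mem_N mJ, cj_le_iff]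
  refine c.J_le hT.pi hT.le hV (fun x hx => mem_cj.2 (h1 ?_)) fun t ht t2 tv => mem_cj.2 ?_
  · simpa using c.nml.infC.conj_mem nH ⟨hT.le (JJ_le T hx.1), hx.2⟩
  have tH := hT.le (JJ_le T ht)
  obtain ⟨f, hf, nc⟩ := c.tv_ex tH tv
  have fX := fac_f c hH hT hQ hV h1 TX h3 hf ht t2 tv nc
  obtain ⟨w, hw, w1, cw⟩ := c.ex_w hT.pi hT.le hV hf
  have nW : n ∈ N[⁅V, zpowers f⁆] := mem_iInf.1 hn.2 ⟨f, hf⟩
  obtain ⟨p, hp, e⟩ := four_trans (c.W_ea hf) (c.card f hf) (c.nW f) (c.odd f hf) (c.fpf hf) hw w1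
    (conj_mem nW hw) (cjne n w1)
  have pH := zpowers_le.2 (c.le f hf) hp
  have tw : t ∈ C{w} := mem_C_iff_le_C1.1 cw ht
  have k : ∀ g ∈ H, g ∈ N[⁅V, zpowers f⁆] → g * t * g⁻¹ ∈ H ∧ g * t * g⁻¹ ∈ N[⁅V, zpowers f⁆] ∧
      g * t * g⁻¹ ∈ C{g * w * g⁻¹} ∧ g * t * g⁻¹ ∉ C[⁅V, zpowers f⁆] ∧ g * t * g⁻¹ ∈ C[V ⊓ C{f}] :=
    fun g hg hn => by
      have a := conj_mem (norm_self H hg) tH
      have b := tv.conj (c.nml.norm hg)
      have d : g * t * g⁻¹ ∉ C[⁅V, zpowers f⁆] := fun e => nc ((conj_mem_iff (N_le_NC _ hn)).1 e)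
      exact ⟨a, c.tv_norm hf a b, cj_C1 g w ▸ conj_mem_cj g tw, d, c.tv_cent hf a b d⟩
  obtain ⟨a1, a2, a3, a4, a5⟩ := k n nH nW
  obtain ⟨b1, b2, b3, b4, b5⟩ := k p pH (zpowers_le.2 (c.nW f) hp)
  have := h1 ⟨mul_mem a1 b1, c.cent hf (four_ix (c.W_ea hf) (c.card f hf) (conj_mem nW hw) (cjne n w1) a2 a3 b2
    (e ▸ b3) a4 b4) (mul_mem a5 b5)⟩
  have pX := zpowers_le.2 fX hp
  simpa using (mul_mem_cancel_right (mul_mem (mul_mem pX (TX (JJ_le T ht))) (inv_mem pX))).1 this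

end H12.NG
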