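import Mathlib
import Cfsg.Agent.H12.NGF1
import Cfsg.Agent.H12.NGF2
import Cfsg.Agent.H11.ZNMain
import Cfsg.Agent.H3.MaxClass

/-!
# N-groups: free pairs of parabolics over a Baumann subgroup
-/

set_option autoImplicit false
set_option linter.unusedSectionVars false

namespace H12.NG

open Subgroup Cfsg H24 H11.ZN
open scoped commutatorElement

universe u

variable {G : Type u} [Group G] [Finite G] {V H K H₀ T B P P' P₁ P₂ X Y M S U : Subgroup G} {x z t : G}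

theorem Ch2.eq_bot₃ (h : Ch2 K) (e : Q2 K = ⊥) : K = ⊥ := by
  have := h.2
  rwa [e, C_bot, inf_top_eq, le_bot_iff] at this

theorem odd_cent_idx2 (hV : EA V) (hX : X ≤ V) (i : X.relIndex V ≤ 2) (h1 : x ∈ N[V]) (h2 : x ∈ C[X])
    (ho : Odd (orderOf x)) : x ∈ C[V] :=
  H26.stable_factor_cent (zpowers_le.2 h2) (fun y hy => by
    obtain ⟨w, hw, rfl⟩ := (mem_comm1 hV.1 h1).1 hy
    exact comm_mem_of_idx i h1 (C_le_N _ h2) hw) hX
    ((ea_pi (ea_le hV hX)).coprime (piElt_odd.2 ho).isPi) (Or.inl (Abl.sol (ea_le hV hX).1)) (mem_zpowers x)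

theorem two_of_odd₃ (h : ∀ x ∈ X, Odd (orderOf x) → x = 1) : IsPi {2} X :=
  Od2_eq_bot.1 (eq_bot_iff.2 ((closure_le _).2 fun x hx => h x hx.1 hx.2))

theorem Q2_C_eq₃ (hC : Ch2 C{z}) (z1 : z ≠ 1) (hz : ∀ X ≤ Q2 C{z}, C{z} ≤ N[X] → X ≠ ⊥ → z ∈ X)
    (zV : z ∈ V) (hV : V ≤ OZ (Q2 C{z})) : Q2 C[V] = Q2 C{z} := by
  have hF := F2_le C{z}
  have hFn := (F2_nml C{z}).norm
  have hY : C{z} ≤ N[OZ (Q2 C{z})] := norm_OZ (Q2_nml _).norm
  obtain ⟨F0, hF0⟩ := H26.Hall_exists {2}ᶜ (hC.1.of_le hF)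
  have hp := ((Syl.mk' two_prime (Q2_le_F2 C{z}) (pcore_pi _ _)
    (by rw [← even_iff_two_dvd, Nat.not_even_iff_odd]; exact F2_odd _)).isProd hF0).symm
  have h1 : F2 C{z} ≤ C[OZ (Q2 C{z})] := comm_eq_bot'.1 (by
    by_contra hn
    have h2 := hz _ ((comm_le_left (hF.trans hY)).trans (OZ_le _)) (norm_comm hY hFn) hn
    rw [hp.comm_right_of_cent (le_C_OZ _)] at h2
    exact z1 (mem_bot.1 (odd_TI (OZ_ea _) ((hF0.le.trans hF).trans hY) hF0.pi ▸ mem_inf.2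
        ⟨h2, mem_C_iff_le_C1.2 (hF0.le.trans hF)⟩)))
  have h2 := cents_of_le h1 hV
  have h3 : Q2 C[V] ≤ C{z} := (pcore_le _ _).trans (C_le_C1 zV)
  exact le_antisymm (F2_two (pcore_pi _ _) fun g hg => F2_cent hC.1 (h3 hg)
    fun f hf => F2_two ((pcore_pi _ _).inf_left _) inf_le_right (mem_inf.2
      ⟨comm_le_left (h2.trans (pcore_nml _ _).norm) (commutator_mem_commutator hg hf),
        comm_le_right (h3.trans hFn) (commutator_mem_commutator hg hf)⟩))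
    (pcore_max' (pcore_pi _ _) (cents_symm (hV.trans (OZ_le_C _))) ((C_le_C1 zV).trans (Q2_nml _).norm))

theorem Ys_inf_le₃ (hH : Ch2 H) (hT : Syl 2 H T) : Ys H ⊓ C[Bm T] ≤ OZ (Bm T) :=
  le_OZ (inf_le_left.trans (((Ys_red hH).le_JJ hH.1 hT).trans (JJ_le_Bm T))) inf_le_right
    (ea_le (Ys_red hH).ea inf_le_left)

namespace ParS

variable (h : ParS B P)
include h

theorem QB₃ : Q2 P ≤ B := pcore_le_Hall h.syl

theorem OZ_le₃ : OZ B ≤ OZ (Q2 P) :=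
  have e := (OZ_le_C B).trans (C_anti h.QB₃)
  le_OZ ((le_inf ((OZ_le B).trans h.syl.le) e).trans h.ch2.2) e (OZ_ea B)

theorem W_le₃ : WP P ≤ OZ (Q2 P) := le_sup_left.trans h.Z_eq.ge

theorem W_ea₃ : EA (WP P) := ea_le (OZ_ea _) h.W_le₃

theorem W_B₃ : WP P ≤ B := h.W_le₃.trans ((OZ_le _).trans h.QB₃)

theorem W_ne₃ : WP P ≠ ⊥ := fun e => by
  have := h.card_W
  rw [e, card_bot] at this
  omega

theorem QC₃ : Q2 P ≤ C[WP P] := cents_symm (h.W_le₃.trans (OZ_le_C _))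

theorem BC₃ : B ⊓ C[WP P] ≤ Q2 P := fun t ht => by
  by_contra e
  have e1 := relIndex_dvd_of_le_left P (le_inf h.syl.le
    ((sup_of_idx2 h.idx h.QB₃ ht.1 e).le.trans (sup_le h.QC₃ (zpowers_le.2 ht.2))))
  rw [h.idx_C] at e1
  exact h.syl.not_dvd two_prime ((by norm_num : 2 ∣ 6).trans e1)

theorem JnC₃ : ¬ JJ B ≤ C[WP P] := fun e => h.nJ ((le_inf (JJ_le B) e).trans h.BC₃)

theorem nJ₃ : ¬ P ≤ N[JJ B] := fun e =>
  h.nJ (pcore_max' (h.syl.pi.of_le (JJ_le B)) ((JJ_le B).trans h.syl.le) e)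

theorem inv_odd₃ (hx : x ∈ P) (ho : Odd (orderOf x)) (ht : t ∈ B) (ht' : t ∉ Q2 P) :
    t * x * t⁻¹ * x ∈ Q2 P := by
  obtain ⟨k, hk, h1, h2⟩ := h.dih
  have n := (Q2_nml P).norm
  have n1 : B ≤ N[Q2 P ⊔ zpowers k] := le_N_iff.2 fun b hb y hy => by
    obtain ⟨q, hq, _, ⟨i, rfl⟩, rfl⟩ := (mem_sup_of_norm (zpowers_le.2 (n hk))).1 hy
    rw [← conj_mul, ← conj_zpow]
    refine mul_mem (mem_sup_left (conj_mem (n (h.syl.le hb)) hq)) (zpow_mem ?_ i)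
    by_cases e : b ∈ Q2 P
    · exact conj_mem (norm_self _ (mem_sup_left e)) (mem_sup_right (mem_zpowers k))
    · exact (mul_mem_cancel_right (mem_sup_right (mem_zpowers k))).1 (mem_sup_left (h2 b hb e))
  have n2 : Q2 P ⊔ zpowers k ⊴ P :=
    ⟨sup_le (Q2_nml P).le (zpowers_le.2 hk), h1.trans (sup_le n1 (norm_of_le le_sup_right))⟩
  have e1 := (isProd_sup n1).relIndex_dvd
  rw [le_antisymm (sup_le n2.le h.syl.le) (h1.trans (sup_le le_sup_right (le_sup_right.trans le_sup_left)))] at e1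
  obtain ⟨q, hq, _, ⟨i, rfl⟩, rfl⟩ := (mem_sup_of_norm (zpowers_le.2 (n hk))).1
    (le_of_idx_compl' n2 (h.syl.pi.piNat.dvd e1) (piElt_odd.2 ho).isPi (zpowers_le.2 hx) (mem_zpowers x))
  have tN := n (h.syl.le ht)
  have xN := n hx
  have e2 := cs_of_mem (h2 t ht ht')
  rw [cs, ap_mul _ (conj_mem (norm_self _ tN) (n hk)) (n hk), ap_conj _ tN (n hk), mul_eq_one_iff_eq_inv] at e2
  rw [← cs_eq_one (mul_mem (conj_mem (norm_self _ tN) xN) xN), cs,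
    ap_mul _ (conj_mem (norm_self _ tN) xN) xN, ap_conj _ tN xN, ap_mul _ (norm_self _ hq) (zpow_mem (n hk) i),
    show ap (coset (Q2 P)) q = 1 from cs_of_mem hq, one_mul, ap_zpow _ (n hk), ← conj_zpow, e2, inv_zpow,
    inv_mul_cancel]

theorem par₃ (e : IsPi {2} (P ⊓ C[WP P])) : Par B P := by
  have e1 : P ⊓ C[WP P] = Q2 P := le_antisymm (pcore_max e h.W_nml.infC) (le_inf (Q2_nml P).le h.QC₃)
  have e2 := relIndex_mul_relIndex _ _ _ h.QB₃ h.syl.le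
  rw [h.idx, ← e1, h.idx_C] at e2
  refine ⟨h.syl.le, h.syl.pi, by omega, fun e' => ?_, h.C_eq ▸ e1.le⟩
  have := h.idx
  rw [relIndex_eq_one.2 (pcore_max' h.syl.pi h.syl.le e')] at this
  omega

theorem irr₃ (hU : U ≤ WP P) (hn : P ≤ N[U]) (h1 : U ≠ ⊥) : U = WP P := by
  by_contra e
  have := two_mul_card_le (lt_of_le_of_ne hU e)
  rw [h.card_W] at this
  exact h1 (eq_bot_of_le h.W_inf (le_inf hU (cents_symm (cent_of_card_le_two (by omega) hn))))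

theorem D₃ : OZ (Q2 P) ⊓ C[P] = OZ B ⊓ C[P] :=
  le_antisymm (le_inf (le_OZ (inf_le_left.trans ((OZ_le _).trans h.QB₃)) (inf_le_right.trans (C_anti h.syl.le))
    (ea_le (OZ_ea _) inf_le_left)) inf_le_right) (inf_le_inf_right _ h.OZ_le₃)

theorem card_D₃ : ♯(OZ B ⊓ C[P]) * 2 = ♯(OZ B) := h.idx_D ▸ card_mul_relIndex inf_le_left

theorem small₃ (hH : Ch2 H) (hT : Syl 2 H T) (e : Bm T = B) (hP : P ≤ H)
    (c : ♯(OZ B) ≤ 2 * ♯(Ys H ⊓ C[H])) :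
    WP P ≤ Ys H ∧ Ys H ⊓ C[H] ≤ OZ B ⊓ C[P] ∧ ♯(Ys H) = 4 * ♯(Ys H ⊓ C[H]) := by
  subst e
  have e1 := h.W_le_Ys hH hT hP
  exact ⟨e1, le_inf ((inf_le_inf_left _ (C_anti (h.syl.le.trans hP))).trans (Ys_inf_le₃ hH hT))
    (inf_le_right.trans (C_anti hP)), Ys_small hH hT
    (fun e => h.JnC₃ ((JJ_Bm T).le.trans (e.trans (C_anti e1)))) ((card_le (Ys_inf_le₃ hH hT)).trans c)⟩

theorem case4 (hG : L2 G) (l : LocB B P) (h4 : ♯(OZ B) = 4) :
    P ≤ N[Od2 C[OZ B]] ∧ Ch2 (Od2 C[OZ B]) := by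
  have d2 : ♯(OZ B ⊓ C[P]) = 2 := by have := h.card_D₃; omega
  have p := (ea_pi (OZ_ea B)).inf_left C[P]
  have d1 : OZ B ⊓ C[P] ≠ ⊥ := fun e => by rw [e, card_bot] at d2; omega
  have hP : P ≤ N[OZ B ⊓ C[P]] := norm_of_cent (cents_symm inf_le_right)
  obtain ⟨T, hT, e⟩ := l _ p d1 hP
  have hH := hG _ p d1
  have c1 := cents_symm (cent_of_card_le_two d2.le le_rfl)
  have c2 : C[OZ B] ≤ N[OZ B ⊓ C[P]] := norm_of_cent (C_anti inf_le_left)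
  have c3 : OZ B ⊓ C[P] ≤ Ys N[OZ B ⊓ C[P]] := (le_OZ (inf_le_left.trans ((OZ_le B).trans (e ▸ Bm_le T)))
    (c1.trans (C_anti hT.le)) (ea_le (OZ_ea _) inf_le_left)).trans (OZ_le_Ys hH hT)
  have c4 := card_le (le_inf c3 c1)
  obtain ⟨s1, s2, s3⟩ := h.small₃ hH hT e hP (by omega)
  have c5 := card_le s2
  have c6 : OZ B ≤ Ys N[OZ B ⊓ C[P]] := h.OZ_le₃.trans (h.Z_eq.le.trans (sup_le s1 (h.D₃.le.trans c3)))
  generalize N[OZ B ⊓ C[P]] = H at *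
  have r := Ys_red hH
  have c7 := card_mul_relIndex c6
  have e1 : Od2 C[OZ B] = Od2 (H ⊓ C[Ys H]) := le_antisymm ((closure_le _).2 fun x hx => mem_Od2
    ⟨c2 hx.1, odd_cent_idx2 r.ea c6 (by nlinarith) (r.nml.norm (c2 hx.1)) hx.1 hx.2⟩ hx.2)
    (Od2_mono (inf_le_right.trans (C_anti c6)))
  have n : Od2 (H ⊓ C[Ys H]) ⊴ H :=
    ⟨(Od2_le _).trans inf_le_left, r.nml.infC.norm.trans (N_le_N_Od2 _)⟩
  rw [e1]
  exact ⟨hP.trans n.norm, hH.nml n⟩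

section two

variable (h2 : ♯(OZ B) = 2)
include h2

theorem c2_D : OZ B ⊓ C[P] = ⊥ := card_eq_one'.1 (by have := h.card_D₃; omega)

theorem c2_W : OZ (Q2 P) = WP P := by rw [h.Z_eq, h.D₃, h.c2_D h2, sup_bot_eq]

theorem c2_le (hG : L2 G) (l : LocB B P) (y1 : IsPi {2} Y) (y2 : Y ≠ ⊥) (hP : P ≤ N[Y]) :
    N[Y] ≤ N[WP P] := by
  obtain ⟨T, hT, e⟩ := l _ y1 y2 hP
  obtain ⟨s1, s2, s3⟩ := h.small₃ (hG _ y1 y2) hT e hP (by have := card_pos (Ys N[Y] ⊓ C[N[Y]]); omega)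
  rw [eq_bot_of_le (h.c2_D h2) s2, card_bot] at s3
  rw [eq_of_card_eq s1 (by rw [s3, h.card_W])]
  exact (Ys_red' _).nml.norm

theorem c2_syl (l : LocB B P) : Syl 2 N[WP P] B ∧ Bm B = B := by
  obtain ⟨T, hT, e⟩ := l _ (ea_pi h.W_ea₃) h.W_ne₃ h.W_nml.norm
  have e1 : T ≤ C[OZ B] := cent_of_card_le_two h2.le (norm_OZ (e ▸ (norm_self T).trans (N_le_N_Bm T)))
  have e2 : Bm T = T := inf_eq_left.2 (by rwa [← OZ_Bm, e])
  rw [← e, e2]
  exact ⟨hT, e2⟩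

variable (hz : OZ B = zpowers z)
include hz

omit h2 in
theorem c2_zB : B ≤ C{z} := mem_C_iff_le_C1.1 (OZ_le_C B (hz ▸ mem_zpowers z))

theorem c2_zW : z ∈ WP P := h.c2_W h2 ▸ h.OZ_le₃ (hz ▸ mem_zpowers z)

omit h in
theorem c2_z1 : z ≠ 1 := by
  rintro rfl
  rw [hz, zpowers_one_eq_bot, card_bot] at h2
  omega

omit h in
theorem c2_ch (hG : L2 G) : Ch2 C{z} := hG.cent (OZ_sq (hz ▸ mem_zpowers z)) (c2_z1 h2 hz)

theorem c2_or (hG : L2 G) (l : LocB B P) : IsPi {2} (P ⊓ C[WP P]) ∨ C{z} ≤ N[WP P] := by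
  have hB := h.c2_zB hz
  have hC := C_le_C1 (h.c2_zW h2 hz)
  have n := Q2_nml C{z}
  by_cases e : Q2 C{z} ⊓ B ≤ Q2 P
  · right
    have e1 : Q2 C{z} ≤ B := by
      refine le_sup_left.trans ((((pcore_pi _ _).sup h.syl.pi (hB.trans n.norm)).nil two_prime).eq_of_norm_le
        le_sup_right fun y hy => ?_).ge
      obtain ⟨s, hs, b, hb, rfl⟩ := (mem_sup_of_norm (hB.trans n.norm)).1 hy.1
      have s1 : s ∈ N[B] := (mul_mem_cancel_right (norm_self B hb)).1 hy.2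
      have s2 : s ∈ N[Q2 P] := mem_N_of_finite fun q hq => by
        have := mul_mem (e (mem_inf.2 ⟨comm_le_left (hB.trans n.norm) (commutator_mem_commutator hs (h.QB₃ hq)),
          comm_le_right (zpowers_le.2 s1) (commutator_mem_commutator (mem_zpowers s) (h.QB₃ hq))⟩)) hq
        rwa [commutatorElement_def, inv_mul_cancel_right] at this
      refine mul_mem ((h.c2_syl h2 l).1.le_of_norm' ((pcore_pi _ _).inf_left _) inf_le_right
        (norm_inf (hB.trans n.norm) (norm_N (h.syl.le.trans h.W_nml.norm))) (mem_inf.2 ⟨hs, ?_⟩)) hb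
      exact h.c2_W h2 ▸ N_le_N_OZ _ s2
    have e2 : Q2 C{z} ≤ Q2 P := (le_inf le_rfl e1).trans e
    have e3 : WP P ≤ C[Q2 C{z}] := cents_symm (e2.trans h.QC₃)
    have e4 := le_OZ ((le_inf (h.W_B₃.trans hB) e3).trans (c2_ch h2 hz hG).2) e3 h.W_ea₃
    have e5 := Q2_C_eq₃ (c2_ch h2 hz hG) (c2_z1 h2 hz) (fun X hX hn h1 => by
      have a1 := ((pcore_pi _ _).of_le hX).inf_left C[B]
      have a2 := OZ_ne_bot a1 (IsPi.inf_C_ne_bot two_prime h.syl.pi ((pcore_pi _ _).of_le hX) (hB.trans hn) h1)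
      have a3 := prime_eq_of_le (h2 ▸ two_prime) (le_OZ ((OZ_le _).trans (inf_le_left.trans (hX.trans e1)))
        ((OZ_le _).trans inf_le_right) (OZ_ea _)) a2
      exact ((OZ_le _).trans inf_le_left) (a3.ge (hz.ge (mem_zpowers z)))) (h.c2_zW h2 hz) e4
    exact n.norm.trans (h.c2_le h2 hG l (pcore_pi _ _) (ne_bot_of_le h.W_ne₃ (e4.trans (OZ_le _)))
      (e5 ▸ norm_pcore _ (norm_C h.W_nml.norm)))
  · left
    obtain ⟨t, ⟨t1, t2⟩, t3⟩ := SetLike.not_le_iff_exists.1 e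
    have m := h.W_nml.infC
    have e1 : Q2 C{z} ⊓ (P ⊓ C[WP P]) ≤ Q2 P :=
      (pcore_inf_le _ (inf_le_right.trans hC)).trans (m.pcore_le _)
    refine two_of_odd₃ fun x hx ho => ?_
    have e2 := e1 (mem_inf.2 ⟨comm_le_left n.norm (commutator_mem_commutator t1 (hC hx.2)),
      comm_le_right m.norm (commutator_mem_commutator (h.syl.le t2) hx)⟩)
    have e3 := mul_mem (inv_mem e2) (h.inv_odd₃ hx.1 ho t2 t3)
    rw [show ⁅t, x⁆⁻¹ * (t * x * t⁻¹ * x) = x ^ 2 by rw [commutatorElement_def, sq]; group] at e3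
    have e4 := ((pcore_pi _ _).piElt e3).eq_one ((piElt_odd.2 ho).pow 2)
    exact (piElt_two_of_sq (sq x ▸ e4)).eq_one (piElt_odd.2 ho)

theorem c2_Od (e : C{z} ≤ N[WP P]) : P ≤ N[Od2 C{z}] := by
  have hW := h.c2_zW h2 hz
  have e1 : Od2 C{z} = Od2 C[WP P] := by
    refine le_antisymm ((closure_le _).2 fun x hx => mem_Od2 (odd_cent_idx2 h.W_ea₃ (zpowers_le.2 hW) ?_
      (e hx.1) (C_zpowers z ▸ hx.1) hx.2) hx.2) (Od2_mono (C_le_C1 hW))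
    have := card_mul_relIndex (zpowers_le.2 hW)
    rw [← hz, h2, h.card_W] at this
    rw [← hz]
    omega
  rw [e1]
  exact (norm_C h.W_nml.norm).trans (N_le_N_Od2 _)

theorem c2_CA (hG : L2 G) (hS : Syl 2 ⊤ B) (hB : Bm B = B) (e : ¬ C{z} ≤ N[WP P]) : CA B (WP P) z := by
  refine ⟨hG, hS, hz, c2_z1 h2 hz, h.W_ea₃, h.card_W, h.W_nml.of_le h.W_B₃ h.syl.le,
    fun e' => h.nZ (by rw [hz, C_zpowers]; exact h.W_nml.norm.trans e'), e, fun H h1 h3 h4 => ?_⟩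
  have hH := hG.ch2 hS h1 h3
  have hT := hS.of_le h1 le_top
  have b0 : B ≤ H ⊓ N[WP P] := le_inf h1 (h.syl.le.trans h.W_nml.norm)
  have r : Red (WP P) (H ⊓ N[WP P]) := Red.mk' ⟨h.W_B₃.trans b0, inf_le_right⟩ h.W_ea₃ fun X hX i => by
    have a1 : z ∈ WP P ⊓ C[X] := ⟨h.c2_zW h2 hz, mem_C_iff_le_C1.2 ((le_sup_syl (hT.of_le b0 inf_le_left) hX i).trans
      (sup_le (inf_le_right.trans (h.c2_zB hz)) (C_le_C1 (h.c2_zW h2 hz))))⟩
    refine cents_symm (inf_eq_left.1 (by_contra fun e' => h4 ?_))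
    have := two_mul_card_le (lt_of_le_of_ne inf_le_left e')
    rw [h.card_W] at this
    exact (cent_of_card_le_two (by omega) (norm_inf inf_le_right (norm_C hX.norm))).trans (C_le_C1 a1)
  have e1 := r.le_Ys.trans (Ys_mono (hH.norm (ea_pi h.W_ea₃) (h.W_B₃.trans h1)) hH hT b0 inf_le_left)
  have e2 := Ys_inf_le₃ hH hT
  have e3 := Ys_small hH hT (fun e => h.JnC₃ (e.trans (C_anti e1)))
    (by have := card_le e2; have := card_pos (Ys H ⊓ C[H]); rw [hB] at *; omega)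
  rw [hB] at e2
  rw [eq_bot_of_le (prime_inf_of_not_le (h2 ▸ two_prime) fun e' => h4 (inf_le_left.trans
    (mem_C_iff_le_C1.1 (e' (hz ▸ mem_zpowers z))))) (le_inf ((inf_le_inf_left _ (C_anti h1)).trans e2)
    inf_le_right), card_bot] at e3
  rw [eq_of_card_eq e1 (by rw [e3, h.card_W])]
  exact (Ys_red hH).nml.norm

end two

end ParS

theorem pair_par (hG : L2 G) (h1 : ParS B P₁) (h2 : ParS B P₂) (l1 : LocB B P₁) (l2 : LocB B P₂)
    (hf : NoLoc (P₁ ⊔ P₂)) : (Par B P₁ ∧ Par B P₂) ∨ ∃ (S V : Subgroup G) (z : G), CA S V z := by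
  have e1 := hf (OZ B ⊓ C[P₁] ⊓ (OZ B ⊓ C[P₂])) (((ea_pi (OZ_ea B)).inf_left _).inf_left _)
    (norm_of_cent (sup_le (cents_symm (inf_le_left.trans inf_le_right))
      (cents_symm (inf_le_right.trans inf_le_right))))
  have e2 := card_le_mul_of_relIndex (inf_le_left : OZ B ⊓ C[P₁] ≤ _) h2.idx_D.le
  rw [e1, card_bot] at e2
  have e3 := h1.card_D₃
  have e4 := card_pos (OZ B ⊓ C[P₁])
  have k : ∀ X, Ch2 (Od2 X) → P₁ ≤ N[Od2 X] → P₂ ≤ N[Od2 X] → IsPi {2} X := fun X a b c =>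
    Od2_eq_bot.1 (a.eq_bot₃ (hf _ (pcore_pi _ _) (norm_pcore _ (sup_le b c))))
  rcases (by omega : ♯(OZ B) = 2 ∨ ♯(OZ B) = 4) with e | e
  · obtain ⟨z, -, -, hz⟩ := exists_eq_zpowers_of_card_prime (A := OZ B) (e ▸ two_prime)
    have s : ∀ {P}, ParS B P → LocB B P → C{z} ≤ N[WP P] → Syl 2 ⊤ B := fun a b c =>
      (a.c2_syl e b).1.of_norm_le two_prime le_top (inf_le_right.trans
        ((cent_of_card_le_two e.le (N_le_N_OZ B)).trans (by rwa [hz, C_zpowers])))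
    by_cases c1 : C{z} ≤ N[WP P₁] <;> by_cases c2 : C{z} ≤ N[WP P₂]
    · have := k _ ((ParS.c2_ch e hz hG).nml (Od2_nml _)) (h1.c2_Od e hz c1) (h2.c2_Od e hz c2)
      exact Or.inl ⟨h1.par₃ (this.of_le (inf_le_right.trans (C_le_C1 (h1.c2_zW e hz)))),
        h2.par₃ (this.of_le (inf_le_right.trans (C_le_C1 (h2.c2_zW e hz))))⟩
    · exact Or.inr ⟨_, _, _, h2.c2_CA e hz hG (s h1 l1 c1) (h1.c2_syl e l1).2 c2⟩
    · exact Or.inr ⟨_, _, _, h1.c2_CA e hz hG (s h2 l2 c2) (h1.c2_syl e l1).2 c1⟩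
    · exact Or.inl ⟨h1.par₃ ((h1.c2_or e hz hG l1).resolve_right c1),
        h2.par₃ ((h2.c2_or e hz hG l2).resolve_right c2)⟩
  · have := k _ (h1.case4 hG l1 e).2 (h1.case4 hG l1 e).1 (h2.case4 hG l2 e).1
    exact Or.inl ⟨h1.par₃ (this.of_le (h1.C_eq ▸ inf_le_right.trans (C_anti h1.OZ_le₃))),
      h2.par₃ (this.of_le (h2.C_eq ▸ inf_le_right.trans (C_anti h2.OZ_le₃)))⟩

theorem rank_of_self₃ (he : 8 ∣ Nat.card G) (hV : IsPi {2} V) (h4 : ♯V = 4) (hC : C[V] = V) :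
    PRankLE 2 2 G := by
  haveI : Fact (Nat.Prime 2) := ⟨two_prime⟩
  obtain ⟨S, hS, hVS⟩ := Sylow_superset two_prime hV le_top
  obtain ⟨n, hn⟩ := hS.pi.card_eq_pow two_prime
  have h3 : 3 ≤ n := (Nat.pow_dvd_pow_iff_le_right (by norm_num)).1 (hn ▸ hS.dvd_card (n := 2 ^ 3)
    (fun p hp hd => (Nat.prime_dvd_prime_iff_eq hp two_prime).1 (hp.dvd_of_dvd_pow hd)) (by rwa [card_top]))
  have e : C[V.subgroupOf S] = V.subgroupOf S := by
    ext x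
    rw [mem_subgroupOf, ← hC, mem_C, mem_C]
    exact ⟨fun a y hy => congrArg Subtype.val (a ⟨y, hVS hy⟩ (hC.ge hy)), fun a y hy => Subtype.ext (a y (hC.le hy))⟩
  obtain ⟨Z, hZ, i⟩ := H3.exists_cyclic_index_two_of_maxClass h3 hn
    (H3.nilpotencyClass_eq_of_selfCentralizing hn (V.subgroupOf S) (by rw [card_subgroupOf_of_le hVS, h4]; rfl) e)
  intro E a b
  obtain ⟨g, -, hg⟩ := Sylow_Jsub two_prime hS (ea_pi ⟨a, b⟩) le_top
  have ea : EA (cj g E) := H12.ea_map ⟨a, b⟩ _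
  have e1 := card_le_mul_of_relIndex (K := Z.map S.subtype) (n := 2) hg (by
    rw [relIndex, subgroupOf_map_subtype', i])
  obtain ⟨x, hx, e2⟩ := Cyc.exists_gen (Cyc.of_le (Cyc.map hZ S.subtype) (inf_le_right : cj g E ⊓ _ ≤ _))
  rw [← e2, card_zpowers', card_cj] at e1
  have := orderOf_le_of_pow_eq_one (by norm_num) (ea.2 x hx.1)
  omega

theorem ParS.loc₃ (h : ParS B P) (p : Par B P) (ea : EA (Q2 P)) (h2 : ♯(OZ B ⊓ C[P]) ≤ 2) (hH : Ch2 H)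
    (hT : Syl 2 H T) (e : Bm T = B) (hP : P ≤ H) : H ⊓ C[OZ T] ≤ N[T] := by
  subst e
  have eZ : OZ (Q2 P) = Q2 P := le_antisymm (OZ_le _) (le_OZ le_rfl (Abl.le_C ea.1) ea)
  have eQ := h.Z_eq
  rw [h.D₃, eZ] at eQ
  have w := h.W_le_Ys hH hT hP
  have n := h.Q2_norm hH hT hP
  have e1 : Q2 H ≤ C[Q2 P] := eQ ▸ cents_sup ((Ys_red hH).le_C.trans (C_anti w)) (cent_of_card_le_two h2
    (h.D₃ ▸ norm_inf (norm_OZ (norm_pcore _ n)) (norm_C n)))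
  have e2 : Q2 H ≤ Bm T := le_inf (pcore_le_Hall hT) (by
    rw [← OZ_Bm]; exact e1.trans (C_anti (h.OZ_le₃.trans (OZ_le _))))
  have e3 : Q2 H = Q2 P := le_antisymm ((le_inf (e2.trans h.syl.le) e1).trans h.ch2.2)
    ((le_inf ((Q2_nml P).le.trans hP) (cents_symm e1)).trans hH.2)
  have c8 : ♯(Q2 P) ≤ 8 := by
    have := card_sup (norm_of_cent (inf_le_right.trans (C_anti h.W_nml.le)) : OZ (Bm T) ⊓ C[P] ≤ _)
    have := card_pos (WP P ⊓ (OZ (Bm T) ⊓ C[P]))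
    rw [← eQ, h.card_W] at *
    nlinarith
  have wQ := h.W_le₃.trans (OZ_le _)
  have e4 : H ≤ N[WP P] := fac hH hT (inf_le_right.trans (norm_of_cent (C_anti w))) (fun g hg => by
    have a := h.cj g
    rw [cj_of_mem_N hg.2] at a
    have a1 := h.par_norm a hH hT hP (cj_le_of_mem hP hg.1)
    have a2 : WP (H24.cj g P) ≤ Q2 P := by
      rw [WP_cj]; exact cj_le_of_mem_N wQ (e3 ▸ (Q2_nml H).norm hg.1)
    have a3 := a.irr₃ inf_le_right (norm_inf a1 a.W_nml.norm) fun e' => by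
      have := card_le (sup_le wQ a2)
      rw [card_sup_of_inf (Abl.norm ea.1 a2 wQ) e', h.card_W, a.card_W] at this
      omega
    rw [WP_cj] at a3
    exact mem_N_of_cj_le (inf_eq_right.1 a3)) fun P' a b => h.par_norm b hH hT hP a
  have nW : WP P ⊴ H := ⟨h.W_nml.le.trans hP, e4⟩
  have e5 : H ⊓ C[WP P] ≤ Q2 P := e3 ▸ pcore_max (two_of_odd₃ fun x hx ho => hH.stab nW (e3 ▸ wQ) hx.1 ho
    (fun q hq => comm_mem_of_idx (by
      have := card_mul_relIndex (e3 ▸ wQ : WP P ≤ Q2 H)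
      rw [h.card_W, e3] at this
      rw [e3]
      omega) ((Q2_nml H).norm hx.1) (e4 hx.1) hq) hx.2) nW.infC
  have e6 := Nat.le_of_dvd (by simp [Fin.prod_univ_succ])
    (H26.relIndex_C_abelem_dvd two_prime e4 h.W_ea₃ (n := 2) h.card_W)
  have e7 : P = H := eq_of_card_ge hP (by
    rw [← card_inf_mul_relIndex C[WP P] H, ← card_mul_relIndex (Q2_nml P).le, p.idxQP, inf_comm]
    exact Nat.mul_le_mul (card_le e5) (by simpa [Fin.prod_univ_succ] using e6))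
  subst e7
  have e8 : T = Bm T := h.syl.eq_of_le hT.pi (Bm_le T) hT.le
  rw [← e8] at h p
  exact ((p.eq_or (le_inf hT.le (le_C_OZ T)) inf_le_left).resolve_right
    fun e => h.nZ (inf_eq_left.1 e)).le.trans (norm_self T)

theorem pair_end [IsSimpleGroup G] (hG : L2 G) (h1 : ParS B P₁) (h2 : ParS B P₂) (l1 : LocB B P₁)
    (l2 : LocB B P₂) (hf : NoLoc (P₁ ⊔ P₂)) (p1 : Par B P₁) (p2 : Par B P₂) : PRankLE 2 2 G := by
  have fr : Free B P₁ P₂ := fun U a b c => hf U (p1.two.of_le a) (sup_le b c)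
  have e1 := hf (OZ B ⊓ C[P₁] ⊓ (OZ B ⊓ C[P₂])) (((ea_pi (OZ_ea B)).inf_left _).inf_left _)
    (norm_of_cent (sup_le (cents_symm (inf_le_left.trans inf_le_right))
      (cents_symm (inf_le_right.trans inf_le_right))))
  have e2 := card_le_mul_of_relIndex (inf_le_left : OZ B ⊓ C[P₁] ≤ _) h2.idx_D.le
  have e3 := card_le_mul_of_relIndex (inf_le_left : OZ B ⊓ C[P₂] ≤ _) h1.idx_D.le
  rw [inf_comm (OZ B ⊓ C[P₂])] at e3
  rw [e1, card_bot] at e2 e3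
  have h : End B P₁ P₂ := ⟨p1, p2, fr, h1.nJ₃, h2.nJ₃, fun Y a b c => by
    rcases c with c | c
    · obtain ⟨T, hT, e⟩ := l1 Y a b c
      exact ⟨T, ⟨(hG Y a b).1, hT, (hG Y a b).2, h1.loc₃ p1 (amalgam_ea p1 p2 fr) e2 (hG Y a b) hT e c⟩, e⟩
    · obtain ⟨T, hT, e⟩ := l2 Y a b c
      exact ⟨T, ⟨(hG Y a b).1, hT, (hG Y a b).2, h2.loc₃ p2 (amalgam_ea p2 p1 fr.symm) e3 (hG Y a b) hT e c⟩, e⟩⟩
  have eO : Od G = ⊤ := ((nml_top_iff.1 (by simpa [Od2] using Od2_nml (⊤ : Subgroup G))).eq_bot_or_eq_top).resolve_left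
    fun e => h.W_ne (eq_bot_of_le e (WW_le_Od P₁))
  have eC : CC P₁ = ⊥ := eq_bot_iff.2 fun c hc => by_contra fun e => h.not_mem hc e (eO.ge (mem_top c))
  refine rank_of_self₃ (V := WW P₁) ((Dvd.intro _ h.card_B.symm).trans (card_subgroup_dvd_card B))
    ((pcore_pi _ _).of_le (WW_le_Q _)) h.parE.card_W (le_antisymm (fun x hx => h.Q_inf
      (h.parE.cent_W (h.N_W.le (C_le_N _ hx)) hx) (eO.ge (mem_top x)))
      (Abl.le_C (ea_le h.ea (WW_le_Q _)).1))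

end H12.NG
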