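import Mathlib
import Cfsg.Agent.H12.NGF3

/-!
# N-groups: the global dichotomy
-/

set_option autoImplicit false
set_option linter.unusedSectionVars false

namespace H12.NG

open Subgroup Cfsg H24 H11.ZN
open scoped commutatorElement

universe u

variable {G : Type u} [Group G] [Finite G] {V H K H₀ T B P P' P₁ P₂ X Y M S U : Subgroup G}

/-- no two parabolics are free -/
def NF (G : Type u) [Group G] : Prop :=
  ∀ B P₁ P₂ : Subgroup G, ParS B P₁ → ParS B P₂ → LocB B P₁ → LocB B P₂ → ¬ NoLoc (P₁ ⊔ P₂)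

theorem NF.span (h : NF G) (hG : L2 G) (p : Subgroup G → Prop) (h1 : ∀ P, p P → ParS B P ∧ LocB B P)
    (h2 : ∀ P, p P → ∀ g ∈ N[B], p (cj g P)) (h3 : ∃ P, p P) :
    ∃ Y, IsPi {2} Y ∧ Y ≠ ⊥ ∧ N[B] ≤ N[Y] ∧ ∀ P, p P → P ≤ N[Y] := by
  obtain ⟨P₀, p0⟩ := h3
  refine ⟨⨆ P : {P // p P}, WP P.1, (h1 _ p0).1.syl.pi.of_le (iSup_le fun P => (h1 _ P.2).1.W_B₃),
    ne_bot_of_le (h1 _ p0).1.W_ne₃ (le_iSup (fun P : {P // p P} => WP P.1) ⟨P₀, p0⟩),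
    fun g hg => mem_N_of_cj_le ?_, fun P a => norm_iSup fun P' => ?_⟩
  · rw [cj_le_iff]
    refine iSup_le fun P => ?_
    rw [← cj_le_iff, ← WP_cj]
    exact le_iSup (fun P : {P // p P} => WP P.1) ⟨_, h2 _ P.2 g hg⟩
  · have := h B P P'.1 (h1 _ a).1 (h1 _ P'.2).1 (h1 _ a).2 (h1 _ P'.2).2
    simp only [NoLoc, not_forall] at this
    obtain ⟨Y, y1, y2, y3⟩ := this
    obtain ⟨T, hT, rfl⟩ := (h1 _ a).2 Y y1 y3 (le_sup_left.trans y2)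
    exact (h1 _ P'.2).1.par_norm (h1 _ a).1 (hG Y y1 y3) hT (le_sup_right.trans y2) (le_sup_left.trans y2)

theorem exists_TT₄ (hS : Syl 2 ⊤ S) (h0 : S ≠ ⊥) (hSM : S ≤ M) (h1 : M ≠ ⊤) (h2 : ¬ IsStronglyEmbedded M) :
    ∃ T, TT M T ∧ T ≠ ⊥ := by
  by_contra e
  have key : ∀ T, IsPi {2} T → T ≠ ⊥ → T ≤ M → N[T] ≤ M := fun T a b c => by
    by_contra d
    exact e ⟨T, ⟨a, c, T, a, b, norm_self T, d⟩, b⟩
  refine h2 ⟨h1, even_iff_two_dvd.2 ((hS.pi.dvd_card h0).trans (card_dvd hSM)),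
    fun g hg => Nat.not_even_iff_odd.1 fun he => hg ?_⟩
  obtain ⟨U, hU⟩ := Sylow_exists two_prime (M ⊓ cj g M)
  have hU1 : U ≠ ⊥ := hU.ne_bot two_prime rfl he.two_dvd
  have a1 := key U hU.pi hU1 (hU.le.trans inf_le_left)
  have a2 : cj g⁻¹ U ≤ M := le_cj_iff.1 (hU.le.trans inf_le_right)
  have a3 := key _ (hU.pi.cj g⁻¹) (fun e' => hU1 (cj_eq_bot.1 e')) a2
  rw [← cj_N, ← le_cj_iff] at a3
  have a4 : Syl 2 ⊤ U := hU.of_norm_le two_prime le_top (inf_le_right.trans (le_inf a1 a3))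
  obtain ⟨m, hm, e'⟩ := Sylow_trans two_prime (a4.of_le (hU.le.trans inf_le_left) le_top)
    ((a4.cj_mem (mem_top g⁻¹)).of_le a2 le_top)
  have := a1 (cj_eq_cj_iff.1 e')
  exact inv_mem_iff.1 ((mul_mem_cancel_left (inv_mem hm)).1 this)

/-- a unique maximal `2`-local over `S` is strongly embedded -/
theorem NF.caseI (h : NF G) (hG : L2 G) (hS : Syl 2 ⊤ S) (h0 : S ≠ ⊥) (hSM : S ≤ M) (h1 : M ≠ ⊤)
    (hU : ∀ H, S ≤ H → Q2 H ≠ ⊥ → H ≤ M) : IsStronglyEmbedded M := by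
  by_contra h2
  have k : ∀ S' Y, Syl 2 ⊤ S' → S' ≤ M → IsPi {2} Y → Y ≠ ⊥ → S' ≤ N[Y] → N[Y] ≤ M := by
    intro S' Y a b c d f
    obtain ⟨g, hg, rfl⟩ := Sylow_trans two_prime (hS.of_le hSM le_top) (a.of_le b le_top)
    rw [cj_le_iff, cj_N] at f
    have := hU _ f (ne_bot_of_le (fun e' => d (cj_eq_bot.1 e')) (pcore_max (c.cj _) (nml_N _)))
    rwa [← cj_N, ← le_cj_iff, cj_of_mem hg] at this
  have k' : ∀ T, IsPi {2} T → T ≤ M → ∃ S, Syl 2 ⊤ S ∧ S ≤ M ∧ T ≤ S := fun T a b => by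
    obtain ⟨g, hg, e⟩ := Sylow_subJ two_prime (hS.of_le hSM le_top) a b
    exact ⟨_, hS.cj_mem (mem_top g), cj_le_of_mem hSM hg, e⟩
  obtain ⟨T, hT, hT1, mJ, mB⟩ := exists_TT_max (exists_TT₄ hS h0 hSM h1 h2)
  obtain ⟨S, hS, hSM, hTS⟩ := k' T hT.1 hT.2.1
  have hmax : ∀ Y, IsPi {2} Y → Y ≠ ⊥ → N[T] ≤ N[Y] → N[Y] ≤ M := by
    intro Y a b c
    by_contra d
    have e1 : T ≤ S ⊓ N[T] := le_inf hTS (norm_self T)
    have := (mB _ ⟨hS.pi.inf_left _, inf_le_left.trans hSM, Y, a, b, inf_le_right.trans c, d⟩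
      ((Bm_le T).trans e1)).2
    exact d (k S Y hS hSM a b (((hS.pi.nil two_prime).eq_of_norm_le hTS (eq_of_card_ge e1 this).ge).ge.trans
      ((norm_self T).trans c)))
  have hJ : N[JJ T] ≤ M := hmax _ (hT.1.of_le (JJ_le T)) (JJ_ne_bot hT.1 hT1) (N_le_N_JJ T)
  have hB : N[Bm T] ≤ M := (N_le_N_JJ _).trans (by rwa [JJ_Bm])
  have hloc : ∀ Y, IsPi {2} Y → Y ≠ ⊥ → Bm T ≤ N[Y] → ¬ N[Y] ≤ M →
      ∃ T', Syl 2 N[Y] T' ∧ Bm T' = Bm T ∧ T' ≤ M := by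
    intro Y a b c d
    obtain ⟨T', e1, e2⟩ := Sylow_superset two_prime (hT.1.of_le (Bm_le T))
      (le_inf c ((Bm_le T).trans hT.2.1))
    have e3 : TT M T' := ⟨e1.pi, e1.le.trans inf_le_right, Y, a, b, e1.le.trans inf_le_left, d⟩
    refine ⟨T', e1.of_norm_le two_prime inf_le_left (inf_le_inf_left _ ?_), (mB T' e3 e2).1, e3.2.1⟩
    exact (N_le_N_JJ T').trans (mJ T' e3 ((JJ_le_Bm T).trans e2) ▸ hJ)
  have hex : ∃ P, ParS (Bm T) P ∧ ¬ P ≤ M := by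
    by_contra e
    push Not at e
    obtain ⟨Y, a, b, c, d⟩ := hT.2.2
    obtain ⟨T', e1, e2, e3⟩ := hloc Y a b ((Bm_le T).trans c) d
    obtain ⟨S', s1, s2, s3⟩ := k' T' e1.pi e3
    have q := pcore_le_Hall e1
    have c1 : OZ S' ≤ C[Q2 N[Y]] := (OZ_le_C _).trans (C_anti (q.trans s3))
    have c2 : OZ S' ≤ OZ T' := le_OZ ((le_inf (norm_of_cent (c1.trans (C_anti (pcore_max a (nml_N Y))))) c1).trans
      ((hG Y a b).2.trans q)) ((OZ_le_C _).trans (C_anti s3)) (OZ_ea _)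
    refine d (fac (hG Y a b) e1 (inf_le_right.trans ((norm_of_cent (C_anti (c2.trans (OZ_le_Ys (hG Y a b) e1)))).trans
      (k S' _ s1 s2 (ea_pi (OZ_ea _)) (OZ_ne_bot s1.pi ?_) (norm_OZ (norm_self _)))))
      (inf_le_right.trans (e2 ▸ hB)) fun P _ hP => e P (e2 ▸ hP))
    exact ne_bot_of_le b ((pcore_max a (nml_N Y)).trans (q.trans s3))
  obtain ⟨Y, y1, y2, y3, y4⟩ := h.span (B := Bm T) hG (fun P => ParS (Bm T) P ∧ ¬ P ≤ M)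
    (fun P a => ⟨a.1, fun Y b c d => (hloc Y b c (a.1.syl.le.trans d) fun e => a.2 (d.trans e)).imp
      fun _ e => ⟨e.1, e.2.1⟩⟩)
    (fun P a g hg => ⟨cj_of_mem_N hg ▸ a.1.cj g, fun e => a.2 (by
      rwa [cj_le_iff, cj_of_mem (inv_mem (hB hg))] at e)⟩) hex
  obtain ⟨P, p1, p2⟩ := hex
  exact p2 ((y4 P ⟨p1, p2⟩).trans (hmax Y y1 y2 ((N_le_N_Bm T).trans y3)))

theorem dichotomy [IsSimpleGroup G] (hG : L2 G) (hn : ¬ IsMulCommutative G) (he : 2 ∣ Nat.card G) :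
    (∃ M : Subgroup G, IsStronglyEmbedded M) ∨ PRankLE 2 2 G ∨ (∃ (S V : Subgroup G) (z : G), CA S V z) ∨
      ∃ S M V : Subgroup G, CII S M V := by
  by_contra e
  simp only [not_or] at e
  obtain ⟨e1, e2, e3, e4⟩ := e
  have h : NF G := fun B P₁ P₂ a b c d f =>
    (pair_par hG a b c d f).elim (fun p => e2 (pair_end hG a b c d f p.1 p.2)) e3
  obtain ⟨S, hS⟩ := Sylow_exists two_prime (⊤ : Subgroup G)
  have h0 : S ≠ ⊥ := hS.ne_bot two_prime rfl (by rwa [card_top])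
  obtain ⟨Y, y1, y2, y3, y4⟩ : ∃ Y, IsPi {2} Y ∧ Y ≠ ⊥ ∧ N[Bm S] ≤ N[Y] ∧ ∀ P, ParS (Bm S) P → P ≤ N[Y] := by
    by_cases e : ∃ P, ParS (Bm S) P
    · refine h.span hG _ (fun P a => ⟨a, fun Y _ _ d => ?_⟩) (fun P a g hg => cj_of_mem_N hg ▸ a.cj g) e
      obtain ⟨T, t1, t2⟩ := Sylow_superset two_prime a.syl.pi (a.syl.le.trans d)
      exact ⟨T, t1, Bm_eq_of_syl hS t1.pi le_top t2⟩
    · exact ⟨Bm S, hS.pi.of_le (Bm_le S), ne_bot_of_le (JJ_ne_bot hS.pi h0) (JJ_le_Bm S), le_rfl,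
        fun P a => absurd ⟨P, a⟩ e⟩
  obtain ⟨_, m1, ⟨X, x1, x2, rfl⟩, hm⟩ := exists_max
    (P := fun M => ∃ X : Subgroup G, IsPi {2} X ∧ X ≠ ⊥ ∧ M = N[X]) ⟨Y, y1, y2, rfl⟩
  have s1 : S ≤ N[X] := (norm_self S).trans ((N_le_N_Bm S).trans (y3.trans m1))
  have r := Ys_red' N[X]
  have v1 := ne_bot_of_le (OZ_ne_bot hS.pi h0) (OZ_le_Ys (hG X x1 x2) (hS.of_le s1 le_top))
  have v2 := hm _ ⟨_, ea_pi r.ea, v1, rfl⟩ r.nml.norm
  refine e4 ⟨S, N[X], _, hG, hS, s1, rfl, v2.symm, v1, y3.trans m1, fun P a => (y4 P a).trans m1, ?_⟩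
  by_contra e
  push Not at e
  refine e1 ⟨_, h.caseI hG hS h0 s1 (fun e' => ?_) e⟩
  rw [e'] at r v1
  have := ((nml_top_iff.1 r.nml).eq_bot_or_eq_top).resolve_left v1
  exact hn ⟨⟨fun a b => Abl.comm r.ea.1 (this.ge (mem_top a)) (this.ge (mem_top b))⟩⟩

end H12.NG
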