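import Mathlib
import Cfsg.Agent.H12.NGF4
import Cfsg.Agent.H12.NGA1

/-!
# N-groups: pairs and the dichotomy without case (A)
-/

set_option autoImplicit false
set_option linter.unusedSectionVars false

namespace H12.NG

open Subgroup Cfsg H24 H11.ZN
open scoped commutatorElement

universe u

variable {G : Type u} [Group G] [Finite G] {V H K T B P P₁ P₂ X Y M S U R : Subgroup G} {x y z t c e r : G}

theorem sep₅ (y2 : y * y = 1) (hy : y ≠ x) (x2 : x * x = 1) (hx : x ∈ C{c}) (h1 : r * c * r⁻¹ * c⁻¹ ∈ zpowers y)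
    (h2 : r * e * r⁻¹ * e⁻¹ ∈ zpowers x) (h : r ∈ C{c * e}) : r ∈ C{c} := by
  have e1 : (r * c * r⁻¹ * c⁻¹)⁻¹ = r * e * r⁻¹ * e⁻¹ := by
    rw [← mem_C1_iff_conj.1 (mem_C1_comm.1 (zpowers_le.2 hx h2))]
    calc _ = c * r * c⁻¹ * r⁻¹ * (c * e) * (c * e)⁻¹ := by group
      _ = c * r * c⁻¹ * r⁻¹ * (r * (c * e) * r⁻¹) * (c * e)⁻¹ := by rw [mem_C1_iff_conj.1 h]
      _ = _ := by group
  rw [← e1, inv_mem_iff] at h2
  rcases (H3.NG.mem_zp2 y2).1 h1 with a | a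
  · exact mem_C1_iff_conj.2 (mul_inv_eq_one.1 a)
  · rcases (H3.NG.mem_zp2 x2).1 h2 with b | b
    · exact mem_C1_iff_conj.2 (mul_inv_eq_one.1 b)
    · exact absurd (a.symm.trans b) hy

theorem ParS.no_c (h : ParS B P) (p : Par B P) (h2 : ♯(OZ B) = 2) (hz : OZ B = zpowers z)
    (hc : c ∈ Q2 P) (c2 : c * c = 1) (cV : c ∉ WP P)
    (hk : ∀ r ∈ Q2 P, r * c * r⁻¹ * c⁻¹ ∈ zpowers z) : False := by
  obtain ⟨A, hA, hAQ⟩ := p.exists_maxEA h.nJ₃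
  have hA' := (p.replace hA hAQ).1
  rw [h.c2_W h2] at hA'
  obtain ⟨a, ha, aQ⟩ := SetLike.not_le_iff_exists.1 hAQ
  have aP := h.syl.le (hA.le ha)
  obtain ⟨d, hd, dz⟩ := SetLike.not_le_iff_exists.1 h.nZ
  rw [hz, C_zpowers, mem_C1_iff_conj] at dz
  have n := (Q2_nml P).norm
  have nW := h.W_nml.norm
  have zW := h.c2_zW h2 hz
  have key : ∀ g ∈ P, ∀ {c z : G}, (∀ r ∈ Q2 P, r * c * r⁻¹ * c⁻¹ ∈ zpowers z) →
      ∀ r ∈ Q2 P, r * (g * c * g⁻¹) * r⁻¹ * (g * c * g⁻¹)⁻¹ ∈ zpowers (g * z * g⁻¹) := fun g hg c z k r hr => by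
    rw [← cj_zpowers, mem_cj, show g⁻¹ * (r * (g * c * g⁻¹) * r⁻¹ * (g * c * g⁻¹)⁻¹) * g =
      g⁻¹ * r * g * c * (g⁻¹ * r * g)⁻¹ * c⁻¹ by group]
    exact k _ (conj_mem' (n hg) hr)
  have k1 := key d hd hk
  have y1 : d * z * d⁻¹ ≠ 1 := fun e => ParS.c2_z1 h2 hz (conj_eq_one_iff'.1 e)
  have yW := conj_mem (nW hd) zW
  replace hc := conj_mem (n hd) hc
  replace cV := mt (conj_mem_iff (nW hd)).1 cV
  replace c2 : d * c * d⁻¹ * (d * c * d⁻¹) = 1 := by rw [conj_mul, c2, mul_one, mul_inv_cancel]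
  generalize d * c * d⁻¹ = c at *
  generalize d * z * d⁻¹ = y at *
  have k2 := key a aP k1
  have xW := conj_mem (nW aP) yW
  have yx : y ≠ a * y * a⁻¹ := fun e => aQ (h.BC₃ ⟨hA.le ha, H3.NG.four_cent h.W_ea₃ h.card_W zW yW
    (ParS.c2_z1 h2 hz) y1 (Ne.symm dz) (mem_C1.1 (h.c2_zB hz (hA.le ha)))
    (mem_C1.1 (mem_C1_iff_conj.2 e.symm))⟩)
  have he := conj_mem (n aP) hc
  have wc : ∀ v ∈ WP P, ∀ q ∈ Q2 P, v * q = q * v := fun v hv q hq => mem_C.1 (h.QC₃ hq) v hv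
  have sp := fun r hr => sep₅ (ea_sq h.W_ea₃ yW) yx (ea_sq h.W_ea₃ xW) (mem_C1.2 (wc _ xW c hc)) (k1 r hr) (k2 r hr)
  have aR : A ⊓ Q2 P ⊔ WP P ≤ Q2 P := sup_le inf_le_right (h.W_le₃.trans (OZ_le _))
  have dec := fun x => (mem_sup_of_norm (x := x) (norm_of_cent (cents_symm
    (inf_le_right.trans h.QC₃ : A ⊓ Q2 P ≤ _)))).1
  have ac : ∀ r ∈ A ⊓ Q2 P, a * r * a⁻¹ = r := fun r hr =>
    mem_C1_iff_conj.1 (mem_C1.2 (Abl.comm hA.ea.1 ha hr.1))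
  have n1 : c ∉ A ⊓ Q2 P ⊔ WP P := fun e => by
    obtain ⟨r, hr, v, hv, e⟩ := dec c e
    have e1 : c * (a * c * a⁻¹) ∈ WP P := by
      rw [e, ← conj_mul, ac r hr, mul_assoc, ← mul_assoc v, wc v hv r hr.2, mul_assoc r v, ← mul_assoc r,
        ea_sq hA.ea hr.1, one_mul]
      exact mul_mem hv (conj_mem (nW aP) hv)
    exact cV (h.c2_W h2 ▸ mem_OZ.2 ⟨hc, mem_C_iff_le_C1.2 fun r hr => sp r hr (C_le_C1 e1 (h.QC₃ hr)),
      by rw [sq, c2]⟩)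
  have i2 : C{c}.relIndex (A ⊓ Q2 P ⊔ WP P) ≤ 2 := by
    rw [← ncard_cls]
    refine (Set.ncard_le_ncard (t := {c, y * c}) ?_).trans (Set.ncard_insert_le _ _ |>.trans (by simp))
    rintro _ ⟨r, hr, rfl⟩
    rcases (H3.NG.mem_zp2 (ea_sq h.W_ea₃ yW)).1 (k1 r (aR hr)) with e | e
    · exact Or.inl (mul_inv_eq_one.1 e)
    · exact Or.inr (mul_inv_eq_iff_eq_mul.1 e)
  have e1 := card_le_mul_of_relIndex le_rfl i2
  have nc : zpowers c ≤ C[(A ⊓ Q2 P ⊔ WP P) ⊓ C{c}] := cents_symm (C_zpowers c ▸ inf_le_right)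
  have hB := hA'.of_card_le (B := (A ⊓ Q2 P ⊔ WP P) ⊓ C{c} ⊔ zpowers c)
    (sup_le (inf_le_left.trans hA'.le) (zpowers_le.2 (h.QB₃ hc)))
    (H12.ea_sup (ea_le hA'.ea inf_le_left) (H12.ea_zpowers (by rw [sq, c2])) (cents_symm nc)) (by
      rw [card_sup_of_inf (norm_of_cent nc) (eq_bot_iff.2 fun x hx => ((H3.NG.mem_zp2 c2).1 hx.2).elim
        (fun e => mem_bot.2 e) fun e => absurd (e ▸ hx.1.1) n1),
        H3.NG.card_zp2 c2 fun e => cV (e ▸ one_mem _)]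
      omega)
  have ce : c ∈ C{a * c * a⁻¹} := by
    have a1 := k2 c hc
    have a2 := inv_mem (k1 _ he)
    rw [show (a * c * a⁻¹ * c * (a * c * a⁻¹)⁻¹ * c⁻¹)⁻¹ = c * (a * c * a⁻¹) * c⁻¹ * (a * c * a⁻¹)⁻¹ by group] at a2
    rcases (H3.NG.mem_zp2 (ea_sq h.W_ea₃ yW)).1 a2 with e | e
    · exact mem_C1_iff_conj.2 (mul_inv_eq_one.1 e)
    · rcases (H3.NG.mem_zp2 (ea_sq h.W_ea₃ xW)).1 a1 with e' | e'
      · exact absurd (e.symm.trans e') y1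
      · exact absurd (e.symm.trans e') yx
  have e2 := hB.mem_of_centralizer (h.QB₃ he) (mem_C_iff_le_C1.2 (sup_le (fun x hx => by
    obtain ⟨r, hr, v, hv, rfl⟩ := dec x hx.1
    have a1 : r ∈ C{c} := (mul_mem_cancel_right (mem_C1.2 (wc v hv c hc))).1 hx.2
    refine mul_mem ?_ (mem_C1.2 (wc v hv _ he))
    rw [← cj_C1, ← ac r hr]
    exact conj_mem_cj a a1) (zpowers_le.2 ce))) (by rw [conj_pow, sq, c2]; group)
  obtain ⟨k, hk, u, hu, e3⟩ := (mem_sup_of_norm (norm_of_cent nc)).1 e2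
  rcases (H3.NG.mem_zp2 c2).1 hu with rfl | rfl
  · refine n1 ((conj_mem_iff (norm_sup (X := zpowers a) (norm_of_cent (cents_symm (inf_le_left.trans
      ((Abl.le_C hA.ea.1).trans (C_anti (zpowers_le.2 ha)))))) (zpowers_le.2 (nW aP)) (mem_zpowers a))).1 ?_)
    rw [e3, mul_one]
    exact hk.1
  · have a1 : u * (a * u * a⁻¹) = k := by rw [e3, mem_C1.1 hk.2, ← mul_assoc, c2, one_mul]
    exact n1 (hA'.mem_of_centralizer (h.QB₃ hc) (mem_C_iff_le_C1.2 fun r hr => sp r (aR hr)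
      (mem_C1.2 (a1 ▸ Abl.comm hA'.ea.1 hr hk.1))) (by rw [sq, c2]))

theorem ParS.c2_left (h : ParS B P) (h2 : ♯(OZ B) = 2) (hz : OZ B = zpowers z)
    (e : ¬ Q2 C{z} ⊓ B ≤ Q2 P) : IsPi {2} (P ⊓ C[WP P]) := by
  have hC := C_le_C1 (h.c2_zW h2 hz)
  have n := Q2_nml C{z}
  obtain ⟨t, ⟨t1, t2⟩, t3⟩ := SetLike.not_le_iff_exists.1 e
  have m := h.W_nml.infC
  have e1 : Q2 C{z} ⊓ (P ⊓ C[WP P]) ≤ Q2 P :=
    (pcore_inf_le _ (inf_le_right.trans hC)).trans (m.pcore_le _)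
  refine two_of_odd₃ fun x hx ho => ?_
  have e2 := e1 (mem_inf.2 ⟨comm_le_left n.norm (commutator_mem_commutator t1 (hC hx.2)),
    comm_le_right m.norm (commutator_mem_commutator (h.syl.le t2) hx)⟩)
  have e3 := mul_mem (inv_mem e2) (h.inv_odd₃ hx.1 ho t2 t3)
  rw [show ⁅t, x⁆⁻¹ * (t * x * t⁻¹ * x) = x ^ 2 by rw [commutatorElement_def, sq]; group] at e3
  have e4 := ((pcore_pi _ _).piElt e3).eq_one ((piElt_odd.2 ho).pow 2)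
  exact (piElt_two_of_sq (sq x ▸ e4)).eq_one (piElt_odd.2 ho)

theorem c2_two (hG : L2 G) (h1 : ParS B P₁) (h2 : ParS B P₂) (l1 : LocB B P₁) (l2 : LocB B P₂)
    (hf : NoLoc (P₁ ⊔ P₂)) (e : ♯(OZ B) = 2) : IsPi {2} (P₁ ⊓ C[WP P₁]) := by
  obtain ⟨z, -, z1, hz⟩ := exists_eq_zpowers_of_card_prime (A := OZ B) (e ▸ two_prime)
  by_contra hn
  have c1 := (h1.c2_or e hz hG l1).resolve_left hn
  by_cases c2 : C{z} ≤ N[WP P₂]
  · exact hn ((Od2_eq_bot.1 (((ParS.c2_ch e hz hG).nml (Od2_nml _)).eq_bot₃ (hf _ (pcore_pi _ _)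
      (norm_pcore _ (sup_le (h1.c2_Od e hz c1) (h2.c2_Od e hz c2)))))).of_le
      (inf_le_right.trans (C_le_C1 (h1.c2_zW e hz))))
  have s : Syl 2 ⊤ B := (h1.c2_syl e l1).1.of_norm_le two_prime le_top (inf_le_right.trans
    ((cent_of_card_le_two e.le (N_le_N_OZ B)).trans (by rwa [hz, C_zpowers])))
  have ca := h2.c2_CA e hz hG s (h1.c2_syl e l1).2 c2
  have e1 : WP P₁ ≤ C[WP P₂] := cents_symm ((le_inf ca.V_le_Q h2.W_B₃).trans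
    ((by_contra fun e' => hn (h1.c2_left e hz e')).trans h1.QC₃))
  obtain ⟨c, hc, cV⟩ := SetLike.not_le_iff_exists.1 fun e' : WP P₁ ≤ WP P₂ => h1.W_ne₃ (hf _ (ea_pi h1.W_ea₃)
    (sup_le h1.W_nml.norm (eq_of_card_eq e' (h1.card_W.trans h2.card_W.symm) ▸ h2.W_nml.norm)))
  refine h2.no_c (h2.par₃ ((h2.c2_or e hz hG l2).resolve_right c2)) e hz (h2.BC₃ ⟨h1.W_B₃ hc, e1 hc⟩)
    (ea_sq h1.W_ea₃ hc) cV fun r hr => ?_
  exact H3.NG.four_cm h1.W_ea₃ h1.card_W (h1.c2_zW e hz) z1 (h1.W_nml.norm (h1.syl.le (h2.QB₃ hr)))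
    (h1.c2_zB hz (h2.QB₃ hr)) hc

theorem pair_par' (hG : L2 G) (h1 : ParS B P₁) (h2 : ParS B P₂) (l1 : LocB B P₁) (l2 : LocB B P₂)
    (hf : NoLoc (P₁ ⊔ P₂)) : Par B P₁ ∧ Par B P₂ := by
  have e1 := hf (OZ B ⊓ C[P₁] ⊓ (OZ B ⊓ C[P₂])) (((ea_pi (OZ_ea B)).inf_left _).inf_left _)
    (norm_of_cent (sup_le (cents_symm (inf_le_left.trans inf_le_right))
      (cents_symm (inf_le_right.trans inf_le_right))))
  have e2 := card_le_mul_of_relIndex (inf_le_left : OZ B ⊓ C[P₁] ≤ _) h2.idx_D.le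
  rw [e1, card_bot] at e2
  have e3 := h1.card_D₃
  have e4 := card_pos (OZ B ⊓ C[P₁])
  rcases (by omega : ♯(OZ B) = 2 ∨ ♯(OZ B) = 4) with e | e
  · exact ⟨h1.par₃ (c2_two hG h1 h2 l1 l2 hf e), h2.par₃ (c2_two hG h2 h1 l2 l1 (sup_comm P₁ P₂ ▸ hf) e)⟩
  · have := Od2_eq_bot.1 ((h1.case4 hG l1 e).2.eq_bot₃ (hf _ (pcore_pi _ _)
      (norm_pcore _ (sup_le (h1.case4 hG l1 e).1 (h2.case4 hG l2 e).1))))
    exact ⟨h1.par₃ (this.of_le (h1.C_eq ▸ inf_le_right.trans (C_anti h1.OZ_le₃))),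
      h2.par₃ (this.of_le (h2.C_eq ▸ inf_le_right.trans (C_anti h2.OZ_le₃)))⟩

theorem dichotomy' [IsSimpleGroup G] (hG : L2 G) (hn : ¬ IsMulCommutative G) (he : 2 ∣ Nat.card G) :
    (∃ M : Subgroup G, IsStronglyEmbedded M) ∨ PRankLE 2 2 G ∨ ∃ S M V : Subgroup G, CII S M V := by
  by_contra e
  simp only [not_or] at e
  obtain ⟨e1, e2, e4⟩ := e
  have h : NF G := fun B P₁ P₂ a b c d f =>
    e2 (pair_end hG a b c d f (pair_par' hG a b c d f).1 (pair_par' hG a b c d f).2)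
  obtain ⟨S, hS⟩ := Sylow_exists two_prime (⊤ : Subgroup G)
  have h0 : S ≠ ⊥ := hS.ne_bot two_prime rfl (by rwa [card_top])
  obtain ⟨Y, y1, y2, y3, y4⟩ : ∃ Y, IsPi {2} Y ∧ Y ≠ ⊥ ∧ N[Bm S] ≤ N[Y] ∧ ∀ P, ParS (Bm S) P → P ≤ N[Y] := by
    by_cases e : ∃ P, ParS (Bm S) P
    · refine h.span hG _ (fun P a => ⟨a, fun Y _ _ d => ?_⟩) (fun P a g hg => cj_of_mem_N hg ▸ a.cj g) e
      obtain ⟨T, t1, t2⟩ := Sylow_superset two_prime a.syl.pi (a.syl.le.trans d)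
      exact ⟨T, t1, Bm_eq_of_syl hS t1.pi le_top t2⟩
    · exact ⟨Bm S, hS.pi.of_le (Bm_le S), ne_bot_of_le (JJ_ne_bot hS.pi h0) (JJ_le_Bm S), le_rfl,
        fun P a => absurd ⟨P, a⟩ e⟩
  obtain ⟨_, m1, ⟨X, x1, x2, rfl⟩, hm⟩ := exists_max
    (P := fun M => ∃ X : Subgroup G, IsPi {2} X ∧ X ≠ ⊥ ∧ M = N[X]) ⟨Y, y1, y2, rfl⟩
  have s1 : S ≤ N[X] := (norm_self S).trans ((N_le_N_Bm S).trans (y3.trans m1))
  have r := Ys_red' N[X]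
  have v1 := ne_bot_of_le (OZ_ne_bot hS.pi h0) (OZ_le_Ys (hG X x1 x2) (hS.of_le s1 le_top))
  have v2 := hm _ ⟨_, ea_pi r.ea, v1, rfl⟩ r.nml.norm
  refine e4 ⟨S, N[X], _, hG, hS, s1, rfl, v2.symm, v1, y3.trans m1, fun P a => (y4 P a).trans m1, ?_⟩
  by_contra e
  push Not at e
  refine e1 ⟨_, h.caseI hG hS h0 s1 (fun e' => ?_) e⟩
  rw [e'] at r v1
  have := ((nml_top_iff.1 r.nml).eq_bot_or_eq_top).resolve_left v1
  exact hn ⟨⟨fun a b => Abl.comm r.ea.1 (this.ge (mem_top a)) (this.ge (mem_top b))⟩⟩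

end H12.NG
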