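import Mathlib
import Cfsg.Agent.H13.NT6

/-!
# The Tits configuration: the order of the group and a `(2,3,5)`-triple
-/

set_option autoImplicit false

namespace H12.NG

open Subgroup Cfsg H24 H11.ZN

universe u

variable {G : Type u} [Group G] [Finite G] {S V : Subgroup G} {z : G}

theorem TitsC.card_G [IsSimpleGroup G] (h : TitsC S V z) : Nat.card G = 17971200 :=
  (H13.NT.geo_of h).card_G

theorem TitsC.triple [IsSimpleGroup G] (h : TitsC S V z) :
    ∃ a b : G, orderOf a = 2 ∧ orderOf b = 3 ∧ orderOf (a * b) = 5 :=
  (H13.NT.geo_of h).triple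

end H12.NG
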