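import Cfsg.Agent.H12.NGMain
import Cfsg.Agent.H12.NGA8
import Cfsg.Agent.H12.NGB6
import Cfsg.Agent.H12.NGTits

/-! # The classification of simple groups with solvable `2`-local subgroups -/

set_option autoImplicit false

namespace H12.NG

open Subgroup Cfsg H24 H11.ZN

universe u

theorem main_titsC : Main.{u} (fun G _ => ∃ (S V : Subgroup G) (z : G), TitsC S V z) := by
  intro G _ _ _ hG hs
  rcases reduce hG hs with h | ⟨S, V, z, h, hU, hY⟩
  · exact .inl h
  have hW : ¬ Abl (Wv V) := fun hW => CB.false ⟨h, hY, hU, hW⟩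
  rcases h.ab_gen hU hW with h8 | h'
  · obtain ⟨u, d, f, k⟩ := h.ab_str h8 hU hW
    exact k.cardS.elim (fun e => (k.end64 e).elim) fun e => (k.end128 e).elim
  · exact .inr ⟨S, V, z, h'⟩

theorem main_triple : Main.{u} (fun G _ => Nat.card G = 17971200 ∧
    ∃ a b : G, orderOf a = 2 ∧ orderOf b = 3 ∧ orderOf (a * b) = 5) :=
  main_titsC.mono fun _ _ _ _ ⟨_, _, _, h⟩ => ⟨h.card_G, h.triple⟩

theorem main_tits : Main.{u} (fun G _ => IsTits G) :=
  main_triple.mono fun _ _ _ _ h => ⟨‹_›, h.1⟩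

theorem main_thirty : Main.{u} (fun G _ => 30 ∣ Nat.card G) :=
  main_triple.mono fun _ _ _ _ h => by rw [h.1]; norm_num

end H12.NG
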