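import Mathlib
import Cfsg.Agent.H17.NG5
import Cfsg.Agent.H17.NG6
import Cfsg.Agent.H22.Simp
import Cfsg.Agent.S0516
import Cfsg.Agent.S0486
import Cfsg.Agent.S1240

/-! Simple groups of 2-rank two with solvable involution centralizers. -/

set_option autoImplicit false
open Cfsg
namespace H12.NG

open Subgroup H17.NG in
theorem q3_ident {G : Type*} [Group G] [Finite G] [IsSimpleGroup G] (hG : ¬ IsMulCommutative G)
    (S : Sylow 2 G) (hS : IsQuasiDihedral (S : Subgroup G) ∨ IsWreathed (S : Subgroup G))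
    (hs : ∀ t : G, orderOf t = 2 → Group.IsSolvable (Subgroup.centralizer ({t} : Set G))) :
    Nonempty (G ≃* Matrix.ProjectiveSpecialLinearGroup (Fin 3) (ZMod 3)) ∨ Nat.card G = 7920 ∨
      ∀ (F : Type) [Field F] [Fintype F], Fintype.card F = 9 → Nonempty (G ≃* Cfsg.PSU 3 F 3) := by
  have h2 : ∀ H : Subgroup G, H.index ≠ 2 := fun H e => by
    rcases (normal_of_index_eq_two e).eq_bot_or_eq_top with rfl | rfl
    · rw [index_bot] at e
      have : Fact (Nat.Prime 2) := ⟨Nat.prime_two⟩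
      exact hG (isCyclic_of_prime_card e).isMulCommutative
    · simp at e
  obtain ⟨⟨t, ⟨-, htS⟩, ht⟩, -⟩ := H22.qd_center hS
  have hle : (S : Subgroup G) ≤ centralizer {t} := fun g hg =>
    mem_centralizer_singleton_iff.2 (htS g hg)
  have := hs t ht
  obtain ⟨F, _, _, hF, ⟨e⟩⟩ := Cfsg.Agent.S1240.result S hS h2 (fun a b => H22.qd_isConj hS h2) t ht
  have hF3 : Fintype.card F = 3 := by
    by_contra h3
    have : Group.IsSolvable (Matrix.SpecialLinearGroup (Fin 2) F) :=
      Group.isSolvable_of_surjective (f := e.toMonoidHom) e.surjective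
    obtain ⟨a, ha⟩ := IsCyclic.exists_ofOrder_eq_natCard (α := Fˣ)
    rw [Nat.card_units, Nat.card_eq_fintype_card] at ha
    have : Nontrivial (Matrix.SpecialLinearGroup (Fin 2) F) := ⟨⟨⟨!![1, 1; 0, 1], by simp⟩, 1, fun e => by
      simpa using congrFun (congrFun (congrArg Subtype.val e) 0) 1⟩⟩
    refine (Group.IsSolvable.commutator_lt_top_of_nontrivial _).ne
      (Matrix.SL2.commutator_eq_top a.ne_zero fun e => ?_)
    have := Nat.le_of_dvd two_pos (orderOf_dvd_of_pow_eq_one (show a ^ 2 = 1 from Units.ext e))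
    have := Nat.odd_iff.1 hF
    have := Fintype.one_lt_card (α := F)
    omega
  obtain ⟨f⟩ := exists_SL hF3
  let j := (commutator _).subtype.comp (f.trans e.symm).toMonoidHom
  have hr : j.range = commutator _ := by
    rw [MonoidHom.range_comp, MonoidHom.range_eq_top.2 (f.trans e.symm).surjective, ← MonoidHom.range_eq_map,
      range_subtype]
  have hj : Emb j := ⟨(subtype_injective _).comp (f.trans e.symm).injective, hr ▸ inferInstance⟩
  obtain ⟨e1⟩ := H22.sylow_equiv_mapSurjective (S.subtype hle) (oddCore _)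
    (Nat.coprime_two_right.2 H17.odd_card_pPrimeCore)
  have hone : ∀ s : centralizer ({t} : Set G), s * s = 1 → s ≠ 1 → IsConj (s : G) t := fun s h1 h3 =>
    H22.qd_isConj hS h2 (orderOf_eq_prime ((pow_two _).trans (congrArg Subtype.val h1))
      fun e => h3 (Subtype.ext e)) ht
  rcases H22.qd_of_equiv ((subgroupOfEquivOfLe hle).symm.trans e1) hS with h | h
  · obtain ⟨e2⟩ := hj.qd hr (H2.pPrimeCore_quotient_pPrimeCore 2 _) _ h
    exact (ident1 ht hone e2).imp_right Or.inl
  · obtain ⟨e2⟩ := hj.wr hr (H2.pPrimeCore_quotient_pPrimeCore 2 _) _ h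
    exact Or.inr (Or.inr fun F _ _ => ident2 ht hone e2 F)

/-- (Q3d) rank two with solvable involution centralizers (glue: S0516, H22.gw_simple, S0486, S0484, S0485) -/
theorem rank_two {G : Type*} [Group G] [Finite G] [IsSimpleGroup G] (hG : ¬ IsMulCommutative G)
    (h2 : PRankLE 2 2 G) (hs : ∀ t : G, orderOf t = 2 → Group.IsSolvable (Subgroup.centralizer ({t} : Set G))) :
    (∃ (F : Type) (_ : Field F) (_ : Fintype F), Odd (Fintype.card F) ∧ 5 ≤ Fintype.card F ∧
        Nonempty (G ≃* Matrix.ProjectiveSpecialLinearGroup (Fin 2) F)) ∨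
      (∃ (F : Type) (_ : Field F) (_ : Fintype F), Fintype.card F = 3 ∧
        Nonempty (G ≃* Matrix.ProjectiveSpecialLinearGroup (Fin 3) F)) ∨
      (∃ (F : Type) (_ : Field F) (_ : Fintype F), Fintype.card F = 9 ∧ Nonempty (G ≃* Cfsg.PSU 3 F 3)) ∨
      (∃ (F : Type) (_ : Field F) (_ : Fintype F), Fintype.card F = 16 ∧ Nonempty (G ≃* Cfsg.PSU 3 F 4)) ∨
      Nonempty (G ≃* alternatingGroup (Fin 7)) ∨ Cfsg.IsM11 G := by
  obtain ⟨S⟩ : Nonempty (Sylow 2 G) := inferInstance
  have := Fintype.ofFinite (GaloisField 2 4)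
  have hF : Fintype.card (GaloisField 2 4) = 16 := by
    rw [← Nat.card_eq_fintype_card, GaloisField.card _ _ (by norm_num)]; rfl
  have : Fact (Nat.Prime 3) := ⟨Nat.prime_three⟩
  have := Fintype.ofFinite (GaloisField 3 2)
  have hF9 : Fintype.card (GaloisField 3 2) = 9 := by
    rw [← Nat.card_eq_fintype_card, GaloisField.card _ _ (by norm_num)]; rfl
  obtain ⟨P⟩ : Nonempty (Sylow 2 (PSU 3 (GaloisField 2 4) 4)) := inferInstance
  rcases (Cfsg.Agent.S0516.result hG h2 S hF P).imp_right or_assoc.2 with ⟨n, hn, e⟩ | h | h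
  · rcases H22.gw_simple hG S n hn e with ⟨F, _, _, h1, h3, f⟩ | h
    · exact Or.inl ⟨F, _, _, h1, by have := Nat.odd_iff.1 h1; omega, f⟩
    · exact Or.inr (Or.inr (Or.inr (Or.inr (Or.inl h))))
  · rcases q3_ident hG S h hs with h | h | h
    exacts [Or.inr (Or.inl ⟨_, _, _, ZMod.card 3, h⟩),
      Or.inr (Or.inr (Or.inr (Or.inr (Or.inr ⟨inferInstance, h⟩)))),
      Or.inr (Or.inr (Or.inl ⟨_, _, _, hF9, h _ hF9⟩))]
  · exact Or.inr (Or.inr (Or.inr (Or.inl ⟨_, _, _, hF, Cfsg.Agent.S0486.result hF S P h⟩)))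

end H12.NG
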