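import Cfsg.Agent.H12.NGDefs
import Cfsg.Agent.H12.NGC1
import Cfsg.Agent.H12.NGQ3
import Cfsg.Agent.H26.B71C
import Cfsg.Agent.S1296
import Cfsg.Agent.S0205

/-!
# N-groups: reduction to characteristic two type
-/

set_option autoImplicit false

namespace H12.NG

open Subgroup Cfsg H24 H11.ZN

universe u

variable {G : Type u} [Group G] [Finite G]

theorem Sol2.cent (h : Sol2 G) {t : G} (ht : orderOf t = 2) :
    Group.IsSolvable (centralizer ({t} : Set G)) := by
  have h2 : IsPGroup 2 (zpowers t) := IsPGroup.of_card (n := 1) (by rw [Nat.card_zpowers, ht]; rfl)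
  have h1 : zpowers t ≠ ⊥ := by
    rw [Ne, zpowers_eq_bot]; rintro rfl; simp at ht
  have := h _ ⟨zpowers t, h2, h1, rfl⟩
  have hle : centralizer ({t} : Set G) ≤ normalizer (zpowers t : Set G) := by
    refine le_trans ?_ (centralizer_le_normalizer _)
    intro g hg
    rw [mem_centralizer_iff] at hg ⊢
    rintro _ ⟨n, rfl⟩
    exact ((Commute.zpow_left (hg t rfl) n) : _)
  exact Group.isSolvable_of_isSolvable_injective (inclusion_injective hle)

theorem concl_of_rank [IsSimpleGroup G] (hG : ¬ IsMulCommutative G) (hs : Sol2 G) (h2 : PRankLE 2 2 G) :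
    Concl0 G := by
  rcases rank_two hG h2 fun t ht => hs.cent ht with ⟨F, _, _, -, h5, e⟩ | h | h | ⟨F, _, _, hF, e⟩ | h | h
  · exact .inl ⟨F, _, _, by omega, e⟩
  · exact .inr (.inr (.inr (.inl h)))
  · exact .inr (.inr (.inr (.inr (.inl h))))
  · exact .inr (.inr (.inl ⟨F, _, _, 2, le_rfl, hF, e⟩))
  · exact .inr (.inr (.inr (.inr (.inr (.inl h)))))
  · exact .inr (.inr (.inr (.inr (.inr (.inr h)))))

theorem concl_of_se [IsSimpleGroup G] {M : Subgroup G} (h : IsStronglyEmbedded M) : Concl0 G := by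
  rcases (H26.BR.isBender_of_se h).1 with ⟨F, _, _, n, hn, hF, e⟩ | h | h
  · refine .inl ⟨F, inferInstance, inferInstance, ?_, e⟩
    rw [hF]
    exact (Nat.pow_le_pow_right (by norm_num) hn : 2 ^ 2 ≤ 2 ^ n)
  · exact .inr (.inl h)
  · exact .inr (.inr (.inl h))

theorem not_solvable [IsSimpleGroup G] (hG : ¬ IsMulCommutative G) : ¬ Group.IsSolvable G := fun h =>
  hG ⟨⟨IsSimpleGroup.comm_iff_isSolvable.2 h⟩⟩

theorem even_card [IsSimpleGroup G] (hG : ¬ IsMulCommutative G) : Even (Nat.card G) := by
  by_contra e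
  exact not_solvable hG (Cfsg.Agent.S0205.result (Nat.not_even_iff_odd.1 e))

theorem rank_or_L2 [IsSimpleGroup G] (hG : ¬ IsMulCommutative G) (hs : Sol2 G) :
    PRankLE 2 2 G ∨ L2 G := by
  have hO : oddCore G = ⊥ := by
    rcases (inferInstance : (oddCore G).Normal).eq_bot_or_eq_top with e | e
    · exact e
    · exfalso
      have h1 : IsPi {2}ᶜ O[{2}ᶜ, (⊤ : Subgroup G)] := pcore_pi _ _
      rw [pcore_compl_singleton_top two_prime] at h1
      have e' : pPrimeCore 2 G = ⊤ := e
      rw [e'] at h1
      exact h1 2 two_prime (by rw [card_top]; exact (even_card hG).two_dvd) rfl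
  have h2 : ∀ N : Subgroup G, N.Normal → N.index ≠ 2 := fun N hN e => by
    rcases hN.eq_bot_or_eq_top with rfl | rfl
    · rw [index_bot] at e
      haveI : Fact (Nat.Prime 2) := ⟨Nat.prime_two⟩
      haveI := isCyclic_of_prime_card e
      exact hG inferInstance
    · simp at e
  rcases Cfsg.Agent.S1296.result (even_card hG) h2 hO with h | ⟨t, ht, K, -, hK⟩ | h
  · exact .inl h
  · exfalso
    haveI := hs.cent ht
    haveI := hK.1
    haveI := hK.2
    have c : ∀ a b : K ⧸ center K, a * b = b * a := IsSimpleGroup.comm_iff_isSolvable.2 inferInstance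
    have h1 : commutator K ≤ center K := by
      rw [← QuotientGroup.ker_mk' (center K), commutator_def, commutator_le]
      intro a _ b _
      rw [MonoidHom.mem_ker, map_commutatorElement, commutatorElement_eq_one_iff_mul_comm]
      exact c _ _
    rw [Group.IsPerfect.commutator_eq_top, top_le_iff] at h1
    have : Subsingleton (K ⧸ center K) := by rw [h1]; exact QuotientGroup.subsingleton_quotient_top
    exact not_subsingleton (K ⧸ center K) this
  · refine .inr fun Y a b => ⟨hs _ ⟨Y, a.isPGroup two_prime, b, rfl⟩, ?_⟩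
    have := map_mono (f := N[Y].subtype) (h.2 Y (a.isPGroup two_prime) b)
    rwa [← top_inf_eq C[pCore 2 N[Y]], map_inf_C (subtype_injective _), map_subtype_top,
      ← pcore_singleton two_prime] at this

end H12.NG
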