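import Mathlib
import Cfsg.Agent.H12.NGMc
import Cfsg.Agent.H12.NGC1
import Cfsg.Agent.H3.NG1

/-!
# N-groups: the L-lemma
-/

set_option autoImplicit false
set_option linter.unusedSectionVars false
set_option linter.unusedVariables false

namespace H12.NG

open Subgroup Cfsg H24 H11.ZN

universe u

variable {G : Type u} [Group G] [Finite G] {V V₀ V₁ H T X Y M S A W : Subgroup G}
  {a f g v y : G}

/-- hyperplane lemma, without a module -/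
theorem hyperL (hs : Sol H) (ho : Q2 H = ⊥) (hA : EA A) (hAH : A ≤ H) (ha : a ∈ A) (h1 : a ≠ 1) :
    ∃ B ≤ A, B.relIndex A = 2 ∧ a ∉ B ∧ ∃ f ∈ F[H], f ≠ 1 ∧ f ∈ C[B] ∧ a * f * a⁻¹ = f⁻¹ := by
  have a2 := ea_sq hA ha
  have hF := odd_Fitting ho
  have hn : ¬ F[H] ≤ C{a} := fun e => h1 ((piElt_two_of_sq a2).eq_one
    (hF.piElt (cent_sub_Fitting hs ⟨hAH ha, mem_C_iff_le_C1.2 e⟩)))
  have := mt (H26.coprime_abelian_gen_cent (L := C{a}) hA.1 (hAH.trans (Fitting_nml H).norm)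
    (hF.coprime' (ea_pi hA))) hn
  push Not at this
  obtain ⟨B, hB, ⟨c, hc, e⟩, hd⟩ := this
  have aB : a ∉ B := fun e => hd (inf_le_right.trans (C_le_C1 e))
  have i2 : B.relIndex A = 2 := by
    have e1 : A = B ⊔ zpowers c := le_antisymm e (sup_le hB (zpowers_le.2 hc))
    have e2 := (isProd_sup (Abl.norm hA.1 (zpowers_le.2 hc) hB)).relIndex_dvd
    rw [← e1, card_zpowers'] at e2
    have e3 : orderOf c ∣ 2 := orderOf_dvd_of_pow_eq_one (hA.2 c hc)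
    exact ((Nat.dvd_prime Nat.prime_two).1 (e2.trans e3)).resolve_left fun e => aB (relIndex_eq_one.1 e ha)
  obtain ⟨d, ⟨dF, dB⟩, da⟩ := SetLike.not_le_iff_exists.1 hd
  have hc : d * (a * d⁻¹ * a⁻¹) ∈ C[B] :=
    mul_mem dB (conj_mem (norm_C (Abl.norm hA.1 le_rfl hB) ha) (inv_mem dB))
  refine ⟨B, hB, i2, aB, d * (a * d⁻¹ * a⁻¹), mul_mem dF ((Fitting_nml H).conj_mem (hAH ha) (inv_mem dF)),
    fun e' => da (mem_C1.2 ?_), hc, ?_⟩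
  · calc d * a = d * (a * d⁻¹ * a⁻¹) * (a * d) := by group
      _ = a * d := by rw [e', one_mul]
  · calc _ = a * d * (a * a) * (a⁻¹ * d⁻¹) * (a * a)⁻¹ := by group
      _ = a * d * a⁻¹ * d⁻¹ := by rw [a2]; group
      _ = _ := by group

/-- hyperplane lemma modulo `O₂(H)` -/
theorem hyperQ (hs : Sol H) (hV : EA V) (hVH : V ≤ H) (h : ¬ V ≤ Q2 H) :
    ∃ V₁ ≤ V, V₁.relIndex V = 2 ∧ V ⊓ Q2 H ≤ V₁ ∧ ∃ v ∈ V, v ∉ V₁ ∧ ∃ f ∈ F2 H, f ∉ Q2 H ∧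
      Odd (orderOf f) ∧ v * f * v⁻¹ = f⁻¹ ∧ ∀ x ∈ V₁, x * f * x⁻¹ * f⁻¹ ∈ Q2 H := by
  have hN := (Q2_nml H).norm
  obtain ⟨v, hv, vQ⟩ := SetLike.not_le_iff_exists.1 h
  have hE : EA (quo V (Q2 H)) := ea_of_sq fun x hx => by
    obtain ⟨y, hy, hy', rfl⟩ := mem_quo.1 hx
    rw [cs, ← ap_mul _ hy' hy', ea_sq hV hy, ap_one]
  obtain ⟨B, hB, i2, vB, φ, hφ, φ1, φC, e⟩ := hyperL (hs.quo (Q2 H)) (pcore_quo_pcore _ _) hE (quo_mono _ hVH)
    (cs_mem_quo hv (hN (hVH hv))) fun e => vQ ((cs_eq_one (hN (hVH hv))).1 e)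
  have ho := (odd_quo_F2 H).piElt hφ
  rw [← quo_F2] at hφ
  obtain ⟨k, hk, hk', rfl⟩ := mem_quo.1 hφ
  have v2 := ea_sq hV hv
  have vN := hN (hVH hv)
  have hx : v * k * v⁻¹ * k⁻¹ ∈ F2 H := mul_mem ((F2_nml H).conj_mem (hVH hv) hk) (inv_mem hk)
  have hx' := hN (F2_le H hx)
  have ix : v * (v * k * v⁻¹ * k⁻¹) * v⁻¹ = (v * k * v⁻¹ * k⁻¹)⁻¹ := by
    calc _ = (v * v) * (k * v * k⁻¹ * v⁻¹) * (v * k * (v * v)⁻¹ * k⁻¹ * v⁻¹) := by group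
      _ = _ := by rw [v2]; group
  have cx : cs (Q2 H) (v * k * v⁻¹ * k⁻¹) = (cs (Q2 H) k)⁻¹ * (cs (Q2 H) k)⁻¹ := by
    rw [cs, ap_mul _ (conj_mem (norm_self _ vN) hk') (inv_mem hk'), ap_conj _ vN hk', ap_inv _ hk']
    exact congrArg (· * _) e
  have ho2 : PiElt {2}ᶜ ((cs (Q2 H) k)⁻¹ * (cs (Q2 H) k)⁻¹) := ho.inv.mul ho.inv rfl
  have e1 : cs (Q2 H) (constt {2}ᶜ (v * k * v⁻¹ * k⁻¹)) = (cs (Q2 H) k)⁻¹ * (cs (Q2 H) k)⁻¹ := by
    rw [cs, constt_ap _ _ hx']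
    change constt _ (cs _ _) = _
    rw [cx, constt_eq_self ho2]
  have hf := constt_mem {2}ᶜ hx
  have hf' := hN (F2_le H hf)
  refine ⟨V ⊓ coq _ B, inf_le_left, ?_, inf_le_inf_left _ (le_coq _), v, hv, fun e => vB (mem_coq.1 e.2).2,
    _, hf, fun e2 => φ1 ?_, piElt_odd.1 (piElt_constt _ _), ?_, fun x hx => ?_⟩
  · rw [inf_relIndex_left, relIndex_coq _ (hVH.trans hN), i2]
  · have := cs_of_mem e2
    rw [e1] at this
    exact inv_eq_one.1 ((piElt_two_of_sq this).eq_one ho.inv)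
  · rw [← constt_conj, ix]
    have := constt_mul (π := {2}ᶜ) (x := (v * k * v⁻¹ * k⁻¹)⁻¹) (y := v * k * v⁻¹ * k⁻¹) (by group)
    rw [inv_mul_cancel, constt_eq_self (piElt_one _)] at this
    exact eq_inv_of_mul_eq_one_left this.symm
  · obtain ⟨xN, xB⟩ := mem_coq.1 hx.2
    rw [← cs_eq_one (mul_mem (conj_mem (norm_self _ xN) hf') (inv_mem hf')), cs,
      ap_mul _ (conj_mem (norm_self _ xN) hf') (inv_mem hf'), ap_conj _ xN hf', ap_inv _ hf']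
    change cs _ x * cs _ _ * (cs _ x)⁻¹ * (cs _ _)⁻¹ = 1
    rw [e1, mul_inv_eq_one, mul_inv_eq_iff_eq_mul]
    exact mem_C.1 (mul_mem (inv_mem φC) (inv_mem φC)) _ xB

theorem odd_mem_sup_cj (hv : v ∈ V) (ho : Odd (orderOf f)) (hi : v * f * v⁻¹ = f⁻¹) : f ∈ V ⊔ cj f V := by
  refine H3.NG.mem_of_sq ho ?_
  have : f * f = (f * v * f⁻¹) * v⁻¹ := by
    have : f * v * f⁻¹ * v⁻¹ = f * (v * f * v⁻¹)⁻¹ := by group
    rw [this, hi, inv_inv]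
  rw [this]
  exact mul_mem (mem_sup_right (conj_mem_cj f hv)) (mem_sup_left (inv_mem hv))

theorem exists_Lc (hH : Ch2 H) (hT : Syl 2 H T) (hV : EA V) (hn : V ⊴ T) (h : ¬ V ≤ Q2 H) :
    ∃ V₁ v f, Lc H T V V₁ v f := by
  have hVH := hn.le.trans hT.le
  obtain ⟨V₁, hle, i2, hq, v, hv, v1, f, fF, fQ, ho, hi, hc⟩ := hyperQ hH.1 hV hVH h
  have QT : Q2 H ≤ T := pcore_le_Hall hT
  have fH := F2_le H fF
  have hQN := (Q2_nml H).norm
  have v2 := ea_sq hV hv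
  have hE := H3.NG.ea_cj hV f
  have fm := odd_mem_sup_cj hv ho hi
  have hA : cj f V₁ ≤ T := fun a ha => by
    obtain ⟨x, hx, rfl⟩ := mem_cj'.1 ha
    have : f * x * f⁻¹ = (x * f * x⁻¹ * f⁻¹)⁻¹ * x := by group
    rw [this]
    exact mul_mem (QT (inv_mem (hc x hx))) (hn.le (hle hx))
  have hB : V₁ ≤ N[cj f V] := fun x hx => by
    rw [← cj_N, mem_cj]
    have : f⁻¹ * x * f = (f⁻¹ * (x * f * x⁻¹ * f⁻¹) * f) * x := by group
    rw [this]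
    exact hn.norm (mul_mem (QT (conj_mem' (hQN fH) (hc x hx))) (hn.le (hle hx)))
  have hcen : ∀ d, d ∈ C[V] → d ∈ C[cj f V] → f⁻¹ * d * f = d := fun d h1 h2 => by
    have : d ∈ C[V ⊔ cj f V] := by rw [C_sup]; exact ⟨h1, h2⟩
    have := mem_C.1 this f fm
    rw [mul_assoc, ← this]; group
  have hD : V ⊓ cj f V ≤ V₁ ⊓ cj f V₁ := fun d hd => by
    have e := hcen d ((Abl.le_C hV.1) hd.1) ((Abl.le_C hE.1) hd.2)
    have d1 : d ∈ V₁ := by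
      by_contra d1
      have e1 := hc _ ((mul_mem_idx2 i2 hd.1 hv).2 (iff_of_false d1 v1))
      have : d * v * f * (d * v)⁻¹ * f⁻¹ = (f * f)⁻¹ := by
        calc _ = d * (v * f * v⁻¹) * d⁻¹ * f⁻¹ := by group
          _ = d * (f⁻¹ * d * f)⁻¹ * (f * f)⁻¹ := by rw [hi]; group
          _ = _ := by rw [e]; group
      rw [this] at e1
      exact fQ (H3.NG.mem_of_sq ho ((Q2 H).inv_mem_iff.1 e1))
    exact ⟨d1, mem_cj.2 (e.symm ▸ d1)⟩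
  have hcm : ⁅V₁, cj f V₁⁆ ≤ V ⊓ cj f V :=
    le_inf ((comm_mono_left hle).trans (comm_le_left (hA.trans hn.norm)))
      ((comm_mono_right (cj_mono f hle)).trans (comm_le_right hB))
  have hpm : ∀ a ∈ cj f V₁, v * a * v⁻¹ * a⁻¹ ∈ V₁ := fun a ha => by
    refine hq ⟨?_, ?_⟩
    · have : v * a * v⁻¹ * a⁻¹ = v * (a * v⁻¹ * a⁻¹) := by group
      rw [this]
      exact mul_mem hv (conj_mem (hn.norm (hA ha)) (inv_mem hv))
    · obtain ⟨x, hx, rfl⟩ := mem_cj'.1 ha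
      have e := Abl.comm hV.1 hv (hle hx)
      have : v * (f * x * f⁻¹) * v⁻¹ * (f * x * f⁻¹)⁻¹ =
          (v * (x * f * x⁻¹ * f⁻¹)⁻¹ * v⁻¹) * (v * x * (x * v)⁻¹) * (x * f * x⁻¹ * f⁻¹) := by group
      rw [this, e, mul_inv_cancel, mul_one]
      exact mul_mem (conj_mem (hQN (hVH hv)) (inv_mem (hc x hx))) (hc x hx)
  have hpi : ∀ a ∈ cj f V₁, v * a * v⁻¹ * a⁻¹ ∈ cj f V → a ∈ V := fun a ha h1 => by
    have aE := cj_mono f hle ha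
    have d1 := hle (hpm a ha)
    have e := hcen _ ((Abl.le_C hV.1) d1) ((Abl.le_C hE.1) h1)
    have e2 := Abl.comm hE.1 (conj_mem_cj f hv) aE
    have e3 : f⁻¹ * f⁻¹ * a * (f * f) = (v * a * v⁻¹ * a⁻¹) * a := by
      calc _ = (v * f * v⁻¹) * f⁻¹ * a * (f * (v * f * v⁻¹)⁻¹) := by rw [hi, inv_inv]
        _ = v * ((f * (v * v)⁻¹ * f⁻¹) * (f * v * f⁻¹ * a) * (f * v * f⁻¹)⁻¹ * (f * (v * v) * f⁻¹)) * v⁻¹ := by group
        _ = _ := by rw [e2, v2]; group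
    have e4 : f * f * (f * f) ∈ C{a} := by
      rw [mem_C1]
      have e5 : (f * f * (f * f))⁻¹ * a * (f * f * (f * f)) = a := by
        calc _ = f⁻¹ * f⁻¹ * (f⁻¹ * f⁻¹ * a * (f * f)) * (f * f) := by group
          _ = f⁻¹ * f⁻¹ * ((v * a * v⁻¹ * a⁻¹) * a) * (f * f) := by rw [e3]
          _ = f⁻¹ * (f⁻¹ * (v * a * v⁻¹ * a⁻¹) * f) * f * (f⁻¹ * f⁻¹ * a * (f * f)) := by group
          _ = (v * a * v⁻¹ * a⁻¹) * (v * a * v⁻¹ * a⁻¹) * a := by rw [e, e, e3]; group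
          _ = a := by rw [ea_sq hV d1, one_mul]
      calc _ = f * f * (f * f) * ((f * f * (f * f))⁻¹ * a * (f * f * (f * f))) := by rw [e5]
        _ = _ := by group
    have ho2 : Odd (orderOf (f * f)) :=
      piElt_odd.1 ((piElt_odd.2 ho).mul (piElt_odd.2 ho) rfl)
    have e6 := mem_C1.1 (H3.NG.mem_of_sq ho (H3.NG.mem_of_sq ho2 e4))
    have := mem_cj.1 aE
    rwa [mul_assoc, ← e6, inv_mul_cancel_left] at this
  refine ⟨V₁, v, f, hle, i2, hv, v1, hq, fF, ho, hi, fun e => fQ ?_, hc, hA, hB, fm, hD, hcm, ?_, hpm, hpi, ?_⟩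
  · rw [cj_of_mem_N e, sup_idem] at fm
    rw [H3.NG.one_of_odd (ea_pi hV) fm ho]; exact one_mem _
  · refine le_antisymm (fun a ha => ⟨?_, ha.1⟩) (le_inf inf_le_right (inf_le_left.trans (Abl.le_C hV.1)))
    rw [← hcen a ha.2 ((Abl.le_C hE.1) ha.1)]
    exact mem_cj.1 ha.1
  · set D := V ⊓ cj f V with hDdef
    have n1 : V ≤ N[D] := Abl.norm hV.1 le_rfl inf_le_left
    have n2 : cj f V₁ ≤ N[D] := Abl.norm hE.1 (cj_mono f hle) inf_le_right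
    have pN : ∀ a ∈ cj f V₁, v * a * v⁻¹ * a⁻¹ ∈ N[D] := fun a ha => n1 (hle (hpm a ha))
    let ψ : cj f V₁ →* QN D := MonoidHom.mk' (fun a => cs D (v * a * v⁻¹ * (a : G)⁻¹)) fun a b => by
      have pb := hpm b b.2
      rw [cs, ← ap_mul _ (pN a a.2) (pN b b.2)]
      refine (cs_eq_cs (pN _ (a * b).2) (mul_mem (pN a a.2) (pN b b.2))).2 ?_
      have : (v * ↑(a * b) * v⁻¹ * (↑(a * b) : G)⁻¹)⁻¹ * (v * a * v⁻¹ * (a : G)⁻¹ * (v * b * v⁻¹ * (b : G)⁻¹)) =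
          a * ((v * b * v⁻¹ * (b : G)⁻¹)⁻¹ * (a : G)⁻¹ * (v * b * v⁻¹ * (b : G)⁻¹)⁻¹⁻¹ * (a : G)⁻¹⁻¹) * (a : G)⁻¹ := by
        push_cast; group
      rw [this]
      exact conj_mem (n2 a.2) (hcm (H3.NG.cm_mem (inv_mem pb) (inv_mem a.2)))
    have hψ : ∀ a : cj f V₁, ψ a = cs D (v * a * v⁻¹ * (a : G)⁻¹) := fun a => rfl
    have hk : ψ.ker = D.subgroupOf (cj f V₁) := by
      ext a
      rw [MonoidHom.mem_ker, hψ, cs_eq_one (pN a a.2), mem_subgroupOf]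
      refine ⟨fun e => ⟨hpi a a.2 e.2, cj_mono f hle a.2⟩, fun e => ?_⟩
      rw [Abl.comm hV.1 hv e.1]; simp
    have hr : ψ.range ≤ quo V₁ D := by
      rintro _ ⟨a, rfl⟩
      exact cs_mem_quo (hpm a a.2) (pN a a.2)
    have hc1 : ♯(quo V₁ D) = ♯ψ.range := by
      rw [card_quo (hle.trans n1), ← index_ker, hk]
      have e1 := card_mul_relIndex (hD.trans inf_le_left)
      have e2 := card_mul_relIndex (hD.trans inf_le_right)
      rw [card_cj, ← e1] at e2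
      exact (Nat.eq_of_mul_eq_mul_left (card_pos _) e2).symm
    intro x hx
    have := (eq_of_card_ge hr hc1.le).ge (cs_mem_quo (inv_mem hx) (n1 (hle (inv_mem hx))))
    obtain ⟨a, e⟩ := this
    rw [hψ] at e
    have := (cs_eq_cs (n1 (hle (inv_mem hx))) (pN a a.2)).1 e.symm
    rw [inv_inv] at this
    exact ⟨a, a.2, this.2⟩

theorem Lc.tv (h : Lc H T V V₁ v f) (hV : EA V) (hn : V ⊴ T) (h2 : (V ⊓ cj f V).relIndex V₁ = 2)
    (ha : a ∈ cj f V₁) (ha' : a ∉ V) : V ⊓ C{a} = V₁ := by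
  have hE := H3.NG.ea_cj hV f
  have aE := cj_mono f h.le ha
  have a2 := ea_sq hE aE
  have pm := h.phi_mem a ha
  have pD : v * a * v⁻¹ * a⁻¹ ∉ V ⊓ cj f V := fun e => ha' (h.phi_inj a ha e.2)
  refine le_antisymm (fun y hy => ?_) fun x hx => ⟨h.le hx, ?_⟩
  · by_contra y1
    have hx := (mul_mem_idx2 h.idx hy.1 h.vV).2 (iff_of_false y1 h.v1)
    have e1 := h.comm (H3.NG.cm_mem hx ha)
    have e2 := mem_C1.1 hy.2
    have e3 := Abl.comm hV.1 hy.1 h.vV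
    refine pD ?_
    have : y * v * a * (y * v)⁻¹ * a⁻¹ = v * a * v⁻¹ * a⁻¹ := by
      rw [e3]
      calc _ = v * (y * a) * y⁻¹ * v⁻¹ * a⁻¹ := by group
        _ = _ := by rw [e2]; group
    exact this ▸ e1
  · have hp : v * a * v⁻¹ * a⁻¹ ∈ C{a} := by
      rw [mem_C1_comm, mem_C1_iff_conj]
      calc _ = (v * a * v⁻¹ * a⁻¹)⁻¹ * (v * (a * a) * v⁻¹) * (a * a)⁻¹ := by group
        _ = (v * a * v⁻¹ * a⁻¹)⁻¹ := by rw [a2]; group
        _ = _ := H3.NG.ea_inv hV (h.le pm)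
    have hD : V ⊓ cj f V ≤ C{a} := inf_le_right.trans ((Abl.le_C hE.1).trans (C_le_C1 aE))
    by_cases e : x ∈ V ⊓ cj f V
    · exact hD e
    · have := hD ((mul_mem_idx2 h2 hx pm).2 (iff_of_false e pD))
      exact (mul_mem_cancel_right hp).1 this

end H12.NG
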