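import Cfsg.Agent.H12.NGO2
import Cfsg.Agent.H18.NO4

/-!
# N-groups, case II with at least two components: `V ≤ O₂(H)` for every `2`-local `H ≥ S`
-/

set_option autoImplicit false
set_option linter.unusedSectionVars false

namespace H18.NO.X3

open Subgroup Cfsg H24 H11.ZN H12.NG

universe u

variable {G : Type u} [Group G] [Finite G] {V V₁ H M S W : Subgroup G} {𝓦 : Set (Subgroup G)}
  {a d f v x z : G}

variable (h : X3 S M V 𝓦 H V₁ v f z)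
include h

theorem RA (ha : a ∈ cj f V₁) : a ∈ Stab (S ⊓ C[V]) V := by
  refine ⟨h.om.S_le_NR (h.lc.A_le ha), fun r hr => h.lc.le (h.YC ?_ (C_anti h.lc.le ?_))⟩
  · have := mul_mem (mem_sup_right ha) (conj_mem (h.normY (mem_inf.1 hr).1) (inv_mem (mem_sup_right ha)))
    convert this using 1
    group
  · exact mul_mem (conj_mem (N_le_NC V (h.AN ha)) (mem_inf.1 hr).2) (inv_mem (mem_inf.1 hr).2)

theorem exists_x : ∃ x ∈ cj f V₁, ∀ W ∈ 𝓦, x ∉ N[W] := by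
  obtain ⟨W, hW, -⟩ := h.om.two
  obtain ⟨x, hx, x1⟩ : ∃ x ∈ cj f V₁, x ∉ N[W] := SetLike.not_le_iff_exists.1 fun e => by
    obtain ⟨w, hw, w1⟩ := exists_ne_one (((ea_pi h.ea').of_le h.AV).inf_C_ne_bot two_prime
      (ea_pi (h.om.cs.eaW hW)) e (h.om.cs.ne_bot hW))
    exact w1 (eq_one_of_inf (h.DW hW) (h.CVA (h.om.W_le hW (mem_inf.1 hw).1) (mem_inf.1 hw).2) (mem_inf.1 hw).1)
  exact ⟨x, hx, fun W' hW' e => x1 (h.om.norm_pair h.two hW' hW (h.AM hx) e)⟩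

theorem exists_y : ∃ a ∈ cj f V₁, a ∉ zpowers z ∧ ∀ W ∈ 𝓦, a ∈ N[W] := by
  obtain ⟨W, hW, -⟩ := h.om.two
  suffices ∃ a ∈ cj f V₁, a ∉ zpowers z ∧ a ∈ N[W] by
    obtain ⟨a, ha, a1, a2⟩ := this
    exact ⟨a, ha, a1, fun W' hW' => h.om.norm_pair h.two hW hW' (h.AM ha) a2⟩
  obtain ⟨a, ha, a1⟩ := h.exists_A
  obtain ⟨b, hb, b1⟩ : ∃ b ∈ cj f V₁, b ∉ zpowers z ⊔ zpowers a := SetLike.not_le_iff_exists.1 fun e => by
    have c1 := card_le e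
    have c2 := Nat.le_of_dvd (Nat.mul_pos (card_pos _) (card_pos _))
      (isProd_sup (h.abl'.norm (zpowers_le.2 (h.AV ha)) (h.DA.trans h.AV))).card_dvd
    rw [h.cardD, H3.NG.card_zp2 (h.a2 ha) fun e => a1 (e ▸ one_mem _)] at c2
    rw [h.cardA] at c1
    omega
  by_cases e1 : a ∈ N[W]
  · exact ⟨a, ha, a1, e1⟩
  by_cases e2 : b ∈ N[W]
  · exact ⟨b, hb, fun e => b1 (mem_sup_left e), e2⟩
  exact ⟨a * b, mul_mem ha hb, fun e => b1 (by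
    simpa using mul_mem (inv_mem (mem_sup_right (mem_zpowers a))) (mem_sup_left e)),
    h.om.mul_norm_pair h.two hW (h.AM ha) (h.AM hb) e1 e2⟩

theorem exists_d (hx : x ∈ cj f V₁) (x1 : ∀ W ∈ 𝓦, x ∉ N[W]) :
    ∃ d ∈ M, (∀ W ∈ 𝓦, d ∈ N[W] ∧ W ⊓ C{d} = ⊥) ∧ d * x * d⁻¹ * x⁻¹ ∈ C[V] := by
  obtain ⟨W, hW, -⟩ := h.om.two
  obtain ⟨d, d1, d2, d3⟩ := h.om.three W hW
  have xM := h.AM hx
  have hW' := h.om.perm x xM W hW
  have ne : cj x W ≠ W := fun e => x1 W hW (mem_N_iff_cj.2 e)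
  have xx : cj x (cj x W) = W := by rw [← cj_mul, h.a2 hx, cj_one]
  have n1 := h.om.cs.norm_of_C d1 hW d2
  rw [h.om.Cw_pair h.two hW hW' ne] at d2
  have c1 : x * d * x⁻¹ ∈ C[W] := xx ▸ mem_C_cj d2 x
  have n2 := mem_N_cj n1 x
  refine ⟨d * (x * d * x⁻¹), mul_mem d1 (mul_mem (mul_mem xM d1) (inv_mem xM)), fun X hX => ?_,
    h.om.C_V fun X hX => ?_⟩
  · rcases h.om.pair h.two hW hW' ne hX with rfl | rfl
    · exact ⟨mul_mem n1 (C_le_N _ c1), by rw [← inf_C1_congr (a := d) (by simpa using c1), d3]⟩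
    · refine ⟨mul_mem (C_le_N _ d2) n2, ?_⟩
      rw [← inf_C1_congr (a := x * d * x⁻¹) ?_, inf_C1_cj d3]
      have := conj_mem' (N_le_NC _ n2) d2
      convert this using 1
      group
  · have e : d * (x * d * x⁻¹) * x * (d * (x * d * x⁻¹))⁻¹ * x⁻¹ =
        d * (x * d * x⁻¹) * d⁻¹ * (x * d * x⁻¹)⁻¹ := by
      calc _ = d * x * d * x * d⁻¹ * (x * x)⁻¹ * x * d⁻¹ * x⁻¹ := by group
        _ = d * x * d * (x * x)⁻¹ * x * d⁻¹ * x * d⁻¹ * x⁻¹ := by rw [h.a2 hx]; group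
        _ = _ := by group
    rw [e]
    rcases h.om.pair h.two hW hW' ne hX with rfl | rfl
    · exact mul_mem (conj_mem (N_le_NC _ n1) c1) (inv_mem c1)
    · exact H3.NG.cm_symm (mul_mem (conj_mem (N_le_NC _ n2) d2) (inv_mem d2))

theorem R_le : S ⊓ C[V] ≤ V := by
  obtain ⟨x, hx, x1⟩ := h.exists_x
  obtain ⟨d₀, d0, d1, -⟩ := h.exists_d hx x1
  obtain ⟨c, hc, d, hd, rfl⟩ := (mem_sup_of_norm (h.om.NR_le.trans h.om.C_nml.2)).1 (h.om.le_sup d0)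
  obtain ⟨a, ha, a1, a2⟩ := h.exists_y
  have dV := h.om.M_le (h.om.NR_le hd)
  obtain ⟨y, hy⟩ : ∃ y, y = d * a * d⁻¹ * a⁻¹ := ⟨_, rfl⟩
  have y1 : y ∈ Stab (S ⊓ C[V]) V := hy ▸ mul_mem (Stab_conj (h.RA ha) hd dV) (inv_mem (h.RA ha))
  have y2 : V ⊓ C{y} = ⊥ := fpf_pair h.om h.two fun W hW => by
    have cW := C_anti (h.om.W_le hW) hc
    have n1 : d ∈ N[W] := by simpa using mul_mem (inv_mem (C_le_N _ cW)) (d1 W hW).1
    refine ⟨hy ▸ mul_mem (mul_mem (mul_mem n1 (a2 W hW)) (inv_mem n1)) (inv_mem (a2 W hW)), hy ▸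
      two_tr (h.om.cs.eaW hW) (h.om.card W hW) (a2 W hW) (h.a2 ha) (fun e => h.noW hW
        ((le_inf (h.om.W_le hW) (mem_C_iff_le_C1.1 e)).trans (h.CVa ha a1).2.1)) n1 ?_⟩
    rw [inf_C1_congr (b := c * d) (by simpa [mul_assoc] using conj_mem' (N_le_NC _ n1) cW), (d1 W hW).2]
  have yV : y ∈ N[V] := hy ▸ mul_mem (mul_mem (mul_mem dV (h.AN ha)) (inv_mem dV)) (inv_mem (h.AN ha))
  have y3 : ⁅V, zpowers y⁆ = V := eq_of_card_eq (comm1_le yV) (by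
    have := card_comm1 h.abl yV
    rwa [y2, card_bot, one_mul] at this)
  have y4 : S ⊓ C[V] ≤ V ⊔ (S ⊓ C[V] ⊓ C{y}) := fun r hr => by
    obtain ⟨w, hw, e⟩ := (mem_comm1 h.abl yV).1 (y3.ge (y1.2 r hr))
    have : w⁻¹ * r ∈ S ⊓ C[V] ⊓ C{y} := mem_inf.2 ⟨mul_mem (inv_mem (h.om.V_le_R hw)) hr,
      mem_C1_comm.1 (mem_C1_iff_conj.2 (by
        calc y * (w⁻¹ * r) * y⁻¹ = w⁻¹ * (y * w * y⁻¹ * w⁻¹)⁻¹ * (y * r * y⁻¹ * r⁻¹) * r := by group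
          _ = _ := by rw [e]; group))⟩
    simpa using mul_mem (mem_sup_left hw) (mem_sup_right this)
  have y5 : S ⊓ C[V] ⊓ C{y} = ⊥ := by_contra fun e => by
    obtain ⟨w, hw, w1⟩ := exists_ne_one (OZ_ne_bot ((h.om.syl.pi.inf_left _).inf_left _) e)
    obtain ⟨w2, w3, w4⟩ := mem_OZ.1 hw
    refine w1 (eq_one_of_inf y2 (h.om.oz.ge (mem_OZ.2 ⟨(mem_inf.1 w2).1, C_anti y4 ?_, w4⟩)) (mem_inf.1 w2).2)
    rw [C_sup]
    exact mem_inf.2 ⟨(mem_inf.1 (mem_inf.1 w2).1).2, w3⟩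
  simpa [y5] using y4

theorem C_le : C[V] ≤ V := by
  have e : S ⊓ C[V] = V := le_antisymm h.R_le h.om.V_le_R
  have e1 := h.om.Q2_NR
  have e2 := h.om.ch2.2
  rw [e, ← h.om.nv] at e1
  rw [e1] at e2
  exact (le_inf h.om.C_le le_rfl).trans e2

theorem false : False := by
  obtain ⟨x, hx, x1⟩ := h.exists_x
  obtain ⟨d, d0, d1, d2⟩ := h.exists_d hx x1
  obtain ⟨W, hW, -⟩ := h.om.two
  have x2 : x ∉ zpowers z := fun e => x1 W hW (h.abl.norm le_rfl (h.om.W_le hW) (h.lc.le (h.DV1 e)))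
  obtain ⟨c1, c2, c3⟩ := h.CVa hx x2
  have xx := h.a2 hx
  have dV := h.om.M_le d0
  have e1 : V ⊓ C{d * x * d⁻¹} = V ⊓ C{x} := by
    rw [← C1_inv', inf_C1_congr (b := x⁻¹) (by rwa [inv_inv]), C1_inv']
  have n1 : d ∈ N[V ⊓ C{x}] := by rw [mem_N_iff_cj, cj_inf, cj_C1, cj_of_mem_N dV, e1]
  have n2 : d ∈ N[Ea V x] := mem_N_of_cj_le (by
    rw [Ea, cj_sup, cj_of_mem_N n1, cj_zpowers]
    refine sup_le le_sup_left (zpowers_le.2 ?_)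
    have c : d * x * d⁻¹ * x⁻¹ ∈ V ⊓ C{x} := mem_inf.2 ⟨h.C_le d2, mem_C1_comm.1 (mem_C1_iff_conj.2 (by
      calc _ = x * d * x * d⁻¹ * (x * x)⁻¹ := by group
        _ = x * d * (x * (x * x)⁻¹) * d⁻¹ := by rw [xx]; group
        _ = (d * x * d⁻¹ * x⁻¹)⁻¹ := by group
        _ = _ := H3.NG.ea_inv h.ea (h.C_le d2)))⟩
    have := mul_mem (le_Ea c) self_Ea
    rwa [inv_mul_cancel_right] at this)
  have eE := ea_Ea h.ea xx
  have E1 : Ea V x ≠ ⊥ := ne_bot_of_mem (le_Ea (h.zCa hx)) h.z1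
  have ho := e8_odd eE (h.cardE hx x2) le_rfl (h.om.l2 _ (ea_pi eE) E1).1 fun X hX hN => by
    refine or_iff_not_imp_left.2 fun X1 => ?_
    have k1 : X ⊓ C[V] ≤ X ⊓ (V ⊓ C{x}) := le_inf inf_le_left (by
      rw [← Ea_inf xx (h.aV hx x2)]; exact inf_le_inf hX h.C_le)
    have k2 := four_irr c1 (eq_bot_of_le (fpf_pair h.om h.two d1) (inf_le_inf_right _ inf_le_left))
      inf_le_right (ne_bot_of_le ((ea_pi h.ea).inf_C_ne_bot two_prime ((ea_pi eE).of_le hX)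
        ((h.VNE hx).trans hN) X1) k1) (mem_N_inf (hN n2) n1)
    have k3 : V ⊓ C{x} ≤ X := k2.ge.trans inf_le_left
    have k4 := card_lt (lt_of_le_of_ne k3 fun e => h.aV (conj_mem_cj f (c2 c3))
      (fun e => h.phi_ne hx x2 (h.fD.1 e)) (mem_inf.1 (e.ge (conj_mem (hN (h.fNE hx x2)) (k3 c3)))).1)
    have k5 := card_dvd hX
    refine eq_of_card_eq hX ?_
    rw [h.cardE hx x2] at k5 ⊢
    have k6 := Nat.le_of_dvd (by norm_num) k5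
    obtain ⟨n, hn⟩ : ∃ n, n = ♯X := ⟨_, rfl⟩
    rw [c1] at k4
    rw [← hn] at k4 k5 k6 ⊢
    interval_cases n <;> omega
  have := two_mem (nml_N _).infC ho (h.VNE hx h.lc.vV) (H3.NG.ea_sq h.ea h.lc.vV)
  exact h.lc.v1 (c2 (mem_inf.2 ⟨h.lc.vV, C_le_C1 self_Ea (mem_inf.1 this).2⟩))

end H18.NO.X3

namespace H12.NG
open Subgroup Cfsg H24 H11.ZN
universe u
variable {G : Type u} [Group G] [Finite G] {V V₀ V₁ H T X Y M S A W : Subgroup G} {𝓦 : Set (Subgroup G)}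
  {a f g v y : G}

namespace Om
variable (h : Om S M V 𝓦)
include h

theorem le_Q2 (hH : Ch2 H) (hS : S ≤ H) : V ≤ Q2 H := by
  by_contra hn
  obtain ⟨V₁, v, f, z, h'⟩ := H18.NO.exists_X3 h hH hS hn
  exact h'.false

end Om

end H12.NG
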