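import Cfsg.Agent.H28.NT2

/-!
# N-groups: the tensor lemma
-/

set_option autoImplicit false
set_option linter.unusedSectionVars false
set_option linter.unusedVariables false

namespace H28.NT

open Subgroup Cfsg H24 H11.ZN H12.NG
open scoped commutatorElement

universe u

variable {G : Type u} [Group G] [Finite G] {V X T K W A B : Subgroup G} {g h q q' s t v x x' r : G}

/-- `U_x` -/
def UX (V X : Subgroup G) (x : G) : Subgroup G := UU V X ⊓ centQ (QP V X) (zpowers x)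

section
variable (c : TLc V X T)
include c

theorem n_zp (hx : x ∈ ⁅V, T⁆) : C[X] ≤ N[zpowers x] := norm_zpowers_of_cent (C_le_C1 (X0_le c hx))

theorem mem_UX (hx : x ∈ ⁅V, T⁆) :
    v ∈ UX V X x ↔ v ∈ UU V X ∧ ∀ q ∈ QP V X, q * v * q⁻¹ * v⁻¹ ∈ zpowers x := by
  rw [UX, mem_inf, mem_centQ ((Q_nml c).le.trans (n_zp c hx))]
  exact ⟨fun e => ⟨e.1, fun q hq => H3.NG.cm_symm (e.2.2 q hq)⟩,
    fun e => ⟨e.1, n_zp c hx ((U_nml c).le e.1), fun q hq => H3.NG.cm_symm (e.2 q hq)⟩⟩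

theorem n_UX (hx : x ∈ ⁅V, T⁆) : C[X] ≤ N[UX V X x] :=
  norm_inf (U_nml c).norm (norm_centQ (Q_nml c).norm (n_zp c hx))

theorem U0_le (hx : x ∈ ⁅V, T⁆) : UU V X ⊓ C[QP V X] ≤ UX V X x := fun v hv =>
  (mem_UX c hx).2 ⟨hv.1, fun q hq => by rw [mem_C.1 hv.2 q hq]; simp⟩

theorem faith (hx : x ∈ ⁅V, T⁆) (x1 : x ≠ 1) (hr : r ∈ QP V X) (h1 : r ∈ C[UX V X x]) : r ∈ C[UU V X] := by
  by_contra e
  obtain ⟨h, hh, r2⟩ := ex_h c e
  obtain ⟨v, hv, e1⟩ := Q_onto c hh hr r2 hx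
  have : v ∈ UX V X x := (mem_UX c hx).2 ⟨H3.NG.le_ncl hh hv, fun q hq => by
    by_cases q1 : q ∈ C[cj h V]
    · rw [conj_eq_of_mem_C q1 hv]; simp
    · rw [Q_eq c hh hq hr q1 r2 hv, e1]; exact mem_zpowers x⟩
  rw [conj_eq_of_mem_C h1 this, mul_inv_cancel] at e1
  exact x1 e1.symm

theorem X0_le_U0 : ⁅V, T⁆ ≤ UU V X ⊓ C[QP V X] :=
  le_inf ((X0_le c).trans (c.le.trans (V_le_U c))) ((X0_le c).trans (cents_symm (Q_nml c).le))

theorem ker_Q (hx : x ∈ ⁅V, T⁆) (x1 : x ≠ 1) (hg : g ∈ C[X])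
    (h1 : ∀ v ∈ UX V X x, g⁻¹ * v * g * v⁻¹ ∈ UU V X ⊓ C[QP V X]) (hq : q ∈ QP V X) :
    q⁻¹ * (g * q * g⁻¹) ∈ C[UU V X] := by
  refine faith c hx x1 (mul_mem (inv_mem hq) ((Q_nml c).conj_mem hg hq)) (mem_C'.2 fun v hv => ?_)
  have hU := (U_nml c).le
  have e1 := h1 v hv
  have e2 := X0_le c (Q_cm c hq hv.1)
  have e3 := mem_C.1 e1.2 q hq
  have e4 := conj_eq_of_mem_C (hU e1.1) e2
  have e5 := conj_eq_of_mem_C hg e2
  have e6 := conj_eq_of_mem_C (mul_mem (hU hv.1) (inv_mem hg)) e2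
  have : g * q * g⁻¹ * v * (g * q * g⁻¹)⁻¹ * v⁻¹ = q * v * q⁻¹ * v⁻¹ := by
    calc _ = g * ((q * (g⁻¹ * v * g * v⁻¹)) * q⁻¹ * (q * v * q⁻¹ * v⁻¹) * (g⁻¹ * v * g * v⁻¹)⁻¹) * g⁻¹ := by group
      _ = g * ((g⁻¹ * v * g * v⁻¹) * (q * v * q⁻¹ * v⁻¹) * (g⁻¹ * v * g * v⁻¹)⁻¹) * g⁻¹ := by rw [e3]; group
      _ = _ := by rw [e4, e5]
  calc _ = q⁻¹ * (g * q * g⁻¹ * v * (g * q * g⁻¹)⁻¹ * v⁻¹) * v * (g * q * g⁻¹) := by group
    _ = _ := by rw [this]; group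

theorem ker_F (hx : x ∈ ⁅V, T⁆) (x1 : x ≠ 1) (hg : g ∈ FP V X)
    (h1 : ∀ v ∈ UX V X x, g * v * g⁻¹ * v⁻¹ ∈ UU V X ⊓ C[QP V X]) : g ∈ QP V X := by
  have gH := (F_nml c).le hg
  have hU := (U_nml c).le
  have k1 : ∀ v ∈ UU V X, g * v * g⁻¹ * v⁻¹ ∈ UU V X ⊓ C[QP V X] := fun v hv => by
    have hw := mul_mem ((U_nml c).conj_mem gH hv) (inv_mem hv)
    refine ⟨hw, mem_C.2 fun q hq => ?_⟩
    have e1 := conj_eq_of_mem_C (ker_Q c hx x1 (inv_mem gH) (by simpa using h1) hq) hv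
    have e2 := X0_le c (Q_cm c hq hv)
    have e3 := conj_eq_of_mem_C gH e2
    have e4 := conj_eq_of_mem_C (hU hw) e2
    calc _ = g * (q * (q⁻¹ * (g⁻¹ * q * g⁻¹⁻¹) * v * (q⁻¹ * (g⁻¹ * q * g⁻¹⁻¹))⁻¹) * q⁻¹) * g⁻¹ * q * v⁻¹ := by group
      _ = (g * (q * v * q⁻¹ * v⁻¹) * g⁻¹) * (g * v * g⁻¹ * v⁻¹) * (q * v * q⁻¹ * v⁻¹)⁻¹ *
          ((q * v * q⁻¹ * v⁻¹) * v * q * v⁻¹) := by rw [e1]; group
      _ = (g * v * g⁻¹ * v⁻¹ * (q * v * q⁻¹ * v⁻¹) * (g * v * g⁻¹ * v⁻¹)⁻¹) * (g * v * g⁻¹ * v⁻¹) *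
          (q * v * q⁻¹ * v⁻¹)⁻¹ * ((q * v * q⁻¹ * v⁻¹) * v * q * v⁻¹) := by rw [e3, e4]
      _ = _ := by group
  have k2 : g * g ∈ C[UU V X] := mem_C'.2 fun v hv => by
    have e1 := conj_eq_of_mem_C (F_cent c hg) (k1 v hv)
    have e2 := ea_sq (U_ea c) (k1 v hv).1
    calc _ = (g * (g * v * g⁻¹ * v⁻¹) * g⁻¹) * (g * v * g⁻¹ * v⁻¹) * v * (g * g) := by group
      _ = _ := by rw [e1, e2, one_mul]
  obtain ⟨gN, gF⟩ := mem_coq.1 hg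
  refine (cs_eq_one gN).1 ((piElt_two_of_sq ?_).eq_one ((odd_F c).piElt gF))
  rw [cs, ← ap_mul _ gN gN]
  exact cs_of_mem (C_le_Q c k2)

theorem ker_iff (hx : x ∈ ⁅V, T⁆) (x1 : x ≠ 1) (hg : g ∈ C[X]) :
    (∀ v ∈ UX V X x, g * v * g⁻¹ * v⁻¹ ∈ UU V X ⊓ C[QP V X]) ↔ g ∈ QP V X := by
  refine ⟨fun h1 => ?_, fun hq v hv => X0_le_U0 c (Q_cm c hq hv.1)⟩
  have n1 : UX V X x ≤ N[UU V X ⊓ C[QP V X]] := (inf_le_left.trans (U_nml c).le).trans (n_U0 c)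
  have hK : C[X] ⊓ centQ (UX V X x) (UU V X ⊓ C[QP V X]) ⊴ C[X] :=
    nml_inf_of_norm (norm_centQ (n_UX c hx) (n_U0 c))
  refine (quo_eq_bot (hK.le.trans (Q_nml c).norm)).1 ?_ ⟨hg, (mem_centQ n1).2 ⟨n_U0 c hg, h1⟩⟩
  by_contra e
  refine Fitting_inf_ne_bot (hK.quo _) (((sol c).of_le hK.le).quo _) e ?_
  rw [inf_comm, ← quo_inf_coq]
  exact quo_eq_bot_of_le fun y hy => ker_F c hx x1 hy.2 ((mem_centQ n1).1 hy.1.2).2

/-- (ii) -/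
theorem ineq2 (hA : EA A) (hAH : A ≤ C[X]) : (QP V X).relIndex A ^ 2 ≤ (C[A]).relIndex (UU V X) := by
  have hE := ea_le c.ea ((X0_le c).trans c.le)
  obtain ⟨x, hx, x1, -⟩ := H3.NG.four_ex (z := 1) (card_X0 c) (mul_one _)
  obtain ⟨y, hy, y1, yx⟩ := H3.NG.four_ex (card_X0 c) (ea_sq hE hx)
  have n1 := hAH.trans (n_U0 c)
  set Cm := UU V X ⊓ centQ A (UU V X ⊓ C[QP V X]) with hCm
  have hab := (U_ea c).1
  have key : ∀ x ∈ ⁅V, T⁆, x ≠ 1 → (QP V X).relIndex A ≤ Cm.relIndex (UX V X x) := fun x hx x1 =>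
    m1_sec (K := UU V X ⊓ C[QP V X]) ⟨U0_le c hx, (inf_le_left.trans (U_nml c).le).trans (n_U0 c)⟩ (n_UX c hx)
      (n_U0 c) (fun v hv => by rw [ea_sq (U_ea c) hv.1]; exact one_mem _) (sol c)
      (fun g hg => ker_iff c hx x1 hg) (fun K hK => le_Q c hK) hAH
      (fun a ha => by rw [ea_sq hA ha]; exact one_mem _)
      fun v hv e a ha => H3.NG.cm_symm (((mem_centQ n1).1 e.2).2 a ha)
  have e1 := key x hx x1
  have e2 := key y hy y1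
  have e3 := relIndex_mul_relIndex Cm (Cm ⊔ UX V X x) (UU V X) le_sup_left (sup_le inf_le_left inf_le_left)
  rw [relIndex_sup_of_norm (A := Cm) (B := UX V X x) (Abl.norm hab inf_le_left inf_le_left)] at e3
  have e4 : Cm.relIndex (UX V X y) ≤ (Cm ⊔ UX V X x).relIndex (UU V X) := by
    refine le_trans ?_ (relIndex_le_of_le_right (K := UX V X y) inf_le_left (relIndex_ne_zero' _ _))
    rw [← inf_relIndex_right (Cm ⊔ _)]
    refine relIndex_le_of_le_left (fun v hv => ⟨hv.2.1, (mem_centQ n1).2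
      ⟨n_U0 c ((U_nml c).le hv.2.1), fun a ha => H3.NG.cm_symm ?_⟩⟩) (relIndex_ne_zero' _ _)
    obtain ⟨k, hk, w, hw, e⟩ := (mem_sup_of_norm (Abl.norm hab inf_le_left inf_le_left)).1 hv.1
    have m1 : a * v * a⁻¹ * v⁻¹ ∈ UX V X y := mul_mem (conj_mem (n_UX c hy (hAH ha)) hv.2) (inv_mem hv.2)
    have m2 : a * v * a⁻¹ * v⁻¹ ∈ UX V X x := by
      have m3 := U0_le c hx (H3.NG.cm_symm (((mem_centQ n1).1 hk.2).2 a ha))
      have m4 : a * w * a⁻¹ * w⁻¹ ∈ UX V X x := mul_mem (conj_mem (n_UX c hx (hAH ha)) hw) (inv_mem hw)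
      have : a * v * a⁻¹ * v⁻¹ = (a * k * a⁻¹ * k⁻¹) * (k * (a * w * a⁻¹ * w⁻¹) * k⁻¹) := by rw [e]; group
      rw [this]
      exact mul_mem m3 (conj_mem (n_UX c hx ((U_nml c).le hk.1)) m4)
    refine ⟨m1.1, mem_C.2 fun q hq => ?_⟩
    have m5 := (H3.NG.mem_zp2 (ea_sq hE hx)).1 (((mem_UX c hx).1 m2).2 q hq)
    have m6 := (H3.NG.mem_zp2 (ea_sq hE hy)).1 (((mem_UX c hy).1 m1).2 q hq)
    have : q * (a * v * a⁻¹ * v⁻¹) * q⁻¹ * (a * v * a⁻¹ * v⁻¹)⁻¹ = 1 := by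
      rcases m5 with m5 | m5
      · exact m5
      · rcases m6 with m6 | m6
        · exact m6
        · exact absurd (m6.symm.trans m5) yx
    rwa [mul_inv_eq_one, mul_inv_eq_iff_eq_mul] at this
  have e5 : Cm.relIndex (UU V X) ≤ (C[A]).relIndex (UU V X) := by
    rw [← inf_relIndex_right C[A]]
    refine relIndex_le_of_le_left (fun v hv => ⟨hv.2, (mem_centQ n1).2
      ⟨n_U0 c ((U_nml c).le hv.2), fun a ha => ?_⟩⟩) (relIndex_ne_zero' _ _)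
    rw [commutatorElement_def, mem_C'.1 hv.1 a ha]; simp
  nlinarith

theorem half (h2 : cj g (UU V X) ≤ C[X]) (h3 : ⁅V, T⁆ ⊓ cj g ⁅V, T⁆ = ⊥) :
    (QP V X).relIndex (cj g (UU V X)) ^ 2 ≤ (C[cj g (UU V X)]).relIndex (cj g (QP V X) ⊓ UU V X) *
      (cj g (QP V X)).relIndex (UU V X) ∧
    (C[UU V X]).relIndex (QP V X ⊓ cj g (UU V X)) ^ 2 ≤ (cj g (QP V X)).relIndex (UU V X) := by
  constructor
  · rw [relIndex_inf_mul_relIndex, inf_eq_left.2 (by rw [← cj_C]; exact cj_mono g (C_le_Q c))]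
    exact ineq2 c (H3.NG.ea_cj (U_ea c) g) h2
  · refine (ineq1 c inf_le_left).trans ?_
    rw [← inf_relIndex_right (cj g _)]
    refine relIndex_le_of_le_left (fun v hv => mem_C.2 fun q hq => ?_) (relIndex_ne_zero' _ _)
    have m1 := Q_cm c hq.1 hv.2
    have m2 : v * q * v⁻¹ * q⁻¹ ∈ cj g ⁅V, T⁆ := by
      have := Q_cm c (mem_cj.1 hv.1) (mem_cj.1 hq.2)
      rw [mem_cj]
      convert this using 1; group
    have := mem_bot.1 (h3.le ⟨m1, H3.NG.cm_symm m2⟩)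
    rwa [mul_inv_eq_one, mul_inv_eq_iff_eq_mul] at this

theorem pair (h1 : UU V X ≤ cj g C[X]) (h2 : cj g (UU V X) ≤ C[X]) : UU V X ≤ cj g (QP V X) := by
  by_cases h3 : ⁅V, T⁆ ⊓ cj g ⁅V, T⁆ = ⊥
  · obtain ⟨e1, e2⟩ := half c h2 h3
    obtain ⟨e3, e4⟩ := half c (g := g⁻¹) (le_cj_iff.1 h1)
      (by rw [← cj_eq_bot (g := g), cj_inf, cj_cj_inv, inf_comm, h3])
    rw [← relIndex_cj g, ← relIndex_cj g C[_], ← relIndex_cj g (cj g⁻¹ _)] at e3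
    rw [← relIndex_cj g, ← relIndex_cj g (cj g⁻¹ _)] at e4
    simp only [cj_inf, cj_C, cj_cj_inv] at e3 e4
    exact relIndex_eq_one.1 (num_end (relIndex_ne_zero' _ _) e1 e2 e3 e4)
  · obtain ⟨x, hx, x1⟩ := exists_ne_one h3
    refine le_trans ?_ (cj_mono g (C_le_Q c))
    rw [cj_C]
    refine H3.NG.ncl_le fun h hh => cents_symm ?_
    rw [cj_le_iff]
    refine H3.NG.ncl_le fun k hk => ?_
    rw [← cj_C, le_cj_iff, le_cj_iff, inv_inv, ← cj_mul, ← cj_mul]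
    refine c.ic _ (ne_bot_of_mem (x := x) (mem_inf.2 ⟨c.le (X0_le c hx.1), ?_⟩) x1)
    rw [cj_mul, cj_mul, mem_cj, inv_inv, conj_eq_of_mem_C hh (X0_le c hx.1)]
    refine cj_mono g ?_ hx.2
    rw [← cj_of_mem_C (C_anti (X0_le c) hk)]
    exact cj_mono k ((X0_le c).trans c.le)

theorem step {n : ℕ} (hb : ∀ w ∈ Wd N[V] C[X] n, ∀ m ∈ N[V], V ≤ cj (w * m) (QP V X)) :
    ∀ w ∈ Wd N[V] C[X] (n + 1), cj w V ≤ C[V] := by
  have k1 : ∀ w ∈ Wd N[V] C[X] (n + 1), V ≤ N[cj w V] := fun w hw => by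
    obtain ⟨w', hw', m, hm, h, hh, rfl⟩ := Wd.unsnoc hw
    refine (hb w' hw' m hm).trans ?_
    rw [← cj_N, ← cj_of_mem_N ((Q_nml c).norm hh), ← cj_mul]
    exact cj_mono _ (Q_le_M c)
  intro w hw
  refine c.nc w ?_ (k1 w hw)
  obtain ⟨w', hw', m, hm, e⟩ := Wd.inv hw
  rw [cj_le_iff, cj_N, e, cj_mul, cj_of_mem_N hm]
  exact k1 w' hw'

theorem main : False := by
  classical
  have hex : ∃ n, ¬ ∀ w ∈ Wd N[V] C[X] n, ∀ m ∈ N[V], V ≤ cj (w * m) (QP V X) := by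
    by_contra e
    have e' := not_exists_not.1 e
    have hE : EA (ncl V (N[V] ⊔ C[X])) := ea_ncl c.ea fun g hg => by
      obtain ⟨n, hn⟩ := Wd.exists hg
      exact step c (e' n) g (by simpa using Wd.cons (one_mem _) (one_mem _) hn)
    have hn := H3.NG.norm_ncl V (N[V] ⊔ C[X])
    exact c.nle ((le_sup_right.trans hn).trans (c.mx _ (ea_pi hE)
      (ne_bot_of_le c.ne (c.le.trans H3.NG.self_le_ncl)) (le_sup_left.trans hn)))
  have h1 := Nat.find_spec hex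
  have h2 := fun k => @Nat.find_min _ _ hex k
  generalize Nat.find hex = n at h1 h2
  rcases n with _ | n
  · refine h1 fun w hw m hm => ?_
    rw [Wd.zero.1 hw, one_mul, le_cj_iff, cj_of_mem_N (inv_mem hm)]
    exact (V_le_U c).trans ((Abl.le_C (U_ea c).1).trans (C_le_Q c))
  have ha := step c (not_not.1 (h2 n (Nat.lt_succ_self n)))
  refine h1 ?_
  rintro _ ⟨m1, hm1, h, hh, w, hw, rfl⟩ m hm
  have := pair c (g := w * m) (H3.NG.ncl_le fun k hk => ?_) ?_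
  · have e := (H3.NG.le_ncl (inv_mem hh)).trans this
    rw [← le_cj_iff, ← cj_mul] at e
    have e2 := cj_mono m1 e
    rwa [cj_of_mem_N hm1, ← cj_mul, ← mul_assoc, ← mul_assoc] at e2
  · rw [cj_C]
    refine le_trans ?_ (C_anti (cj_mono _ c.le))
    rw [cj_mul, cj_of_mem_N hm]
    refine cents_symm ?_
    rw [← cj_C, le_cj_iff, ← cj_mul]
    exact ha _ (by simpa using Wd.cons (one_mem _) (inv_mem hk) hw)
  · rw [cj_le_iff]
    refine H3.NG.ncl_le fun k hk => ?_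
    rw [← cj_le_iff, ← cj_mul]
    exact (ha _ (Wd.snoc hw hm hk)).trans (C_anti c.le)

end

end H28.NT

namespace H12.NG

open Subgroup Cfsg H24 H11.ZN

universe u

variable {G : Type u} [Group G] [Finite G] {V X T : Subgroup G}

theorem TLc.false (h : TLc V X T) : False := H28.NT.main h

end H12.NG
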