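import Cfsg.Agent.H12.NGM
import Cfsg.Agent.H12.NGC1
import Cfsg.Agent.H12.NGY
import Cfsg.Agent.H12.NGF1
import Cfsg.Agent.H12.NGF2
import Cfsg.Agent.H18.NO2

/-!
# N-groups, case II: basic properties
-/

set_option autoImplicit false
set_option linter.unusedSectionVars false
namespace H12.NG
open Subgroup Cfsg H24 H11.ZN
universe u
variable {G : Type u} [Group G] [Finite G] {V V₀ V₁ H T X Y M S A W : Subgroup G} {𝓦 : Set (Subgroup G)}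
  {a f g v y : G}

namespace CII
variable (h : CII S M V)
include h

theorem sylM : Syl 2 M S := h.syl.of_le h.le le_top

theorem ch2 : Ch2 M := by
  refine h.l2.ch2 h.syl h.le (ne_bot_of_le h.ne ?_)
  rw [h.ys]
  exact sSup_le fun X hX => pcore_max (ea_pi hX.ea) hX.nml

theorem red : Red V M := h.ys ▸ Ys_red h.ch2

theorem ea : EA V := h.red.ea

theorem abl : Abl V := H3.NG.ea_abl h.ea

theorem M_le : M ≤ N[V] := h.nv.le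

theorem C_le : C[V] ≤ M := (C_le_N V).trans h.nv.ge

theorem oz : V = OZ (S ⊓ C[V]) := by
  have := Ys_eq_OZ h.ch2 h.sylM
  rwa [← h.ys] at this

theorem V_le_B : V ≤ Bm S := (h.red.le_JJ h.ch2.1 h.sylM).trans (JJ_le_Bm S)

theorem V_le_S : V ≤ S := h.V_le_B.trans (Bm_le S)

theorem V_le_R : V ≤ S ⊓ C[V] := le_inf h.V_le_S h.abl.le_C

theorem OZ_le_V : OZ S ≤ V := h.ys ▸ OZ_le_Ys h.ch2 h.sylM

theorem S_le_NR : S ≤ N[S ⊓ C[V]] := norm_inf (norm_self S) (norm_C (h.le.trans h.M_le))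

theorem NR_le : N[S ⊓ C[V]] ≤ M := by
  refine (N_le_N_OZ _).trans ?_
  rw [← h.oz]
  exact h.nv.ge

theorem C_nml : C[V] ⊴ M := ⟨h.C_le, h.M_le.trans (N_le_NC V)⟩

theorem le_sup : M ≤ C[V] ⊔ N[S ⊓ C[V]] :=
  (Frattini_arg two_prime h.C_nml (h.sylM.inf_nml h.C_nml)).sup_eq.ge.trans (sup_le_sup_left inf_le_right _)

theorem Q2_NR : Q2 N[S ⊓ C[V]] = S ⊓ C[V] := by
  refine le_antisymm (le_inf (pcore_le_Hall (h.syl.of_le h.S_le_NR le_top)) ?_)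
    (pcore_max (h.syl.pi.inf_left _) (nml_N _))
  have h1 : Q2 N[S ⊓ C[V]] ≤ M := (pcore_le _ _).trans h.NR_le
  have h2 := h.red.red (C[V] ⊔ Q2 N[S ⊓ C[V]]) ⟨sup_le h.C_le h1, h.le_sup.trans (sup_le
    (norm_of_le le_sup_left) (norm_sup (h.NR_le.trans h.C_nml.2) (pcore_nml _ _).2))⟩
    (inf_le_right.trans le_sup_left) (by
      rw [inf_eq_right.2 h.C_le, relIndex_sup_of_norm (h1.trans h.C_nml.2)]
      exact (pcore_pi _ _).relIndex _)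
  exact le_sup_right.trans h2

theorem two_le (hT : IsPi {2} T) (hB : Bm S ≤ T) : T ≤ M := by
  refine ((norm_self T).trans (N_le_N_Bm T)).trans ?_
  rw [Bm_eq_of_syl h.syl hT le_top hB]
  exact h.nB

theorem B_pi : IsPi {2} (Bm S) := h.syl.pi.of_le (Bm_le S)

theorem B_le : Bm S ≤ M := (Bm_le S).trans h.le

theorem fact (hH : Ch2 H) (hB : Bm S ≤ H) : H ≤ (H ⊓ C[Ys H]) ⊔ (H ⊓ M) := by
  obtain ⟨T, hT, h1⟩ := Sylow_superset two_prime h.B_pi hB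
  have e := Bm_eq_of_syl h.syl hT.pi le_top h1
  refine fac hH hT le_sup_left (le_sup_of_le_right (inf_le_inf_left _ (e ▸ h.nB))) fun P hP hp => ?_
  exact le_sup_of_le_right (le_inf hP (h.par P (e ▸ hp)))

theorem U (hH : Ch2 H) (hB : Bm S ≤ H) (h1 : Red V₀ (H ⊓ M)) (h2 : C[V₀] ≤ M) : H ≤ M := by
  obtain ⟨T, hT, h3⟩ := Sylow_superset two_prime h.B_pi hB
  have h4 : T ≤ H ⊓ M := le_inf hT.le (h.two_le hT.pi h3)
  have h5 := Ys_mono (hH.of_le ((pcore_le_Hall hT).trans h4) inf_le_left) hH hT h4 inf_le_left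
  exact (h.fact hH hB).trans (sup_le (inf_le_right.trans ((C_anti (h1.le_Ys.trans h5)).trans h2)) inf_le_right)

theorem mx (hY : IsPi {2} Y) (h1 : Y ≠ ⊥) (h2 : N[S ⊓ C[V]] ≤ N[Y]) : N[Y] ≤ M := by
  refine h.U (h.l2 Y hY h1) (((Bm_le S).trans h.S_le_NR).trans h2) (h.red.sub ?_ inf_le_right ?_) h.C_le
  · exact le_inf ((h.V_le_S.trans h.S_le_NR).trans h2) h.red.nml.1
  · exact h.le_sup.trans (sup_le_sup (le_inf h.C_le le_rfl) (le_inf h2 h.NR_le))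

theorem mx' (hY : IsPi {2} Y) (h1 : Y ≠ ⊥) (h2 : M ≤ N[Y]) : N[Y] ≤ M := h.mx hY h1 (h.NR_le.trans h2)

theorem nC : ¬ C[OZ S] ≤ M := by
  intro hc
  obtain ⟨H, h1, h2, h3⟩ := h.other
  have hH := h.l2.ch2 h.syl h1 h2
  exact h3 ((h.fact hH ((Bm_le S).trans h1)).trans (sup_le (inf_le_right.trans
    ((C_anti (OZ_le_Ys hH (h.syl.of_le h1 le_top))).trans hc)) inf_le_right))

theorem fusion (hy : y ∈ V) (hg : g * y * g⁻¹ ∈ V) : ∃ m ∈ M, m * y * m⁻¹ = g * y * g⁻¹ := by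
  obtain ⟨m₁, a1, a2⟩ := h.red.conj_Bm h.ch2.1 h.sylM hy
  obtain ⟨m₂, b1, b2⟩ := h.red.conj_Bm h.ch2.1 h.sylM hg
  obtain ⟨k, hk⟩ : ∃ k, k = m₂ * g * m₁⁻¹ := ⟨_, rfl⟩
  have e : k * (m₁ * y * m₁⁻¹) * k⁻¹ = m₂ * (g * y * g⁻¹) * m₂⁻¹ := by rw [hk]; group
  have c1 : cj k (Bm S) ≤ C{m₂ * (g * y * g⁻¹) * m₂⁻¹} := by
    rw [← e, ← cj_C1]
    exact cj_mono k (mem_C_iff_le_C1.1 a2)
  obtain ⟨T₁, t1, t2⟩ := Sylow_superset two_prime h.B_pi (mem_C_iff_le_C1.1 b2)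
  obtain ⟨T₂, s1, s2⟩ := Sylow_superset two_prime (h.B_pi.cj k) c1
  obtain ⟨c, hc, e'⟩ := Sylow_trans two_prime t1 s1
  have e1 := Bm_eq_of_syl h.syl t1.pi le_top t2
  have e2 := Bm_eq_of_syl (h.syl.cj_mem (mem_top k)) s1.pi le_top (by rwa [Bm_cj])
  rw [e', Bm_cj, Bm_cj, e1, eq_comm, cj_eq_cj_iff] at e2
  refine ⟨m₂⁻¹ * (c⁻¹ * k) * m₁, mul_mem (mul_mem (inv_mem b1) (h.nB e2)) a1, ?_⟩
  calc _ = m₂⁻¹ * (c⁻¹ * (k * (m₁ * y * m₁⁻¹) * k⁻¹) * c⁻¹⁻¹) * m₂ := by group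
    _ = _ := by rw [e, mem_C1_iff_conj.1 (inv_mem hc)]; group

theorem line (hy : y ∈ V) (hg : y ∈ cj g V) : ∃ c ∈ C{y}, cj g V = cj c V := by
  obtain ⟨x, hx, rfl⟩ := mem_cj'.1 hg
  obtain ⟨m, hm, e⟩ := h.fusion hx hy
  refine ⟨g * m⁻¹, mem_C1_iff_conj.2 ?_, by rw [cj_mul, cj_of_mem_N (h.M_le (inv_mem hm))]⟩
  calc g * m⁻¹ * (g * x * g⁻¹) * (g * m⁻¹)⁻¹ = g * m⁻¹ * (m * x * m⁻¹) * (g * m⁻¹)⁻¹ := by rw [e]
    _ = _ := by group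

theorem TR (hH : Ch2 H) (hR : Syl 2 H (S ⊓ C[V])) (hy : ∀ X ≤ V, X.relIndex V ≤ 2 → C[X] ≤ M) : H ≤ M := by
  have h1 : V ≤ C[S ⊓ C[V]] := cents_symm inf_le_right
  have h2 : V ≤ Bm (S ⊓ C[V]) := le_inf h.V_le_R (h1.trans (C_anti ((OZ_le _).trans (JJ_le _))))
  refine fac hH hR (inf_le_right.trans ((C_anti (h.oz.le.trans (OZ_le_Ys hH hR))).trans h.C_le))
    (inf_le_right.trans (h.mx (hR.pi.of_le (Bm_le _)) (ne_bot_of_le h.ne h2) (N_le_N_Bm _))) fun P _ hp => ?_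
  have h3 : V ≤ OZ (Bm (S ⊓ C[V])) := fun x hx =>
    mem_OZ.2 ⟨h2 hx, C_anti (Bm_le _) (h1 hx), by rw [pow_two]; exact H3.NG.ea_sq h.ea hx⟩
  refine (cents_symm inf_le_right).trans (hy (V ⊓ C[P]) inf_le_left ?_)
  rw [inf_comm, inf_relIndex_right, ← hp.idx_D, inf_comm, inf_relIndex_right]
  exact relIndex_le_of_le_right h3 (relIndex_ne_zero' _ _)

/-- a non-trivial `S`-invariant subgroup of `V` contains an element whose centralizer is not in `M` -/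
theorem exists_z (hX : X ≤ V) (h1 : X ≠ ⊥) (h2 : S ≤ N[X]) : ∃ z ∈ X, z ≠ 1 ∧ z ∈ OZ S ∧ ¬ C{z} ≤ M := by
  obtain ⟨z, hz, z1⟩ := exists_ne_one (h.syl.pi.inf_C_ne_bot two_prime ((ea_pi h.ea).of_le hX) h2 h1)
  have z2 : z ∈ OZ S := mem_OZ.2 ⟨h.V_le_S (hX (mem_inf.1 hz).1), (mem_inf.1 hz).2, by
    rw [pow_two]; exact H3.NG.ea_sq h.ea (hX (mem_inf.1 hz).1)⟩
  exact ⟨z, (mem_inf.1 hz).1, z1, z2, fun e => h.nC ((C_le_C1 z2).trans e)⟩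

open H18.NO in
theorem N_comp (hc : Cs V M 𝓦) (hV : V = sSup 𝓦) (hW : W ∈ 𝓦) : N[W] ≤ M := by
  obtain ⟨w, hw, w1⟩ := exists_ne_one (hc.ne_bot hW)
  obtain ⟨m, hm, e⟩ := h.red.conj_Bm h.ch2.1 h.sylM (hc.le W hW hw)
  have hW' := hc.perm m hm W hW
  have h1 : N[cj m W] ≤ M := by
    refine h.U (h.l2 _ (ea_pi (hc.eaW hW')) (hc.ne_bot hW')) (fun b hb => hc.norm_of_fix (h.B_le hb) hW'
      (conj_mem_cj m hw) (H3.NG.cjne m w1) (mem_C_iff_le_C1.1 e hb)) ?_ h.C_le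
    have h2 : Cs V (N[cj m W] ⊓ M) 𝓦 := hc.sub subset_rfl (fun x hx => hc.perm x (mem_inf.1 hx).2)
      fun W' h' => by
        obtain ⟨d, d1, d2, d3⟩ := hc.three W' h'
        exact ⟨d, mem_inf.2 ⟨hc.norm_of_three d1 h' d2 hW', d1⟩, d2, d3⟩
    rw [hV]
    exact h2.red (hV ▸ le_inf (h.abl.norm le_rfl (hc.le _ hW')) h.red.nml.1)
  rw [← cj_N, cj_le_iff, cj_of_mem (inv_mem hm)] at h1
  exact h1

open H18.NO in
theorem nf_comp (hc : Cs V M 𝓦) (hV : V = sSup 𝓦) (hW : W ∈ 𝓦) (hy : y ∈ Cw 𝓦 W) (h1 : y ≠ 1) :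
    C{y} ≤ M := by
  obtain ⟨m, hm, e⟩ := h.red.conj_Bm h.ch2.1 h.sylM (hc.Cw_le_V W hy)
  have hW' := hc.perm m hm W hW
  have hy' : m * y * m⁻¹ ∈ Cw 𝓦 (cj m W) := cj_Cw_le (hc.perm m hm) W (conj_mem_cj m hy)
  have yV := hc.Cw_le_V _ hy'
  have h2 : Cs V (C{m * y * m⁻¹} ⊓ M) {W' | W' ∈ 𝓦 ∧ m * y * m⁻¹ ∈ Cw 𝓦 W'} := by
    refine hc.sub (fun _ h' => h'.1) (fun x hx W' h' => ⟨hc.perm x (mem_inf.1 hx).2 W' h'.1, ?_⟩)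
      fun W' h' => ?_
    · have := cj_Cw_le (hc.perm x (mem_inf.1 hx).2) W' (conj_mem_cj x h'.2)
      rwa [mem_C1_iff_conj.1 (mem_inf.1 hx).1] at this
    · obtain ⟨d, d1, d2, d3⟩ := hc.three W' h'.1
      exact ⟨d, mem_inf.2 ⟨C_le_C1 h'.2 d2, d1⟩, d2, d3⟩
  have h3 : C{m * y * m⁻¹} ≤ M :=
    h.U (h.l2.cent (H3.NG.ea_sq h.ea yV) (H3.NG.cjne m h1)) (mem_C_iff_le_C1.1 e)
      (h2.red (h2.sSup_le_V.trans (le_inf (mem_C_iff_le_C1.1 (h.abl.le_C yV)) h.red.nml.1)))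
      ((C_anti (le_sSup (show cj m W ∈ {W' | W' ∈ 𝓦 ∧ m * y * m⁻¹ ∈ Cw 𝓦 W'} from ⟨hW', hy'⟩))).trans
        ((C_le_N _).trans (h.N_comp hc hV hW')))
  rw [← cj_C1, cj_le_iff, cj_of_mem (inv_mem hm)] at h3
  exact h3

open H18.NO in
theorem omega : Oz S M V ∨ (∃ z, CA S V z) ∨ ∃ 𝓦, Om S M V 𝓦 := by
  rcases red_comp h.red h.ch2.1 with h0 | ⟨𝓦, K, ⟨W, hW⟩, hc, k1, k2, k3, k4⟩
  · exact Or.inl ⟨h, h0⟩
  right
  have hV : V = sSup 𝓦 := by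
    refine k4 (by_contra fun hK => ?_)
    obtain ⟨z, hz, z1, z2, z3⟩ := h.exists_z k1 hK (h.le.trans k2)
    have h2 : Cs V (C{z} ⊓ M) 𝓦 := hc.sub subset_rfl (fun x hx => hc.perm x (mem_inf.1 hx).2)
      fun W' h' => by
        obtain ⟨d, d1, d2, d3, d4⟩ := k3 W' h'
        exact ⟨d, mem_inf.2 ⟨C_le_C1 hz d4, d1⟩, d2, d3⟩
    exact z3 (h.U (h.l2.cent (OZ_sq z2) z1) ((Bm_le S).trans (mem_C_iff_le_C1.1 (OZ_le_C S z2)))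
      (h2.red (hc.sSup_le_V.trans (le_inf (mem_C_iff_le_C1.1 (h.abl.le_C (k1 hz))) h.red.nml.1)))
      ((C_le_N _).trans (h.mx' ((ea_pi h.ea).of_le hc.sSup_le_V) (ne_bot_of_le (hc.ne_bot hW) (le_sSup hW))
        hc.norm)))
  by_cases h2 : ∃ W ∈ 𝓦, ∃ W' ∈ 𝓦, W ≠ W'
  · refine Or.inr ⟨𝓦, h, hc.card, hV, hc.ind, hc.perm, hc.three, h2, fun W₁ w1 W₂ w2 => ?_,
      fun W hW y hy y1 => h.nf_comp hc hV hW hy y1⟩
    by_contra hn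
    push Not at hn
    have h3 : ncl W₁ S ≤ Cw 𝓦 W₂ := H3.NG.ncl_le fun s hs => le_Cw (hc.perm s (h.le hs) W₁ w1) (hn s hs)
    obtain ⟨z, hz, z1, -, z3⟩ := h.exists_z (h3.trans (hc.Cw_le_V _))
      (ne_bot_of_le (hc.ne_bot w1) H3.NG.self_le_ncl) (H3.NG.norm_ncl W₁ S)
    exact z3 (h.nf_comp hc hV w2 (h3 hz) z1)
  left
  push Not at h2
  have e : V = W := le_antisymm (hV.le.trans (sSup_le fun W' h' => (h2 W' h' W hW).le)) (hc.le W hW)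
  have h4 : ♯V = 4 := e ▸ hc.card W hW
  obtain ⟨d, d1, -, d3⟩ := hc.three W hW
  rw [← e] at d3
  obtain ⟨z, hz, z1, z2, z3⟩ := h.exists_z le_rfl h.ne (h.le.trans h.M_le)
  have key : ∀ x ∈ OZ S, x ≠ 1 → x = z := fun x hx x1 => by
    by_contra hne
    exact h.nC fun c hc => h.C_le (H3.NG.four_cent h.ea h4 (h.OZ_le_V hx) hz x1 z1 hne
      (mem_C1.1 (C_le_C1 hx hc)) (mem_C1.1 (C_le_C1 z2 hc)))
  refine ⟨z, h.l2, h.syl, le_antisymm (fun x hx => ?_) (zpowers_le.2 z2), z1, h.ea, h4,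
    ⟨h.V_le_S, h.le.trans h.M_le⟩, fun c => z1 (eq_one_of_inf d3 hz (mem_C1_comm.1 (c (h.M_le d1)))),
    fun c => z3 (c.trans h.nv.ge), fun H s1 s2 s3 => ?_⟩
  · by_cases x1 : x = 1
    · rw [x1]; exact one_mem _
    · rw [key x hx x1]; exact mem_zpowers z
  rw [← h.nv] at s3 ⊢
  have hn : V ⊴ H ⊓ M := h.red.nml.of_le (h.V_le_S.trans (le_inf s1 h.le)) inf_le_right
  refine h.U (h.l2.ch2 h.syl s1 s2) ((Bm_le S).trans s1) ⟨hn, h.ea, fun X x1 x2 x3 => ?_⟩ h.C_le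
  have h5 : H ⊓ M ≤ N[V ⊓ C[X]] := norm_inf hn.2 (norm_C x1.2)
  obtain ⟨z', hz', z1', z2', -⟩ := h.exists_z inf_le_left (fix_of_odd (ea_pi h.ea) h.ne (x1.1.trans hn.2)
    fun x hx ho => (mem_inf.1 (odd_mem (hn.infC.of_le x2 x1.1) x3 hx ho)).2) ((le_inf s1 h.le).trans h5)
  rw [key z' z2' z1'] at hz'
  obtain ⟨k, hk, k'⟩ := SetLike.not_le_iff_exists.1 s3
  have hz'' := conj_mem (h5 hk) hz'
  exact fun x hx => H3.NG.four_cent h.ea h4 hz (mem_inf.1 hz'').1 z1 (H3.NG.cjne k z1)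
    (fun e => k' (mem_C1_iff_conj.2 e.symm)) (mem_C.1 (mem_inf.1 hz').2 x hx) (mem_C.1 (mem_inf.1 hz'').2 x hx)

end CII

end H12.NG
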