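import Mathlib
import Cfsg.Agent.H26.NGX2
import Cfsg.Agent.H12.NGO3
import Cfsg.Agent.H12.NGT

/-!
# N-groups, case II with at least two components, `V ≤ O₂(H)` for all `H ≥ S`
-/

set_option autoImplicit false
set_option linter.unusedSectionVars false
set_option linter.unusedVariables false

namespace H26.NGX

open Subgroup Cfsg H24 H11.ZN H12.NG

universe u

variable {G : Type u} [Group G] [Finite G] {V H M A B P Q R S T W W' W₁ W₂ X Y K L : Subgroup G}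
  {𝓦 : Set (Subgroup G)} {a b d f g m t x y : G}

theorem le_Cw (hW : W' ∈ 𝓦) (hne : W' ≠ W) : W' ≤ Cw 𝓦 W := le_sSup ⟨hW, hne⟩

theorem Cw_pair (hne : W₁ ≠ W₂) : Cw {W₁, W₂} W₁ = W₂ :=
  le_antisymm (sSup_le fun Y hY => by
    rcases hY.1 with e | e
    · exact absurd e hY.2
    · exact le_of_eq e) (le_Cw (by simp) hne.symm)

theorem comm_mem (hX : X ≤ C[W]) (hm : m ∈ C[X]) (hn : m ∈ N[W]) (hx : x ∈ X ⊔ W) :
    m * x * m⁻¹ * x⁻¹ ∈ W := by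
  obtain ⟨w, hw, y, hy, rfl⟩ := (mem_sup_of_norm (norm_of_cent hX)).1 (sup_comm X W ▸ hx)
  have e : m * (w * y) * m⁻¹ * (w * y)⁻¹ = m * w * m⁻¹ * w⁻¹ := by
    rw [H3.NG.cjm, conj_eq_of_mem_C hm hy]
    group
  rw [e]
  exact mul_mem (conj_mem hn hw) (inv_mem hw)

section Om

variable (h : Om S M V 𝓦)
include h

theorem W_le (hW : W ∈ 𝓦) : W ≤ V := h.sup ▸ le_sSup hW

theorem other (W : Subgroup G) : ∃ W' ∈ 𝓦, W' ≠ W := by
  obtain ⟨W₁, h1, W₂, h2, hne⟩ := h.two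
  by_cases e : W₁ = W
  · exact ⟨W₂, h2, fun e' => hne (e.trans e'.symm)⟩
  · exact ⟨W₁, h1, e⟩

theorem eq_of_mem (hW : W ∈ 𝓦) (hW' : W' ∈ 𝓦) (hx : x ∈ W) (hx' : x ∈ W') (x1 : x ≠ 1) : W' = W := by
  by_contra hne
  have : x ∈ W ⊓ Cw 𝓦 W := ⟨hx, le_Cw hW' hne hx'⟩
  rw [h.ind W hW, mem_bot] at this
  exact x1 this

theorem nfW (hW : W ∈ 𝓦) (hx : x ∈ W) (x1 : x ≠ 1) : C{x} ≤ M := by
  obtain ⟨W', h1, h2⟩ := other h W
  exact h.nf W' h1 x (le_Cw hW h2.symm hx) x1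

theorem norm_W (hm : m ∈ M) (hW : W ∈ 𝓦) (hx : x ∈ W) (x1 : x ≠ 1) (hc : m ∈ C{x}) : m ∈ N[W] :=
  mem_N_iff_cj.2 (eq_of_mem h hW (h.perm m hm W hW) hx
    (mem_C1_iff_conj.1 hc ▸ conj_mem_cj m hx) x1)

theorem cent_of (hm : m ∈ M) (hW : W ∈ 𝓦) (hx : x ∈ W) (x1 : x ≠ 1) (hc : m ∈ C{x})
    (hf : ∀ v ∈ V, ∀ W ∈ 𝓦, m * v * m⁻¹ * v⁻¹ ∈ Cw 𝓦 W → m * v * m⁻¹ * v⁻¹ = 1) : m ∈ C[V] := by
  have hn := norm_W h hm hW hx x1 hc
  rw [mem_C_iff_le_C1, h.sup]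
  refine sSup_le fun W' hW' w hw => mem_C1_comm.1 (mem_C1_iff_conj.2 (mul_inv_eq_one.1 ?_))
  by_cases e : W' = W
  · obtain ⟨W'', h1, h2⟩ := other h W
    rw [e] at hw
    exact hf w (W_le h hW hw) W'' h1 (le_Cw hW h2.symm (mul_mem (conj_mem hn hw) (inv_mem hw)))
  · refine hf w (W_le h hW' hw) W hW (mul_mem ?_ (inv_mem (le_Cw hW' e hw)))
    refine le_Cw (h.perm m hm W' hW') (fun e' => e ?_) (conj_mem_cj m hw)
    rw [← cj_of_mem_N hn, cj_inj] at e'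
    exact e'

theorem Wk_T (hT : IsPi {2} T) (hR : S ⊓ C[V] ≤ T) (hM : T ≤ M) : Wk V T = Wk V (S ⊓ C[V]) :=
  le_antisymm (Wk_le_of fun g hg => le_Wk (inf_C_eq h.toCII hT hR ▸ le_inf hg (h.FG (hg.trans hM))))
    (Wk_mono hR)

theorem N_Wk : N[Wk V (S ⊓ C[V])] ≤ M :=
  h.toCII.mx ((R_pi h.toCII).of_le (Wk_le _ _))
    (ne_bot_of_le h.ne ((cj_one V).ge.trans (le_Wk ((cj_one V).le.trans (V_le_R h.toCII))))) (N_le_N_Wk _ _)

theorem exists_X : ∃ X ≤ V, ♯X = 4 ∧ ♯V = 16 ∧ (∀ W ∈ 𝓦, X ⊓ Cw 𝓦 W = ⊥) ∧ ¬ C[X] ≤ M := by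
  have c := h.toCII
  have hV := eaV c
  obtain ⟨P, hP, hm, hn⟩ := exists_minP (h.syl.of_le (le_C_OZ S) le_top) h.le
    (inf_le_right.trans (NS_le c)) c.nC
  have hS : S ≤ P := hm.syl.le
  have hP2 : Ch2 P := h.l2.ch2 h.syl hS (ne_bot_of_le (OZ_ne_bot h.syl.pi (S_ne c))
    (pcore_max' (ea_pi (OZ_ea S)) ((OZ_le S).trans hS) (norm_of_cent hP)))
  have hQS : Q2 P ≤ S := pcore_le_Hall hm.syl
  have hVQ : V ≤ Q2 P := h.le_Q2 hP2 hS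
  have hQV : Q2 P ≤ N[V] := hQS.trans (h.le.trans (M_le c))
  have e0 := Wk_T h h.syl.pi inf_le_left h.le
  have n0 : ¬ Wk V S ≤ Q2 P := fun e => hn <| by
    refine ((Q2_nml P).2.trans (N_le_N_Wk V (Q2 P))).trans ?_
    rw [Wk_eq e hQS, e0]
    exact N_Wk h
  obtain ⟨g, hAS, hQ⟩ : ∃ g, cj g V ≤ S ∧ ¬ cj g V ≤ Q2 P := by
    by_contra hc
    exact n0 (Wk_le_of fun g hg => by_contra fun e => hc ⟨g, hg, e⟩)
  have hA : EA (cj g V) := H3.NG.ea_cj hV g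
  have hAV : cj g V ≤ C[V] := h.FG (hAS.trans h.le)
  obtain ⟨A₁, h1, i2, -, a, ha, ha1, f, hf, hfM, ho, hi, hc⟩ := hm.exists_inv hP2.1 h.le hn hA hAS hQ
  have hfP : f ∈ P := F2_le P hf
  have hAP : cj g V ≤ P := hAS.trans hS
  have hV' : EA (cj f V) := H3.NG.ea_cj hV f
  have hfix : cj f V ⊓ C{a} ≤ V := inv_fix (pcore_nml _ _) hQV hA hAP hAV hfP ho ha hi h1 hc i2 ha1 ha ha1
  have hD := inv_cent hAV ho ha hi
  have full : ∀ W ∈ 𝓦, V ⊓ cj f V ⊓ Cw 𝓦 W = ⊥ := fun W hW => by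
    rw [eq_bot_iff]
    rintro y ⟨hy, hy'⟩
    by_contra y1
    exact hfM (h.inter hW hy' y1 hy.2)
  have c1 := h.card_full inf_le_left full
  have h' := h.conj g
  -- conjugates of `V` under `P` commute
  have hU : ∀ p ∈ P, ∀ p' ∈ P, cj p V ≤ C[cj p' V] := fun p hp p' hp' => by
    rw [← cj_C, le_cj_iff, ← cj_mul]
    exact h.FG ((cj_le_of_mem_N hVQ ((pcore_nml _ _).2 (mul_mem (inv_mem hp') hp))).trans (hQS.trans h.le))
  have nC : ¬ cj f V ≤ C[cj g V] := fun e =>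
    hfM (mem_M_of_le c ((le_inf le_rfl (e.trans (C_le_C1 ha))).trans hfix))
  obtain ⟨W, hW, -⟩ := other h' ⊥
  obtain ⟨x, hx, hx1, x1⟩ := meet_four (W_le h' hW) (h'.card W hW) i2.le
  have key : cj f V ⊓ C{x} ≤ V ⊓ cj f V := by
    rintro u ⟨hu, hu'⟩
    have hux : u ∈ C{x} := hu'
    have huA : u ∈ C[cj g V] := by
      refine cent_of h' (nfW h' hW hx x1 hux) hW hx x1 hux fun v hv W' hW' hv' => ?_
      by_contra v1
      apply nC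
      have e1 : cj f V = cj (f * g⁻¹) (cj g V) := by rw [← cj_mul]; simp
      rw [e1]
      apply h'.FG
      rw [← e1]
      refine le_trans ?_ (h'.nf W' hW' _ hv' v1)
      rw [← mem_C_iff_le_C1]
      have e2 : u * v * u⁻¹ * v⁻¹ = u * (v * u⁻¹ * v⁻¹) := by group
      rw [e2]
      refine mul_mem (hU f hfP f hfP hu) (hU (v * f) (mul_mem (hAP hv) hfP) f hfP ?_)
      rw [cj_mul]
      exact conj_mem_cj v (inv_mem hu)
    exact ⟨hfix ⟨hu, C_le_C1 ha huA⟩, hu⟩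
  have c2 := card_le_sq hV' (inv_norm (pcore_nml _ _) hQV hAP hAV hfP h1 hc hx1)
    (by rw [ea_sq hA (h1 hx1)]; exact one_mem _)
  have c3 := card_le key
  rw [card_cj] at c2
  have c4 : 16 ≤ ♯V := by
    obtain ⟨W₁, h1, W₂, h2, hne⟩ := h.two
    have : 1 < 𝓦.ncard := (Set.one_lt_ncard (Set.toFinite _)).2 ⟨W₁, h1, W₂, h2, hne⟩
    rw [h.card_V]
    exact Nat.pow_le_pow_right (n := 4) (by norm_num) this
  have c5 : ♯V ≤ ♯(V ⊓ cj f V) ^ 2 := c2.trans (Nat.pow_le_pow_left c3 2)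
  have c6 : ♯(V ⊓ cj f V) = 4 := by
    generalize ♯(V ⊓ cj f V) = n at *
    interval_cases n <;> omega
  rw [c6] at c5
  exact ⟨_, inf_le_left, c6, by omega, full, fun e => hfM (e (mem_C_iff_le_C1.2 hD))⟩

theorem hyper4 (hY : Y ≤ V) (hi : Y.relIndex V ≤ 2) : C[Y] ≤ M := by
  obtain ⟨W, hW, -⟩ := other h ⊥
  obtain ⟨x, hx, hx', x1⟩ := meet_four (W_le h hW) (h.card W hW) hi
  exact (C_le_C1 hx').trans (nfW h hW hx x1)

theorem pair (h16 : ♯V = 16) : ∃ W₁ W₂, W₁ ≠ W₂ ∧ 𝓦 = {W₁, W₂} := by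
  have h1 := h.card_V
  rw [h16] at h1
  exact Set.ncard_eq_two.1 (Nat.pow_right_injective (a := 4) (by norm_num) (h1.symm.trans (by norm_num)))

end Om

section pair

variable (h : Om S M V {W₁, W₂}) (hne : W₁ ≠ W₂)
include h hne

theorem swap : Om S M V {W₂, W₁} := Set.pair_comm W₁ W₂ ▸ h

theorem pair_sup : V = W₁ ⊔ W₂ := h.sup.trans sSup_pair

theorem pair_inf : W₁ ⊓ W₂ = ⊥ := Cw_pair hne ▸ h.ind W₁ (by simp)

theorem pair_cj (hm : m ∈ M) : (cj m W₁ = W₁ ∧ cj m W₂ = W₂) ∨ (cj m W₁ = W₂ ∧ cj m W₂ = W₁) := by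
  have h1 : cj m W₁ = W₁ ∨ cj m W₁ = W₂ := h.perm m hm W₁ (by simp)
  have h2 : cj m W₂ = W₁ ∨ cj m W₂ = W₂ := h.perm m hm W₂ (by simp)
  rcases h1 with h1 | h1 <;> rcases h2 with h2 | h2
  · exact absurd (cj_inj.1 (h1.trans h2.symm)) hne
  · exact Or.inl ⟨h1, h2⟩
  · exact Or.inr ⟨h1, h2⟩
  · exact absurd (cj_inj.1 (h1.trans h2.symm)) hne

theorem pair_X (hX : X ≤ V) (h4 : ♯X = 4) (h16 : ♯V = 16) (hf : X ⊓ W₂ = ⊥) : X ⊔ W₂ = V := by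
  have hW : W₂ ≤ V := W_le h (by simp)
  refine eq_of_card_eq (sup_le hX hW) ?_
  rw [card_sup_of_inf ((H3.NG.ea_abl (eaV h.toCII)).norm hW hX) hf, h4, h16, h.card W₂ (by simp)]

theorem pair_cent (hX : X ≤ V) (h4 : ♯X = 4) (h16 : ♯V = 16) (hf : X ⊓ W₁ = ⊥) (hf' : X ⊓ W₂ = ⊥)
    (hm : m ∈ C[X]) (h1 : cj m W₁ = W₁) (h2 : cj m W₂ = W₂) : m ∈ C[V] := by
  have ab := H3.NG.ea_abl (eaV h.toCII)
  refine mem_C_iff_le_C1.2 fun v hv => mem_C1_comm.1 (mem_C1_iff_conj.2 (mul_inv_eq_one.1 ?_))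
  have e1 := comm_mem (ab.cents hX (W_le h (by simp))) hm (mem_N_iff_cj.2 h2)
    ((pair_X h hne hX h4 h16 hf').ge hv)
  have e2 := comm_mem (ab.cents hX (W_le h (by simp))) hm (mem_N_iff_cj.2 h1)
    ((pair_X (swap h hne) hne.symm hX h4 h16 hf).ge hv)
  have : m * v * m⁻¹ * v⁻¹ ∈ W₁ ⊓ W₂ := ⟨e2, e1⟩
  rwa [pair_inf h hne, mem_bot] at this

theorem pair_move (ha : a ∈ W₁) (hb : b ∈ W₁) (a1 : a ≠ 1) (b1 : b ≠ 1) :
    ∃ e ∈ M, e ∈ C[W₂] ∧ e * a * e⁻¹ = b := by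
  obtain ⟨d, hd, h1, h2⟩ := h.three W₁ (by simp)
  rw [Cw_pair hne] at h1
  have hn : cj d W₁ = W₁ := by
    rcases pair_cj h hne hd with e | e
    · exact e.1
    · exact absurd (e.2.symm.trans (cj_of_mem_C h1)) hne
  obtain ⟨e, he, h3⟩ := four_trans (ea_le (eaV h.toCII) (W_le h (by simp))) (h.card W₁ (by simp))
    (mem_N_iff_cj.2 hn) h2 ha hb a1 b1
  exact ⟨e, zpowers_le.2 hd he, zpowers_le.2 h1 he, h3⟩

theorem pair_dec (hx : x ∈ V) (h1 : x ∉ W₁) (h2 : x ∉ W₂) :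
    ∃ a ∈ W₁, ∃ b ∈ W₂, a ≠ 1 ∧ b ≠ 1 ∧ x = a * b := by
  have ab := H3.NG.ea_abl (eaV h.toCII)
  obtain ⟨a, ha, b, hb, rfl⟩ := (mem_sup_of_norm (ab.norm (W_le h (by simp)) (W_le h (by simp)))).1
    ((pair_sup h hne).le hx)
  refine ⟨a, ha, b, hb, ?_, ?_, rfl⟩
  · rintro rfl
    exact h2 (by simpa using hb)
  · rintro rfl
    exact h1 (by simpa using ha)

theorem pair_trans (hx : x ∈ V) (h1 : x ∉ W₁) (h2 : x ∉ W₂) (hy : y ∈ V) (h3 : y ∉ W₁) (h4 : y ∉ W₂) :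
    ∃ m ∈ M, m * x * m⁻¹ = y := by
  obtain ⟨a, ha, b, hb, a1, b1, rfl⟩ := pair_dec h hne hx h1 h2
  obtain ⟨a', ha', b', hb', a1', b1', rfl⟩ := pair_dec h hne hy h3 h4
  obtain ⟨e, he, c1, e1⟩ := pair_move h hne ha ha' a1 a1'
  obtain ⟨e', he', c2, e2⟩ := pair_move (swap h hne) hne.symm hb hb' b1 b1'
  refine ⟨e' * e, mul_mem he' he, ?_⟩
  calc e' * e * (a * b) * (e' * e)⁻¹ = e' * (e * a * e⁻¹) * e'⁻¹ * (e' * (e * b * e⁻¹) * e'⁻¹) := by group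
    _ = a' * b' := by rw [e1, conj_eq_of_mem_C c1 hb, e2, conj_eq_of_mem_C c2 ha']

theorem pair_ic (g : G) (hg : V ⊓ cj g V ≠ ⊥) : cj g V ≤ C[V] := by
  have c := h.toCII
  have hV := eaV c
  by_cases hgM : g ∈ M
  · rw [cj_of_mem_N (M_le c hgM)]
    exact (H3.NG.ea_abl hV).le_C
  obtain ⟨y, ⟨hy, hy'⟩, y1⟩ := exists_ne_one hg
  obtain ⟨z, hz, z1⟩ := exists_ne_one (OZ_ne_bot h.syl.pi (S_ne c))
  have nz : ∀ W ∈ ({W₁, W₂} : Set (Subgroup G)), z ∉ W := fun W hW e =>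
    c.nC ((C_le_C1 hz).trans (nfW h hW e z1))
  have ny : ∀ W ∈ ({W₁, W₂} : Set (Subgroup G)), y ∉ W := fun W hW e => by
    obtain ⟨W', h1, h2⟩ := other h W
    exact hgM (h.inter h1 (le_Cw hW h2.symm e) y1 hy')
  obtain ⟨m, hm, e⟩ := pair_trans h hne (OZ_le_V c h.syl.pi inf_le_left hz) (nz _ (by simp)) (nz _ (by simp))
    hy (ny _ (by simp)) (ny _ (by simp))
  obtain ⟨k, hk, e'⟩ := c.line hy hy'
  have hS : cj m S ≤ C{y} := by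
    rw [← e, ← cj_C1, cj_le_cj]
    exact mem_C_iff_le_C1.1 (OZ_le_C S hz)
  have h1 := (h.conj m).le_Q2 (h.l2.cent (ea_sq hV hy) y1) hS
  rw [cj_of_mem_N (M_le c hm)] at h1
  have h2 : Q2 C{y} ≤ cj m S := pcore_le_Hall ((h.syl.cj_mem (mem_top m)).of_le hS le_top)
  rw [e']
  exact h.FG ((cj_le_of_mem_N h1 ((pcore_nml _ _).2 hk)).trans (h2.trans (cj_le_of_mem h.le hm)))

theorem pair_false (hX : X ≤ V) (h4 : ♯X = 4) (h16 : ♯V = 16) (hf : X ⊓ W₁ = ⊥) (hf' : X ⊓ W₂ = ⊥)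
    (hn : ¬ C[X] ≤ M) : False := by
  have c := h.toCII
  have hV := eaV c
  have hX1 : X ≠ ⊥ := fun e => by
    rw [e, card_bot] at h4
    omega
  have hH : Ch2 C[X] := ch2_C h.l2 ((ea_pi hV).of_le hX) hX1
  obtain ⟨T, hT', hR⟩ := Sylow_superset Nat.prime_two (R_pi c)
    (le_inf (inf_le_right.trans (C_anti hX)) (R_le_M c))
  have hTM : T ≤ M := hT'.le.trans inf_le_right
  have hTX : T ≤ C[X] := hT'.le.trans inf_le_left
  have hT : Syl 2 C[X] T := hT'.of_norm_le Nat.prime_two inf_le_left (le_inf inf_le_left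
    (inf_le_right.trans ((N_le_N_Wk V T).trans (Wk_T h hT'.pi hR hTM ▸ N_Wk h))))
  by_cases hc : T ≤ C[V]
  · have e : T = S ⊓ C[V] := (inf_eq_left.2 hc).symm.trans (inf_C_eq c hT.pi hR)
    exact hn (c.TR hH (e ▸ hT) fun Y h1 h2 => hyper4 h h1 h2)
  obtain ⟨t, ht, ht'⟩ := SetLike.not_le_iff_exists.1 hc
  have sw : cj t W₁ = W₂ ∧ cj t W₂ = W₁ := (pair_cj h hne (hTM ht)).resolve_left fun e =>
    ht' (pair_cent h hne hX h4 h16 hf hf' (hTX ht) e.1 e.2)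
  refine TLc.false (V := V) (X := X) (T := T) ⟨h.l2, hV, hX, hX1, ?_, hT, hTM.trans (M_le c), ?_, ?_,
    fun e => hn (e.trans (le_M c)), fun Y h1 h2 h3 => (c.mx' h1 h2 ((M_le c).trans h3)).trans (M_le c),
    fun g h1 _ => h.FG (h1.trans (le_M c)), pair_ic h hne⟩
  · have c1 := card_mul_relIndex hX
    rw [h4, h16] at c1
    omega
  · refine relIndex_eq_two_iff_exists_notMem_and.2 ⟨t, ht, fun e => ht' e.2, fun b hb => ?_⟩
    rcases pair_cj h hne (hTM hb) with e | e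
    · exact Or.inr ⟨hb, pair_cent h hne hX h4 h16 hf hf' (hTX hb) e.1 e.2⟩
    · have hbt := mul_mem hb ht
      exact Or.inl ⟨hbt, pair_cent h hne hX h4 h16 hf hf' (hTX hbt) (by rw [cj_mul, sw.1, e.2])
        (by rw [cj_mul, sw.2, e.1])⟩
  · have h1 : OZ T ≤ V := OZ_le_V c hT.pi hR
    have h2 : ∀ W W', W ⊓ W' = ⊥ → cj t W = W' → OZ T ⊓ W = ⊥ := fun W W' e1 e2 => by
      rw [eq_bot_iff, ← e1]
      rintro x ⟨hx, hx'⟩
      refine ⟨hx', ?_⟩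
      rw [← e2, ← conj_eq_of_mem_C (le_C_OZ T ht) hx]
      exact conj_mem_cj t hx'
    have h3 := h.card_full h1 fun W hW => by
      rcases hW with e | e
      · rw [e, Cw_pair hne]
        exact h2 _ _ (pair_inf (swap h hne) hne.symm) sw.2
      · rw [show W = W₂ from e, Set.pair_comm, Cw_pair hne.symm]
        exact h2 _ _ (pair_inf h hne) sw.1
    exact (eq_of_card_ge (le_OZT c hR hX hTX) (by omega)).symm

end pair

end H26.NGX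

namespace H12.NG

open Subgroup Cfsg H24 H11.ZN

universe u

variable {G : Type u} [Group G] [Finite G] {V M S : Subgroup G} {𝓦 : Set (Subgroup G)}

namespace Om

variable (h : Om S M V 𝓦)
include h

theorem false : False := by
  obtain ⟨X, hX, h4, h16, hf, hn⟩ := H26.NGX.exists_X h
  obtain ⟨W₁, W₂, hne, rfl⟩ := H26.NGX.pair h h16
  refine H26.NGX.pair_false h hne hX h4 h16 ?_ ?_ hn
  · have := hf W₂ (by simp)
    rwa [Set.pair_comm, H26.NGX.Cw_pair hne.symm] at this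
  · have := hf W₁ (by simp)
    rwa [H26.NGX.Cw_pair hne] at this

end Om

end H12.NG
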