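import Mathlib
import Cfsg.Agent.H26.NGX2
import Cfsg.Agent.H12.NGL
import Cfsg.Agent.H12.NGT

/-!
# N-groups, case II without components
-/

set_option autoImplicit false
set_option linter.unusedSectionVars false
set_option linter.unusedVariables false

namespace H26.NGX

open Subgroup Cfsg H24 H11.ZN H12.NG

universe u

variable {G : Type u} [Group G] [Finite G] {V H M A B P Q R S T W X Y K L : Subgroup G}
  {a b d f g t x y : G}

/-- products `l₁ p₁ ⋯ l_k p_k` -/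
def Wd (L P : Subgroup G) : ℕ → G → Prop
  | 0, g => g = 1
  | k + 1, g => ∃ l ∈ L, ∃ p ∈ P, ∃ w, Wd L P k w ∧ g = l * p * w

theorem Wd.append {j k : ℕ} (h : Wd L P j x) (h' : Wd L P k y) : Wd L P (k + j) (x * y) := by
  induction j generalizing x with
  | zero => obtain rfl : x = 1 := h; simpa using h'
  | succ j ih =>
    obtain ⟨l, hl, p, hp, w, hw, rfl⟩ := h
    exact ⟨l, hl, p, hp, w * y, ih hw, by group⟩

theorem Wd.one (hx : x ∈ L) (hy : y ∈ P) : Wd L P 1 (x * y) := ⟨x, hx, y, hy, 1, rfl, by group⟩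

theorem Wd.snoc {k : ℕ} (h : Wd L P k g) (hx : x ∈ L) (hy : y ∈ P) : Wd L P (k + 1) (g * (x * y)) := by
  have := h.append (Wd.one hx hy)
  rwa [add_comm] at this

theorem Wd.last {k : ℕ} (h : Wd L P (k + 1) g) : ∃ w, Wd L P k w ∧ ∃ l ∈ L, ∃ p ∈ P, g = w * (l * p) := by
  induction k generalizing g with
  | zero =>
    obtain ⟨l, hl, p, hp, w, hw, rfl⟩ := h
    obtain rfl : w = 1 := hw
    exact ⟨1, rfl, l, hl, p, hp, by group⟩
  | succ k ih =>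
    obtain ⟨l, hl, p, hp, w, hw, rfl⟩ := h
    obtain ⟨w', hw', l', hl', p', hp', rfl⟩ := ih hw
    exact ⟨l * p * w', ⟨l, hl, p, hp, w', hw', rfl⟩, l', hl', p', hp', by group⟩

theorem Wd.inv {k : ℕ} (h : Wd L P k g) : Wd P L k g⁻¹ := by
  induction k generalizing g with
  | zero => obtain rfl : g = 1 := h; exact inv_one
  | succ k ih =>
    obtain ⟨l, hl, p, hp, w, hw, rfl⟩ := h
    have := (ih hw).snoc (inv_mem hp) (inv_mem hl)
    convert this using 1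
    group

/-- `(P L)^k P ⊆ P (L P)^k` -/
theorem Wd.shift {k : ℕ} (h : Wd P L k g) (hx : x ∈ P) : ∃ p ∈ P, ∃ w, Wd L P k w ∧ g * x = p * w := by
  induction k generalizing g with
  | zero => obtain rfl : g = 1 := h; exact ⟨x, hx, 1, rfl, by group⟩
  | succ k ih =>
    obtain ⟨p, hp, l, hl, w, hw, rfl⟩ := h
    obtain ⟨p', hp', w', hw', e⟩ := ih hw
    refine ⟨p, hp, l * p' * w', ⟨l, hl, p', hp', w', hw', rfl⟩, ?_⟩
    calc p * l * w * x = p * l * (w * x) := by group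
      _ = _ := by rw [e]; group

theorem Wd.exists (hg : g ∈ L ⊔ P) : ∃ k, Wd L P k g := by
  rw [sup_eq_closure] at hg
  induction hg using closure_induction'' with
  | one => exact ⟨0, rfl⟩
  | mem x hx =>
    rcases hx with hx | hx
    · exact ⟨1, by simpa using Wd.one (P := P) hx (one_mem P)⟩
    · exact ⟨1, by simpa using Wd.one (L := L) (one_mem L) hx⟩
  | inv_mem x hx =>
    rcases hx with hx | hx
    · exact ⟨1, by simpa using Wd.one (P := P) (inv_mem hx) (one_mem P)⟩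
    · exact ⟨1, by simpa using Wd.one (L := L) (one_mem L) (inv_mem hx)⟩
  | mul x y _ _ hx hy =>
    obtain ⟨j, hj⟩ := hx
    obtain ⟨k, hk⟩ := hy
    exact ⟨_, hj.append hk⟩

section Oz

variable (h : Oz S M V)
include h

theorem m5g (g : G) (hA : A ≤ N[cj g V]) (h2 : ∀ a ∈ A, a * a ∈ C[cj g V]) (hn : ¬ A ≤ C[cj g V]) :
    2 * (A ⊓ C[cj g V]).relIndex A * ♯(cj g V ⊓ C[A]) ≤ ♯V ∧
      (4 ≤ (A ⊓ C[cj g V]).relIndex A → 4 * (A ⊓ C[cj g V]).relIndex A * ♯(cj g V ⊓ C[A]) ≤ ♯V) := by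
  obtain ⟨B, rfl⟩ : ∃ B, A = cj g B := ⟨cj g⁻¹ A, (cj_cj_inv g A).symm⟩
  rw [← cj_N, cj_le_cj] at hA
  rw [← cj_C, cj_le_cj] at hn
  rw [← cj_C, ← cj_C, ← cj_inf, ← cj_inf, relIndex_cj, card_cj]
  refine h.m5 B (hA.trans (le_M h.toCII)) (fun b hb => ?_) hn
  have := h2 _ (conj_mem_cj g hb)
  rwa [← cj_C, ← H3.NG.cjm, conj_mem_cj_iff] at this

/-- no transvections -/
theorem noTv (ht : t ∈ M) (hY : Y ≤ V ⊓ C{t}) (hc : ♯V ≤ 2 * ♯Y) : t ∈ C[V] := by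
  by_contra hn
  have hlt : V ⊓ C{t} < V := lt_of_le_of_ne inf_le_left fun e =>
    hn (mem_C_iff_le_C1.2 (e.ge.trans inf_le_right))
  have h1 := two_mul_card_le hlt
  have h2 := card_le hY
  have h3 := card_infr V C{t}
  have h4 := card_pos (V ⊓ C{t})
  have hT : Tv V t := by
    have : ♯(V ⊓ C{t}) * (V ⊓ C{t}).relIndex V = ♯(V ⊓ C{t}) * 2 := by omega
    exact Nat.eq_of_mul_eq_mul_left h4 this
  have h5 := hT.sq (H3.NG.ea_abl (eaV h.toCII)) (M_le h.toCII ht)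
  have hn' : ¬ zpowers t ≤ C[V] := fun e => hn (e (mem_zpowers t))
  have h6 := (h.m5 (zpowers t) (zpowers_le.2 ht)
    (fun a ha => zp_sq (N_le_NC V (M_le h.toCII ht)) h5 ha) hn').1
  have h7 := two_le_relIndex hn'
  rw [C_zpowers] at h6
  have := Nat.mul_le_mul_right ♯(V ⊓ C{t}) (Nat.mul_le_mul_left 2 h7)
  omega

theorem oz_JJ : JJ S ≤ C[V] := by
  refine H12.J_le_iff.2 fun A hA => ?_
  by_contra hn
  have hV := eaV h.toCII
  have h1 := (h.m5 A (hA.le.trans h.le) (fun a ha => by rw [ea_sq hA.ea ha]; exact one_mem _) hn).1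
  have h2 : EA ((A ⊓ C[V]) ⊔ V) := H12.ea_sup (ea_le hA.ea inf_le_left) hV inf_le_right
  have h3 := hA.card_le (sup_le (inf_le_left.trans hA.le) ((V_le_R h.toCII).trans inf_le_left)) h2
  have h4 : ♯((A ⊓ C[V]) ⊔ V) * ♯((A ⊓ C[V]) ⊓ V) = ♯(A ⊓ C[V]) * ♯V :=
    card_sup (norm_of_cent (cents_symm inf_le_right))
  have h5 : ♯((A ⊓ C[V]) ⊓ V) ≤ ♯(V ⊓ C[A]) :=
    card_le (le_inf inf_le_right ((inf_le_left.trans inf_le_left).trans (H3.NG.ea_abl hA.ea).le_C))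
  have h6 := card_infr A C[V]
  have p1 := card_pos (A ⊓ C[V])
  have p2 := card_pos V
  have h7 : ♯(A ⊓ C[V]) * ♯V ≤ ♯(A ⊓ C[V]) * ((A ⊓ C[V]).relIndex A * ♯(V ⊓ C[A])) := by
    rw [← h4, ← mul_assoc, h6]
    exact Nat.mul_le_mul h3 h5
  have h8 := Nat.le_of_mul_le_mul_left h7 p1
  rw [mul_assoc] at h1
  omega

theorem oz_B : Bm S ≤ S ⊓ C[V] := by
  refine le_inf (Bm_le S) (inf_le_right.trans (C_anti fun v hv => ?_))
  have h1 : v ∈ C[JJ S] := cents_symm (oz_JJ h) hv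
  have h2 : v ^ 2 = 1 := by rw [sq]; exact ea_sq (eaV h.toCII) hv
  exact mem_OZ.2 ⟨H12.mem_J_of_centralizer (V_le_R h.toCII hv).1 h1 h2, h1, h2⟩

theorem oz_nc (g : G) (h1 : cj g V ≤ N[V]) (h2 : V ≤ N[cj g V]) : cj g V ≤ C[V] := by
  by_contra hn
  have hV := eaV h.toCII
  have e1 := (h.m5 _ (h1.trans (le_M h.toCII))
    (fun a ha => by rw [ea_sq (H3.NG.ea_cj hV g) ha]; exact one_mem _) hn).1
  have e2 := (m5g h g h2 (fun a ha => by rw [ea_sq hV ha]; exact one_mem _) (fun e => hn (cents_symm e))).1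
  have c1 := card_infr (cj g V) C[V]
  have c2 := card_infr V C[cj g V]
  rw [card_cj] at c1
  have p1 := card_pos (cj g V ⊓ C[V])
  have p2 := card_pos (V ⊓ C[cj g V])
  have p3 := relIndex_pos (cj g V ⊓ C[V]) (cj g V)
  have p4 := relIndex_pos (V ⊓ C[cj g V]) V
  generalize ♯(cj g V ⊓ C[V]) = x at *
  generalize ♯(V ⊓ C[cj g V]) = y at *
  generalize (cj g V ⊓ C[V]).relIndex (cj g V) = i at *
  generalize (V ⊓ C[cj g V]).relIndex V = j at *
  have f1 : 2 * y ≤ x := by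
    apply Nat.le_of_mul_le_mul_left _ p3
    nlinarith
  have f2 : 2 * x ≤ y := by
    apply Nat.le_of_mul_le_mul_left _ p4
    nlinarith
  omega

end Oz

/-- `X ≤ V` has largest order subject to `C(X) ≰ M`, `T` is a Sylow subgroup of `C(X)` over `R` -/
structure OX (S M V X T : Subgroup G) : Prop extends Oz S M V where
  leX : X ≤ V
  nX : ¬ C[X] ≤ M
  mxX : ∀ Y ≤ V, ¬ C[Y] ≤ M → ♯Y ≤ ♯X
  sylT : Syl 2 C[X] T
  RT : S ⊓ C[V] ≤ T

theorem OZS_le (h : CII S M V) : OZ S ≤ V := OZ_le_V h h.syl.pi inf_le_left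

theorem exists_OX (h : Oz S M V) : ∃ X T, OX S M V X T := by
  obtain ⟨X, ⟨h1, h2⟩, h3⟩ := Set.exists_max_image {Y : Subgroup G | Y ≤ V ∧ ¬ C[Y] ≤ M} (fun Y => ♯Y)
    (Set.toFinite _) ⟨OZ S, OZS_le h.toCII, h.nC⟩
  obtain ⟨T, hT, hR⟩ := Sylow_superset Nat.prime_two (R_pi h.toCII) (inf_le_right.trans (C_anti h1))
  exact ⟨X, T, h, h1, h2, fun Y a b => h3 Y ⟨a, b⟩, hT, hR⟩

namespace OX

variable (h : OX S M V X T)
include h

theorem c : CII S M V := h.toOz.toCII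

theorem Xne : X ≠ ⊥ := by
  intro e
  have h1 := h.mxX _ (OZS_le h.c) h.c.nC
  have h2 := one_lt_card (OZ_ne_bot h.c.syl.pi (S_ne h.c))
  rw [e, card_bot] at h1
  omega

theorem Xpi : IsPi {2} X := (ea_pi (eaV h.c)).of_le h.leX

theorem ch2X : Ch2 C[X] := ch2_C h.c.l2 h.Xpi h.Xne

theorem BT : Bm S ≤ T := (oz_B h.toOz).trans h.RT

theorem TM : T ≤ M := h.c.two_le h.sylT.pi h.BT

theorem eq_of_le (h1 : X ≤ Y) (h2 : Y ≤ V) (h3 : ¬ C[Y] ≤ M) : Y = X :=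
  (eq_of_card_ge h1 (h.mxX Y h2 h3)).symm

theorem ozT : OZ T = X := by
  refine h.eq_of_le (le_OZT h.c h.RT h.leX h.sylT.le) (OZ_le_V h.c h.sylT.pi h.RT) fun e => h.nX ?_
  refine (h.c.fact h.ch2X (h.BT.trans h.sylT.le)).trans (sup_le ?_ inf_le_right)
  exact inf_le_right.trans ((C_anti (OZ_le_Ys h.ch2X h.sylT)).trans e)

theorem nTV : ¬ T ≤ C[V] := fun e => h.nX <| by
  have : V ≤ X := h.ozT ▸ le_OZT h.c h.RT le_rfl e
  exact (C_anti this).trans (CV_le h.c)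

theorem XC (hA : A ≤ T) : X ≤ V ⊓ C[A] := le_inf h.leX (cents_symm (hA.trans h.sylT.le))

theorem four : 4 * ♯X ≤ ♯V := by
  obtain ⟨t, ht, h1, h2⟩ := exists_sq h.sylT.pi h.nTV
  have hn' : ¬ zpowers t ≤ C[V] := fun e => h1 (e (mem_zpowers t))
  have h6 := (h.m5 (zpowers t) (zpowers_le.2 (h.TM ht))
    (fun a ha => zp_sq (N_le_NC V (M_le h.c (h.TM ht))) h2 ha) hn').1
  have h7 := two_le_relIndex hn'
  have h8 := card_le (h.XC (zpowers_le.2 ht))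
  have := Nat.mul_le_mul (Nat.mul_le_mul_left 2 h7) h8
  omega

theorem hyper (hY : Y ≤ V) (hc : ♯V ≤ 2 * ♯Y) : C[Y] ≤ M := by
  by_contra hn
  have h1 := h.mxX Y hY hn
  have h2 := h.four
  have h3 := card_pos X
  omega

theorem le_Q2 (hH : Ch2 H) (hB : Bm S ≤ H) : V ≤ Q2 H := by
  by_contra hn
  have hV := eaV h.c
  obtain ⟨T', hT', hB'⟩ := Sylow_superset Nat.prime_two (h.c.syl.pi.of_le (Bm_le S)) hB
  have hM : T' ≤ M := h.c.two_le hT'.pi hB'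
  have hn' : V ⊴ T' := ⟨h.c.V_le_B.trans hB', hM.trans (M_le h.c)⟩
  obtain ⟨V₁, v, f, hL⟩ := exists_Lc hH hT' hV hn' hn
  have hV' : EA (cj f V) := H3.NG.ea_cj hV f
  have hA : cj f V₁ ≤ cj f V := cj_mono f hL.le
  have hD1 : V ⊓ cj f V ≤ V₁ := hL.D_le.trans inf_le_left
  have hD2 : V ⊓ cj f V ≤ cj f V₁ := hL.D_le.trans inf_le_right
  have e1 : cj f V₁ ⊓ C[V] = V ⊓ cj f V :=
    le_antisymm (hL.cA ▸ inf_le_inf_right _ hA)
      (le_inf hD2 (inf_le_left.trans (H3.NG.ea_abl hV).le_C))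
  have c1 : ♯V₁ * 2 = ♯V := hL.idx ▸ card_mul_relIndex hL.le
  have c2 := card_mul_relIndex hD1
  have c3 := card_mul_relIndex hD2
  rw [card_cj] at c3
  have p1 := card_pos (V ⊓ cj f V)
  have c4 : (V ⊓ cj f V).relIndex (cj f V₁) = (V ⊓ cj f V).relIndex V₁ :=
    Nat.eq_of_mul_eq_mul_left p1 (c3.trans c2.symm)
  rcases pow2_cases (B := V ⊓ cj f V) ((ea_pi hV).of_le hL.le) rfl with e | e | e
  · have h1 : V₁ ≤ V ⊓ cj f V := relIndex_eq_one.1 e
    have h2 : V ⊔ cj f V ≤ C[V₁] := sup_le (cents_of_le (H3.NG.ea_abl hV).le_C hL.le)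
      (cents_of_le (H3.NG.ea_abl hV').le_C (h1.trans inf_le_right))
    exact hL.fN (M_le h.c (h.hyper hL.le (by omega) (h2 hL.f_mem)))
  · have h1 : ¬ cj f V₁ ≤ V := fun e' => by
      have : (V ⊓ cj f V).relIndex (cj f V₁) = 1 := relIndex_eq_one.2 (le_inf e' hA)
      omega
    obtain ⟨a, ha, ha'⟩ := SetLike.not_le_iff_exists.1 h1
    have h2 := hL.tv hV hn' e ha ha'
    have h3 := noTv h.toOz (hM (hL.A_le ha)) h2.ge (by omega)
    have : a ∈ cj f V₁ ⊓ C[V] := ⟨ha, h3⟩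
    rw [e1] at this
    exact ha' this.1
  · have h1 : ¬ cj f V₁ ≤ C[V] := fun e' => by
      have : (V ⊓ cj f V).relIndex (cj f V₁) = 1 := relIndex_eq_one.2 (e1 ▸ le_inf le_rfl e')
      omega
    have h2 := (h.m5 _ (hL.A_le.trans hM)
      (fun a ha => by rw [ea_sq hV' (hA ha)]; exact one_mem _) h1).2
    rw [e1, c4] at h2
    have h3 := h2 e
    have h4 : ♯(V ⊓ cj f V) ≤ ♯(V ⊓ C[cj f V₁]) :=
      card_le (le_inf inf_le_left (inf_le_right.trans (cents_of_le (H3.NG.ea_abl hV').le_C hA)))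
    have h5 := Nat.mul_le_mul_left (4 * (V ⊓ cj f V).relIndex V₁) h4
    have h6 := card_pos V₁
    nlinarith

theorem ic (g : G) (hg : V ⊓ cj g V ≠ ⊥) : cj g V ≤ C[V] := by
  obtain ⟨y, ⟨hy, hy'⟩, y1⟩ := exists_ne_one hg
  have hV := eaV h.c
  obtain ⟨c, hc, e⟩ := h.c.line hy hy'
  obtain ⟨m, hm, hB⟩ := h.c.red.conj_Bm h.c.ch2.1 (h.c.syl.of_le h.c.le le_top) hy
  have hy2 : m * y * m⁻¹ ∈ V := conj_mem (M_le h.c hm) hy
  have hB' : Bm S ≤ C{m * y * m⁻¹} := mem_C_iff_le_C1.1 hB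
  have h1 := h.le_Q2 (h.c.l2.cent (ea_sq hV hy2) (H3.NG.cjne m y1)) hB'
  have h2 : Q2 C{m * y * m⁻¹} ≤ M :=
    le_sup_left.trans (h.c.two_le ((pcore_pi _ _).sup (h.c.syl.pi.of_le (Bm_le S))
      (hB'.trans (pcore_nml _ _).2)) le_sup_right)
  rw [← cj_C1, Q2, pcore_cj] at h1 h2
  have h3 : V ≤ Q2 C{y} := by rwa [← cj_of_mem_N (M_le h.c hm), cj_le_cj] at h1
  have h4 : Q2 C{y} ≤ N[V] := by
    rw [← cj_of_mem hm, cj_le_cj] at h2
    exact h2.trans (M_le h.c)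
  rw [e]
  refine oz_nc h.toOz c ((cj_le_of_mem_N h3 ((pcore_nml _ _).2 hc)).trans h4) ?_
  rw [← cj_N, le_cj_iff]
  exact (cj_le_of_mem_N h3 ((pcore_nml _ _).2 (inv_mem hc))).trans h4

theorem crit (hP : P ≤ C[X]) (hT : T ≤ P) (hn : ¬ P ≤ M) :
    ∃ g, cj g V ≤ S ⊓ C[V] ∧ ¬ cj g V ≤ Q2 P ∧ ∀ p ∈ P, cj p V ≤ C[cj g X] := by
  have hV := eaV h.c
  have hQT : Q2 P ≤ T := pcore_le_Hall (h.sylT.of_le hT hP)
  have hTL : T ≤ N[S ⊓ C[V]] := le_NR h.c h.sylT.pi h.RT h.TM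
  have hLV : N[S ⊓ C[V]] ≤ N[V] := h.c.NR_le.trans (M_le h.c)
  have hQV : Q2 P ≤ N[V] := hQT.trans (hTL.trans hLV)
  have A0 : V ≤ Q2 P := (h.le_Q2 h.ch2X (h.BT.trans h.sylT.le)).trans
    (pcore_le_pcore_of_le hP ((pcore_le_Hall h.sylT).trans hT))
  have cP : ∀ p ∈ P, ∀ w, cj w V ≤ Q2 P → cj (p * w) V ≤ Q2 P := fun p hp w hw => by
    rw [cj_mul]
    exact cj_le_of_mem_N hw ((pcore_nml _ _).2 hp)
  have AB : ∀ k, (∀ w, Wd N[S ⊓ C[V]] P k w → cj w V ≤ Q2 P) →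
      ∀ w, Wd N[S ⊓ C[V]] P (k + 1) w → cj w V ≤ S ⊓ C[V] := by
    rintro k hk _ ⟨l, hl, p, hp, w, hw, rfl⟩
    have h1 : cj (l * p * w) V ≤ N[S ⊓ C[V]] := by
      rw [mul_assoc, cj_mul]
      exact cj_le_of_mem ((cP p hp w (hk w hw)).trans (hQT.trans hTL)) hl
    refine le_R h.c ((ea_pi hV).cj _) (oz_nc h.toOz _ (h1.trans hLV) ?_) h1
    obtain ⟨p', hp', w', hw', e⟩ := hw.inv.shift (inv_mem hp)
    have e' : (l * p * w)⁻¹ = w⁻¹ * p⁻¹ * l⁻¹ := by group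
    rw [← cj_N, le_cj_iff, e', cj_mul, cj_of_mem_N (hLV (inv_mem hl)), e]
    exact (cP p' hp' w' (hk w' hw')).trans hQV
  have ex : ∃ k, ¬ ∀ w, Wd N[S ⊓ C[V]] P k w → cj w V ≤ Q2 P := by
    by_contra hc
    simp only [not_exists, not_not] at hc
    have h1 : ncl V (N[S ⊓ C[V]] ⊔ P) ≤ Q2 P := H3.NG.ncl_le fun g hg => by
      obtain ⟨k, hk⟩ := Wd.exists hg
      exact hc k g hk
    have h2 := H3.NG.norm_ncl V (N[S ⊓ C[V]] ⊔ P)
    exact hn ((le_sup_right.trans h2).trans (h.c.mx ((pcore_pi _ _).of_le h1)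
      (ne_bot_of_le h.c.ne H3.NG.self_le_ncl) (le_sup_left.trans h2)))
  classical
  have h1 := Nat.find_spec ex
  have h2 : ∀ j < Nat.find ex, ∀ w, Wd N[S ⊓ C[V]] P j w → cj w V ≤ Q2 P := fun j hj => by
    simpa using Nat.find_min ex hj
  generalize Nat.find ex = k at h1 h2
  cases k with
  | zero =>
    refine absurd (fun w hw => ?_) h1
    obtain rfl : w = 1 := hw
    rwa [cj_one]
  | succ j =>
    have hB := AB j (h2 j (Nat.lt_succ_self j))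
    simp only [not_forall] at h1
    obtain ⟨g, hg, hg'⟩ := h1
    refine ⟨g, hB g hg, hg', fun p' hp' => ?_⟩
    obtain ⟨w, hw, l, hl, p, hp, rfl⟩ := hg.last
    obtain ⟨p'', hp'', w', hw', e⟩ := hw.inv.shift hp'
    have h3 := hB (1 * p'' * w') ⟨1, one_mem _, p'', hp'', w', hw', rfl⟩
    rw [one_mul, ← e, cj_mul, ← le_cj_iff] at h3
    refine h3.trans ?_
    rw [← cj_C, cj_mul, cj_le_cj, cj_mul, ← cj_of_mem_N hl, cj_le_cj, le_cj_iff]
    exact (cj_le_of_mem (h.RT.trans hT) (inv_mem hp)).trans hP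

theorem card_eq : ♯V = 4 * ♯X := by
  have hV := eaV h.c
  have hB : Bm T = Bm S := Bm_eq_of_syl h.c.syl h.sylT.pi le_top h.BT
  obtain ⟨P, hP, hm, hn⟩ := exists_minP h.sylT h.TM
    (inf_le_right.trans ((N_le_N_Bm T).trans (hB ▸ h.c.nB))) h.nX
  obtain ⟨g, hR, hQ, hU⟩ := h.crit hP hm.syl.le hn
  have hA : EA (cj g V) := H3.NG.ea_cj hV g
  have hAT : cj g V ≤ T := hR.trans h.RT
  have hAV : cj g V ≤ C[V] := hR.trans inf_le_right
  obtain ⟨A₁, h1, i2, -, a, ha, ha1, f, hf, hfM, ho, hi, hc⟩ :=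
    hm.exists_inv (h.ch2X.1.of_le hP) h.TM hn hA hAT hQ
  have hfP : f ∈ P := F2_le P hf
  have hQV : Q2 P ≤ N[V] := (pcore_le_Hall hm.syl).trans (h.TM.trans (M_le h.c))
  have hAP : cj g V ≤ P := hAT.trans hm.syl.le
  have hV' : EA (cj f V) := H3.NG.ea_cj hV f
  have hXV' : X ≤ cj f V := by
    rw [← cj_of_mem_C (hP hfP)]
    exact cj_mono f h.leX
  have hD : V ⊓ cj f V = X := h.eq_of_le (le_inf h.leX hXV') inf_le_left fun e =>
    hfM (e (mem_C_iff_le_C1.2 (inv_cent hAV ho ha hi)))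
  have hfix : ∀ b ∈ cj g V, b ∉ A₁ → cj f V ⊓ C{b} ≤ X := fun b hb hb1 =>
    hD ▸ le_inf (inv_fix (pcore_nml _ _) hQV hA hAP hAV hfP ho ha hi h1 hc i2 ha1 hb hb1) inf_le_left
  have p4 := h.four
  have pX := card_pos X
  have nfix : ∀ b ∈ cj g V, b ∈ C[cj f V] → b ∈ A₁ := fun b hb hb' => by
    by_contra hb1
    have := card_le ((le_inf le_rfl (mem_C_iff_le_C1.1 hb')).trans (hfix b hb hb1))
    rw [card_cj] at this
    omega
  have hX1 : cj g X ≤ cj g V ⊓ C[cj f V] := le_inf (cj_mono g h.leX) (cents_symm (hU f hfP))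
  have nN : ¬ cj f V ≤ N[cj g V] := fun e => by
    have n1 : ¬ cj f V ≤ C[cj g V] := fun e' => ha1 (nfix a ha (cents_symm e' ha))
    have m1 := (m5g h.toOz g e (fun b hb => by rw [ea_sq hV' hb]; exact one_mem _) n1).1
    have c1 := card_infr (cj f V) C[cj g V]
    have c2 := card_le ((inf_le_inf_left (cj f V) (C_le_C1 ha)).trans (hfix a ha ha1))
    have c3 := card_le hX1
    rw [card_cj] at c1 c3
    have p1 := relIndex_pos (cj f V ⊓ C[cj g V]) (cj f V)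
    generalize (cj f V ⊓ C[cj g V]).relIndex (cj f V) = i at *
    have c4 := Nat.mul_le_mul_right i (c2.trans c3)
    have c5 := card_pos V
    nlinarith
  have c6 : ♯(cj g V ⊓ C[cj f V]) ≤ ♯X := by
    have := h.mxX (cj g⁻¹ (cj g V ⊓ C[cj f V])) (by rw [cj_le_iff, inv_inv]; exact inf_le_left) fun e => by
      apply nN
      rw [← cj_C, cj_le_iff, inv_inv] at e
      exact (cents_symm inf_le_right).trans (e.trans (by rw [← cj_N]; exact cj_mono g (M_le h.c)))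
    rwa [card_cj] at this
  have hX1' : cj g X ≤ A₁ ⊓ C[cj f V] := fun x hx => ⟨nfix x (hX1 hx).1 (hX1 hx).2, (hX1 hx).2⟩
  have c7 : ♯(A₁ ⊓ C[cj f V]) = ♯X := by
    have a1 := card_le hX1'
    have a2 := card_le (inf_le_inf_right C[cj f V] h1)
    rw [card_cj] at a1
    omega
  have c8 : ♯A₁ * 2 = ♯V := by rw [← card_cj g V, ← i2]; exact card_mul_relIndex h1
  have c9 := card_infr A₁ C[cj f V]
  rw [c7] at c9
  have n2 : ¬ A₁ ≤ C[cj f V] := fun e => by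
    rw [inf_eq_left.2 e] at c7
    omega
  have m2 := (m5g h.toOz f (inv_norm (pcore_nml _ _) hQV hAP hAV hfP h1 hc)
    (fun b hb => by rw [ea_sq hA (h1 hb)]; exact one_mem _) n2).2
  have c10 : ♯X ≤ ♯(cj f V ⊓ C[A₁]) :=
    card_le (le_inf hXV' (cents_symm ((h1.trans hAV).trans (C_anti h.leX))))
  rcases pow2_cases (B := A₁ ⊓ C[cj f V]) ((ea_pi hA).of_le h1) rfl with e | e | e
  · rw [e] at c9
    omega
  · rw [e] at c9
    omega
  · have m3 := m2 e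
    have := Nat.mul_le_mul_left (4 * (A₁ ⊓ C[cj f V]).relIndex A₁) c10
    nlinarith

theorem idxT : (T ⊓ C[V]).relIndex T = 2 := by
  have hV := eaV h.c
  have c4 := h.card_eq
  have pX := card_pos X
  have hTV : T ≤ N[V] := h.TM.trans (M_le h.c)
  have nVX : ¬ V ≤ X := fun e => by
    have := card_le e
    omega
  obtain ⟨v, hv, hvX, hf⟩ := exists_fix h.sylT.pi ((V_le_R h.c).trans h.RT) hTV nVX
  have hlt : X < X ⊔ zpowers v := lt_of_le_of_ne le_sup_left fun e =>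
    hvX (e.ge (mem_sup_right (mem_zpowers v)))
  have c1 := two_mul_card_le hlt
  have sq : ∀ t ∈ T, t * t ∈ C[V] := fun t ht => by
    have htt := mul_mem ht ht
    refine noTv h.toOz (h.TM htt) (Y := X ⊔ zpowers v) (sup_le ?_ ?_) (by omega)
    · exact le_inf h.leX (mem_C_iff_le_C1.1 (h.sylT.le htt))
    · rw [zpowers_le]
      refine ⟨hv, mem_C1_comm.1 (mem_C1_iff_conj.2 ?_)⟩
      have hx := hf t ht
      have e1 := conj_eq_of_mem_C (h.sylT.le ht) hx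
      have e2 := ea_sq hV (h.leX hx)
      calc t * t * v * (t * t)⁻¹ = t * (t * v * t⁻¹ * v⁻¹) * t⁻¹ * (t * v * t⁻¹ * v⁻¹) * v := by group
        _ = v := by rw [e1, e2, one_mul]
  have m1 := (h.m5 T h.TM sq h.nTV).1
  have c2 := card_le (h.XC le_rfl)
  have c3 := two_le_relIndex h.nTV
  have := Nat.mul_le_mul_left (2 * (T ⊓ C[V]).relIndex T) c2
  have c5 : (T ⊓ C[V]).relIndex T ≤ 2 := by
    apply Nat.le_of_mul_le_mul_right _ pX
    nlinarith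
  omega

theorem tlc : TLc V X T where
  l2 := h.c.l2
  ea := eaV h.c
  le := h.leX
  ne := h.Xne
  idx := by
    have c1 := card_mul_relIndex h.leX
    rw [h.card_eq, mul_comm 4] at c1
    exact Nat.eq_of_mul_eq_mul_left (card_pos X) c1
  syl := h.sylT
  nv := h.TM.trans (M_le h.c)
  idxT := h.idxT
  oz := h.ozT
  nle := fun e => h.nX (e.trans (le_M h.c))
  mx := fun Y h1 h2 h3 => (h.c.mx' h1 h2 ((M_le h.c).trans h3)).trans (M_le h.c)
  nc := oz_nc h.toOz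
  ic := h.ic

end OX

end H26.NGX

namespace H12.NG

open Subgroup Cfsg H24 H11.ZN

universe u

variable {G : Type u} [Group G] [Finite G] {V M S : Subgroup G}

theorem Oz.false (h : Oz S M V) : False := by
  obtain ⟨X, T, h⟩ := H26.NGX.exists_OX h
  exact h.tlc.false

end H12.NG
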