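import Cfsg.Agent.H12.NGG0
import Cfsg.Agent.H12.NGF5
import Cfsg.Agent.H12.NGO4
import Cfsg.Agent.H12.NGO5
import Cfsg.Agent.H12.NGA5
import Cfsg.Agent.H12.NGA7

/-!
# N-groups: reduction to case (A) with `U` abelian
-/

set_option autoImplicit false

namespace H12.NG

open Subgroup Cfsg H24 H11.ZN

universe u

variable {G : Type u} [Group G] [Finite G]

theorem CII.Ys_le {S M V H : Subgroup G} (h : CII S M V) (hH : Ch2 H) (hS : S ≤ H) : Ys H ≤ V := by
  have hq : Q2 H ≤ S := pcore_le_Hall (h.syl.of_le hS le_top)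
  have h1 : Ys H ≤ H ⊓ M :=
    le_inf (Ys_red hH).nml.1 ((Ys_red hH).le_Q2.trans (hq.trans h.le))
  have h2 : Red (Ys H) (H ⊓ M) :=
    (Ys_red hH).sub h1 inf_le_left (h.fact hH (le_trans inf_le_left hS))
  rw [h.ys]
  exact h2.le_Ys.trans (Ys_mono (hH.of_le (le_inf (Q2_nml H).1 (hq.trans h.le)) inf_le_left) h.ch2
    h.sylM (le_inf hS h.le) inf_le_right)

theorem reduce [IsSimpleGroup G] (hG : ¬ IsMulCommutative G) (hs : Sol2 G) :
    Concl0 G ∨ ∃ (S V : Subgroup G) (z : G), CA S V z ∧ Abl (Uz V z) ∧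
      ∀ H, Ch2 H → S ≤ H → Ys H ≤ V := by
  rcases rank_or_L2 hG hs with h | h
  · exact .inl (concl_of_rank hG hs h)
  rcases dichotomy' h hG (even_card hG).two_dvd with ⟨M, h⟩ | h | ⟨S, M, V, h⟩
  · exact .inl (concl_of_se h)
  · exact .inl (concl_of_rank hG hs h)
  rcases h.omega with h' | ⟨z, h'⟩ | ⟨𝓦, h'⟩
  · exact h'.false.elim
  · by_cases hU : Abl (Uz V z)
    · exact .inr ⟨S, V, z, h', hU, fun _ => h.Ys_le⟩
    · exact .inl (concl_of_rank hG hs (h'.nonab hU))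
  · exact h'.false.elim

theorem main_rank : Main.{u} (fun G _ => ¬ SectionalPRankLE 2 4 G) := by
  intro G _ _ _ hG hs
  rcases reduce hG hs with h | ⟨S, V, z, h, hU, -⟩
  · exact .inl h
  · exact .inr fun h4 => h.ab h4 hU

end H12.NG
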