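import Cfsg.Agent.H12.NGO1

/-!
# N-groups, case II with at least two components: basic properties
-/

set_option autoImplicit false
set_option linter.unusedSectionVars false
namespace H12.NG
open Subgroup Cfsg H24 H11.ZN H18.NO
universe u
variable {G : Type u} [Group G] [Finite G] {V V₀ V₁ H T X Y M S A W : Subgroup G} {𝓦 : Set (Subgroup G)}
  {a f g v y : G}

theorem CII.conj (h : CII S M V) (g : G) : CII (cj g S) (cj g M) (cj g V) where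
  l2 := h.l2
  syl := h.syl.cj_mem (mem_top g)
  le := cj_mono g h.le
  ys := by rw [Ys_cj, ← h.ys]
  nv := by rw [← cj_N, ← h.nv]
  ne := fun e => h.ne (cj_eq_bot.1 e)
  nB := by rw [Bm_cj, ← cj_N]; exact cj_mono g h.nB
  par P hP := by
    have := hP.cj g⁻¹
    rw [Bm_cj, cj_inv_cj] at this
    exact le_cj_iff.2 (h.par _ this)
  other := by
    obtain ⟨H, h1, h2, h3⟩ := h.other
    exact ⟨cj g H, cj_mono g h1, by rw [Q2, pcore_cj]; exact fun e => h2 (cj_eq_bot.1 e),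
      fun e => h3 (cj_le_cj.1 e)⟩

namespace Om
variable (h : Om S M V 𝓦)
include h

theorem W_le (hW : W ∈ 𝓦) : W ≤ V := h.sup ▸ le_sSup hW

theorem cs : Cs V M 𝓦 := ⟨h.ea, fun _ => h.W_le, h.card, h.ind, h.perm, h.three⟩

theorem V_eq (hW : W ∈ 𝓦) : V = W ⊔ Cw 𝓦 W := h.sup.trans (sSup_eq_Cw hW)

theorem C_V (hc : ∀ W ∈ 𝓦, a ∈ C[W]) : a ∈ C[V] := by
  rw [h.sup]; exact C_sSup hc

theorem exists_other (hW : W ∈ 𝓦) : ∃ W' ∈ 𝓦, W' ≠ W ∧ W ≤ Cw 𝓦 W' := by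
  obtain ⟨W₁, w1, W₂, w2, hne⟩ := h.two
  by_cases e : W₁ = W
  · exact ⟨W₂, w2, fun e' => hne (e.trans e'.symm), le_Cw hW fun e' => hne (e.trans e')⟩
  · exact ⟨W₁, w1, e, le_Cw hW (Ne.symm e)⟩

theorem nfW (hW : W ∈ 𝓦) (hy : y ∈ W) (h1 : y ≠ 1) : C{y} ≤ M := by
  obtain ⟨W', w1, -, w2⟩ := h.exists_other hW
  exact h.nf W' w1 y (w2 hy) h1

theorem inter (hW : W ∈ 𝓦) (hy : y ∈ Cw 𝓦 W) (h1 : y ≠ 1) (hg : y ∈ cj g V) : g ∈ M := by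
  obtain ⟨c, hc, e⟩ := h.line (h.cs.Cw_le_V W hy) hg
  rw [cj_of_mem_N (h.M_le (h.nf W hW y hy h1 hc))] at e
  exact h.nv.ge (mem_N_iff_cj.2 e)

theorem full (hg : g ∉ M) (hW : W ∈ 𝓦) : (V ⊓ cj g V) ⊓ Cw 𝓦 W = ⊥ :=
  inf_eq_bot_of fun _ hx hc => by_contra fun h1 => hg (h.inter hW hc h1 (mem_inf.1 hx).2)

theorem card_full (hX : X ≤ V) (hf : ∀ W ∈ 𝓦, X ⊓ Cw 𝓦 W = ⊥) : ♯X ≤ 4 := by
  obtain ⟨W, hW, -⟩ := h.two
  have h1 := h.cs.Cw_le_V W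
  have h2 := card_sup_of_inf (h.abl.norm h1 hX) (hf W hW)
  have h3 := card_sup_of_inf (h.abl.norm h1 (h.W_le hW)) (h.ind W hW)
  have h4 := card_le (sup_le hX h1)
  rw [← h.V_eq hW, h.card W hW] at h3
  rw [h2, h3] at h4
  exact Nat.le_of_mul_le_mul_right h4 (card_pos _)

theorem card_V : ♯V = 4 ^ 𝓦.ncard := by
  rw [h.sup]
  exact h.cs.card_sSup subset_rfl (Set.toFinite _)

theorem two_le_ncard : 2 ≤ 𝓦.ncard := by
  obtain ⟨W₁, w1, W₂, w2, hne⟩ := h.two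
  exact (Set.one_lt_ncard (Set.toFinite _)).2 ⟨W₁, w1, W₂, w2, hne⟩

theorem exists_pow : ∃ k, 1 ≤ k ∧ 𝓦.ncard = 2 ^ k := by
  obtain ⟨W, hW, -⟩ := h.two
  have e : 𝓦 = {W' | ∃ a ∈ S, cj a W = W'} := by
    ext W'
    exact ⟨h.trans W hW W', fun ⟨a, ha, e⟩ => e ▸ h.perm a (h.le ha) W hW⟩
  obtain ⟨k, hk⟩ := (piNat_singleton two_prime (relIndex_ne_zero' _ _)).1 (h.syl.pi.relIndex N[W])
  have h1 := h.two_le_ncard
  rw [← ncard_orbit, ← e] at hk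
  refine ⟨k, Nat.pos_of_ne_zero ?_, hk⟩
  rintro rfl
  omega

theorem rank (hA : A ≤ M) (h2 : ∀ a ∈ A, a * a ∈ C[V]) : (A ⊓ C[V]).relIndex A ≤ 2 ^ 𝓦.ncard := by
  have := h.cs.rank h2 _ 𝓦 subset_rfl rfl fun a ha => h.perm a (hA ha)
  rwa [← h.sup, ← inf_relIndex_right, inf_comm] at this

theorem conj (g : G) : Om (cj g S) (cj g M) (cj g V) (cj g '' 𝓦) where
  toCII := h.toCII.conj g
  card := by rintro _ ⟨W, hW, rfl⟩; rw [card_cj, h.card W hW]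
  sup := by rw [← cj_sSup, ← h.sup]
  ind := by rintro _ ⟨W, hW, rfl⟩; rw [Cw_cj, ← cj_inf, h.ind W hW, cj_bot]
  perm := by
    rintro m hm _ ⟨W, hW, rfl⟩
    refine ⟨_, h.perm _ (mem_cj.1 hm) W hW, ?_⟩
    rw [← cj_mul, ← cj_mul]
    congr 1
    group
  three := by
    rintro _ ⟨W, hW, rfl⟩
    obtain ⟨d, d1, d2, d3⟩ := h.three W hW
    exact ⟨_, conj_mem_cj g d1, by rw [Cw_cj]; exact mem_C_cj d2 g, inf_C1_cj d3 g⟩
  two := by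
    obtain ⟨W₁, w1, W₂, w2, hne⟩ := h.two
    exact ⟨_, ⟨W₁, w1, rfl⟩, _, ⟨W₂, w2, rfl⟩, fun e => hne (cj_inj.1 e)⟩
  trans := by
    rintro _ ⟨W, hW, rfl⟩ _ ⟨W', hW', rfl⟩
    obtain ⟨s, hs, rfl⟩ := h.trans W hW W' hW'
    refine ⟨_, conj_mem_cj g hs, ?_⟩
    rw [← cj_mul, ← cj_mul]
    congr 1
    group
  nf := by
    rintro _ ⟨W, hW, rfl⟩ y hy y1
    rw [Cw_cj] at hy
    obtain ⟨x, hx, rfl⟩ := mem_cj'.1 hy
    rw [← cj_C1]
    exact cj_mono g (h.nf W hW x hx fun e => y1 (by rw [e]; group))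

/-- an element moving a component has no fixed points on it -/
theorem inf_C_of_move (ha : a ∈ M) (hW : W ∈ 𝓦) (hn : a ∉ N[W]) : W ⊓ C{a} = ⊥ :=
  inf_eq_bot_of fun _ hx hc => by_contra fun h1 => hn (h.cs.norm_of_fix ha hW hx h1 (mem_C1_comm.1 hc))

theorem pair {W' : Subgroup G} (h2 : 𝓦.ncard = 2) (hW : W ∈ 𝓦) (hW' : W' ∈ 𝓦) (hne : W' ≠ W) (hX : X ∈ 𝓦) :
    X = W ∨ X = W' := by
  have e : ({W, W'} : Set (Subgroup G)) = 𝓦 := Set.eq_of_subset_of_ncard_le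
    (by rintro _ (rfl | rfl) <;> assumption) (by rw [h2, Set.ncard_pair hne.symm]) (Set.toFinite _)
  rw [← e] at hX
  exact hX

theorem Cw_pair {W' : Subgroup G} (h2 : 𝓦.ncard = 2) (hW : W ∈ 𝓦) (hW' : W' ∈ 𝓦) (hne : W' ≠ W) :
    Cw 𝓦 W = W' :=
  le_antisymm (Cw_le fun _ h1 h3 => ((h.pair h2 hW hW' hne h1).resolve_left h3).le) (le_Cw hW' hne)

/-- with two components, an element normalizing one of them normalizes both -/
theorem norm_pair {W' : Subgroup G} (h2 : 𝓦.ncard = 2) (hW : W ∈ 𝓦) (hW' : W' ∈ 𝓦) (ha : a ∈ M)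
    (hn : a ∈ N[W]) : a ∈ N[W'] := by
  by_cases hne : W' = W
  · rwa [hne]
  rw [mem_N_iff_cj, ← h.Cw_pair h2 hW hW' hne, cj_Cw (h.perm a ha), cj_of_mem_N hn]

theorem mul_norm_pair {b : G} (h2 : 𝓦.ncard = 2) (hW : W ∈ 𝓦) (ha : a ∈ M) (hb : b ∈ M) (h3 : a ∉ N[W])
    (h4 : b ∉ N[W]) : a * b ∈ N[W] := by
  have e1 : cj b W ≠ W := fun e => h4 (mem_N_iff_cj.2 e)
  have e2 : cj a⁻¹ W ≠ W := fun e => h3 (by simpa using inv_mem (mem_N_iff_cj.2 e))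
  have e3 := (h.pair h2 hW (h.perm b hb W hW) e1 (h.perm _ (inv_mem ha) W hW)).resolve_left e2
  rw [mem_N_iff_cj, cj_mul, ← e3, cj_cj_inv]

theorem card_C_of_move (h2 : 𝓦.ncard = 2) (ha : a ∈ M) (hW : W ∈ 𝓦) (hn : a ∉ N[W]) : ♯(V ⊓ C{a}) ≤ 4 := by
  refine h.card_full inf_le_left fun W' hW' => ?_
  obtain ⟨W'', w1, w2, -⟩ := h.exists_other hW'
  rw [h.Cw_pair h2 hW' w1 w2]
  refine eq_bot_of_le (h.inf_C_of_move ha w1 fun e => hn (h.norm_pair h2 w1 hW ha e)) ?_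
  exact le_inf inf_le_right (inf_le_left.trans inf_le_right)

theorem FG_aux (hA : A ≤ M) (hf : ∀ W ∈ 𝓦, (V ⊓ A) ⊓ Cw 𝓦 W = ⊥) (hn : V ≤ N[A]) (hc : ¬ A ≤ C[V]) :
    ♯V = 16 ∧ (A ⊓ C[V]).relIndex A = 2 ∧ ♯(V ⊓ C[A]) ≤ 4 := by
  have cm : ∀ a ∈ A, ∀ w ∈ V, a * w * a⁻¹ * w⁻¹ ∈ V ⊓ A := fun a ha w hw =>
    mem_inf.2 ⟨mul_mem (conj_mem (h.M_le (hA ha)) hw) (inv_mem hw), by
      have := mul_mem ha (conj_mem (hn hw) (inv_mem ha))
      convert this using 1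
      group⟩
  have k1 : ∀ a ∈ A, (∀ W ∈ 𝓦, a ∈ N[W]) → a ∈ C[V] := fun a ha hN => h.C_V fun W hW => by
    obtain ⟨W', w1, -, w2⟩ := h.exists_other hW
    refine mem_C'.2 fun w hw => ?_
    have := eq_one_of_inf (hf W' w1) (cm a ha w (h.W_le hW hw))
      (w2 (mul_mem (conj_mem (hN W hW) hw) (inv_mem hw)))
    rwa [mul_inv_eq_one, mul_inv_eq_iff_eq_mul] at this
  obtain ⟨a, ha, a1⟩ := SetLike.not_le_iff_exists.1 hc
  obtain ⟨W, hW, a2⟩ : ∃ W ∈ 𝓦, a ∉ N[W] := by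
    by_contra e
    push Not at e
    exact a1 (k1 a ha e)
  have e1 : cj a W ≠ W := fun e => a2 (mem_N_iff_cj.2 e)
  have hW' := h.perm a (hA ha) W hW
  have h2 : 𝓦.ncard = 2 := by
    rw [← Set.ncard_pair e1]
    congr 1
    refine Set.Subset.antisymm (fun X hX => by_contra fun e => ?_) (by rintro _ (rfl | rfl) <;> assumption)
    rw [Set.mem_insert_iff, Set.mem_singleton_iff, not_or] at e
    obtain ⟨w, hw, w1⟩ := exists_ne_one (h.cs.ne_bot hW)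
    have := eq_one_of_inf (hf X hX) (cm a ha w (h.W_le hW hw))
      (mul_mem (le_Cw hW' (Ne.symm e.1) (conj_mem_cj a hw)) (le_Cw hW (Ne.symm e.2) (inv_mem hw)))
    rw [mul_inv_eq_one, ← mem_C1_iff_conj] at this
    exact a2 (h.cs.norm_of_fix (hA ha) hW hw w1 this)
  refine ⟨by rw [h.card_V, h2]; rfl, ?_, (card_le (inf_le_inf_left _ (C_le_C1 ha))).trans
    (h.card_C_of_move h2 (hA ha) hW a2)⟩
  rw [relIndex_eq_two_iff]
  refine ⟨a, ha, fun b hb => ?_⟩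
  by_cases e : b ∈ C[V]
  · exact Or.inr ⟨mem_inf.2 ⟨hb, e⟩, fun e' => a1 (by simpa using mul_mem (inv_mem e) (mem_inf.1 e').2)⟩
  · refine Or.inl ⟨mem_inf.2 ⟨mul_mem hb ha, k1 _ (mul_mem hb ha) fun W' hW' => h.norm_pair h2 hW hW'
      (hA (mul_mem hb ha)) (h.mul_norm_pair h2 hW (hA hb) (hA ha) (fun e' => e (k1 b hb fun W'' h'' =>
        h.norm_pair h2 hW h'' (hA hb) e')) a2)⟩, fun e' => e (mem_inf.1 e').2⟩

theorem full' (hg : g ∉ M) (hW : W ∈ cj g '' 𝓦) : (cj g V ⊓ V) ⊓ Cw (cj g '' 𝓦) W = ⊥ := by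
  have := (h.conj g).full (g := g⁻¹) (fun e => hg (by simpa using inv_mem (mem_cj.1 e))) hW
  rwa [cj_inv_cj] at this

theorem FG (hg : cj g V ≤ M) : cj g V ≤ C[V] := by
  by_contra hc
  have gM : g ∉ M := fun e => hc (by rw [cj_of_mem_N (h.M_le e)]; exact h.abl.le_C)
  have h' := h.conj g
  have sq : ∀ a ∈ cj g V, a * a ∈ C[V] := fun a ha => by rw [H3.NG.ea_sq h'.ea ha]; exact one_mem _
  have nc : (cj g '' 𝓦).ncard = 𝓦.ncard := Set.ncard_image_of_injective _ fun _ _ e => cj_inj.1 e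
  by_cases h1 : ∀ W ∈ cj g '' 𝓦, (cj g V ⊓ C[V]) ⊓ Cw (cj g '' 𝓦) W = ⊥
  · have c1 := h'.card_full inf_le_left h1
    have c2 := h.rank hg sq
    have c3 := card_mul_relIndex (inf_le_left : cj g V ⊓ C[V] ≤ _)
    have c4 := h'.card_V
    have c5 := h.two_le_ncard
    rw [nc] at c4
    have c6 : 4 ^ 𝓦.ncard ≤ 4 * 2 ^ 𝓦.ncard := by
      rw [← c4, ← c3]; exact Nat.mul_le_mul c1 c2
    have c7 : 𝓦.ncard = 2 := by
      have e : 4 ^ 𝓦.ncard = 2 ^ 𝓦.ncard * 2 ^ 𝓦.ncard := by rw [← mul_pow]; rfl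
      have := Nat.le_of_mul_le_mul_right (e ▸ c6) (Nat.two_pow_pos _)
      have := (Nat.pow_le_pow_iff_right (by norm_num : 1 < 2)).1 (show 2 ^ 𝓦.ncard ≤ 2 ^ 2 from this)
      omega
    rw [c7] at c2 c4
    have c8 : ♯(cj g V ⊓ C[V]) = 4 ∧ (cj g V ⊓ C[V]).relIndex (cj g V) = 4 := by
      rw [c4] at c3
      constructor <;> nlinarith
    obtain ⟨a, ha, a1, a2⟩ := red_m6 h.red h.ch2.1 hg sq c8.2.ge
    obtain ⟨W, hW, -⟩ := h'.two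
    obtain ⟨W', w1, w2, -⟩ := h'.exists_other hW
    have e1 : (cj g V ⊓ C[V]) ⊔ W' = cj g V := by
      refine eq_of_card_eq (sup_le inf_le_left (h'.W_le w1)) ?_
      rw [card_sup_of_inf (h'.abl.norm (h'.W_le w1) inf_le_left) (by
        rw [← h'.Cw_pair (nc.trans c7) hW w1 w2]; exact h1 W hW), c8.1, h'.card W' w1, c4]; rfl
    obtain ⟨b, hb, c, hc', rfl⟩ := (mem_sup_of_norm (h'.abl.norm (h'.W_le w1) inf_le_left)).1 (e1.ge ha)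
    have c1 : c ≠ 1 := by rintro rfl; exact a1 (by simpa using (mem_inf.1 hb).2)
    refine a2 fun v hv => h'.C_V fun X hX => mem_C'.2 fun w hw => ?_
    have v1 : v ∈ C{c} := by
      have := mul_mem (inv_mem (C_le_C1 (mem_inf.1 hv).1 (mem_inf.1 hb).2)) (mem_C1_comm.1 (mem_inf.1 hv).2)
      exact mem_C1_comm.1 (by simpa using this)
    have v2 := h'.nfW w1 hc' c1 v1
    have v3 := h'.norm_pair (nc.trans c7) w1 hX v2 (h'.cs.norm_of_fix v2 w1 hc' c1 v1)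
    obtain ⟨X', x1, -, x2⟩ := h'.exists_other hX
    have v4 := mul_mem (conj_mem v3 hw) (inv_mem hw)
    have := eq_one_of_inf (h.full' gM x1) (mem_inf.2 ⟨h'.W_le hX v4, by
      have := mul_mem (mem_inf.1 hv).1 (conj_mem (h.M_le (hg (h'.W_le hX hw))) (inv_mem (mem_inf.1 hv).1))
      convert this using 1
      group⟩) (x2 v4)
    rwa [mul_inv_eq_one, mul_inv_eq_iff_eq_mul] at this
  push Not at h1
  obtain ⟨W, hW, h1⟩ := h1
  obtain ⟨a, ha, a1⟩ := exists_ne_one h1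
  have h2 : V ≤ cj g M := (mem_C_iff_le_C1.1 (mem_inf.1 (mem_inf.1 ha).1).2).trans
    (h'.nf W hW a (mem_inf.1 ha).2 a1)
  obtain ⟨e1, -, e2⟩ := h.FG_aux hg (fun _ => h.full gM) (h2.trans h'.M_le) hc
  obtain ⟨-, e3, -⟩ := h'.FG_aux h2 (fun _ => h.full' gM) (hg.trans h.M_le) fun e => hc (cents_symm e)
  have := card_mul_relIndex (inf_le_left : V ⊓ C[cj g V] ≤ _)
  rw [e3, e1] at this
  omega

end Om

end H12.NG
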