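import Mathlib
import Cfsg.Agent.H12.PStable
import Cfsg.Agent.S0274

/-! `QuadInvolved p G` implies that `G` involves `SL(2, p)` (via Dickson's theorem). -/

open Subgroup Cfsg MatrixGroups

namespace H12

variable {G : Type*} [Group G] {p : ℕ} [Fact p.Prime]

theorem exists_sl_two_le_closure_isUnip (hp : p ≠ 2) {K : Type*} [Field K] [Finite K] [CharP K p]
    {u v : SL(2, K)} (hu : IsUnip u) (hv : IsUnip v) (huv : ¬ IsUnip (u * v)) :
    ∃ L : Subgroup SL(2, K), L ≤ closure {u, v} ∧ Nonempty (L ≃* SL(2, ZMod p)) := by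
  haveI := Fintype.ofFinite K
  refine Cfsg.Agent.S0274.result p hp _ ?_
  by_contra hle
  haveI : Subsingleton (Sylow p (closure ({u, v} : Set SL(2, K)))) :=
    Finite.card_le_one_iff_subsingleton.1 (not_lt.1 hle)
  obtain ⟨P⟩ : Nonempty (Sylow p (closure ({u, v} : Set SL(2, K)))) := inferInstance
  exact not_normal_sylow_closure_isUnip hu hv huv P P.normal_of_subsingleton

theorem QuadInvolved.involves_sl (hp : p ≠ 2) (h : QuadInvolved p G) :
    Involves G SL(2, ZMod p) := by
  obtain ⟨K, _, _, _, u, v, hu, hv, huv, hi⟩ := h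
  obtain ⟨L, hL, ⟨e⟩⟩ := exists_sl_two_le_closure_isUnip hp hu hv huv
  exact hi.trans ((Involves.of_equiv e).of_le hL)

theorem not_quadInvolved_of_not_involves (hp : p ≠ 2) (h : ¬ Involves G SL(2, ZMod p)) :
    ¬ QuadInvolved p G := fun hq => h (hq.involves_sl hp)

end H12
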