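import Mathlib
import Cfsg.Agent.H12.QuadSL
import Cfsg.Agent.H12.Thompson
import Cfsg.Agent.H3.PNil

/-! A group that is not `p`-stable involves `Qd(p)` (Glauberman). -/

open Subgroup Cfsg MatrixGroups Matrix

namespace H12

universe u

theorem involves_of_ker_le {Γ G Y : Type*} [Group Γ] [Group G] [Group Y] (ι : Γ →* G)
    (σ : Γ →* Y) (hσ : Function.Surjective σ) (h : ι.ker ≤ σ.ker) : Involves G Y := by
  refine ⟨ι.range, ι.rangeRestrict.liftOfSurjective ι.rangeRestrict_surjective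
    ⟨σ, by rwa [MonoidHom.ker_rangeRestrict]⟩, fun y => ?_⟩
  obtain ⟨x, rfl⟩ := hσ y
  exact ⟨ι.rangeRestrict x, by simp⟩

variable {p : ℕ} [hp : Fact p.Prime]

/-- natural action of `SL(2, p)` -/
def natAct (p : ℕ) [Fact p.Prime] : SL(2, ZMod p) →* MulAut (Multiplicative (Fin 2 → ZMod p)) where
  toFun M :=
    { toFun := fun w => Multiplicative.ofAdd ((M : Matrix (Fin 2) (Fin 2) (ZMod p)) *ᵥ w.toAdd)
      invFun := fun w =>
        Multiplicative.ofAdd ((M⁻¹ : SL(2, ZMod p)).1 *ᵥ w.toAdd)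
      left_inv := fun w => by
        simp only [toAdd_ofAdd, mulVec_mulVec]
        rw [← Matrix.SpecialLinearGroup.coe_mul, inv_mul_cancel]; simp
      right_inv := fun w => by
        simp only [toAdd_ofAdd, mulVec_mulVec]
        rw [← Matrix.SpecialLinearGroup.coe_mul, mul_inv_cancel]; simp
      map_mul' := fun v w => by rw [toAdd_mul, mulVec_add, ofAdd_add] }
  map_one' := by ext w : 1; simp
  map_mul' M N := by
    ext w : 1
    exact congrArg Multiplicative.ofAdd (mulVec_mulVec w.toAdd M.1 N.1).symm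

theorem natAct_apply (M : SL(2, ZMod p)) (w : Multiplicative (Fin 2 → ZMod p)) :
    natAct p M w = Multiplicative.ofAdd ((M : Matrix (Fin 2) (Fin 2) (ZMod p)) *ᵥ w.toAdd) := rfl

theorem natAct_injective : Function.Injective (natAct p) := by
  intro M N h
  ext i j
  have := congrArg (fun f : MulAut (Multiplicative (Fin 2 → ZMod p)) =>
    (f (Multiplicative.ofAdd (Pi.single j 1))).toAdd i) h
  simpa [natAct_apply] using this

/-- translations in `Qd(p)` -/
def qdT (p : ℕ) [Fact p.Prime] : Multiplicative (Fin 2 → ZMod p) →* SL(3, ZMod p) where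
  toFun w := ⟨!![1, 0, w.toAdd 0; 0, 1, w.toAdd 1; 0, 0, 1], by simp [det_fin_three]⟩
  map_one' := by
    ext i j
    fin_cases i <;> fin_cases j <;> simp
  map_mul' v w := by
    apply Subtype.ext
    change _ = !![1, 0, v.toAdd 0; 0, 1, v.toAdd 1; 0, 0, 1] *
      !![1, 0, w.toAdd 0; 0, 1, w.toAdd 1; 0, 0, 1]
    simp [add_comm]

theorem coe_qdT (w : Multiplicative (Fin 2 → ZMod p)) :
    (qdT p w).1 = !![1, 0, w.toAdd 0; 0, 1, w.toAdd 1; 0, 0, 1] := rfl

/-- the linear part of `Qd(p)` -/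
def qdL (p : ℕ) [Fact p.Prime] : SL(2, ZMod p) →* SL(3, ZMod p) where
  toFun M := ⟨!![M 0 0, M 0 1, 0; M 1 0, M 1 1, 0; 0, 0, 1], by
    have := M.det_coe
    rw [det_fin_two] at this
    simpa [det_fin_three] using this⟩
  map_one' := by
    ext i j
    fin_cases i <;> fin_cases j <;> simp
  map_mul' M N := by
    apply Subtype.ext
    change _ = !![M 0 0, M 0 1, 0; M 1 0, M 1 1, 0; 0, 0, 1] *
      !![N 0 0, N 0 1, 0; N 1 0, N 1 1, 0; 0, 0, 1]
    simp [Matrix.mul_apply, Fin.sum_univ_two]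

theorem coe_qdL (M : SL(2, ZMod p)) :
    (qdL p M).1 = !![M 0 0, M 0 1, 0; M 1 0, M 1 1, 0; 0, 0, 1] := rfl

theorem qdT_natAct (M : SL(2, ZMod p)) (w : Multiplicative (Fin 2 → ZMod p)) :
    qdT p (natAct p M w) = qdL p M * qdT p w * (qdL p M)⁻¹ := by
  rw [eq_mul_inv_iff_mul_eq]
  apply Subtype.ext
  simp [coe_qdT, coe_qdL, natAct_apply, mulVec, dotProduct, Fin.sum_univ_two]

theorem qdT_mem (w : Multiplicative (Fin 2 → ZMod p)) : qdT p w ∈ qd p :=
  subset_closure (by simp [coe_qdT])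

theorem qdL_mem (M : SL(2, ZMod p)) : qdL p M ∈ qd p := subset_closure (by simp [coe_qdL])

theorem qd_le : qd p ≤ (qdT p).range ⊔ (qdL p).range := by
  rw [qd, closure_le]
  rintro M ⟨h0, h1, h2⟩
  have hd := M.det_coe
  rw [det_fin_three, h0, h1, h2] at hd
  have : M = qdT p (Multiplicative.ofAdd ![M 0 2, M 1 2]) *
      qdL p ⟨!![M 0 0, M 0 1; M 1 0, M 1 1], by rw [det_fin_two]; simpa using hd⟩ := by
    apply Subtype.ext
    change _ = !![1, 0, M 0 2; 0, 1, M 1 2; 0, 0, 1] *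
      !![M 0 0, M 0 1, 0; M 1 0, M 1 1, 0; 0, 0, 1]
    ext i j
    fin_cases i <;> fin_cases j <;> simp [h0, h1, h2]
  rw [this]
  exact mul_mem (mem_sup_left ⟨_, rfl⟩) (mem_sup_right ⟨_, rfl⟩)

theorem involves_qd {G K : Type*} [Group G] [Group K] [Finite K] (hp2 : p ≠ 2)
    (η : Multiplicative (Fin 2 → ZMod p) →* G) (hη : Function.Injective η) (j : K →* G)
    (ψ : K →* SL(2, ZMod p)) (hψ : Function.Surjective ψ)
    (hc : ∀ k w, η (natAct p (ψ k) w) = j k * η w * (j k)⁻¹) : Involves G (qd p) := by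
  haveI : Fact (Nat.Prime 2) := ⟨Nat.prime_two⟩
  haveI : Fact (Even (Fintype.card (Fin 2))) := ⟨by simp⟩
  have hz : (-1 : SL(2, ZMod p)) ^ 2 = 1 := by simp
  haveI hn : (zpowers (-1 : SL(2, ZMod p))).Normal := by
    refine ⟨fun x hx g => ?_⟩
    have : zpowers (-1 : SL(2, ZMod p)) ≤ center _ := zpowers_le.2 (mem_center_iff.2 fun g => by simp)
    rwa [mem_center_iff.1 (this hx) g, mul_inv_cancel_right]
  set Z := (zpowers (-1 : SL(2, ZMod p))).comap ψ with hZ
  obtain ⟨T⟩ : Nonempty (Sylow 2 Z) := inferInstance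
  set T' := (T : Subgroup Z).map Z.subtype with hT'
  have hT2 : IsPGroup 2 T' := T.2.map _
  have hTmap : T'.map ψ = zpowers (-1) := H13.map_eq_of_not_dvd_relIndex hψ
    (H13.isPGroup_zpowers (k := 1) hz) (map_subtype_le _) (H13.not_dvd_relIndex_map_sylow T)
  set N := normalizer (T' : Set K) with hN
  have hNψ : N.map ψ = ⊤ := by
    have := congrArg (map ψ) (Sylow.normalizer_sup_eq_top T)
    rwa [Subgroup.map_sup, map_top_of_surjective ψ hψ, map_comap_eq_self_of_surjective hψ,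
      ← hTmap, sup_eq_left.2 (map_mono le_normalizer)] at this
  obtain ⟨t, ht, htz⟩ : (-1 : SL(2, ZMod p)) ∈ T'.map ψ := hTmap ▸ mem_zpowers _
  have hwp : ∀ w : Multiplicative (Fin 2 → ZMod p), w ^ p = 1 := fun w => by
    ext i
    simp
  let φ : N →* MulAut (Multiplicative (Fin 2 → ZMod p)) := (natAct p).comp (ψ.comp N.subtype)
  let ι : Multiplicative (Fin 2 → ZMod p) ⋊[φ] N →* G :=
    SemidirectProduct.lift η (j.comp N.subtype) fun n => MonoidHom.ext fun w => hc n w
  let σ : Multiplicative (Fin 2 → ZMod p) ⋊[φ] N →* SL(3, ZMod p) :=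
    SemidirectProduct.lift (qdT p) ((qdL p).comp (ψ.comp N.subtype))
      fun n => MonoidHom.ext fun w => qdT_natAct _ w
  refine involves_of_ker_le ι (σ.codRestrict (qd p) fun x => mul_mem (qdT_mem _) (qdL_mem _))
    (fun y => ?_) fun x hx => ?_
  · have : (qdT p).range ⊔ (qdL p).range ≤ σ.range := by
      refine sup_le ?_ ?_
      · rintro _ ⟨w, rfl⟩
        exact ⟨SemidirectProduct.inl w, SemidirectProduct.lift_inl _ _ _ _⟩
      · rintro _ ⟨M, rfl⟩
        obtain ⟨n, hn, rfl⟩ : M ∈ N.map ψ := hNψ ▸ mem_top M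
        exact ⟨SemidirectProduct.inr ⟨n, hn⟩, SemidirectProduct.lift_inr _ _ _ _⟩
    obtain ⟨x, hx⟩ := this (qd_le y.2)
    exact ⟨x, Subtype.ext hx⟩
  · obtain ⟨w, n⟩ := x
    have h1 : η w * j n = 1 := hx
    have h2 : j n = η w⁻¹ := by rw [map_inv]; exact eq_inv_of_mul_eq_one_right h1
    have h3 : j t * η w * (j t)⁻¹ = η w⁻¹ := by
      rw [← hc, htz]
      congr 1
      ext i
      simp [natAct_apply, neg_mulVec]
    have h4 : (n : K) * t * (n : K)⁻¹ * t⁻¹ ∈ T' :=
      mul_mem (H13.conj_mem_of_mem_normalizer n.2 ht) (inv_mem ht)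
    obtain ⟨k, hk⟩ := H13.isPGroup_iff_forall_mem.1 hT2 _ h4
    have h5 : j ((n : K) * t * (n : K)⁻¹ * t⁻¹) = η (w⁻¹ ^ 2) := by
      rw [map_mul, map_mul, map_mul, map_inv, map_inv, h2, ← map_inv η, inv_inv, mul_assoc,
        mul_assoc, ← mul_assoc (j t), h3, ← map_mul, pow_two]
    have h6 : w⁻¹ ^ (2 * 2 ^ k) = 1 := by
      apply hη
      rw [pow_mul, map_pow, ← h5, ← map_pow, hk, map_one, map_one]
    have h7 : w = 1 := by
      rw [← inv_eq_one]
      refine H3.eq_one_of_pow_eq_one_of_coprime h6 (hwp _) ?_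
      rw [← pow_succ']
      exact ((Nat.coprime_primes Nat.prime_two hp.out).2 hp2.symm).pow_left _
    have h8 : ψ n = 1 := by
      apply natAct_injective
      ext v : 1
      apply hη
      rw [hc, h2, h7]; simp
    refine Subtype.ext ?_
    change qdT p w * qdL p (ψ n) = 1
    rw [h7, h8, map_one, map_one, one_mul]

end H12
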