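import Mathlib
import Cfsg.Agent.H12.Qd

/-! Irreducible quadratic pairs produce a section `Qd(p)`. -/

open Subgroup Cfsg MatrixGroups Matrix Module

namespace H12

universe u

variable {p : ℕ} [hp : Fact p.Prime]

theorem exists_primeEmb_le_closure (hp2 : p ≠ 2) {K : Type*} [Field K] [Finite K] [CharP K p]
    {u v : SL(2, K)} (hu : IsUnip u) (hv : IsUnip v) (huv : ¬ IsUnip (u * v)) :
    ∃ g : GL (Fin 2) K, (primeEmb p g).range ≤ closure {u, v} := by
  obtain ⟨L, hL, ⟨e⟩⟩ := exists_sl_two_le_closure_isUnip hp2 hu hv huv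
  let f : SL(2, ZMod p) →* SL(2, K) := L.subtype.comp e.symm.toMonoidHom
  have hf : Function.Injective f := Subtype.val_injective.comp e.symm.injective
  have hfL : ∀ x, f x ∈ L := fun x => (e.symm x).2
  have hun : ∀ x : SL(2, ZMod p), IsUnip x → IsUnip (f x) := fun x hx =>
    isUnip_of_pow_char_pow (p := p) (k := 1) (by rw [pow_one, ← map_pow, hx.pow_char, map_one])
  have h1 : IsUnip (f (upT 1)) := hun _ (by rw [isUnip_iff_trace, coe_upT]; simp; norm_num)
  have h2 : IsUnip (f (loT (-1))) := hun _ (by rw [isUnip_iff_trace, coe_loT]; simp; norm_num)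
  have h3 : ¬ IsUnip (f (upT 1) * f (loT (-1))) := by
    intro h
    have h4 := h.pow_char (p := p)
    rw [← map_mul, ← map_pow, ← map_one f] at h4
    have h5 : IsUnip (upT (1 : ZMod p) * loT (-1)) :=
      isUnip_of_pow_char_pow (p := p) (k := 1) (by rw [pow_one]; exact hf h4)
    rw [isUnip_iff_trace, trace_upT_mul_loT] at h5
    simp at h5
  obtain ⟨g, s, -, hg1, hg2⟩ := exists_conjSL_of_isUnip h1 h2 h3
  have hb : upT (1 : ZMod p) * loT (-1) * upT 1 = loT (-1) * upT 1 * loT (-1) := by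
    apply Subtype.ext
    simp [coe_upT, coe_loT]
  have hb' : upT (1 : K) * loT s * upT 1 = loT s * upT 1 * loT s := by
    apply conjSL_injective g
    simp only [map_mul, hg1, hg2]
    simpa only [map_mul] using congrArg f hb
  have hs : s = -1 := by
    have := congrArg (fun M : SL(2, K) => M.1 0 1) hb'
    simp [coe_upT, coe_loT] at this
    linear_combination this
  refine ⟨g, ?_⟩
  rw [MonoidHom.range_eq_map, ← closure_upT_loT_zmod (r := 1) (s := -1) one_ne_zero
    (neg_ne_zero.2 one_ne_zero), MonoidHom.map_closure, Set.image_pair, primeEmb_upT, primeEmb_loT,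
    map_one, map_neg, map_one, ← hs, hg1, hg2, closure_le]
  rintro _ (rfl | rfl) <;> exact hL (hfL _)

theorem primeEmb_mulVec {K : Type*} [Field K] [CharP K p] (g : GL (Fin 2) K) (M : SL(2, ZMod p))
    (w : Fin 2 → ZMod p) :
    (primeEmb p g M).1 *ᵥ (g.1 *ᵥ (ZMod.castHom (dvd_refl p) K ∘ w)) =
      g.1 *ᵥ (ZMod.castHom (dvd_refl p) K ∘ (M.1 *ᵥ w)) := by
  have : (primeEmb p g M).1 = g.1 * M.1.map (ZMod.castHom (dvd_refl p) K) * (g⁻¹).1 := rfl
  rw [this, mulVec_mulVec, Matrix.mul_assoc, ← Units.val_mul, inv_mul_cancel, Units.val_one,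
    Matrix.mul_one, ← mulVec_mulVec]
  congr 1
  ext i
  exact (RingHom.map_mulVec _ _ _ _).symm

theorem involves_qd_of_embedding (hp2 : p ≠ 2) {G H V K : Type*} [Group G] [Group H] [Group V]
    [Finite H] [Nontrivial V] [Field K] [CharP K p] (j : H →* G) (ι : V →* G)
    (hι : Function.Injective ι) (α : H →* MulAut V) (hα : ∀ h v, ι (α h v) = j h * ι v * (j h)⁻¹)
    (θ : V →* Multiplicative (Fin 2 → K)) (hθi : Function.Injective θ) (φ : H →* SL(2, K))
    (hθ : ∀ h v, (θ (α h v)).toAdd = (φ h).1 *ᵥ (θ v).toAdd) (g : GL (Fin 2) K)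
    (hg : (primeEmb p g).range ≤ φ.range) : Involves G (qd p) := by
  set χ := ZMod.castHom (dvd_refl p) K with hχ
  -- `A` = the additive group `g⁻¹ θ(V)`
  let A : AddSubgroup (Fin 2 → K) :=
    { carrier := {x | ∃ v, (θ v).toAdd = g.1 *ᵥ x}
      add_mem' := by
        rintro x y ⟨v, hv⟩ ⟨w, hw⟩
        exact ⟨v * w, by rw [map_mul, toAdd_mul, hv, hw, mulVec_add]⟩
      zero_mem' := ⟨1, by simp⟩
      neg_mem' := by
        rintro x ⟨v, hv⟩
        exact ⟨v⁻¹, by rw [map_inv, toAdd_inv, hv, mulVec_neg]⟩ }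
  have hA : ∀ (M : SL(2, ZMod p)), ∀ x ∈ A, M.1.map χ *ᵥ x ∈ A := by
    rintro M x ⟨v, hv⟩
    obtain ⟨h, hh⟩ := hg ⟨M, rfl⟩
    refine ⟨α h v, ?_⟩
    have : (primeEmb p g M).1 = g.1 * M.1.map χ * (g⁻¹).1 := rfl
    rw [hθ, hh, hv, this, mulVec_mulVec, Matrix.mul_assoc, ← Units.val_mul, inv_mul_cancel,
      Units.val_one, Matrix.mul_one, mulVec_mulVec]
  have hup : ∀ x ∈ A, ![x 1, 0] ∈ A := fun x hx => by
    have := sub_mem (hA (upT 1) x hx) hx
    convert this using 1
    ext i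
    fin_cases i <;> simp [coe_upT, mulVec, dotProduct, Fin.sum_univ_two]
  have hlo : ∀ x ∈ A, ![0, x 0] ∈ A := fun x hx => by
    have := sub_mem (hA (loT 1) x hx) hx
    convert this using 1
    ext i
    fin_cases i <;> simp [coe_loT, mulVec, dotProduct, Fin.sum_univ_two]
  obtain ⟨c, hc0, hc1, hc2⟩ : ∃ c : K, c ≠ 0 ∧ ![c, 0] ∈ A ∧ ![0, c] ∈ A := by
    obtain ⟨v, hv⟩ := exists_ne (1 : V)
    have hx : (g⁻¹).1 *ᵥ (θ v).toAdd ∈ A := ⟨v, by
      rw [mulVec_mulVec, ← Units.val_mul, mul_inv_cancel, Units.val_one, one_mulVec]⟩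
    set x := (g⁻¹).1 *ᵥ (θ v).toAdd with hxd
    have hx0 : x ≠ 0 := by
      intro h
      apply hv
      apply hθi
      have : g.1 *ᵥ x = (θ v).toAdd := by
        rw [hxd, mulVec_mulVec, ← Units.val_mul, mul_inv_cancel, Units.val_one, one_mulVec]
      rw [h, mulVec_zero] at this
      rw [map_one]
      exact this.symm
    by_cases h0 : x 0 = 0
    · have h1 : x 1 ≠ 0 := fun h1 => hx0 (by ext i; fin_cases i <;> simp [h0, h1])
      exact ⟨x 1, h1, hup x hx, by simpa using hlo _ (hup x hx)⟩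
    · exact ⟨x 0, h0, by simpa using hup _ (hlo x hx), hlo x hx⟩
  have hmem : ∀ w : Fin 2 → ZMod p, c • (χ ∘ w) ∈ A := fun w => by
    have := add_mem (nsmul_mem hc1 (w 0).val) (nsmul_mem hc2 (w 1).val)
    convert this using 1
    ext i
    fin_cases i <;> simp [hχ, mul_comm]
  choose η₀ hη₀ using hmem
  let η : Multiplicative (Fin 2 → ZMod p) →* V := MonoidHom.mk' (fun w => η₀ w.toAdd) fun v w => by
    apply hθi
    apply Multiplicative.toAdd.injective
    rw [map_mul θ, toAdd_mul (θ _), hη₀, hη₀, hη₀, ← mulVec_add, ← smul_add, toAdd_mul]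
    congr 2
    ext i
    simp
  have hη : ∀ w, (θ (η w)).toAdd = g.1 *ᵥ (c • (χ ∘ w.toAdd)) := fun w => hη₀ _
  have hηi : Function.Injective η := by
    rw [injective_iff_map_eq_one]
    intro w hw
    have h1 := hη w
    rw [hw, map_one, toAdd_one] at h1
    have h2 := congrArg ((g⁻¹).1 *ᵥ ·) h1
    simp only [mulVec_zero, mulVec_mulVec] at h2
    rw [← Units.val_mul, inv_mul_cancel, Units.val_one, one_mulVec] at h2
    ext i
    have h3 := congrFun h2 i
    simp only [Pi.zero_apply, Pi.smul_apply, Function.comp_apply, smul_eq_mul] at h3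
    have h4 := (mul_eq_zero.1 h3.symm).resolve_left hc0
    simpa using (map_eq_zero χ).1 h4
  let K₀ := (primeEmb p g).range.comap φ
  let e := MonoidHom.ofInjective (primeEmb_injective p g)
  let ψ : K₀ →* SL(2, ZMod p) :=
    e.symm.toMonoidHom.comp ((φ.comp K₀.subtype).codRestrict _ fun k => k.2)
  have hψ : ∀ k : K₀, primeEmb p g (ψ k) = φ k := fun k =>
    congrArg Subtype.val (e.apply_symm_apply ⟨φ k, k.2⟩)
  refine involves_qd hp2 (ι.comp η) (hι.comp hηi) (j.comp K₀.subtype) ψ (fun M => ?_) fun k w => ?_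
  · obtain ⟨h, hh⟩ := hg ⟨M, rfl⟩
    exact ⟨⟨h, M, hh.symm⟩, primeEmb_injective p g (by rw [hψ]; exact hh)⟩
  · change ι (η _) = j k * ι (η w) * (j k)⁻¹
    rw [← hα]
    congr 1
    apply hθi
    apply Multiplicative.toAdd.injective
    rw [hθ, hη, hη, ← hψ, mulVec_smul, mulVec_smul, mulVec_smul, primeEmb_mulVec]
    rfl

theorem exists_fixed_or_two_dim {K H W : Type*} [Field K] [Group H] [AddCommGroup W] [Module K W]
    [FiniteDimensional K W] [Nontrivial W] (ρ : Representation K H W) {a b : H}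
    (hab : closure {a, b} = ⊤) (ha : (ρ a - 1) * (ρ a - 1) = 0) (hb : (ρ b - 1) * (ρ b - 1) = 0)
    {q : Polynomial K} (hq0 : q ≠ 0) (hq : q.Splits) (hqab : Polynomial.aeval (ρ (a * b)) q = 0) :
    (∃ w, w ≠ 0 ∧ ∀ g, ρ g w = w) ∨ ∃ (B : Fin 2 → W) (φ : H →* SL(2, K)), B 0 ≠ 0 ∧
      IsUnip (φ a) ∧ IsUnip (φ b) ∧ ∀ g j, ρ g (B j) = (φ g).1 0 j • B 0 + (φ g).1 1 j • B 1 := by
  obtain ⟨w, c, hw0, hw⟩ := exists_eigenvector_of_splits (ρ (a * b)) hq0 hq hqab
  set U := Submodule.span K {w, ρ b w} with hU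
  have hUinv := span_invariant_of_eigenvector ρ hab ha hb hw
  rw [← hU] at hUinv
  have hwU : w ∈ U := Submodule.subset_span (by simp)
  let ρU := ρ.subrepresentation U hUinv
  have hρU : ∀ g (u : U), (ρU g u : W) = ρ g u := fun g u => rfl
  have hUq : ∀ g, (ρ g - 1) * (ρ g - 1) = 0 → (ρU g - 1) * (ρU g - 1) = 0 := by
    intro g hg
    ext u
    have h := congrArg (fun f => f (u : W)) hg
    simpa [hρU] using h
  by_cases h2 : finrank K U = 2
  · right
    let B : Basis (Fin 2) K U := Module.finBasisOfFinrankEq K U h2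
    obtain ⟨φ, hφ⟩ := exists_sl_two_of_basis ρU hab (by
      rintro g (rfl | rfl)
      · exact hUq _ ha
      · exact hUq _ hb) B
    have hquad : ∀ g, (ρU g - 1) * (ρU g - 1) = 0 → IsUnip (φ g) := by
      intro g hg
      have h := congrArg (LinearMap.toMatrixAlgEquiv B) hg
      rw [map_mul, map_sub, map_one, map_zero] at h
      unfold IsUnip
      rw [hφ]; exact h
    refine ⟨fun i => B i, φ, fun h => B.ne_zero 0 (Subtype.ext h), hquad _ (hUq _ ha),
      hquad _ (hUq _ hb), fun g j => ?_⟩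
    have := congrArg Subtype.val (B.sum_repr (ρU g (B j)))
    simp only [Fin.sum_univ_two, Submodule.coe_add, Submodule.coe_smul, hρU] at this
    rw [← this, hφ, LinearMap.toMatrix_apply, LinearMap.toMatrix_apply]
  · left
    have hle : finrank K U ≤ 2 := finrank_span_pair_le _ _
    have hle1 : finrank K U ≤ 1 := by omega
    have : ρU = 1 := by
      refine MonoidHom.eq_of_eqOn_dense hab ?_
      rintro g (rfl | rfl)
      · exact rep_eq_one_of_finrank_le_one hle1 (hUq _ ha)
      · exact rep_eq_one_of_finrank_le_one hle1 (hUq _ hb)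
    exact ⟨w, hw0, fun g => by rw [← hρU g ⟨w, hwU⟩, this]; rfl⟩

theorem involves_qd_of_irreducible (hp2 : p ≠ 2) {G H V : Type*} [Group G] [Group H] [Group V]
    [Finite H] [Finite V] [IsMulCommutative V] (hV : ∀ v : V, v ^ p = 1) (j : H →* G) (ι : V →* G)
    (hι : Function.Injective ι) (α : H →* MulAut V) (hα : ∀ h v, ι (α h v) = j h * ι v * (j h)⁻¹)
    {a b : H} (hab : closure {a, b} = ⊤) (ha : IsQuad α a) (hb : IsQuad α b)
    (hnp : ¬ IsPGroup p α.range)
    (hirr : ∀ Y : Subgroup V, (∀ h, ∀ y ∈ Y, α h y ∈ Y) → Y = ⊥ ∨ Y = ⊤) :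
    Involves G (qd p) := by
  obtain ⟨K, _, _, _, hK⟩ := exists_finite_field_splits p (orderOf (a * b))
  have : Finite (Additive V →+ K) := DFunLike.finite _
  have hVn : Nontrivial V := by
    by_contra h
    rw [not_nontrivial_iff_subsingleton] at h
    exact hnp fun x => ⟨0, Subtype.ext (by ext v; exact Subsingleton.elim _ _)⟩
  have hWn : Nontrivial (Additive V →+ K) := by
    obtain ⟨v, hv⟩ := exists_ne (1 : V)
    obtain ⟨f, hf⟩ := exists_addMonoidHom_ne_zero hV K hv
    exact ⟨f, 0, fun h => hf (by rw [h]; rfl)⟩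
  -- an invariant family of characters separates the points of `V`
  have hsep : ∀ (f₁ f₂ : Additive V →+ K), f₁ ≠ 0 →
      (∀ h v, f₁ (Additive.ofMul v) = 0 → f₂ (Additive.ofMul v) = 0 →
        f₁ (Additive.ofMul (α h v)) = 0 ∧ f₂ (Additive.ofMul (α h v)) = 0) →
      ∀ v, f₁ (Additive.ofMul v) = 0 → f₂ (Additive.ofMul v) = 0 → v = 1 := by
    intro f₁ f₂ h1 hinv
    let Y : Subgroup V :=
      { carrier := {v | f₁ (Additive.ofMul v) = 0 ∧ f₂ (Additive.ofMul v) = 0}
        mul_mem' := fun {x y} hx hy => by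
          simp only [Set.mem_ofPred_eq, ofMul_mul, map_add, hx.1, hx.2, hy.1, hy.2, add_zero,
            and_self]
        one_mem' := ⟨map_zero _, map_zero _⟩
        inv_mem' := fun {x} hx => by
          simp only [Set.mem_ofPred_eq, ofMul_inv, map_neg, hx.1, hx.2, neg_zero, and_self] }
    rcases hirr Y (fun h y hy => hinv h y hy.1 hy.2) with h | h
    · intro v hv1 hv2
      exact (mem_bot.1 (h ▸ (show v ∈ Y from ⟨hv1, hv2⟩)))
    · exact absurd (AddMonoidHom.ext fun v => (show v.toMul ∈ Y from h ▸ mem_top _).1) h1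
  rcases exists_fixed_or_two_dim (dualRep K α) hab (dualRep_quad K ha) (dualRep_quad K hb)
    (q := (Polynomial.X : Polynomial K) ^ orderOf (a * b) - 1)
    (by simpa using Polynomial.X_pow_sub_C_ne_zero (orderOf_pos (a * b)) (1 : K)) hK
    (by rw [map_sub, map_pow, Polynomial.aeval_X, map_one, ← map_pow, pow_orderOf_eq_one,
      map_one, sub_self]) with ⟨w, hw0, hw⟩ | ⟨B, φ₀, hB, h1, h2, hφ₀⟩
  · exfalso
    have hw' : ∀ g v, w (Additive.ofMul (α g v)) = w (Additive.ofMul v) := fun g v => by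
      conv_rhs => rw [← hw g⁻¹, dualRep_apply, inv_inv]
    apply hnp
    rintro ⟨_, g, rfl⟩
    refine ⟨0, Subtype.ext ?_⟩
    change α g ^ p ^ 0 = 1
    rw [pow_zero, pow_one]
    ext v
    rw [MulAut.one_apply, ← mul_inv_eq_one]
    have : w (Additive.ofMul (α g v * v⁻¹)) = 0 := by
      rw [ofMul_mul, ofMul_inv, map_add, map_neg, hw', add_neg_cancel]
    exact hsep w w hw0 (fun h v hv _ => by rw [hw']; exact ⟨hv, hv⟩) _ this this
  have hB' : ∀ g j v, B j (Additive.ofMul (α g v)) =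
      (φ₀ g⁻¹).1 0 j * B 0 (Additive.ofMul v) + (φ₀ g⁻¹).1 1 j * B 1 (Additive.ofMul v) := by
    intro g j v
    have := congrArg (fun f : Additive V →+ K => f (Additive.ofMul v)) (hφ₀ g⁻¹ j)
    simpa only [dualRep_apply, inv_inv, AddMonoidHom.add_apply, AddMonoidHom.smul_apply,
      smul_eq_mul] using this
  let φ : H →* SL(2, K) := MonoidHom.mk' (fun g => (φ₀ g⁻¹).transpose) fun g h => by
    apply Subtype.ext
    change (φ₀ (g * h)⁻¹).1ᵀ = (φ₀ g⁻¹).1ᵀ * (φ₀ h⁻¹).1ᵀ
    rw [_root_.mul_inv_rev, map_mul, Matrix.SpecialLinearGroup.coe_mul, transpose_mul]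
  have hφ : ∀ g, (φ g).1 = (φ₀ g⁻¹).1ᵀ := fun g => rfl
  let θ : V →* Multiplicative (Fin 2 → K) := MonoidHom.mk'
    (fun v => Multiplicative.ofAdd fun i => B i (Additive.ofMul v)) fun v w => by
      rw [← ofAdd_add]
      congr 1
      ext i
      simp
  have hθv : ∀ v i, (θ v).toAdd i = B i (Additive.ofMul v) := fun v i => rfl
  have hθi : Function.Injective θ := by
    rw [injective_iff_map_eq_one]
    intro v hv
    refine hsep (B 0) (B 1) hB (fun h v h0 h1 => ?_) v ?_ ?_
    · rw [hB', hB', h0, h1]; simp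
    all_goals rw [← hθv, hv]; rfl
  have hθ : ∀ h v, (θ (α h v)).toAdd = (φ h).1 *ᵥ (θ v).toAdd := by
    intro h v
    ext i
    rw [hθv, hB', hφ]
    simp [mulVec, dotProduct, Fin.sum_univ_two, hθv]
  have hquad : ∀ g, IsUnip (φ₀ g) → IsUnip (φ g) := by
    intro g hg
    have h : IsUnip (φ₀ g⁻¹) := isUnip_of_pow_char_pow (p := p) (k := 1)
      (by rw [pow_one, map_inv, inv_pow, hg.pow_char, inv_one])
    rw [isUnip_iff_trace] at h ⊢
    rw [hφ, trace_transpose, h]
  have hnp' : ¬ IsPGroup p (closure ({φ a, φ b} : Set SL(2, K))) := by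
    rw [← Set.image_pair, ← MonoidHom.map_closure, hab, ← MonoidHom.range_eq_map]
    intro hP
    apply hnp
    rintro ⟨_, g, rfl⟩
    obtain ⟨k, hk⟩ := hP ⟨φ g, g, rfl⟩
    have hk' : φ (g ^ p ^ k) = 1 := by rw [map_pow]; exact congrArg Subtype.val hk
    refine ⟨k, Subtype.ext ?_⟩
    change α g ^ p ^ k = 1
    rw [← map_pow]
    ext v
    apply hθi
    apply Multiplicative.toAdd.injective
    rw [hθ, hk']
    simp
  obtain ⟨g, hg⟩ := exists_primeEmb_le_closure hp2 (hquad a h1) (hquad b h2)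
    (not_isUnip_mul_of_not_isPGroup (p := p) (hquad a h1) (hquad b h2) hnp')
  refine involves_qd_of_embedding hp2 j ι hι α hα θ hθi φ hθ g (hg.trans ?_)
  rw [closure_le]
  rintro _ (rfl | rfl) <;> exact ⟨_, rfl⟩

/-- `a` acts quadratically on `P` (elementwise form) -/
def QuadOn {G : Type*} [Group G] (P : Subgroup G) (a : G) : Prop :=
  ∀ v ∈ P, a * (a * v * a⁻¹ * v⁻¹) * a⁻¹ = a * v * a⁻¹ * v⁻¹

theorem involves_qd_of_quadOn (hp2 : p ≠ 2) {H : Type*} [Group H] [Finite H] {a b h : H}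
    (hab : closure {a, b} = ⊤) (hh : (orderOf h).Coprime p) :
    ∀ (n : ℕ) (G : Type u) [Group G] [Finite G] (j : H →* G) (P : Subgroup G), Nat.card P = n →
      IsPGroup p P → (∀ g, j g ∈ normalizer (P : Set G)) → QuadOn P (j a) → QuadOn P (j b) →
      j h ∉ centralizer (P : Set G) → Involves G (qd p) := by
  intro n
  induction n using Nat.strong_induction_on with
  | _ n ih =>
  intro G _ _ j P hn hP hj ha hb hc
  have hjh : (orderOf (j h)).Coprime p := Nat.Coprime.coprime_dvd_left (orderOf_map_dvd j h) hh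
  by_cases hY : ∃ Y : Subgroup G, Y ≠ ⊥ ∧ Y < P ∧ P ≤ normalizer (Y : Set G) ∧
      ∀ g, j g ∈ normalizer (Y : Set G)
  · obtain ⟨Y, hY0, hYP, hPY, hjY⟩ := hY
    by_cases hcY : j h ∈ centralizer (Y : Set G)
    · set N := normalizer (Y : Set G) with hN
      set π := QuotientGroup.mk' (Y.subgroupOf N) with hπ
      let j' : H →* N ⧸ Y.subgroupOf N := π.comp (j.codRestrict N hjY)
      refine Involves.of_subgroup (H := N) (Involves.of_surjective π (QuotientGroup.mk'_surjective _)
        (ih _ ?_ _ j' ((P.subgroupOf N).map π) rfl ((hP.comap_subtype).map _) (fun g => ?_)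
          ?_ ?_ fun hc' => hc ?_))
      · rw [← hn, ← relIndex_ker, QuotientGroup.ker_mk', relIndex_subgroupOf hPY]
        have h1 := card_mul_index (Y.subgroupOf P)
        have h2 : Nat.card (Y.subgroupOf P) = Nat.card Y :=
          Nat.card_congr (subgroupOfEquivOfLe hYP.le).toEquiv
        have h3 : 1 < Nat.card Y := (one_lt_card_iff_ne_bot Y).2 hY0
        have h4 : 0 < Nat.card P := Nat.card_pos
        rw [h2] at h1
        unfold relIndex
        rw [← h1] at h4 ⊢
        exact lt_mul_of_one_lt_left (Nat.pos_of_mul_pos_left h4) h3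
      · refine le_normalizer_map π ⟨⟨j g, hjY g⟩, ?_, rfl⟩
        exact le_normalizer_comap N.subtype (hj g)
      · rintro _ ⟨v, hv, rfl⟩
        have : (⟨j a, hjY a⟩ : N) * (⟨j a, hjY a⟩ * v * (⟨j a, hjY a⟩ : N)⁻¹ * v⁻¹) *
          (⟨j a, hjY a⟩ : N)⁻¹ = ⟨j a, hjY a⟩ * v * (⟨j a, hjY a⟩ : N)⁻¹ * v⁻¹ :=
          Subtype.ext (ha v hv)
        have := congrArg π this
        simp only [map_mul, map_inv] at this
        exact this
      · rintro _ ⟨v, hv, rfl⟩
        have : (⟨j b, hjY b⟩ : N) * (⟨j b, hjY b⟩ * v * (⟨j b, hjY b⟩ : N)⁻¹ * v⁻¹) *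
          (⟨j b, hjY b⟩ : N)⁻¹ = ⟨j b, hjY b⟩ * v * (⟨j b, hjY b⟩ : N)⁻¹ * v⁻¹ :=
          Subtype.ext (hb v hv)
        have := congrArg π this
        simp only [map_mul, map_inv] at this
        exact this
      · refine H13.mem_centralizer_of_stabilizes (hP.to_le hYP.le) hjh (fun t ht => ?_) hcY
        have h1 := hc' (π ⟨t, hPY ht⟩) ⟨_, ht, rfl⟩
        have h2 : π ((⟨t, hPY ht⟩ : N) * ⟨j h, hjY h⟩ * (⟨t, hPY ht⟩ : N)⁻¹ *
            (⟨j h, hjY h⟩ : N)⁻¹) = 1 := by
          rw [map_mul, map_mul, map_mul, map_inv, map_inv, mul_inv_eq_one, mul_inv_eq_iff_eq_mul]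
          exact h1
        exact (QuotientGroup.eq_one_iff (N := Y.subgroupOf N) _).1 h2
    · refine ih _ ?_ G j Y rfl (hP.to_le hYP.le) hjY (fun v hv => ha v (hYP.le hv))
        (fun v hv => hb v (hYP.le hv)) hcY
      rw [← hn]
      exact Set.Finite.card_lt_card (Set.toFinite _) (SetLike.coe_ssubset_coe.2 hYP)
  · push Not at hY
    have hP0 : P ≠ ⊥ := by
      rintro rfl
      exact hc fun x hx => by rw [mem_bot.1 hx, one_mul, mul_one]
    have hea : IsElementaryAbelian p P := by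
      have h1 : omegaOne p (P ⊓ centralizer (P : Set G)) = P := by
        by_contra h
        obtain ⟨g, hg⟩ := hY _ (omega_center_ne_bot hP hP0)
          (lt_of_le_of_ne ((omega_le _).trans inf_le_left) h)
          (le_normalizer.trans (normalizer_le_normalizer_omega_center P))
        exact hg (normalizer_le_normalizer_omega_center P (hj g))
      exact h1 ▸ ea_omega_center P
    haveI := hea.1
    have hjr : j.range ≤ normalizer (P : Set G) := by
      rintro _ ⟨g, rfl⟩; exact hj g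
    let α : H →* MulAut P := (conjAct' hjr).comp j.rangeRestrict
    have hα : ∀ g (v : P), (α g v : G) = j g * v * (j g)⁻¹ := fun g v => rfl
    refine involves_qd_of_irreducible hp2 (IsElementaryAbelian.pow_eq_one hea) j P.subtype
      Subtype.val_injective α hα hab (fun v => Subtype.ext (ha v v.2))
      (fun v => Subtype.ext (hb v v.2)) (fun hr => hc ?_) fun Y hYi => ?_
    · obtain ⟨k, hk⟩ := hr ⟨α h, h, rfl⟩
      have h1 : α h ^ p ^ k = 1 := congrArg Subtype.val hk
      have h2 : α h ^ orderOf h = 1 := by rw [← map_pow, pow_orderOf_eq_one, map_one]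
      have h3 := H3.eq_one_of_pow_eq_one_of_coprime h2 h1 (hh.pow_right k)
      intro v hv
      have := hα h ⟨v, hv⟩
      rw [h3, MulAut.one_apply, eq_mul_inv_iff_mul_eq] at this
      exact this
    · by_contra hcon
      push Not at hcon
      obtain ⟨g, hg⟩ := hY (Y.map P.subtype)
        (fun h => hcon.1 ((map_eq_bot_iff_of_injective _ Subtype.val_injective).1 h))
        (lt_of_le_of_ne (map_subtype_le _) fun h => hcon.2 (by
          apply Subgroup.map_injective P.subtype_injective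
          rw [h, ← MonoidHom.range_eq_map, range_subtype]))
        (le_normalizer_of_le_of_comm hea.1 le_rfl (map_subtype_le _))
      apply hg
      rw [mem_normalizer_iff]
      intro x
      constructor
      · rintro ⟨y, hy, rfl⟩
        exact ⟨α g y, hYi g y hy, rfl⟩
      · rintro ⟨y, hy, hx⟩
        refine ⟨α g⁻¹ y, hYi _ y hy, ?_⟩
        change j g⁻¹ * y * (j g⁻¹)⁻¹ = x
        rw [show (y : G) = j g * x * (j g)⁻¹ from hx, map_inv]
        group

/-- Glauberman: a `Qd(p)`-free group acts `p`-stably on its normal `p`-subgroups. -/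
theorem isPStableOn_of_not_involves_qd (hp2 : p ≠ 2) {G : Type u} [Group G] [Finite G]
    (hG : ¬ Involves G (qd p)) (P : Subgroup G) [P.Normal] (hP : IsPGroup p P) :
    IsPStableOn p P := by
  intro a ha
  set π := QuotientGroup.mk' (centralizer (P : Set G)) with hπ
  obtain ⟨N, hN, hNp, haN⟩ := H6.baer_suzuki_elem (p := p) (π a) (fun g => by
    obtain ⟨g, rfl⟩ := QuotientGroup.mk'_surjective (centralizer (P : Set G)) g
    rw [← hπ, ← map_inv, ← map_mul, ← map_mul, ← Set.image_pair, ← MonoidHom.map_closure]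
    by_contra hcon
    have hqa : QuadOn P a := fun v hv =>
      commute_of_commutator_commutator_eq_bot ha hv (mem_zpowers a) (mem_zpowers a)
    have hqb : QuadOn P (g * a * g⁻¹) := fun v hv => by
      have := hqa (g⁻¹ * v * g) (Normal.conj_mem' inferInstance v hv g)
      calc _ = g * (a * (a * (g⁻¹ * v * g) * a⁻¹ * (g⁻¹ * v * g)⁻¹) * a⁻¹) * g⁻¹ := by group
        _ = _ := by rw [this]; group
    set H := closure ({a, g * a * g⁻¹} : Set G) with hH
    have : ∃ h : H, (orderOf h).Coprime p ∧ (h : G) ∉ centralizer (P : Set G) := by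
      by_contra hc
      push Not at hc
      apply hcon
      rw [H13.isPGroup_iff_forall_mem]
      rintro _ ⟨x, hx, rfl⟩
      obtain ⟨k, hk⟩ := H13.exists_pow_coprime_orderOf hp.out (⟨x, hx⟩ : H)
      exact ⟨k, by rw [← map_pow]; exact (QuotientGroup.eq_one_iff _).2 (hc _ hk)⟩
    obtain ⟨h, hh, hc⟩ := this
    exact hG (involves_qd_of_quadOn hp2 (closure_pair_subtype_eq_top a (g * a * g⁻¹)) hh _ G
      H.subtype P rfl hP (fun _ => le_normalizer_of_normal (mem_top _)) hqa hqb hc))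
  exact H2.le_pCore hN hNp haN

end H12
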