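import Mathlib
import Cfsg.Agent.H12.PStable
import Cfsg.Agent.H13.Basic
import Cfsg.Agent.H2.Cores

/-!
# Actions on `2`-groups: fixed points, restriction, quotients, the `2F`-inequality
-/

set_option autoImplicit false

namespace H12

open Cfsg Subgroup
open scoped commutatorElement

universe u v

section Basic

variable {X : Type*} [Group X] {V : Type*} [Group V]

/-- fixed points of `A` -/
def fx (φ : X →* MulAut V) (A : Subgroup X) : Subgroup V where
  carrier := {v | ∀ a ∈ A, φ a v = v}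
  one_mem' := fun a _ => map_one _
  mul_mem' := fun {v w} hv hw a ha => by rw [map_mul, hv a ha, hw a ha]
  inv_mem' := fun {v} hv a ha => by rw [map_inv, hv a ha]

theorem mem_fx {φ : X →* MulAut V} {A : Subgroup X} {v : V} :
    v ∈ fx φ A ↔ ∀ a ∈ A, φ a v = v := Iff.rfl

theorem fx_anti {φ : X →* MulAut V} {A B : Subgroup X} (h : A ≤ B) : fx φ B ≤ fx φ A :=
  fun _ hv a ha => hv a (h ha)

/-- the stabiliser of a vector -/
def stabV (φ : X →* MulAut V) (v : V) : Subgroup X where
  carrier := {x | φ x v = v}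
  one_mem' := by simp
  mul_mem' := fun {x y} hx hy => by
    simp only [Set.mem_ofPred_eq, map_mul, MulAut.mul_apply] at *
    rw [hy, hx]
  inv_mem' := fun {x} hx => by
    simp only [Set.mem_ofPred_eq, map_inv] at *
    rw [MulAut.inv_apply, MulEquiv.symm_apply_eq, hx]

theorem mem_fx_iff_le {φ : X →* MulAut V} {A : Subgroup X} {v : V} :
    v ∈ fx φ A ↔ A ≤ stabV φ v := Iff.rfl

theorem fx_sup (φ : X →* MulAut V) (A B : Subgroup X) : fx φ (A ⊔ B) = fx φ A ⊓ fx φ B := by
  ext v
  simp only [mem_inf, mem_fx_iff_le, sup_le_iff]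

theorem mem_fx_zpowers {φ : X →* MulAut V} {a : X} {v : V} :
    v ∈ fx φ (zpowers a) ↔ φ a v = v := by
  rw [mem_fx_iff_le, zpowers_le]; rfl

theorem apply_inv_apply (φ : X →* MulAut V) (x : X) (v : V) : φ x (φ x⁻¹ v) = v := by
  rw [← MulAut.mul_apply, ← map_mul, mul_inv_cancel, map_one, MulAut.one_apply]

theorem inv_apply_apply (φ : X →* MulAut V) (x : X) (v : V) : φ x⁻¹ (φ x v) = v := by
  rw [← MulAut.mul_apply, ← map_mul, inv_mul_cancel, map_one, MulAut.one_apply]

theorem mul_apply' (φ : X →* MulAut V) (x y : X) (v : V) : φ (x * y) v = φ x (φ y v) := by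
  rw [map_mul, MulAut.mul_apply]

/-- `W` is invariant -/
def Inv (φ : X →* MulAut V) (W : Subgroup V) : Prop := ∀ x, ∀ w ∈ W, φ x w ∈ W

theorem Inv.map_eq {φ : X →* MulAut V} {W : Subgroup V} (h : Inv φ W) (x : X) :
    W.map (φ x : V →* V) = W := by
  apply le_antisymm
  · rintro _ ⟨w, hw, rfl⟩; exact h x w hw
  · intro w hw
    exact ⟨φ x⁻¹ w, h _ w hw, apply_inv_apply φ x w⟩

theorem inv_fx_of_normal (φ : X →* MulAut V) (N : Subgroup X) [hN : N.Normal] : Inv φ (fx φ N) := by
  intro x w hw n hn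
  have := hw (x⁻¹ * n * x) (by simpa using hN.conj_mem n hn x⁻¹)
  rw [mul_apply', mul_apply'] at this
  have h2 := congrArg (φ x) this
  rwa [apply_inv_apply] at h2

theorem inv_center (φ : X →* MulAut V) : Inv φ (center V) := by
  intro x w hw
  rw [mem_center_iff] at hw ⊢
  intro g
  have := congrArg (φ x) (hw (φ x⁻¹ g))
  rwa [map_mul, map_mul, apply_inv_apply] at this

/-- restriction to an invariant subgroup -/
def res (φ : X →* MulAut V) {W : Subgroup V} (h : Inv φ W) : X →* MulAut W where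
  toFun x :=
    { toFun := fun w => ⟨φ x w, h x w w.2⟩
      invFun := fun w => ⟨φ x⁻¹ w, h _ w w.2⟩
      left_inv := fun w => Subtype.ext (inv_apply_apply φ x w)
      right_inv := fun w => Subtype.ext (apply_inv_apply φ x w)
      map_mul' := fun a b => Subtype.ext (by simp) }
  map_one' := by ext w; simp
  map_mul' x y := by ext w; simp

@[simp] theorem coe_res (φ : X →* MulAut V) {W : Subgroup V} (h : Inv φ W) (x : X) (w : W) :
    (res φ h x w : V) = φ x w := rfl

/-- the action on the quotient by an invariant normal subgroup -/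
def quo (φ : X →* MulAut V) {W : Subgroup V} [W.Normal] (h : Inv φ W) : X →* MulAut (V ⧸ W) where
  toFun x := QuotientGroup.congr W W (φ x) (h.map_eq x)
  map_one' := by
    ext w
    induction w using QuotientGroup.induction_on with | _ w => ?_
    simp [QuotientGroup.congr_mk]
  map_mul' x y := by
    ext w
    induction w using QuotientGroup.induction_on with | _ w => ?_
    simp [QuotientGroup.congr_mk]

@[simp] theorem quo_mk (φ : X →* MulAut V) {W : Subgroup V} [W.Normal] (h : Inv φ W) (x : X)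
    (v : V) : quo φ h x (v : V ⧸ W) = (φ x v : V ⧸ W) := rfl

theorem fx_res (φ : X →* MulAut V) {W : Subgroup V} (h : Inv φ W) (A : Subgroup X) :
    fx (res φ h) A = (fx φ A).subgroupOf W := by
  ext w
  simp only [mem_fx, mem_subgroupOf, Subtype.ext_iff, coe_res]

theorem index_fx_res (φ : X →* MulAut V) {W : Subgroup V} (h : Inv φ W) (A : Subgroup X) :
    (fx (res φ h) A).index = (fx φ A).relIndex W := by
  rw [fx_res]; rfl

theorem relIndex_sup_eq_of_le_normalizer [Finite V] {F W : Subgroup V}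
    (h : F ≤ normalizer (W : Set V)) : F.relIndex (F ⊔ W) = F.relIndex W := by
  have h1 := H2.card_sup_mul_card_inf h
  have h2 := H2.card_mul_relIndex (le_sup_left : F ≤ F ⊔ W)
  have h3 := H2.card_inf_mul_relIndex F W
  have h4 : 0 < Nat.card F * Nat.card ↥(F ⊓ W) := Nat.mul_pos Nat.card_pos Nat.card_pos
  apply Nat.eq_of_mul_eq_mul_left h4
  rw [← h2, ← h3] at h1
  calc _ = Nat.card F * F.relIndex (F ⊔ W) * Nat.card ↥(F ⊓ W) := by ring
    _ = _ := by rw [h1]; ring

theorem index_res_mul_index_quo_le [Finite V] (φ : X →* MulAut V) {W : Subgroup V} [W.Normal]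
    (h : Inv φ W) (A : Subgroup X) :
    (fx (res φ h) A).index * (fx (quo φ h) A).index ≤ (fx φ A).index := by
  set F := fx φ A
  have h1 : F.map (QuotientGroup.mk' W) ≤ fx (quo φ h) A := by
    rintro _ ⟨v, hv, rfl⟩ a ha
    rw [QuotientGroup.mk'_apply, quo_mk, hv a ha]
  have h2 : (fx (quo φ h) A).index ≤ (F.map (QuotientGroup.mk' W)).index :=
    Nat.le_of_dvd (Nat.pos_of_ne_zero index_ne_zero_of_finite) (index_dvd_of_le h1)
  rw [index_map, QuotientGroup.ker_mk', MonoidHom.range_eq_top.mpr (QuotientGroup.mk'_surjective W),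
    index_top, mul_one] at h2
  rw [index_fx_res]
  have h3 : F.relIndex (F ⊔ W) = F.relIndex W := 
    relIndex_sup_eq_of_le_normalizer le_normalizer_of_normal
  calc F.relIndex W * (fx (quo φ h) A).index ≤ F.relIndex W * (F ⊔ W).index :=
        Nat.mul_le_mul_left _ h2
    _ = F.index := by rw [← h3, relIndex_mul_index le_sup_left]

theorem index_fx_eq_mul {φ : X →* MulAut V} {A B : Subgroup X} (h : B ≤ A) :
    (fx φ A).index = (fx φ A).relIndex (fx φ B) * (fx φ B).index :=
  (relIndex_mul_index (fx_anti h)).symm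

/-- the preimage of `O₂(X / ker φ)` -/
def OO {Y : Type*} [Group Y] (φ : X →* Y) : Subgroup X :=
  (pCore 2 (X ⧸ φ.ker)).comap (QuotientGroup.mk' φ.ker)

instance OO_normal {Y : Type*} [Group Y] (φ : X →* Y) : (OO φ).Normal := by
  unfold OO; infer_instance

theorem OO_pow {Y : Type*} [Group Y] {φ : X →* Y} {x : X} (hx : x ∈ OO φ) :
    ∃ k : ℕ, φ x ^ 2 ^ k = 1 := by
  obtain ⟨k, hk⟩ := H2.pCore_isPGroup 2 _ ⟨_, hx⟩
  refine ⟨k, ?_⟩
  have := congrArg Subtype.val hk
  simp only [SubmonoidClass.coe_pow, OneMemClass.coe_one, QuotientGroup.mk'_apply] at this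
  rw [← QuotientGroup.mk_pow, QuotientGroup.eq_one_iff, MonoidHom.mem_ker, map_pow] at this
  exact this

theorem coprime_two_iff {n : ℕ} : n.Coprime 2 ↔ Odd n := Nat.coprime_two_right

theorem OO_odd {Y : Type*} [Group Y] {φ : X →* Y} {x : X} (hx : x ∈ OO φ) (ho : Odd (orderOf x)) :
    φ x = 1 := by
  obtain ⟨k, hk⟩ := OO_pow hx
  exact H13.eq_one_of_pow_eq_one_of_coprime hk
    (Nat.Coprime.coprime_dvd_left (orderOf_map_dvd φ x) (coprime_two_iff.mpr ho))

theorem le_OO [Finite X] {Y : Type*} [Group Y] {φ : X →* Y} {N : Subgroup X} (hN : N.Normal)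
    (h : ∀ n ∈ N, Odd (orderOf n) → φ n = 1) : N ≤ OO φ := by
  intro x hx
  refine mk_mem_pCore_iff.mpr ⟨N, hN, hx, fun d hd => ?_⟩
  obtain ⟨k, hk⟩ := H13.exists_pow_coprime_orderOf Nat.prime_two d
  exact ⟨k, h _ (pow_mem hd _) (coprime_two_iff.mp hk)⟩

theorem ker_le_OO [Finite X] {Y : Type*} [Group Y] (φ : X →* Y) : φ.ker ≤ OO φ :=
  le_OO inferInstance fun _ h _ => h

theorem OO_congr {Y Y' : Type*} [Group Y] [Group Y'] [Finite X] {φ : X →* Y} {ψ : X →* Y'}
    (h : ∀ x, φ x = 1 ↔ ψ x = 1) : OO φ = OO ψ :=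
  le_antisymm (le_OO inferInstance fun _ hn ho => (h _).mp (OO_odd hn ho))
    (le_OO inferInstance fun _ hn ho => (h _).mpr (OO_odd hn ho))

/-- an automorphism of odd order stabilising `1 ≤ W ≤ V` in a `2`-group is trivial -/
theorem eq_one_of_stab {α : MulAut V} {W : Subgroup V} (hW : IsPGroup 2 W) (ho : Odd (orderOf α))
    (h1 : ∀ w ∈ W, α w = w) (h2 : ∀ v, v⁻¹ * α v ∈ W) : α = 1 := by
  ext v
  have key : ∀ n : ℕ, (α ^ n) v = v * (v⁻¹ * α v) ^ n := by
    intro n
    induction n with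
    | zero => simp
    | succ n ih =>
      rw [pow_succ', MulAut.mul_apply, ih, map_mul, h1 _ (pow_mem (h2 v) n), pow_succ',
        ← mul_assoc, mul_inv_cancel_left]
  have h3 := key (orderOf α)
  rw [pow_orderOf_eq_one, MulAut.one_apply] at h3
  have h4 : (v⁻¹ * α v) ^ orderOf α = 1 := by
    have := h3.symm
    rwa [mul_eq_left] at this
  have h5 := H13.eq_one_of_mem_isPGroup_of_coprime hW (h2 v)
    (Nat.Coprime.coprime_dvd_left (orderOf_dvd_of_pow_eq_one h4) (coprime_two_iff.mpr ho))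
  rw [MulAut.one_apply]
  exact (inv_mul_eq_one.mp h5).symm

theorem odd_orderOf_map {Y : Type*} [Group Y] (φ : X →* Y) {x : X} (h : Odd (orderOf x)) :
    Odd (orderOf (φ x)) := h.of_dvd_nat (orderOf_map_dvd φ x)

theorem OO_res_inf_OO_quo_le [Finite X] {φ : X →* MulAut V} {W : Subgroup V} [W.Normal]
    (hW : IsPGroup 2 W) (h : Inv φ W) : OO (res φ h) ⊓ OO (quo φ h) ≤ OO φ := by
  refine le_OO inferInstance fun n hn ho => eq_one_of_stab hW (odd_orderOf_map φ ho) ?_ ?_
  · intro w hw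
    have := congrArg (fun f : MulAut W => ((f ⟨w, hw⟩ : W) : V)) (OO_odd hn.1 ho)
    simpa using this
  · intro v
    have := congrArg (fun f : MulAut (V ⧸ W) => f (v : V ⧸ W)) (OO_odd hn.2 ho)
    simp only [quo_mk, MulAut.one_apply] at this
    exact QuotientGroup.eq.mp this.symm

/-- a `2`-group acting on a nontrivial `2`-group has nontrivial fixed points -/
theorem fx_ne_bot [Finite V] [Nontrivial V] (hV : IsPGroup 2 V) (φ : X →* MulAut V)
    {A : Subgroup X} (hA : ∀ a ∈ A, ∃ k : ℕ, φ a ^ 2 ^ k = 1) : fx φ A ≠ ⊥ := by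
  have hp : IsPGroup 2 (A.map φ) := by
    rw [H13.isPGroup_iff_forall_mem]
    rintro _ ⟨a, ha, rfl⟩
    exact hA a ha
  have h2 : 2 ∣ Nat.card V := by
    obtain ⟨n, hn, h⟩ := (hV.nontrivial_iff_card).mp inferInstance
    rw [h]; exact dvd_pow_self 2 hn.ne'
  obtain ⟨v, hv, h1⟩ := hp.exists_fixed_point_of_prime_dvd_card_of_fixed_point V h2
    (a := 1) (fun g => by simp [Subgroup.smul_def])
  intro hb
  apply h1
  have : v ∈ fx φ A := fun a ha => hv ⟨φ a, ⟨a, ha, rfl⟩⟩
  rw [hb, mem_bot] at this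
  exact this.symm

/-- the `P × Q`-lemma for actions -/
theorem pq_action [Finite X] [Finite V] (hV : IsPGroup 2 V) (φ : X →* MulAut V) {B : Subgroup X}
    (hB : ∀ a ∈ B, ∃ k : ℕ, φ a ^ 2 ^ k = 1) {r : X} (hr : Odd (orderOf r))
    (hc : ∀ b ∈ B, b * r = r * b) (h : ∀ v ∈ fx φ B, φ r v = v) : φ r = 1 := by
  let Γ := V ⋊[MonoidHom.id (MulAut V)] MulAut V
  haveI : Finite Γ := Finite.of_equiv _ SemidirectProduct.equivProd.symm
  let i : V →* Γ := SemidirectProduct.inl
  let j : MulAut V →* Γ := SemidirectProduct.inr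
  have hij : ∀ (α : MulAut V) (v : V), j α * i v * (j α)⁻¹ = i (α v) := fun α v => by
    have := SemidirectProduct.inl_aut (φ := MonoidHom.id (MulAut V)) α v
    rw [map_inv] at this
    exact this.symm
  have hn : i.range.Normal := by
    rw [SemidirectProduct.range_inl_eq_ker_rightHom]; infer_instance
  have hcomm : ∀ (α : MulAut V) (v : V), i v * j α = j α * i v ↔ α v = v := fun α v => by
    rw [← SemidirectProduct.inl_inj (φ := MonoidHom.id (MulAut V))]
    change _ ↔ i _ = i _
    rw [← hij, mul_inv_eq_iff_eq_mul, eq_comm]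
  have hP : IsPGroup 2 (B.map (j.comp φ)) := by
    rw [H13.isPGroup_iff_forall_mem]
    rintro _ ⟨a, ha, rfl⟩
    obtain ⟨k, hk⟩ := hB a ha
    exact ⟨k, by rw [MonoidHom.comp_apply, ← map_pow, hk, map_one]⟩
  have hQ : (Nat.card (zpowers (j (φ r)))).Coprime 2 :=
    H13.card_zpowers_coprime (coprime_two_iff.mpr (odd_orderOf_map (j.comp φ) hr))
  have hU : IsPGroup 2 i.range := hV.of_surjective _ i.rangeRestrict_surjective
  have := H13.p_times_q hP hQ (by
      rintro _ ⟨b, hb, rfl⟩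
      rw [centralizer_zpowers, mem_centralizer_singleton_iff]
      simp only [MonoidHom.comp_apply, ← map_mul, hc b hb]) i.range hU le_normalizer_of_normal
    le_normalizer_of_normal (by
      rintro _ ⟨⟨v, rfl⟩, hv⟩
      rw [centralizer_zpowers, mem_centralizer_singleton_iff, hcomm]
      refine h v fun b hb => (hcomm _ _).mp (hv _ ⟨b, hb, rfl⟩).symm)
  ext v
  exact (hcomm _ _).mp (this (mem_zpowers _) _ ⟨v, rfl⟩)

/-- fixed point congruence for an element of prime order -/
theorem index_fx_modEq [Finite V] (φ : X →* MulAut V) {r : X} {p : ℕ} (hp : p.Prime)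
    (hr : r ^ p = 1) (hpV : ¬ p ∣ Nat.card V) : (fx φ (zpowers r)).index ≡ 1 [MOD p] := by
  haveI := Fact.mk hp
  have hP : IsPGroup p (zpowers (φ r)) :=
    H13.isPGroup_zpowers (k := 1) (by rw [pow_one, ← map_pow, hr, map_one])
  have h1 := hP.card_modEq_card_fixedPoints V
  have h2 : Nat.card (MulAction.fixedPoints (zpowers (φ r)) V) = Nat.card (fx φ (zpowers r)) := by
    refine Nat.card_congr (Equiv.setCongr ?_)
    ext v
    change (∀ m : zpowers (φ r), m • v = v) ↔ v ∈ fx φ (zpowers r)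
    constructor
    · intro h
      exact mem_fx_zpowers.mpr (h ⟨_, mem_zpowers _⟩)
    · rintro h ⟨_, n, rfl⟩
      have := h (r ^ n) (zpow_mem (mem_zpowers r) n)
      rwa [map_zpow] at this
  rw [h2, ← (fx φ (zpowers r)).index_mul_card] at h1
  have h3 : (Nat.card (fx φ (zpowers r))).Coprime p :=
    (Nat.coprime_comm.mp ((Nat.Prime.coprime_iff_not_dvd hp).mpr fun h =>
      hpV (h.trans (card_subgroup_dvd_card _))))
  exact Nat.ModEq.cancel_right_of_coprime h3.symm (by simpa using h1)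

end Basic

/-- The `2F`-inequality for all actions of `X` on finite `2`-groups. -/
def G2F (X : Type u) [Group X] : Prop :=
  ∀ (V : Type u) [Group V] [Finite V], IsPGroup 2 V → ∀ (φ : X →* MulAut V) (A : Subgroup X),
    (∀ a ∈ A, φ (a * a) = 1) → (OO φ).relIndex A ^ 2 ≤ (fx φ A).index

/-- The `2F`-inequality for faithful irreducible actions. -/
def Core2F (X : Type u) [Group X] : Prop :=
  ∀ (V : Type u) [Group V] [Finite V], IsPGroup 2 V → ∀ (φ : X →* MulAut V),
    Function.Injective φ → pCore 2 X = ⊥ → (∀ W : Subgroup V, Inv φ W → W = ⊥ ∨ W = ⊤) →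
    ∀ A : Subgroup X, (∀ a ∈ A, a * a = 1) → Nat.card A ^ 2 ≤ (fx φ A).index

theorem g2f_of_core {X : Type u} [Group X] [Finite X]
    (h : ∀ (N : Subgroup X) [N.Normal], Core2F (X ⧸ N)) : G2F X := by
  intro V _ _ hV
  induction hn : Nat.card V using Nat.strong_induction_on generalizing V with | _ n ih => ?_
  intro φ A hA
  by_cases hW : ∃ W : Subgroup V, W.Normal ∧ Inv φ W ∧ W ≠ ⊥ ∧ W ≠ ⊤
  · obtain ⟨W, hWn, hWi, h1, h2⟩ := hW
    have i1 := ih _ (hn ▸ H2.card_lt_of_ne_top h2) W (hV.to_subgroup W) rfl (res φ hWi) A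
      (fun a ha => by ext w; simp [hA a ha, -map_mul])
    have i2 := ih _ (hn ▸ H2.card_quotient_lt h1) (V ⧸ W) (hV.to_quotient W) rfl (quo φ hWi) A
      (fun a ha => by
        ext w
        induction w using QuotientGroup.induction_on with | _ w => ?_
        simp [hA a ha, -map_mul])
    have h3 : (OO φ).relIndex A ≤ (OO (res φ hWi)).relIndex A * (OO (quo φ hWi)).relIndex A :=
      (relIndex_le_of_le_left (OO_res_inf_OO_quo_le (hV.to_subgroup W) hWi)
        index_ne_zero_of_finite).trans relIndex_inf_le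
    calc _ ≤ ((OO (res φ hWi)).relIndex A * (OO (quo φ hWi)).relIndex A) ^ 2 :=
          Nat.pow_le_pow_left h3 2
      _ ≤ (fx (res φ hWi) A).index * (fx (quo φ hWi) A).index := by
          rw [mul_pow]; exact Nat.mul_le_mul i1 i2
      _ ≤ _ := index_res_mul_index_quo_le φ hWi A
  push Not at hW
  rcases subsingleton_or_nontrivial V with hs | hs
  · have : OO φ = ⊤ := top_le_iff.mp (le_OO inferInstance fun n _ _ => by
      ext v; exact Subsingleton.elim _ _)
    rw [this, relIndex_top_left, one_pow]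
    exact Nat.pos_of_ne_zero index_ne_zero_of_finite
  have hc : center V = ⊤ := hW _ inferInstance (inv_center φ)
    ((nontrivial_iff_ne_bot _).mp hV.center_nontrivial)
  have hnorm : ∀ W : Subgroup V, W.Normal := fun W => ⟨fun w hw g => by
    have : g * w = w * g := mem_center_iff.mp (hc ▸ mem_top w) g
    rwa [this, mul_inv_cancel_right]⟩
  set ψ := QuotientGroup.kerLift φ with hψ
  have hψ' : ∀ x : X, ψ (x : X ⧸ φ.ker) = φ x := fun x => QuotientGroup.kerLift_mk φ x
  have hinv : ∀ W : Subgroup V, Inv ψ W → W = ⊥ ∨ W = ⊤ := fun W hWi => by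
    by_cases h1 : W = ⊥
    · exact Or.inl h1
    · exact Or.inr (hW W (hnorm W) (fun x w hw => hψ' x ▸ hWi x w hw) h1)
  have hO : pCore 2 (X ⧸ φ.ker) = ⊥ := by
    have h1 : fx ψ (pCore 2 (X ⧸ φ.ker)) ≠ ⊥ := fx_ne_bot hV ψ fun a ha => by
      obtain ⟨k, hk⟩ := H13.isPGroup_iff_forall_mem.mp (H2.pCore_isPGroup 2 _) a ha
      exact ⟨k, by rw [← map_pow, hk, map_one]⟩
    have h2 := (hinv _ (inv_fx_of_normal ψ _)).resolve_left h1
    rw [eq_bot_iff]
    intro a ha
    refine mem_bot.mpr (QuotientGroup.kerLift_injective φ ?_)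
    rw [map_one]
    ext v
    exact (h2 ▸ mem_top v : v ∈ fx ψ _) a ha
  have key := h φ.ker V hV ψ (QuotientGroup.kerLift_injective φ) hO hinv
    (A.map (QuotientGroup.mk' φ.ker)) (by
      rintro _ ⟨a, ha, rfl⟩
      rw [← map_mul, QuotientGroup.mk'_apply, QuotientGroup.eq_one_iff]
      exact hA a ha)
  have e1 : fx ψ (A.map (QuotientGroup.mk' φ.ker)) = fx φ A := by
    ext v
    constructor
    · intro hv a ha
      exact hψ' a ▸ hv _ ⟨a, ha, rfl⟩
    · rintro hv _ ⟨a, ha, rfl⟩
      exact (hψ' a).symm ▸ hv a ha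
  have e2 : (OO φ).relIndex A = Nat.card (A.map (QuotientGroup.mk' φ.ker)) := by
    rw [OO, hO, ← relIndex_ker]; rfl
  rwa [e2, ← e1]

end H12
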