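import Mathlib
import Cfsg.Agent.H12.TF1
import Cfsg.Agent.H1.CoprimeAbelian
import Cfsg.Agent.H23.Rel
import Cfsg.Agent.H12.Replace
import Cfsg.Agent.H22.SylIn
import Cfsg.Agent.H22.Isolated

/-!
# The `2F`-inequality for `3'`-groups whose simple sections behave like Suzuki groups
-/

set_option autoImplicit false

namespace H12

open Cfsg Subgroup
open H22 (cj SylIn)
open scoped commutatorElement

universe u

/-- The properties of the Suzuki groups that are used. -/
structure SzLike (L : Type*) [Group L] : Prop where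
  ti : ∀ P P' : Sylow 2 L, P ≠ P' → (P : Subgroup L) ⊓ P' = ⊥
  comm : ∀ P : Sylow 2 L, ∀ a ∈ P, ∀ b ∈ P, a * a = 1 → b * b = 1 → a * b = b * a
  sq_le : ∀ (P : Sylow 2 L) (A : Subgroup L), A ≤ P → (∀ a ∈ A, a * a = 1) →
    Nat.card A ^ 2 ≤ Nat.card P
  inner : ∀ α : MulAut L, α * α = 1 → ∃ g, α = MulAut.conj g

/-- The induction hypothesis on simple `3'`-groups. -/
def Ctx (n : ℕ) : Prop :=
  ∀ (L : Type u) [Group L] [Finite L], IsSimpleGroup L → ¬ IsMulCommutative L →
    ¬ 3 ∣ Nat.card L → Nat.card L < n → SzLike L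

theorem comm_of_sq {X : Type*} [Group X] {A : Subgroup X} (hA : ∀ a ∈ A, a * a = 1) {a b : X}
    (ha : a ∈ A) (hb : b ∈ A) : a * b = b * a := by
  have h1 := hA _ (mul_mem ha hb)
  have e1 : a⁻¹ = a := inv_eq_of_mul_eq_one_right (hA a ha)
  have e2 : b⁻¹ = b := inv_eq_of_mul_eq_one_right (hA b hb)
  rw [← inv_eq_of_mul_eq_one_right h1, mul_inv_rev, e1, e2]

theorem isPGroup_of_sq {X : Type*} [Group X] {A : Subgroup X} (hA : ∀ a ∈ A, a * a = 1) :
    IsPGroup 2 A :=
  H13.isPGroup_iff_forall_mem.mpr fun a ha => ⟨1, by rw [pow_one, pow_two, hA a ha]⟩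

theorem pow_two_lt_four {i k : ℕ} (h : i ∣ 2 ^ k) (h4 : i < 4) : i ≤ 2 := by
  obtain ⟨j, -, rfl⟩ := (Nat.dvd_prime_pow Nat.prime_two).mp h
  rcases j with _ | _ | j
  · simp
  · simp
  · rw [pow_succ, pow_succ] at h4
    have : 0 < 2 ^ j := by positivity
    omega

theorem two_mul_le_of_lt {a b : ℕ} (h : 2 ^ a < 2 ^ b) : 2 * 2 ^ a ≤ 2 ^ b := by
  rw [← pow_succ']
  exact Nat.pow_le_pow_right (by norm_num) ((Nat.pow_lt_pow_iff_right (by norm_num)).mp h)

section Core

variable {X : Type u} [Group X] [Finite X] {V : Type u} [Group V] [Finite V]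

/-- an involution inverting an element of order at least five has fixed points of index at least
four -/
theorem four_le_index (hV : IsPGroup 2 V) (h3 : ¬ 3 ∣ Nat.card X) (ψ : X →* MulAut V) {a r : X}
    (hr : Odd (orderOf r)) (hinv : a * r * a⁻¹ = r⁻¹) (hne : ψ r ≠ 1) :
    4 ≤ (fx ψ (zpowers a)).index := by
  obtain ⟨k, hk⟩ := hV.exists_card_eq
  by_contra hlt
  push Not at hlt
  have hi := pow_two_lt_four (hk ▸ index_dvd_card _) hlt
  -- replace `ψ r` by a power of prime order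
  set m := orderOf (ψ r) with hm
  have hm1 : m ≠ 1 := fun h => hne (orderOf_eq_one_iff.mp h)
  have hm0 : m ≠ 0 := (orderOf_pos _).ne'
  set p := m.minFac with hp
  have hpp : p.Prime := Nat.minFac_prime hm1
  have hmr : m ∣ orderOf r := orderOf_map_dvd ψ r
  have hpo : Odd p := hr.of_dvd_nat ((Nat.minFac_dvd m).trans hmr)
  have hp3 : p ≠ 3 := fun h => h3 (h ▸ ((Nat.minFac_dvd m).trans hmr).trans (orderOf_dvd_natCard r))
  set ρ := ψ r ^ (m / p) with hρ
  have hρo : orderOf ρ = p := orderOf_pow_orderOf_div hm0 (Nat.minFac_dvd m)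
  set α := ψ a with hα
  have hinv' : α * ρ * α⁻¹ = ρ⁻¹ := by
    rw [hρ]
    apply H22.conj_pow_of_inverts
    rw [hα, ← map_inv, ← map_mul, ← map_mul, hinv, map_inv]
  set ι := MonoidHom.id (MulAut V)
  have e0 : fx ψ (zpowers a) = fx ι (zpowers α) := by
    ext v; rw [mem_fx_zpowers, mem_fx_zpowers]; rfl
  rw [e0] at hi
  have e1 : fx ι (zpowers (ρ * α * ρ⁻¹)) = (fx ι (zpowers α)).map (ρ : V →* V) := by
    ext v
    rw [mem_fx_zpowers]
    constructor
    · intro h
      refine ⟨ρ⁻¹ v, mem_fx_zpowers.mpr ?_, by simp⟩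
      have := congrArg (ρ⁻¹ : MulAut V) h
      simpa [ι] using this
    · rintro ⟨w, hw, rfl⟩
      have := mem_fx_zpowers.mp hw
      simp only [ι, MonoidHom.id_apply] at this
      simp [ι, this]
  have hi' : (fx ι (zpowers (ρ * α * ρ⁻¹))).index ≤ 2 := by
    rw [e1]
    have := index_map_equiv (H := fx ι (zpowers α)) (ρ : V ≃* V)
    exact this ▸ hi
  have hle : fx ι (zpowers α) ⊓ fx ι (zpowers (ρ * α * ρ⁻¹)) ≤ fx ι (zpowers ρ) := by
    rw [← fx_sup]
    apply fx_anti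
    have h1 : ρ ^ 2 ∈ zpowers α ⊔ zpowers (ρ * α * ρ⁻¹) := by
      have : ρ ^ 2 = (ρ * α * ρ⁻¹) * α⁻¹ := by
        have h2 : α * ρ⁻¹ * α⁻¹ = ρ := by
          have := congrArg (·⁻¹) hinv'
          simpa [mul_assoc] using this
        calc ρ ^ 2 = ρ * (α * ρ⁻¹ * α⁻¹) := by rw [h2, pow_two]
          _ = _ := by group
      rw [this]
      exact mul_mem (mem_sup_right (mem_zpowers _)) (inv_mem (mem_sup_left (mem_zpowers _)))
    rw [zpowers_le]
    obtain ⟨j, hj⟩ := hpo
    have : ρ = (ρ ^ 2) ^ (j + 1) := by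
      rw [← pow_mul, show 2 * (j + 1) = p + 1 by omega, pow_succ, ← hρo, pow_orderOf_eq_one, one_mul]
    have h9 := pow_mem h1 (j + 1)
    rwa [← this] at h9
  have h4 : (fx ι (zpowers ρ)).index ≤ 4 :=
    ((Nat.le_of_dvd (Nat.pos_of_ne_zero index_ne_zero_of_finite) (index_dvd_of_le hle)).trans
      index_inf_le).trans (Nat.mul_le_mul hi hi')
  have h5 := index_fx_modEq ι hpp (hρo ▸ pow_orderOf_eq_one ρ) (by
    rw [hk]; intro h
    have := (Nat.prime_dvd_prime_iff_eq hpp Nat.prime_two).mp (hpp.dvd_of_dvd_pow h)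
    rw [this] at hpo; exact absurd hpo (by decide))
  have h6 : 5 ≤ p := by
    have := hpp.two_le
    obtain ⟨j, hj⟩ := hpo
    omega
  have h7 : 0 < (fx ι (zpowers ρ)).index := Nat.pos_of_ne_zero index_ne_zero_of_finite
  have h8 : (fx ι (zpowers ρ)).index = 1 := Nat.ModEq.eq_of_lt_of_lt h5 (by omega) (by omega)
  rw [index_eq_one] at h8
  have : ρ = 1 := by
    ext v
    exact mem_fx_zpowers.mp (h8 ▸ mem_top v : v ∈ fx ι (zpowers ρ))
  rw [this, orderOf_one] at hρo
  exact hpp.one_lt.ne hρo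

variable {φ : X →* MulAut V} {A : Subgroup X}

theorem inv_fx_of_comm {L B : Subgroup X} (h : L ≤ centralizer (B : Set X)) :
    Inv (φ.comp L.subtype) (fx φ B) := by
  intro x w hw b hb
  change φ b (φ x w) = φ x w
  rw [← mul_apply', h x.2 b hb, mul_apply', hw b hb]

theorem index_fx_res_sub {L B C : Subgroup X} (h : L ≤ centralizer (B : Set X)) (hC : C ≤ L) :
    (fx (res _ (inv_fx_of_comm (φ := φ) h)) (C.subgroupOf L)).index =
      (fx φ C).relIndex (fx φ B) := by
  rw [index_fx_res]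
  congr 1
  ext v
  constructor
  · intro hv a ha
    exact hv ⟨a, hC ha⟩ ha
  · intro hv a ha
    exact hv a ha

theorem pow_of_sq (hA : ∀ a ∈ A, a * a = 1) : ∀ a ∈ A, ∃ k : ℕ, φ a ^ 2 ^ k = 1 :=
  fun a ha => ⟨1, by rw [pow_one, pow_two, ← map_mul, hA a ha, map_one]⟩

/-- the main reduction -/
theorem core_red (hV : IsPGroup 2 V) (hφ : Function.Injective φ) (hA : ∀ a ∈ A, a * a = 1)
    {B L : Subgroup X} (hBA : B ≤ A) (hB : Nat.card B ^ 2 ≤ (fx φ B).index) (hL : G2F L)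
    (hAL : A ≤ L) (hLB : L ≤ centralizer (B : Set X))
    (hN : ∀ N : Subgroup X, N ≤ L → L ≤ normalizer (N : Set X) → IsPGroup 2 N → A ⊓ N ≤ B) :
    Nat.card A ^ 2 ≤ (fx φ A).index := by
  set ψ := res _ (inv_fx_of_comm (φ := φ) hLB) with hψ
  have h1 := hL _ (hV.to_subgroup _) ψ (A.subgroupOf L) (fun a ha => by
    have : a * a = 1 := Subtype.ext (hA a ha)
    rw [this, map_one])
  rw [hψ, index_fx_res_sub hLB hAL, ← hψ] at h1
  have h2 : A ⊓ (OO ψ).map L.subtype ≤ B := by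
    refine hN _ (map_subtype_le _) (H23.le_normalizer_map_subtype_of_normal _) ?_
    refine H13.isPGroup_of_forall_coprime_eq_one Nat.prime_two ?_
    rintro _ ⟨g, hg, rfl⟩ ho
    have ho' : Odd (orderOf (g : X)) := coprime_two_iff.mp ho
    apply hφ
    rw [map_one]
    refine pq_action hV φ (B := B) (pow_of_sq fun a ha => hA a (hBA ha)) ho'
      (fun b hb => hLB g.2 b hb) fun v hv => ?_
    have := OO_odd hg (by rwa [← Subgroup.orderOf_coe])
    exact congrArg (fun f : MulAut (fx φ B) => ((f ⟨v, hv⟩ : fx φ B) : V)) this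
  have h3 : B.relIndex A ≤ (OO ψ).relIndex (A.subgroupOf L) := by
    rw [← relIndex_map_map_of_injective _ _ L.subtype_injective, map_subgroupOf_eq_of_le hAL,
      ← inf_relIndex_left A (map L.subtype (OO ψ))]
    exact relIndex_le_of_le_left h2 index_ne_zero_of_finite
  rw [index_fx_eq_mul hBA, ← H2.card_mul_relIndex hBA, mul_pow, mul_comm]
  exact Nat.mul_le_mul ((Nat.pow_le_pow_left h3 2).trans h1) hB

/-- the dihedral configuration -/
theorem core_dih (hV : IsPGroup 2 V) (hφ : Function.Injective φ) (h3 : ¬ 3 ∣ Nat.card X)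
    (hA : ∀ a ∈ A, a * a = 1)
    (ihA : ∀ B : Subgroup X, B < A → Nat.card B ^ 2 ≤ (fx φ B).index)
    {B : Subgroup X} (hBA : B ≤ A) {a r : X} (ha : a ∈ A) (hle : A ≤ B ⊔ zpowers a)
    (hr : Odd (orderOf r)) (hr1 : r ≠ 1) (hinv : a * r * a⁻¹ = r⁻¹)
    (hc : ∀ b ∈ B, b * r = r * b) : Nat.card A ^ 2 ≤ (fx φ A).index := by
  have haB : a ∉ B := by
    intro h
    rw [hc a h, mul_inv_cancel_right] at hinv
    apply hr1
    refine H13.eq_one_of_pow_eq_one_of_coprime (p := 2) (k := 1) ?_ (coprime_two_iff.mpr hr)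
    rw [pow_one, pow_two]
    nth_rewrite 1 [hinv]
    exact inv_mul_cancel r
  have hlt : B < A := lt_of_le_of_ne hBA fun h => haB (h ▸ ha)
  set L := centralizer (B : Set X) with hL
  have haL : a ∈ L := fun b hb => comm_of_sq hA (hBA hb) ha
  have hrL : r ∈ L := fun b hb => hc b hb
  set ψ := res _ (inv_fx_of_comm (φ := φ) (le_refl L)) with hψ
  have h1 := four_le_index (hV.to_subgroup _)
    (fun h => h3 (h.trans (card_subgroup_dvd_card L))) ψ (a := ⟨a, haL⟩) (r := ⟨r, hrL⟩)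
    (by rwa [← Subgroup.orderOf_coe]) (Subtype.ext hinv) (fun h => hr1 (hφ (by
      rw [map_one]
      refine pq_action hV φ (B := B) (pow_of_sq fun a ha => hA a (hBA ha)) hr hc fun v hv => ?_
      exact congrArg (fun f : MulAut (fx φ B) => ((f ⟨v, hv⟩ : fx φ B) : V)) h)))
  have e1 : zpowers (⟨a, haL⟩ : L) = (zpowers a).subgroupOf L := by
    rw [← map_subtype_inj, MonoidHom.map_zpowers, map_subgroupOf_eq_of_le (zpowers_le.mpr haL)]
    rfl
  rw [e1, hψ, index_fx_res_sub le_rfl (zpowers_le.mpr haL)] at h1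
  have e2 : A = B ⊔ zpowers a := le_antisymm hle (sup_le hBA (zpowers_le.mpr ha))
  have e3 : (fx φ A).relIndex (fx φ B) = (fx φ (zpowers a)).relIndex (fx φ B) := by
    rw [e2, fx_sup, inf_relIndex_left]
  have h2 : Nat.card A ≤ 2 * Nat.card B := by
    have hn : B ≤ normalizer (zpowers a : Set X) := H13.le_normalizer_of_le_centralizer (by
      rw [centralizer_zpowers]
      exact fun b hb => mem_centralizer_singleton_iff.mpr (comm_of_sq hA (hBA hb) ha))
    have h4 := Nat.le_of_dvd (Nat.mul_pos Nat.card_pos Nat.card_pos)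
      (H2.card_sup_dvd_of_le_normalizer hn)
    rw [← e2, Nat.card_zpowers] at h4
    have h5 : orderOf a ≤ 2 := Nat.le_of_dvd (by norm_num)
      (orderOf_dvd_of_pow_eq_one (by rw [pow_two, hA a ha]))
    nlinarith
  rw [index_fx_eq_mul hBA, e3]
  calc Nat.card A ^ 2 ≤ (2 * Nat.card B) ^ 2 := Nat.pow_le_pow_left h2 2
    _ = 4 * Nat.card B ^ 2 := by ring
    _ ≤ _ := Nat.mul_le_mul h1 (ihA B hlt)

theorem core_odd (hV : IsPGroup 2 V) (hφ : Function.Injective φ) (h3 : ¬ 3 ∣ Nat.card X)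
    (hA : ∀ a ∈ A, a * a = 1)
    (ihA : ∀ B : Subgroup X, B < A → Nat.card B ^ 2 ≤ (fx φ B).index)
    (hne : ¬ Nat.card A ^ 2 ≤ (fx φ A).index) {R : Subgroup X} (hR : (Nat.card R).Coprime 2)
    (hAR : A ≤ normalizer (R : Set X)) : R ≤ centralizer (A : Set X) := by
  haveI : IsMulCommutative A :=
    H13.isMulCommutative_iff_forall_mem.mpr fun x hx y hy => comm_of_sq hA hx hy
  refine H1.le_of_centralizer_cocyclic_le A R _ hAR
    (H1.card_coprime_of_isPGroup (isPGroup_of_sq hA) hR).symm ?_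
  rintro B hBA ⟨a, ha, hle⟩ x ⟨hxR, hxB⟩
  by_cases hxa : a * x = x * a
  · refine H13.centralizer_anti hle ?_
    rw [centralizer_sup']
    exact ⟨hxB, by rw [centralizer_zpowers]; exact mem_centralizer_singleton_iff.mpr hxa.symm⟩
  exfalso
  have haa : a⁻¹ = a := inv_eq_of_mul_eq_one_right (hA a ha)
  refine hne (core_dih hV hφ h3 hA ihA hBA ha hle (r := x⁻¹ * (a * x * a⁻¹)) ?_ ?_ ?_ ?_)
  · exact coprime_two_iff.mp (H13.orderOf_coprime_of_mem hR
      (mul_mem (inv_mem hxR) (H13.conj_mem_of_mem_normalizer (hAR ha) hxR)))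
  · intro h
    rw [inv_mul_eq_one, eq_mul_inv_iff_mul_eq] at h
    exact hxa h.symm
  · calc a * (x⁻¹ * (a * x * a⁻¹)) * a⁻¹ = a * x⁻¹ * a * x * (a * a)⁻¹ := by group
      _ = a * x⁻¹ * a⁻¹ * x := by rw [hA a ha, haa, inv_one, mul_one]
      _ = _ := by group
  · intro b hb
    have h1 : Commute b x := hxB b hb
    have h2 : Commute b a := comm_of_sq hA (hBA hb) ha
    exact (h1.inv_right.mul_right ((h2.mul_right h1).mul_right h2.inv_right)).eq

end Core

end H12
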