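import Mathlib
import Cfsg.Agent.H12.TF2
import Cfsg.Agent.H8.SuzWrap

/-!
# Simple `3'`-groups satisfying Suzuki's hypotheses
-/

set_option autoImplicit false

namespace H12

open Cfsg Subgroup MulAction H8.Suz H21.RankOne
open H22 (cj)

variable {G Ω : Type*} [Group G] [Finite G] [MulAction G Ω] {a : Ω} {t : G} {Q : Subgroup G}
  {s r : G}

theorem three_dvd_of_sq {c n : ℕ} (h : c ^ 2 = 2 ^ n) {k : ℕ} (hk : k + 1 = 2 ^ n) : 3 ∣ k := by
  have h1 : ¬ 3 ∣ c := fun h3 => by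
    have : 3 ∣ 2 ^ n := h ▸ dvd_pow h3 (by norm_num)
    exact absurd (Nat.prime_three.dvd_of_dvd_pow this) (by norm_num)
  have h2 : c % 3 = 1 ∨ c % 3 = 2 := by omega
  have h3 : c ^ 2 % 3 = 1 := by
    rcases h2 with h2 | h2 <;> simp [Nat.pow_mod, h2]
  omega

theorem hyp_card (hG : Hyp G Ω a t Q s r) (h3 : ¬ 3 ∣ Nat.card G) :
    (∃ x ∈ Q, ∃ y ∈ Q, x * y ≠ y * x) ∧ Nat.card Q = Nat.card (Q0 Q) ^ 2 := by
  rcases hG.cases with h | h | h
  · exact absurd ((hG.r_eq_s (h r hG.r_mem)).2 ▸ orderOf_dvd_natCard _) h3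
  · exact h
  · exfalso
    obtain ⟨n, -, hn⟩ := hG.card_Q0
    have h1 := hG.card_KK
    have h2 : Nat.card Q + 1 ∣ Nat.card G := card_G hG.setup ▸ dvd_mul_left _ _
    have h4 : Nat.card (KK a t) ∣ Nat.card G := card_subgroup_dvd_card _
    rw [h.1.card] at h2
    have h5 : ¬ 3 ∣ Nat.card (Q0 Q) := fun h => by
      rw [hn] at h
      exact absurd (Nat.prime_three.dvd_of_dvd_pow h) (by norm_num)
    have h6 : Nat.card (Q0 Q) % 3 = 1 ∨ Nat.card (Q0 Q) % 3 = 2 := by omega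
    rcases h6 with h6 | h6
    · exact h3 (Dvd.dvd.trans (by omega) h4)
    · refine h3 (Dvd.dvd.trans (Nat.dvd_of_mod_eq_zero ?_) h2)
      simp [Nat.add_mod, Nat.pow_mod, h6]

omit [Finite G] in
theorem map_mem_normalizer {U : Subgroup G} {β : MulAut G} (h : U.map (β : G →* G) = U) {g : G}
    (hg : g ∈ normalizer (U : Set G)) : β g ∈ normalizer (U : Set G) := by
  have := le_normalizer_map (H := U) (β : G →* G) ⟨g, hg, rfl⟩
  rwa [h] at this

theorem stabilizer_ta (hG : Hyp G Ω a t Q s r) :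
    stabilizer G (t • a) = normalizer (cj t Q : Set G) := by
  rw [← H22.cj_normalizer, (s1118 hG.setup).2.1, stabilizer_smul_eq_stabilizer_map_conj]

theorem aut_eq_one [IsSimpleGroup G] (hG : Hyp G Ω a t Q s r) (h3 : ¬ 3 ∣ Nat.card G)
    {β : MulAut G} (hβ : β * β = 1) (hQ : Q.map (β : G →* G) = Q)
    (hQt : (cj t Q).map (β : G →* G) = cj t Q) : β = 1 := by
  have hS := hG.setup
  have hββ : ∀ x, β (β x) = x := fun x => by rw [← MulAut.mul_apply, hβ, MulAut.one_apply]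
  have hβQ : ∀ x ∈ Q, β x ∈ Q := fun x hx => hQ ▸ ⟨x, hx, rfl⟩
  have hβD : ∀ d ∈ DD a t, β d ∈ DD a t := fun d hd => by
    refine ⟨?_, ?_⟩
    · rw [← (s1118 hS).2.1]
      exact map_mem_normalizer hQ ((s1118 hS).2.1 ▸ hd.1)
    · rw [stabilizer_ta hG]
      exact map_mem_normalizer hQt (stabilizer_ta hG ▸ hd.2)
  have hβ0 : ∀ z ∈ Q0 Q, β z ∈ Q0 Q := fun z hz =>
    hG.mem_Q0.mpr ⟨hβQ z (Q0_le hz), by rw [← map_mul, (hG.mem_Q0.mp hz).2, map_one]⟩
  have ht2 : β t * β t = 1 := by rw [← map_mul, hG.tt, map_one]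
  have hta : β t • a = t • a := by
    have h1 : cj (β t) Q = cj t Q := by
      rw [← hQt]
      conv_lhs => rw [← hQ]
      rw [cj, cj, map_map, map_map]
      congr 1
      ext x
      simp
    have h2 : t⁻¹ * β t ∈ stabilizer G a := by
      rw [← (s1118 hS).2.1, ← H22.cj_eq_iff, H22.cj_mul, h1, H22.cj_inv_cj]
    rw [mem_stabilizer_iff, mul_smul, inv_smul_eq_iff] at h2
    exact h2
  have hd0 : β t * t ∈ KK a t := hG.mem_KK'.mpr (mul_t_mem_K hS ht2 hta)
  have hβK : ∀ k ∈ KK a t, β k ∈ KK a t := by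
    intro k hk
    obtain ⟨h1, -⟩ := mul_t_invol hS (hG.mem_KK'.mp hk)
    have h2 : β (k * t) * t ∈ KK a t := hG.mem_KK'.mpr (mul_t_mem_K hS
      (by rw [← map_mul, h1, map_one])
      (by rw [map_mul, mul_smul, hta]; exact (hβD k (KK_le hk)).2))
    have := mul_mem h2 (inv_mem hd0)
    rwa [map_mul, mul_assoc (β k), mul_inv_cancel_right] at this
  have hz2 : ∀ z ∈ Q0 Q, z * z = 1 := fun z hz => (hG.mem_Q0.mp hz).2
  have hzc : ∀ z ∈ Q0 Q, ∀ w ∈ Q0 Q, z * w = w * z := fun z hz w hw => hG.Q0_central hz (Q0_le hw)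
  -- the fixed points of `β` on `Q₀`
  let ν : Q0 Q →* G :=
    { toFun := fun z => z * β z
      map_one' := by simp
      map_mul' := fun z w => by
        simp only [coe_mul, map_mul]
        rw [mul_assoc, mul_assoc, ← mul_assoc (w : G), hzc w w.2 _ (hβ0 z z.2), mul_assoc] }
  set C := Q0 Q ⊓ (β : G →* G).eqLocus (MonoidHom.id G) with hC
  have hmemC : ∀ z, z ∈ C ↔ z ∈ Q0 Q ∧ β z = z := fun z => Iff.rfl
  have hsq : Nat.card (Q0 Q) ≤ Nat.card C ^ 2 := by
    have h1 : ν.range ≤ C := by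
      rintro _ ⟨z, rfl⟩
      refine ⟨mul_mem z.2 (hβ0 z z.2), ?_⟩
      change β (z * β z) = z * β z
      rw [map_mul, hββ, hzc _ z.2 _ (hβ0 z z.2)]
    have h2 : ν.ker ≤ C.subgroupOf (Q0 Q) := by
      intro z hz
      refine ⟨z.2, ?_⟩
      have h4 : (z : G) * β z = 1 := hz
      change β z = z
      rw [← inv_eq_of_mul_eq_one_right h4, inv_eq_of_mul_eq_one_right (hz2 z z.2)]
    have h4 := card_le_of_le h2
    rw [H2.card_subgroupOf_of_le inf_le_left] at h4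
    rw [← ν.ker.card_mul_index, index_ker, pow_two]
    exact Nat.mul_le_mul h4 (card_le_of_le h1)
  have hK : ∀ k ∈ KK a t, β k = k := by
    intro k hk
    by_contra hne
    set k1 := k⁻¹ * β k with hk1
    have hk1K : k1 ∈ KK a t := mul_mem (inv_mem hk) (hβK k hk)
    have hk11 : k1 ≠ 1 := fun h => hne (inv_mul_eq_one.mp h).symm
    have hβk : β k1 = k1⁻¹ := by
      rw [hk1, map_mul, map_inv, hββ, mul_inv_rev, inv_inv]
    have hkk : k1 * k1 ≠ 1 := fun h => hk11 (eq_one_of_mem_D_sq hS (KK_le hk1K) h)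
    have hle : cj k1 C ≤ Q0 Q := by
      rw [H22.cj_le_iff]
      intro z hz
      have := hG.conj_Q0 (KK_le (inv_mem hk1K)).1 hz.1
      rwa [inv_inv] at this
    have hdis : C ⊓ cj k1 C = ⊥ := by
      rw [eq_bot_iff]
      rintro _ ⟨h1, ⟨z, hz, rfl⟩⟩
      have h4 : β (k1 * z * k1⁻¹) = k1 * z * k1⁻¹ := h1.2
      rw [map_mul, map_mul, map_inv, hβk, ((hmemC z).mp hz).2, inv_inv] at h4
      have h5 : z = 1 := hG.K_fpf (mul_mem hk1K hk1K) hkk (Q0_le hz.1) (by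
        calc k1 * k1 * z = k1 * (k1 * z * k1⁻¹) * k1 := by group
          _ = _ := by rw [← h4]; group)
      simp [h5]
    have hn : C ≤ normalizer (cj k1 C : Set G) :=
      H13.le_normalizer_of_le_centralizer fun x hx y hy => hzc y (hle hy) x hx.1
    have h4 := H2.card_sup_of_disjoint hn hdis
    have h5 := card_le_of_le (sup_le inf_le_left hle : C ⊔ cj k1 C ≤ Q0 Q)
    rw [h4, H22.card_cj, ← pow_two] at h5
    obtain ⟨n, -, hn⟩ := hG.card_Q0
    have h6 := hG.card_KK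
    rw [hn] at h6
    exact h3 ((three_dvd_of_sq ((le_antisymm h5 hsq).trans hn) h6).trans
      (card_subgroup_dvd_card _))
  have ht : β t = t := by
    have h1 := hK _ hd0
    rw [map_mul, hββ] at h1
    have h2 : β t * t * (β t * t) = 1 := by
      nth_rewrite 1 [← h1]
      rw [mul_assoc, ← mul_assoc (β t), ht2, one_mul, hG.tt]
    have h4 := eq_one_of_mem_D_sq hS (KK_le hd0) h2
    rw [← hG.t_inv, mul_inv_eq_one] at h4
    rwa [hG.t_inv] at h4
  have hsr := struct_unique hS (s' := β s) (r' := β r) hG.s_invol hG.r_mem hG.struct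
    ⟨hS.le (hβQ s hG.s_mem), by simpa using hG.s_ne, by rw [← map_mul, hG.s_sq, map_one]⟩
    (hβQ r hG.r_mem) (by
      have := congrArg β hG.struct
      simpa only [map_mul, map_inv, ht] using this)
  have h0 : ∀ z ∈ Q0 Q, β z = z := by
    intro z hz
    by_cases h1 : z = 1
    · rw [h1, map_one]
    obtain ⟨k, hk, rfl⟩ := hG.exists_K_conj_s hz h1
    rw [map_mul, map_mul, map_inv, hK k hk, ← hsr.1]
  have hc := (hyp_card hG h3).2
  have hr0 : r ∉ Q0 Q := fun h => hG.r_sq_ne_one hG.struct'.two hc (hz2 r h)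
  have hfix : LL t Q ≤ (β : G →* G).eqLocus (MonoidHom.id G) := by
    refine sup_le (fun y hy => ?_) (zpowers_le.mpr ht)
    change β y = y
    by_cases hy0 : y ∈ Q0 Q
    · exact h0 y hy0
    obtain ⟨k, hk, z, hz, rfl⟩ := hG.exists_K_conj_of_sq le_rfl Q0_le
      (fun k hk x hx => hG.conj_Q (KK_le hk) hx) hc hG.r_mem hr0 hy hy0
    rw [map_mul, map_mul, map_mul, map_inv, hK k hk, ← hsr.2, h0 z hz]
  ext x
  exact hfix (hG.LL_eq_top ▸ mem_top x)

theorem exists_sylow_eq (hG : Hyp G Ω a t Q s r) : ∃ P : Sylow 2 G, (P : Subgroup G) = Q := by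
  obtain ⟨P, hP⟩ := exists_sylow_le hG.setup
  exact ⟨P, (P.is_maximal' hG.struct'.two hP).symm⟩

theorem hyp_ti (hG : Hyp G Ω a t Q s r) (P P' : Sylow 2 G) (h : P ≠ P') :
    (P : Subgroup G) ⊓ P' = ⊥ := by
  obtain ⟨P0, hP0⟩ := exists_sylow_eq hG
  obtain ⟨g, rfl⟩ := exists_smul_eq G P0 P
  obtain ⟨g', rfl⟩ := exists_smul_eq G P0 P'
  rw [eq_bot_iff]
  intro x hx
  obtain ⟨h1, h2⟩ := mem_inf.mp hx
  rw [H22.coe_smul_sylow, hP0, H22.mem_cj] at h1 h2
  have h4 : (g⁻¹ * g') • a ≠ a := fun h5 => h (by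
    have : g⁻¹ * g' ∈ normalizer (P0 : Set G) := by
      change _ ∈ normalizer ((P0 : Subgroup G) : Set G)
      rw [hP0, (s1118 hG.setup).2.1]; exact h5
    rw [← Sylow.smul_eq_iff_mem_normalizer, mul_smul, inv_smul_eq_iff] at this
    exact this.symm)
  have h5 := eq_one_of_mem_Q_of_fix hG.setup h1 h4 (by
    have := Q_fix hG.setup h2
    calc (g⁻¹ * x * g) • (g⁻¹ * g') • a = (g⁻¹ * g') • (g'⁻¹ * x * g') • a := by
          rw [← mul_smul, ← mul_smul]; congr 1; group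
      _ = _ := by rw [this])
  rw [mem_bot]
  calc x = g * (g⁻¹ * x * g) * g⁻¹ := by group
    _ = 1 := by rw [h5]; group

theorem hyp_two_trans (hG : Hyp G Ω a t Q s r) {P0 : Sylow 2 G} (hP0 : (P0 : Subgroup G) = Q)
    (P P' : Sylow 2 G) (h : P ≠ P') : ∃ g : G, g • P = P0 ∧ g • P' = t • P0 := by
  obtain ⟨g, rfl⟩ := exists_smul_eq G P0 P
  obtain ⟨g', rfl⟩ := exists_smul_eq G P0 P'
  have key : ∀ x y : G, x • a = y • a ↔ x • P0 = y • P0 := fun x y => by
    rw [← inv_smul_eq_iff, ← mul_smul, ← inv_smul_eq_iff (a := x • P0), ← mul_smul,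
      Sylow.smul_eq_iff_mem_normalizer]
    change _ ↔ _ ∈ normalizer ((P0 : Subgroup G) : Set G)
    rw [hP0, (s1118 hG.setup).2.1]
    rfl
  obtain ⟨k, h1, h2⟩ := two_trans hG.setup (mt (key g g').mp h) (ta_ne hG.setup).symm
  refine ⟨k, ?_, ?_⟩
  · rw [← mul_smul] at h1 ⊢
    simpa using (key _ 1).mp (by simpa using h1)
  · rw [← mul_smul] at h2 ⊢
    exact (key _ _).mp h2

theorem hyp_inner [IsSimpleGroup G] (hG : Hyp G Ω a t Q s r) (h3 : ¬ 3 ∣ Nat.card G)
    (α : MulAut G) (hα : α * α = 1) : ∃ g, α = MulAut.conj g := by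
  open scoped Pointwise in
  by_contra hne
  push Not at hne
  obtain ⟨P0, hP0⟩ := exists_sylow_eq hG
  set I := (MulAut.conj : G →* MulAut G).range with hI
  haveI : I.Normal := ⟨by
    rintro _ ⟨g, rfl⟩ β
    exact ⟨β g, by ext x; simp⟩⟩
  have hconj : ∀ (g : G) (P : Sylow 2 G), MulAut.conj g • P = g • P := fun _ _ => rfl
  -- every involution of `Aut(G)` fixes at most one Sylow subgroup
  have huniq : ∀ β : MulAut G, β * β = 1 → β ≠ 1 → ∀ P P' : Sylow 2 G, β • P = P → β • P' = P' →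
      P = P' := by
    intro β hβ hβ1 P P' h1 h2
    by_contra h
    obtain ⟨g, hg1, hg2⟩ := hyp_two_trans hG hP0 P P' h
    have e1 : (MulAut.conj g * β * (MulAut.conj g)⁻¹) • P0 = P0 := by
      rw [← hg1, ← hconj, mul_smul, mul_smul, inv_smul_smul, h1]
    have e2 : (MulAut.conj g * β * (MulAut.conj g)⁻¹) • (t • P0) = t • P0 := by
      rw [← hg2, ← hconj, mul_smul, mul_smul, inv_smul_smul, h2]
    have := aut_eq_one hG h3 (β := MulAut.conj g * β * (MulAut.conj g)⁻¹)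
      (by
        calc _ = MulAut.conj g * (β * β) * (MulAut.conj g)⁻¹ := by group
          _ = 1 := by rw [hβ]; group)
      (hP0 ▸ congrArg Sylow.toSubgroup e1)
      (by
        have := congrArg Sylow.toSubgroup e2
        rw [← hP0, ← H22.coe_smul_sylow]
        exact this)
    apply hβ1
    calc β = (MulAut.conj g)⁻¹ * (MulAut.conj g * β * (MulAut.conj g)⁻¹) * MulAut.conj g := by group
      _ = 1 := by rw [this]; group
  have hp : IsPGroup 2 (zpowers α) := H13.isPGroup_zpowers (k := 1) (by rw [pow_one, pow_two, hα])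
  obtain ⟨P1, hP1⟩ := hp.nonempty_fixed_point_of_prime_not_dvd_card (Sylow 2 G)
    (not_dvd_card_sylow 2 G)
  have hαP : α • P1 = P1 := hP1 ⟨α, mem_zpowers α⟩
  -- an involution in another Sylow subgroup
  obtain ⟨P2, hP2⟩ : ∃ P2 : Sylow 2 G, P2 ≠ P1 := by
    by_cases h : P0 = P1
    · refine ⟨t • P0, fun h' => ?_⟩
      rw [← h, Sylow.smul_eq_iff_mem_normalizer] at h'
      change _ ∈ normalizer ((P0 : Subgroup G) : Set G) at h'
      rw [hP0, (s1118 hG.setup).2.1] at h'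
      exact hG.setup.not_mem h'
    · exact ⟨P0, h⟩
  obtain ⟨g, rfl⟩ := exists_smul_eq G P0 P2
  set u := g * s * g⁻¹ with hu
  have hu2 : u * u = 1 := (conj_invol hG.s_ne hG.s_sq).2
  have huP : MulAut.conj u • (g • P0) = g • P0 := by
    rw [hconj, Sylow.smul_eq_iff_mem_normalizer]
    refine le_normalizer (H := ((g • P0 : Sylow 2 G) : Subgroup G)) ?_
    rw [H22.coe_smul_sylow, hP0]
    exact H22.conj_mem_cj hG.s_mem
  set ι := MulAut.conj u with hι
  have hι2 : ι * ι = 1 := by rw [hι, ← map_mul, hu2, map_one]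
  have hιI : ι ∈ I := ⟨u, rfl⟩
  rcases Nat.even_or_odd (orderOf (α * ι)) with ⟨k, hk⟩ | ho
  · obtain ⟨h1, h2⟩ := H22.half_pow_spec hk
    have hinv : ((α * ι) ^ k)⁻¹ = (α * ι) ^ k := inv_eq_of_mul_eq_one_right h2
    have c1 : α * (α * ι) ^ k * α⁻¹ = (α * ι) ^ k := by
      rw [H22.conj_pow_of_inverts (H22.inverts_mul_of_mul_self hα hι2), hinv]
    have c2 : ι * (α * ι) ^ k * ι⁻¹ = (α * ι) ^ k := by
      rw [H22.conj_pow_of_inverts (H22.inverts_mul_of_mul_self' hα hι2), hinv]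
    have hpz : IsPGroup 2 (zpowers ((α * ι) ^ k)) :=
      H13.isPGroup_zpowers (k := 1) (by rw [pow_one, pow_two, h2])
    have hfix : ∀ (γ : MulAut G) (P : Sylow 2 G), γ * γ = 1 → γ ≠ 1 → γ • P = P →
        γ * (α * ι) ^ k * γ⁻¹ = (α * ι) ^ k → (α * ι) ^ k • P = P := by
      intro γ P hγ hγ1 hP hc
      refine huniq γ hγ hγ1 _ _ ?_ hP
      rw [← mul_smul, mul_inv_eq_iff_eq_mul.mp hc, mul_smul, hP]
    have hι1 : ι ≠ 1 := by
      intro h
      have h4 : u ∈ center G := mem_center_iff.mpr fun x => by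
        have := congrArg (fun f : MulAut G => f x) h
        simp only [hι, MulAut.conj_apply, MulAut.one_apply] at this
        rw [mul_inv_eq_iff_eq_mul.mp this]
      rcases (inferInstance : (center G).Normal).eq_bot_or_eq_top with h5 | h5
      · rw [h5, mem_bot] at h4
        exact (conj_invol hG.s_ne hG.s_sq).1 h4
      · obtain ⟨x, -, y, -, hxy⟩ := (hyp_card hG h3).1
        exact hxy (mem_center_iff.mp (h5 ▸ mem_top y) x)
    exact hP2 (huniq _ h2 h1 _ _ (hfix ι _ hι2 hι1 huP c2)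
      (hfix α _ hα (fun h => hne 1 (by rw [h, map_one])) hαP c1))
  · obtain ⟨j, hj⟩ := H22.exists_conj_of_odd_orderOf hα hι2 ho
    obtain ⟨x, hx⟩ : α ∈ I := hj ▸ (inferInstance : I.Normal).conj_mem _ hιI _
    exact hne x hx.symm

theorem szLike_of_hyp [IsSimpleGroup G] (hG : Hyp G Ω a t Q s r) (h3 : ¬ 3 ∣ Nat.card G) :
    SzLike G := by
  obtain ⟨P0, hP0⟩ := exists_sylow_eq hG
  refine ⟨hyp_ti hG, ?_, ?_, hyp_inner hG h3⟩
  · intro P x hx y hy hx2 hy2
    obtain ⟨g, rfl⟩ := exists_smul_eq G P0 P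
    change _ ∈ ((g • P0 : Sylow 2 G) : Subgroup G) at hx hy
    rw [H22.coe_smul_sylow, hP0, H22.mem_cj] at hx hy
    have := hG.central hx (by
      calc _ = g⁻¹ * (x * x) * g := by group
        _ = 1 := by rw [hx2]; group) hy
    calc x * y = g * (g⁻¹ * x * g * (g⁻¹ * y * g)) * g⁻¹ := by group
      _ = _ := by rw [this]; group
  · intro P A hA hA2
    obtain ⟨g, rfl⟩ := exists_smul_eq G P0 P
    rw [H22.coe_smul_sylow, hP0, ← H22.cj_le_cj_iff (g := g⁻¹), H22.cj_inv_cj] at hA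
    have h1 : cj g⁻¹ A ≤ Q0 Q := by
      rintro _ ⟨x, hx, rfl⟩
      refine hG.mem_Q0.mpr ⟨hA ⟨x, hx, rfl⟩, ?_⟩
      rw [← map_mul, hA2 x hx, map_one]
    have h2 := card_le_of_le h1
    rw [H22.card_cj] at h2
    change _ ≤ Nat.card ((g • P0 : Sylow 2 G) : Subgroup G)
    rw [H22.coe_smul_sylow, H22.card_cj, hP0, (hyp_card hG h3).2]
    exact Nat.pow_le_pow_left h2 2

theorem isSuzuki_of_hyp [IsSimpleGroup G] (hG : Hyp G Ω a t Q s r) (h3 : ¬ 3 ∣ Nat.card G) :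
    IsSuzuki G := by
  obtain ⟨F, _, _, m, hm, hF, ⟨e⟩⟩ := hG.iso_sz hG.struct'.two (hyp_card hG h3).1 (hyp_card hG h3).2
  exact isSuzuki_of_iso ⟨F, inferInstance, inferInstance, m, hm, hF,
    ⟨(topEquiv.symm.trans (MulEquiv.subgroupCongr hG.LL_eq_top.symm)).trans e⟩⟩

end H12
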