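import Mathlib
import Cfsg.Agent.H12.TF2
import Cfsg.Agent.H12.FF1

/-!
# The `2F`-inequality, continued: components
-/

set_option autoImplicit false

namespace H12

open Cfsg Subgroup
open H22 (cj SylIn)
open scoped commutatorElement

universe u

section Core

variable {X : Type u} [Group X] [Finite X] {V : Type u} [Group V] [Finite V]
variable {φ : X →* MulAut V} {A : Subgroup X}

omit [Finite X] in
theorem card_bot_sq_le : Nat.card (⊥ : Subgroup X) ^ 2 ≤ (fx φ ⊥).index := by
  rw [card_bot, one_pow]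
  exact Nat.pos_of_ne_zero index_ne_zero_of_finite

omit [Finite X] in
theorem comm_of_perfect {L : Subgroup X} (hL : ⁅L, L⁆ = L) {c : X}
    (h : ∀ y ∈ L, c * y * c⁻¹ * y⁻¹ ∈ centralizer (L : Set X)) (hc : c ∈ normalizer (L : Set X)) :
    c ∈ centralizer (L : Set X) := by
  have h1 : ⁅L, zpowers c⁆ ≤ centralizer (L : Set X) := by
    rw [zpowers_eq_closure]
    refine commutator_closure_le ?_ ?_
    · rintro _ rfl
      exact H13.normalizer_le_normalizer_centralizer L hc
    · rintro _ rfl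
      exact h
  have h2 : ⁅zpowers c, L⁆ = ⊥ := H23.comm_bot_of_comm_comm_bot hL
    (H23.comm_bot_of_le_centralizer (by rwa [commutator_comm]))
  exact H23.le_centralizer_of_comm_bot h2 (mem_zpowers c)

theorem core_move (hV : IsPGroup 2 V) (hφ : Function.Injective φ) (h3 : ¬ 3 ∣ Nat.card X)
    (hO : pCore 2 X = ⊥) (ih : ∀ L : Subgroup X, L ≠ ⊤ → G2F L) (hA : ∀ a ∈ A, a * a = 1)
    (ihA : ∀ B : Subgroup X, B < A → Nat.card B ^ 2 ≤ (fx φ B).index)
    {L : Subgroup X} (hL : IsComponent L) {a : X} (ha : a ∈ A) (hne : cj a L ≠ L) :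
    Nat.card A ^ 2 ≤ (fx φ A).index := by
  have hcomp : ∀ g : X, IsComponent (cj g L) := fun g => H23.IsComponent.conj hL g
  have hc : ⁅cj a L, L⁆ = ⊥ := (H23.IsComponent.eq_or_comm (hcomp a) hL).resolve_left hne
  have hc' : ∀ x ∈ L, ∀ y ∈ L, Commute (a * x * a⁻¹) y := fun x hx y hy =>
    H23.comm_bot_iff.mp hc _ (H22.conj_mem_cj hx) y hy
  have haa : a⁻¹ = a := inv_eq_of_mul_eq_one_right (hA a ha)
  have ha1 : a ≠ 1 := by rintro rfl; exact hne (H22.cj_one L)
  have hLab : ¬ L ≤ centralizer (L : Set X) := fun h =>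
    H23.IsQuasisimple.comm_ne_bot hL.2 (H23.comm_bot_of_le_centralizer h)
  let δ : L →* X :=
    { toFun := fun x => x * (a * x * a⁻¹)
      map_one' := by simp
      map_mul' := fun x y => by
        have := (hc' x x.2 y y.2).eq
        simp only [coe_mul]
        calc (x : X) * y * (a * (x * y) * a⁻¹) = x * (y * (a * x * a⁻¹)) * (a * y * a⁻¹) := by group
          _ = _ := by rw [← this]; group }
  have hδ : ∀ x : L, δ x = x * (a * x * a⁻¹) := fun _ => rfl
  set D := δ.range with hD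
  have hσ : ∀ y : X, a * (a * y * a⁻¹) * a⁻¹ = y := fun y => by
    calc a * (a * y * a⁻¹) * a⁻¹ = (a * a) * y * (a * a)⁻¹ := by group
      _ = y := by rw [hA a ha]; group
  have hDa : ∀ d ∈ D, a * d = d * a := by
    rintro _ ⟨x, rfl⟩
    rw [← mul_inv_eq_iff_eq_mul, hδ, ← (hc' x x.2 x x.2).eq]
    calc a * (a * x * a⁻¹ * x) * a⁻¹ = a * (a * x * a⁻¹) * a⁻¹ * (a * x * a⁻¹) := by group
      _ = _ := by rw [hσ, (hc' x x.2 x x.2).eq]
  have hDne : Nontrivial D := by
    by_contra h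
    rw [not_nontrivial_iff_subsingleton] at h
    refine hLab fun x hx y hy => ?_
    have h1 : δ ⟨x, hx⟩ = 1 :=
      congrArg Subtype.val (Subsingleton.elim (⟨δ ⟨x, hx⟩, ⟨_, rfl⟩⟩ : D) 1)
    rw [hδ, mul_eq_one_iff_eq_inv] at h1
    have := (hc' x hx y hy).inv_left
    rw [← h1] at this
    exact this.eq.symm
  have hDq : IsQuasisimple D := H23.IsQuasisimple.of_surjective hL.2 δ.rangeRestrict_surjective
  have hDp := H23.IsQuasisimple.perfect hDq
  have hDE : D ≤ layer X := by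
    rintro _ ⟨x, rfl⟩
    exact mul_mem (H23.le_layer hL x.2) (H23.le_layer (hcomp a) (H22.conj_mem_cj x.2))
  have hED : ∀ g ∈ layer X, a * g = g * a → g ∈ normalizer (D : Set X) := by
    intro g hg hag
    refine H13.mem_normalizer_of_finite ?_
    rintro _ ⟨x, rfl⟩
    refine ⟨⟨g * x * g⁻¹, H13.conj_mem_of_mem_normalizer
      (H23.layer_le_normalizer_of_isSubnormal hL.1 hg) x.2⟩, ?_⟩
    rw [hδ, hδ]
    have h1 : a * g⁻¹ = g⁻¹ * a := (show Commute a g from hag).inv_right.eq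
    have h2 : g⁻¹ * a⁻¹ = a⁻¹ * g⁻¹ := (show Commute a g from hag).inv_inv.eq.symm
    calc g * x * g⁻¹ * (a * (g * x * g⁻¹) * a⁻¹) = g * x * g⁻¹ * (a * g) * x * (g⁻¹ * a⁻¹) := by
          group
      _ = _ := by rw [hag, h2]; group
  set B := A ⊓ centralizer (D : Set X) with hB
  have haB : a ∈ B := ⟨ha, fun d hd => (hDa d hd).symm⟩
  by_cases hBA : B = A
  swap
  · refine core_red hV hφ hA inf_le_left (ihA B (lt_of_le_of_ne inf_le_left hBA))
      (ih (centralizer (B : Set X)) fun h => ha1 ?_)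
      (fun x hx b hb => comm_of_sq hA hb.1 hx) le_rfl fun N hN1 hN2 hN3 => ?_
    · have hn : (zpowers a).Normal := ⟨fun y hy g => by
        have : g ∈ centralizer (B : Set X) := h ▸ mem_top g
        rw [← this y (zpowers_le.mpr haB hy), mul_inv_cancel_right]; exact hy⟩
      have := H2.le_pCore hn (H13.isPGroup_zpowers (p := 2) (k := 1)
        (by rw [pow_one, pow_two, hA a ha]))
      rw [hO, le_bot_iff, zpowers_eq_bot] at this
      exact this
    · have hDL : D ≤ centralizer (B : Set X) := le_centralizer_symm inf_le_right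
      have h1 : ⁅N, D⁆ ≤ N ⊓ layer X :=
        le_inf (H23.commutator_le_left_of (hDL.trans hN2))
          ((commutator_mono le_top hDE).trans (commutator_le_right _ _))
      have h2 : N ⊓ layer X ≤ normalizer (D : Set X) := fun g hg =>
        hED g hg.2 (hN1 hg.1 a haB)
      have h4 : ⁅N ⊓ layer X, D⁆ ≤ N ⊓ D :=
        le_inf ((commutator_mono inf_le_left le_rfl).trans (h1.trans inf_le_left))
          (H23.commutator_le_right_of h2)
      have h5 : ⁅N ⊓ D, D⁆ = ⊥ := by
        refine (H23.IsQuasisimple.eq_or_comm hDq inf_le_right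
          (H13.le_normalizer_inf (hDL.trans hN2) le_normalizer)).resolve_left fun h => ?_
        exact H23.IsQuasisimple.not_le_of_solvable hDq (H23.solv_of_isPGroup hN3)
          (h ▸ inf_le_left)
      have h6 := H23.comm_bot_of_comm_comm_bot hDp (H23.comm_bot_mono h5 h4 le_rfl)
      have h7 := H23.comm_bot_of_comm_comm_bot hDp (H23.comm_bot_mono h6 h1 le_rfl)
      exact inf_le_inf_left _ (H23.le_centralizer_of_comm_bot h7)
  have hAD : ∀ b ∈ A, ∀ x ∈ L, b * (x * (a * x * a⁻¹)) * b⁻¹ = x * (a * x * a⁻¹) := by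
    intro b hb x hx
    have h1 : b ∈ B := hBA ▸ hb
    have h2 : x * (a * x * a⁻¹) * b = b * (x * (a * x * a⁻¹)) := h1.2 _ ⟨⟨x, hx⟩, rfl⟩
    rw [← h2, mul_inv_cancel_right]
  have hLa : ∀ x ∈ L, a * x * a⁻¹ ∈ centralizer (L : Set X) := fun x hx y hy =>
    (hc' x hx y hy).eq.symm
  have hsplit : ∀ c ∈ A, ∀ y : X, c * (y * (a * y * a⁻¹)) * c⁻¹ =
      (c * y * c⁻¹) * (a * (c * y * c⁻¹) * a⁻¹) := by
    intro c hc y
    have hca : c * a = a * c := comm_of_sq hA hc ha
    have h3 : a⁻¹ * c⁻¹ = c⁻¹ * a⁻¹ := (show Commute c a from hca).inv_inv.eq.symm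
    calc c * (y * (a * y * a⁻¹)) * c⁻¹ = c * y * c⁻¹ * (c * a) * y * (a⁻¹ * c⁻¹) := by group
      _ = _ := by rw [hca, h3]; group
  have hfix : ∀ c ∈ A, cj c L = L → c ∈ centralizer (L : Set X) := by
    intro c hc hcL
    have hcn := H22.cj_eq_iff.mp hcL
    refine comm_of_perfect (H23.IsComponent.perfect hL) (fun y hy => ?_) hcn
    have h1 := hAD c hc y hy
    rw [hsplit c hc] at h1
    have h2 : y⁻¹ * (c * y * c⁻¹) = (a * y * a⁻¹) * (a * (c * y * c⁻¹) * a⁻¹)⁻¹ := by
      rw [eq_mul_inv_iff_mul_eq, mul_assoc, h1, inv_mul_cancel_left]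
    have h3 : y⁻¹ * (c * y * c⁻¹) ∈ centralizer (L : Set X) := h2 ▸ mul_mem (hLa y hy)
      (inv_mem (hLa _ (H13.conj_mem_of_mem_normalizer hcn hy)))
    have h4 := H13.conj_mem_of_mem_normalizer
      (H13.normalizer_le_normalizer_centralizer L (le_normalizer hy)) h3
    rwa [mul_inv_cancel_left] at h4
  have hcases : ∀ b ∈ A, b ∈ centralizer (L : Set X) ∨ a * b ∈ centralizer (L : Set X) := by
    intro b hb
    by_cases h1 : cj b L = L
    · exact Or.inl (hfix b hb h1)
    by_cases h2 : cj (a * b) L = L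
    · exact Or.inr (hfix _ (mul_mem ha hb) h2)
    exfalso
    have k1 := H23.le_centralizer_of_comm_bot
      ((H23.IsComponent.eq_or_comm (hcomp b) hL).resolve_left h1)
    have k2 := H23.le_centralizer_of_comm_bot
      ((H23.IsComponent.eq_or_comm (hcomp (a * b)) hL).resolve_left h2)
    refine hLab fun x hx => ?_
    have h3 := hAD b hb x hx
    rw [hsplit b hb] at h3
    have h4 : x = (b * x * b⁻¹) * (a * b * x * (a * b)⁻¹) * (a * x * a⁻¹)⁻¹ := by
      rw [eq_mul_inv_iff_mul_eq, ← h3]; group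
    rw [h4]
    exact mul_mem (mul_mem (k1 (H22.conj_mem_cj hx)) (k2 (H22.conj_mem_cj hx)))
      (inv_mem (hLa x hx))
  obtain ⟨x, hx, hxo, hxc⟩ : ∃ x ∈ L, (orderOf x).Coprime 2 ∧ x ∉ centralizer (L : Set X) := by
    by_contra h
    push Not at h
    have h1 := H23.le_of_pPrime_mem_of_perfect_mod 2 (X := (⊤ : Subgroup L)) (C := center L)
      (fun x _ hx => mem_center_iff.mpr fun y => Subtype.ext
        (h x x.2 (by rwa [Subgroup.orderOf_coe]) y y.2))
      (by
        have := (H23.isQuasisimple_iff.mp hL.2).1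
        rw [← commutator_def, this]; exact le_sup_left)
    exact hLab fun x hx y hy => congrArg Subtype.val (mem_center_iff.mp (h1 (mem_top ⟨x, hx⟩)) ⟨y, hy⟩)
  have hcx : Commute x⁻¹ (a * x * a⁻¹) := (hc' x hx x hx).symm.inv_left
  refine core_dih hV hφ h3 hA ihA (B := A ⊓ centralizer (L : Set X)) inf_le_left ha
    (r := x⁻¹ * (a * x * a⁻¹)) (fun b hb => ?_) ?_ ?_ ?_ ?_
  · rcases hcases b hb with h | h
    · exact mem_sup_left ⟨hb, h⟩
    · have := mul_mem (mem_sup_right (inv_mem (mem_zpowers a)))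
        (mem_sup_left (show a * b ∈ A ⊓ centralizer (L : Set X) from ⟨mul_mem ha hb, h⟩))
      rwa [inv_mul_cancel_left] at this
  · refine (coprime_two_iff.mp hxo).of_dvd_nat (orderOf_dvd_of_pow_eq_one ?_)
    rw [hcx.mul_pow, inv_pow, conj_pow, pow_orderOf_eq_one]
    simp
  · intro h
    rw [inv_mul_eq_one] at h
    exact hxc (h ▸ hLa x hx)
  · calc a * (x⁻¹ * (a * x * a⁻¹)) * a⁻¹ = (a * x * a⁻¹)⁻¹ * (a * (a * x * a⁻¹) * a⁻¹) := by group
      _ = _ := by rw [hσ]; group
  · intro b hb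
    have h1 : Commute b x := (hb.2 x hx).symm
    have h2 : Commute b a := comm_of_sq hA hb.1 ha
    exact (h1.inv_right.mul_right ((h2.mul_right h1).mul_right h2.inv_right)).eq

theorem card_quotient_center_dvd (L : Subgroup X) : Nat.card (L ⧸ center L) ∣ Nat.card X :=
  (card_quotient_dvd_card _).trans (card_subgroup_dvd_card L)

theorem szLike_of_quasisimple {n : ℕ} (hC : Ctx.{u} n) {L : Type u} [Group L] [Finite L]
    (hL : IsQuasisimple L) (h3 : ¬ 3 ∣ Nat.card L) (hn : Nat.card L < n) :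
    SzLike (L ⧸ center L) := by
  refine hC _ hL.2 (fun h => ?_) (fun h => h3 (h.trans (card_quotient_dvd_card _)))
    (lt_of_le_of_lt (Nat.le_of_dvd Nat.card_pos (card_quotient_dvd_card _)) hn)
  haveI := hL.2.toNontrivial
  exact H23.IsQuasisimple.not_isSolvable
    (H23.IsQuasisimple.of_surjective hL (QuotientGroup.mk'_surjective (center L)))
    (H2.isSolvable_of_isMulCommutative _)

theorem core_norm {n : ℕ} (hC : Ctx.{u} n) (hn : Nat.card X < n)
    (hV : IsPGroup 2 V) (hφ : Function.Injective φ) (h3 : ¬ 3 ∣ Nat.card X)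
    (hO : pCore 2 X = ⊥) (ih : ∀ L : Subgroup X, L ≠ ⊤ → G2F L) (hA : ∀ a ∈ A, a * a = 1)
    (ihA : ∀ B : Subgroup X, B < A → Nat.card B ^ 2 ≤ (fx φ B).index)
    (hne : ¬ Nat.card A ^ 2 ≤ (fx φ A).index)
    {L : Subgroup X} (hL : IsComponent L) (hAL : A ≤ normalizer (L : Set X))
    (hc : ¬ A ≤ centralizer (L : Set X)) : L = ⊤ := by
  have hp := H23.IsComponent.perfect hL
  have h1 : L ⊔ A = ⊤ := by
    by_contra h
    refine hne (core_red hV hφ hA (B := A ⊓ centralizer (L : Set X)) inf_le_left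
      (ihA _ (lt_of_le_of_ne inf_le_left fun h => hc (h ▸ inf_le_right))) (ih _ h) le_sup_right
      (sup_le (le_centralizer_symm inf_le_right) fun x hx b hb => comm_of_sq hA hb.1 hx)
      fun N _ hN2 hN3 => inf_le_inf_left _ ?_)
    exact H23.le_centralizer_of_comm_bot (H23.comm_bot_symm
      (H23.IsComponent.comm_of_solvable hL (H23.solv_of_isPGroup hN3) (le_sup_left.trans hN2)))
  haveI hLn : L.Normal := by
    rw [← normalizer_eq_top_iff, eq_top_iff, ← h1]
    exact sup_le le_normalizer hAL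
  have hsz := szLike_of_quasisimple hC hL.2 (fun h => h3 (h.trans (card_subgroup_dvd_card L)))
    (lt_of_le_of_lt (card_le_card_group L) hn)
  set Z := centralizer (L : Set X) with hZ
  have h2 : A ≤ L ⊔ Z := by
    intro a ha
    let e : MulAut L := MulAut.conjNormal a
    have he : (center L).map (e : L →* L) = center L :=
      characteristic_iff_map_eq.mp inferInstance e
    let α : MulAut (L ⧸ center L) := QuotientGroup.congr _ _ e he
    have hα : ∀ y : L, α (y : L ⧸ center L) = (e y : L ⧸ center L) := fun _ => rfl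
    obtain ⟨g, hg⟩ := hsz.inner α (by
      ext y
      induction y using QuotientGroup.induction_on with | _ y => ?_
      rw [MulAut.mul_apply, hα, hα, ← MulAut.mul_apply, ← map_mul, hA a ha, map_one]
      rfl)
    induction g using QuotientGroup.induction_on with | _ g => ?_
    have h4 : (g : X)⁻¹ * a ∈ Z := by
      refine comm_of_perfect hp (fun y hy => ?_) (le_normalizer_of_normal (mem_top _))
      have h5 := hα ⟨y, hy⟩
      rw [hg, MulAut.conj_apply, ← QuotientGroup.mk_mul, ← QuotientGroup.mk_inv,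
        ← QuotientGroup.mk_mul, QuotientGroup.eq] at h5
      have h6 : (g * y * (g : X)⁻¹)⁻¹ * (a * y * a⁻¹) ∈ Z := fun w hw =>
        congrArg Subtype.val (mem_center_iff.mp h5 ⟨w, hw⟩)
      have h7 := (inferInstance : Z.Normal).conj_mem _ h6 (y * (g : X)⁻¹)
      convert h7 using 1
      group
    have := mul_mem (mem_sup_left g.2) (mem_sup_right (S := L) h4)
    rwa [mul_inv_cancel_left] at this
  have h3 : L ⊔ Z = ⊤ := top_le_iff.mp (h1 ▸ sup_le le_sup_left h2)
  obtain ⟨P, hP, -⟩ := H22.exists_sylIn (p := 2) (bot_le : ⊥ ≤ Z) IsPGroup.of_bot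
  have h4 : ∀ g : X, (orderOf g).Coprime 2 → g ∈ L := fun g hg =>
    mem_of_coprime_of_mem_sup hAL (isPGroup_of_sq hA) (by rw [sup_comm, h1]; exact mem_top g) hg
  have h5 : ∀ z ∈ Z, ∃ q ∈ P, ∃ k ∈ Z ⊓ L, z = q * k := fun z hz =>
    hP.exists_mul_of_coprime_mem inf_le_left le_normalizer_of_normal
      (fun g hg ho => ⟨hg, h4 g ho⟩) hz
  have h6 : P.Normal := by
    have hLP : L ≤ normalizer (P : Set X) :=
      H13.le_normalizer_of_le_centralizer (le_centralizer_symm hP.le)
    rw [← normalizer_eq_top_iff, eq_top_iff, ← h3]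
    refine sup_le hLP fun z hz => ?_
    obtain ⟨q, hq, k, hk, rfl⟩ := h5 z hz
    exact mul_mem (le_normalizer hq) (hLP hk.2)
  have h7 := H2.le_pCore h6 hP.isPGroup
  rw [hO, le_bot_iff] at h7
  rw [eq_top_iff, ← h3]
  refine sup_le le_rfl fun z hz => ?_
  obtain ⟨q, hq, k, hk, rfl⟩ := h5 z hz
  rw [h7, mem_bot] at hq
  rw [hq, one_mul]
  exact hk.2

theorem eq_one_of_center (hO : pCore 2 X = ⊥) {z : X} (hz : z ∈ center X) {k : ℕ}
    (h : z ^ 2 ^ k = 1) : z = 1 := by
  have hn : (zpowers z).Normal := ⟨fun y hy g => by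
    rw [mem_center_iff.mp (zpowers_le.mpr hz hy) g, mul_inv_cancel_right]; exact hy⟩
  have := H2.le_pCore hn (H13.isPGroup_zpowers h)
  rwa [hO, le_bot_iff, zpowers_eq_bot] at this

theorem ti_of_quasisimple (hO : pCore 2 X = ⊥) (hsz : SzLike (X ⧸ center X)) {P P' : Sylow 2 X}
    (h : P ≠ P') : (P : Subgroup X) ⊓ P' = ⊥ := by
  have hf := QuotientGroup.mk'_surjective (center X)
  by_contra hne
  obtain ⟨⟨x, hx⟩, hx1⟩ := ne_bot_iff_exists_ne_one.mp hne
  have h1 : P.mapSurjective hf = P'.mapSurjective hf := by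
    by_contra h2
    have h3 : QuotientGroup.mk' (center X) x ∈ (⊥ : Subgroup (X ⧸ center X)) :=
      hsz.ti _ _ h2 ▸ ⟨⟨x, hx.1, rfl⟩, ⟨x, hx.2, rfl⟩⟩
    obtain ⟨k, hk⟩ := H13.isPGroup_iff_forall_mem.mp P.isPGroup' x hx.1
    exact hx1 (Subtype.ext (eq_one_of_center hO ((QuotientGroup.eq_one_iff x).mp h3) hk))
  refine h (Sylow.ext (P'.is_maximal' P.isPGroup' fun y hy => ?_))
  have h2 : QuotientGroup.mk' (center X) y ∈ (P.mapSurjective hf : Subgroup (X ⧸ center X)) :=
    h1 ▸ ⟨y, hy, rfl⟩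
  obtain ⟨w, hw, e⟩ := h2
  have h4 : w⁻¹ * y ∈ center X := QuotientGroup.eq.mp e
  obtain ⟨k, hk⟩ := H13.isPGroup_iff_forall_mem.mp P.isPGroup' w hw
  obtain ⟨l, hl⟩ := H13.isPGroup_iff_forall_mem.mp P'.isPGroup' y hy
  have hc : Commute w⁻¹ y := by
    have h5 : Commute w (w⁻¹ * y) := mem_center_iff.mp h4 w
    have := (Commute.refl w).mul_right h5
    rw [mul_inv_cancel_left] at this
    exact this.inv_left
  have h5 : w⁻¹ * y = 1 := eq_one_of_center hO h4 (k := k + l) (by
    rw [hc.mul_pow, pow_add, inv_pow, pow_mul, hk, mul_comm (2 ^ k), pow_mul, hl]; simp)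
  rw [inv_mul_eq_one] at h5
  exact h5 ▸ hw

theorem core_quasi (hV : IsPGroup 2 V) (hφ : Function.Injective φ)
    (hirr : ∀ W : Subgroup V, Inv φ W → W = ⊥ ∨ W = ⊤)
    (hO : pCore 2 X = ⊥) (ih : ∀ L : Subgroup X, L ≠ ⊤ → G2F L) (hA : ∀ a ∈ A, a * a = 1)
    (hsz : SzLike (X ⧸ center X)) : Nat.card A ^ 2 ≤ (fx φ A).index := by
  by_contra hne
  have hA1 : A ≠ ⊥ := by
    rintro rfl
    exact hne card_bot_sq_le
  have hAp := isPGroup_of_sq hA
  obtain ⟨P, hP⟩ := hAp.exists_le_sylow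
  have hti : ∀ {P P' : Sylow 2 X} {B : Subgroup X}, B ≠ ⊥ → B ≤ P → B ≤ P' → P = P' := by
    intro P P' B hB h1 h2
    by_contra h
    exact hB (le_bot_iff.mp (ti_of_quasisimple hO hsz h ▸ le_inf h1 h2))
  have hcjne : ∀ g : X, cj g A ≠ ⊥ := fun g => by
    rw [← H22.cj_bot g, Ne, (H22.cj_injective g).eq_iff]; exact hA1
  have hcjle : ∀ g : X, cj g A ≤ (g • P : Sylow 2 X) := fun g => by
    rw [H22.coe_smul_sylow]; exact H22.cj_mono hP
  have hgen : ∀ g : X, g • P ≠ P → A ⊔ cj g A = ⊤ := by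
    intro g hg
    by_contra h
    refine hne (core_red hV hφ hA (B := ⊥) bot_le
      card_bot_sq_le (ih _ h) le_sup_left
      (fun x _ b hb => by rw [mem_bot.mp hb]; simp) fun N _ hN2 hN3 => inf_le_right.trans ?_)
    obtain ⟨P1, hP1⟩ :=
      (H13.isPGroup_sup_of_le_normalizer hAp hN3 (le_sup_left.trans hN2)).exists_le_sylow
    obtain ⟨P2, hP2⟩ := (H13.isPGroup_sup_of_le_normalizer (H22.isPGroup_cj hAp g) hN3
      (le_sup_right.trans hN2)).exists_le_sylow
    rw [hti hA1 (le_sup_left.trans hP1) hP] at hP1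
    rw [hti (hcjne g) (le_sup_left.trans hP2) (hcjle g)] at hP2
    exact ti_of_quasisimple hO hsz hg ▸ le_inf (le_sup_right.trans hP2) (le_sup_right.trans hP1)
  have htop : fx φ ⊤ = ⊥ := (hirr _ (inv_fx_of_normal φ ⊤)).resolve_right fun h => hA1 (by
    rw [eq_bot_iff]
    intro a _
    refine mem_bot.mpr (hφ ?_)
    rw [map_one]
    ext v
    exact (h ▸ mem_top v : v ∈ fx φ ⊤) a (mem_top a))
  haveI : Nontrivial V := by
    by_contra h
    rw [not_nontrivial_iff_subsingleton] at h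
    refine hA1 (eq_bot_iff.mpr fun a _ => mem_bot.mpr (hφ ?_))
    ext v
    exact Subsingleton.elim _ _
  obtain ⟨g0, hg0⟩ : ∃ g : X, g • P ≠ P := by
    by_contra h
    push Not at h
    have hn : (P : Subgroup X).Normal := normalizer_eq_top_iff.mp
      (eq_top_iff.mpr fun g _ => Sylow.smul_eq_iff_mem_normalizer.mp (h g))
    exact hA1 (le_bot_iff.mp (hO ▸ hP.trans (H2.le_pCore hn P.isPGroup')))
  have hsemi : ∀ y ∈ (P : Subgroup X), (g0⁻¹ * y * g0) • P = P → y = 1 := by
    intro y hy h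
    by_contra hy1
    have h1 : y ∈ normalizer ((g0 • P : Sylow 2 X) : Set X) := by
      rw [← Sylow.smul_eq_iff_mem_normalizer, ← mul_smul, ← inv_smul_eq_iff, ← mul_smul,
        ← mul_assoc, h]
    have h2 := (g0 • P).is_maximal' (H13.isPGroup_sup_of_le_normalizer
      (P.isPGroup'.to_le (zpowers_le.mpr hy)) (g0 • P).isPGroup' (zpowers_le.mpr h1)) le_sup_right
    exact hg0 (hti (mt zpowers_eq_bot.mp hy1) (h2 ▸ le_sup_left) (zpowers_le.mpr hy))
  set F := fx φ A with hF
  let f : P × {v : F // v ≠ 1} → {v : V // v ≠ 1} := fun p =>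
    ⟨φ (p.1 * g0) p.2.1, fun h => p.2.2 (Subtype.ext ((map_eq_one_iff _ (φ _).injective).mp h))⟩
  have hf : Function.Injective f := by
    rintro ⟨y, v, hv⟩ ⟨y', v', hv'⟩ h
    have h1 : φ (y * g0) v = φ (y' * g0) v' := congrArg Subtype.val h
    set w : X := g0⁻¹ * ((y' : X)⁻¹ * y) * g0 with hw
    have h2 : φ w v = v' := by
      have : w = (y' * g0)⁻¹ * (y * g0) := by rw [hw]; group
      rw [this, mul_apply', h1, inv_apply_apply]
    by_cases h3 : w • P = P
    · have h4 := hsemi _ (mul_mem (inv_mem y'.2) y.2) h3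
      have h5 : y' = y := Subtype.ext (inv_mul_eq_one.mp h4)
      subst h5
      have h6 : v = v' := Subtype.ext ((φ _).injective h1)
      subst h6
      rfl
    · exfalso
      have h4 : (v' : V) ∈ fx φ ⊤ := by
        rw [← hgen w h3, fx_sup]
        refine ⟨v'.2, ?_⟩
        rintro _ ⟨a, ha, rfl⟩
        change φ (w * a * w⁻¹) v' = v'
        rw [← h2, mul_apply', mul_apply', inv_apply_apply, v.2 a ha]
      rw [htop, mem_bot] at h4
      exact hv' (Subtype.ext h4)
  have hcard := Nat.card_le_card_of_injective f hf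
  have hsub : ∀ (W : Type u) [Group W] [Finite W], Nat.card {v : W // v ≠ 1} = Nat.card W - 1 := by
    intro W _ _
    classical
    haveI := Fintype.ofFinite W
    simp [Nat.card_eq_fintype_card, Fintype.card_subtype_compl]
  rw [Nat.card_prod, hsub, hsub, ← F.index_mul_card] at hcard
  have hm : 2 ≤ Nat.card F := (one_lt_card_iff_ne_bot F).mpr (fx_ne_bot hV φ (pow_of_sq hA))
  have hf' := QuotientGroup.mk'_surjective (center X)
  have h1 := hsz.sq_le (P.mapSurjective hf') (A.map (QuotientGroup.mk' _)) (map_mono hP) (by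
    rintro _ ⟨a, ha, rfl⟩
    rw [← map_mul, hA a ha, map_one])
  have h2 : Nat.card (A.map (QuotientGroup.mk' (center X))) = Nat.card A :=
    card_map_of_inf_ker (eq_bot_iff.mpr fun a ha => mem_bot.mpr (eq_one_of_center hO
      (QuotientGroup.ker_mk' (center X) ▸ ha.2) (k := 1) (by rw [pow_one, pow_two, hA a ha.1])))
  have h4 : Nat.card (P.mapSurjective hf' : Subgroup (X ⧸ center X)) ≤ Nat.card P :=
    Nat.le_of_dvd Nat.card_pos (card_map_dvd _ _)
  have h5 : F.index < Nat.card P := by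
    rw [h2] at h1
    exact lt_of_lt_of_le (not_le.mp hne) (h1.trans h4)
  obtain ⟨k, hk⟩ := hV.exists_card_eq
  obtain ⟨i, -, hi⟩ := (Nat.dvd_prime_pow Nat.prime_two).mp (hk ▸ index_dvd_card F)
  obtain ⟨j, hj⟩ := P.isPGroup'.exists_card_eq
  rw [hi, hj] at h5
  have h6 := two_mul_le_of_lt h5
  rw [← hi, ← hj] at h6
  have h7 : 0 < F.index := Nat.pos_of_ne_zero index_ne_zero_of_finite
  change Nat.card (P : Subgroup X) * _ ≤ _ at hcard
  generalize Nat.card (P : Subgroup X) = p at *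
  generalize F.index = c at *
  obtain ⟨m, hm'⟩ : ∃ m, Nat.card F = m + 2 := ⟨Nat.card F - 2, by omega⟩
  rw [hm'] at hcard
  have h8 : p * (m + 1) + 1 ≤ c * (m + 2) := by
    have : 0 < c * (m + 2) := by positivity
    change p * (m + 1) ≤ _ at hcard
    omega
  nlinarith

theorem core2F {n : ℕ} (hC : Ctx.{u} n) (hn : Nat.card X < n) (h3 : ¬ 3 ∣ Nat.card X)
    (ih : ∀ L : Subgroup X, L ≠ ⊤ → G2F L) : Core2F X := by
  intro V _ _ hV φ hφ hO hirr A
  induction hm : Nat.card A using Nat.strong_induction_on generalizing A with | _ m ihm => ?_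
  intro hA
  have ihA : ∀ B : Subgroup X, B < A → Nat.card B ^ 2 ≤ (fx φ B).index := fun B hB =>
    ihm _ (hm ▸ H2.card_lt_of_lt hB) B rfl fun a ha => hA a (hB.le ha)
  rw [← hm]
  by_contra hne
  have hF : fittingSubgroup X ≤ pPrimeCore 2 X := by
    have := H2.fitting_le_pCore_sup_pPrimeCore (G := X) 2
    rwa [hO, bot_sup_eq] at this
  have h1 := core_odd hV hφ h3 hA ihA hne (H2.pPrimeCore_coprime 2 X) le_normalizer_of_normal
  obtain ⟨L, hL, hc⟩ : ∃ L : Subgroup X, IsComponent L ∧ ¬ A ≤ centralizer (L : Set X) := by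
    by_contra h
    push Not at h
    have h2 : A ≤ fittingSubgroup X := H23.le_fitting_of_comm
      (H23.comm_bot_symm (H23.layer_comm fun L hL =>
        H23.comm_bot_symm (H23.comm_bot_of_le_centralizer (h L hL))))
      (H23.comm_bot_symm (H23.comm_bot_of_le_centralizer (hF.trans h1)))
    have h4 := H2.le_pCore_of_le_fitting (isPGroup_of_sq hA) h2
    rw [hO, le_bot_iff] at h4
    subst h4
    exact hne card_bot_sq_le
  have hAL : A ≤ normalizer (L : Set X) := fun a ha => by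
    by_contra h
    exact hne (core_move hV hφ h3 hO ih hA ihA hL ha (mt H22.cj_eq_iff.mp h))
  have h2 := core_norm hC hn hV hφ h3 hO ih hA ihA hne hL hAL hc
  subst h2
  exact hne (core_quasi hV hφ hirr hO ih hA
    (szLike_of_quasisimple hC (H23.isComponent_top_iff.mp hL) h3 hn))

end Core

theorem g2f {n : ℕ} (hC : Ctx.{u} n) (X : Type u) [Group X] [Finite X] (hn : Nat.card X < n)
    (h3 : ¬ 3 ∣ Nat.card X) : G2F X := by
  induction hm : Nat.card X using Nat.strong_induction_on generalizing X with | _ m ih => ?_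
  refine g2f_of_core fun N _ => ?_
  have h1 : Nat.card (X ⧸ N) ≤ Nat.card X := Nat.le_of_dvd Nat.card_pos (card_quotient_dvd_card N)
  have h2 : ¬ 3 ∣ Nat.card (X ⧸ N) := fun h => h3 (h.trans (card_quotient_dvd_card N))
  refine core2F hC (h1.trans_lt hn) h2 fun L hL => ?_
  have h4 := H2.card_lt_of_ne_top hL
  exact ih _ (by omega) L (by omega) (fun h => h2 (h.trans (card_subgroup_dvd_card L))) rfl

end H12
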