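import Mathlib
import Cfsg.Agent.H12.TF3
import Cfsg.Agent.H12.QuadAction
import Cfsg.Agent.H12.PStable
import Cfsg.Agent.H2.MinNormal

/-!
# Ambient forms of the `2F`-inequality
-/

set_option autoImplicit false

namespace H12

open Cfsg Subgroup
open H22 (cj SylIn)
open scoped commutatorElement

universe u

/-- The class of `3'`-groups all of whose simple sections are known. -/
structure KK (n : ℕ) (X : Type u) [Group X] : Prop where
  ctx : Ctx.{u} n
  lt : Nat.card X < n
  h3 : ¬ 3 ∣ Nat.card X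

section KK

variable {n : ℕ} {X : Type u} [Group X] [Finite X]

theorem KK.of_dvd (h : KK n X) {Y : Type u} [Group Y] (hd : Nat.card Y ∣ Nat.card X) : KK n Y :=
  ⟨h.ctx, lt_of_le_of_lt (Nat.le_of_dvd Nat.card_pos hd) h.lt, fun h' => h.h3 (h'.trans hd)⟩

theorem KK.sub (h : KK n X) (L : Subgroup X) : KK n L := h.of_dvd (card_subgroup_dvd_card L)

theorem KK.quo (h : KK n X) (N : Subgroup X) [N.Normal] : KK n (X ⧸ N) :=
  h.of_dvd (card_quotient_dvd_card N)

theorem KK.g2f (h : KK n X) : G2F X := H12.g2f h.ctx X h.lt h.h3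

theorem exists_simple_quotient (Y : Type*) [Group Y] [Finite Y] [Nontrivial Y] :
    ∃ M : Subgroup Y, ∃ _ : M.Normal, IsSimpleGroup (Y ⧸ M) := by
  obtain ⟨M, ⟨hM, hM1⟩, hmax⟩ := Set.Finite.exists_maximal
    (s := {M : Subgroup Y | M.Normal ∧ M ≠ ⊤}) (Set.toFinite _) ⟨⊥, inferInstance, bot_ne_top⟩
  refine ⟨M, hM, ?_⟩
  haveI : Nontrivial (Y ⧸ M) := QuotientGroup.nontrivial_iff.mpr hM1
  refine ⟨fun K hK => ?_⟩
  by_cases h : K.comap (QuotientGroup.mk' M) = ⊤
  · right
    rw [← H2.map_comap_mk' M K, h, map_top_of_surjective _ (QuotientGroup.mk'_surjective M)]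
  · left
    rw [← H2.map_comap_mk' M K, H2.map_mk'_eq_bot_iff]
    exact hmax ⟨hK.comap _, h⟩ (H2.le_comap_mk' M K)

/-- Involutions in a Sylow `2`-subgroup of a minimal normal subgroup commute. -/
theorem KK.p1 (h : KK n X) {N P : Subgroup X} (hN : H2.IsMinNormal N) (hP : IsPGroup 2 P)
    {a b : X} (ha : a ∈ N) (hb : b ∈ N) (haP : a ∈ P) (hbP : b ∈ P) (ha2 : a * a = 1)
    (hb2 : b * b = 1) : a * b = b * a := by
  haveI := hN.1
  haveI : Nontrivial N := (nontrivial_iff_ne_bot N).mpr hN.2.1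
  obtain ⟨M, hM, hs⟩ := exists_simple_quotient N
  have h1 : (M.map N.subtype).normalCore = ⊥ := by
    refine (hN.2.2 _ inferInstance ((normalCore_le _).trans (map_subtype_le M))).resolve_right
      fun h => ?_
    have h2 : N ≤ M.map N.subtype := h.ge.trans (normalCore_le _)
    have h3 : M = ⊤ := eq_top_iff.mpr fun x _ => by
      obtain ⟨y, hy, hyx⟩ := h2 x.2
      rwa [← Subtype.ext hyx]
    exact QuotientGroup.nontrivial_iff.mp hs.toNontrivial h3
  rw [← mul_inv_eq_one, ← mem_bot, ← h1]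
  intro x
  set a' : N := ⟨x * a * x⁻¹, hN.1.conj_mem a ha x⟩
  set b' : N := ⟨x * b * x⁻¹, hN.1.conj_mem b hb x⟩
  have key : (a' : N ⧸ M) * b' = b' * a' := by
    by_cases hc : IsMulCommutative (N ⧸ M)
    · exact mul_comm' _ _
    have hsz := h.ctx (N ⧸ M) hs hc ((h.sub N).quo M).h3 ((h.sub N).quo M).lt
    obtain ⟨T, hT⟩ := (((H22.isPGroup_cj hP x).comap_subtype (K := N)).map
      (QuotientGroup.mk' M)).exists_le_sylow
    refine hsz.comm T _ (hT ⟨a', H22.conj_mem_cj haP, rfl⟩) _ (hT ⟨b', H22.conj_mem_cj hbP, rfl⟩)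
      ?_ ?_
    · rw [← map_mul, show a' * a' = 1 from Subtype.ext (by
        change x * a * x⁻¹ * (x * a * x⁻¹) = 1
        rw [show x * a * x⁻¹ * (x * a * x⁻¹) = x * (a * a) * x⁻¹ by group, ha2]; group)]
      rfl
    · rw [← QuotientGroup.mk_mul, show b' * b' = 1 from Subtype.ext (by
        change x * b * x⁻¹ * (x * b * x⁻¹) = 1
        rw [show x * b * x⁻¹ * (x * b * x⁻¹) = x * (b * b) * x⁻¹ by group, hb2]; group)]
      rfl
  refine ⟨a' * b' * (b' * a')⁻¹, ?_, ?_⟩
  · change _ ∈ M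
    rw [← QuotientGroup.eq_one_iff, QuotientGroup.mk_mul, QuotientGroup.mk_inv,
      QuotientGroup.mk_mul, QuotientGroup.mk_mul, key, mul_inv_cancel]
  · change x * a * x⁻¹ * (x * b * x⁻¹) * (x * b * x⁻¹ * (x * a * x⁻¹))⁻¹ = _
    group

end KK

section Dual

variable {X : Type*} [Group X] {V : Type*} [CommGroup V]

/-- The action on the character group. -/
def dualAct (φ : X →* MulAut V) : X →* MulAut (V →* ℂˣ) where
  toFun x :=
    { toFun := fun χ => χ.comp (φ x⁻¹ : V →* V)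
      invFun := fun χ => χ.comp (φ x : V →* V)
      left_inv := fun χ => MonoidHom.ext fun v => by simp [inv_apply_apply]
      right_inv := fun χ => MonoidHom.ext fun v => by simp [apply_inv_apply]
      map_mul' := fun _ _ => rfl }
  map_one' := by ext χ v; simp
  map_mul' x y := by ext χ v; simp

theorem dualAct_apply (φ : X →* MulAut V) (x : X) (χ : V →* ℂˣ) (v : V) :
    dualAct φ x χ v = χ (φ x⁻¹ v) := rfl

theorem dualAct_eq_one_iff [Finite V] (φ : X →* MulAut V) (x : X) :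
    φ x = 1 ↔ dualAct φ x = 1 := by
  constructor
  · intro h
    ext χ v
    rw [dualAct_apply, map_inv, h]; simp
  · intro h
    rw [← inv_eq_one, ← map_inv]
    ext v
    by_contra hne
    obtain ⟨χ, hχ⟩ := CommGroup.exists_apply_ne_one_of_hasEnoughRootsOfUnity V ℂ
      (a := φ x⁻¹ v * v⁻¹) fun h' => hne (mul_inv_eq_one.mp h')
    apply hχ
    rw [map_mul, ← dualAct_apply, h, map_inv]
    simp

theorem index_fx_dualAct_le [Finite V] (φ : X →* MulAut V) {A : Subgroup X} {W : Subgroup V}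
    (h : ∀ a ∈ A, ∀ v, φ a v * v⁻¹ ∈ W) : (fx (V := V →* ℂˣ) (dualAct φ) A).index ≤ Nat.card W := by
  have h1 : (MonoidHom.domRestrictHom W ℂˣ).ker ≤ fx (V := V →* ℂˣ) (dualAct φ) A := by
    intro χ hχ
    rw [mem_fx]
    intro a ha
    ext v
    have := DFunLike.congr_fun hχ ⟨_, h _ (inv_mem ha) v⟩
    change χ (φ a⁻¹ v * v⁻¹) = 1 at this
    rw [map_mul, map_inv χ, mul_inv_eq_one] at this
    rw [dualAct_apply, this]
  have h2 := CommGroup.card_domRestrictHom_ker ℂ W
  have h3 := CommGroup.card_monoidHom_of_hasEnoughRootsOfUnity V ℂ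
  haveI : Finite (V →* ℂˣ) := Nat.finite_of_card_ne_zero (h3 ▸ Nat.card_pos.ne')
  have h4 := (MonoidHom.domRestrictHom W ℂˣ).ker.card_mul_index
  rw [h2, h3, W.card_eq_card_quotient_mul_card_subgroup] at h4
  rw [← Nat.eq_of_mul_eq_mul_left Nat.card_pos h4]
  exact Nat.le_of_dvd (Nat.pos_of_ne_zero index_ne_zero_of_finite) (index_dvd_of_le h1)

theorem G2F.dual {X : Type u} [Group X] [Finite X] {V : Type u} [CommGroup V] [Finite V]
    (hX : G2F X) (hV : ∀ v : V, v * v = 1) (φ : X →* MulAut V) {A : Subgroup X}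
    (hA : ∀ a ∈ A, φ (a * a) = 1) {W : Subgroup V} (h : ∀ a ∈ A, ∀ v, φ a v * v⁻¹ ∈ W) :
    (OO φ).relIndex A ^ 2 ≤ Nat.card W := by
  have h3 := CommGroup.card_monoidHom_of_hasEnoughRootsOfUnity V ℂ
  haveI : Finite (V →* ℂˣ) := Nat.finite_of_card_ne_zero (h3 ▸ Nat.card_pos.ne')
  rw [OO_congr (dualAct_eq_one_iff φ)]
  have h2 : IsPGroup 2 (V →* ℂˣ) := fun χ => ⟨1, by
    rw [pow_one, pow_two]
    refine MonoidHom.ext fun v => ?_
    rw [MonoidHom.mul_apply, ← map_mul, hV, map_one, MonoidHom.one_apply]⟩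
  exact (hX (V →* ℂˣ) h2 (dualAct φ) A
    fun a ha => (dualAct_eq_one_iff φ _).mp (hA a ha)).trans (index_fx_dualAct_le φ h)

end Dual

section Amb

variable {G : Type u} [Group G] [Finite G]

omit [Finite G] in
theorem fx_conjAct' {L V A : Subgroup G} (hLV : L ≤ normalizer (V : Set G)) (hAL : A ≤ L) :
    fx (conjAct' hLV) (A.subgroupOf L) = (centralizer (A : Set G)).subgroupOf V := by
  ext v
  rw [mem_fx, mem_subgroupOf, mem_centralizer_iff]
  constructor
  · intro h a ha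
    have := congrArg Subtype.val (h ⟨a, hAL ha⟩ ha)
    rw [coe_conjAct'] at this
    exact mul_inv_eq_iff_eq_mul.mp this
  · intro h a ha
    exact Subtype.ext (by rw [coe_conjAct', h (a : G) ha, mul_inv_cancel_right])

/-- The `2F`-inequality for a subgroup `L` normalising a `2`-subgroup `V`. -/
theorem g1 {L V : Subgroup G} (hL : G2F L) (hLV : L ≤ normalizer (V : Set G))
    (hV : IsPGroup 2 V) : ∃ D ≤ L, L ≤ normalizer (D : Set G) ∧
      (∀ d ∈ D, Odd (orderOf d) → d ∈ centralizer (V : Set G)) ∧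
      ∀ A ≤ L, (∀ a ∈ A, a * a ∈ centralizer (V : Set G)) →
        D.relIndex A ^ 2 ≤ (centralizer (A : Set G)).relIndex V ∧
        ((∀ v ∈ V, v * v = 1) → D.relIndex A ^ 2 ≤ Nat.card (⁅V, A⁆ : Subgroup G)) := by
  refine ⟨(OO (conjAct' hLV)).map L.subtype, map_subtype_le _,
    H23.le_normalizer_map_subtype_of_normal _, ?_, fun A hAL hA => ?_⟩
  · rintro _ ⟨d, hd, rfl⟩ ho
    have := OO_odd hd (by simpa using ho)
    rwa [← MonoidHom.mem_ker, ker_conjAct'] at this
  have hA' : ∀ a ∈ A.subgroupOf L, conjAct' hLV (a * a) = 1 := fun a ha => by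
    rw [← MonoidHom.mem_ker, ker_conjAct']; exact hA _ ha
  have e : ((OO (conjAct' hLV)).map L.subtype).relIndex A =
      (OO (conjAct' hLV)).relIndex (A.subgroupOf L) := by
    rw [← relIndex_map_map_of_injective _ _ L.subtype_injective, subgroupOf_map_subtype,
      inf_of_le_left hAL]
  rw [e]
  refine ⟨?_, fun hV2 => ?_⟩
  · have := hL V hV _ _ hA'
    rwa [fx_conjAct' hLV hAL] at this
  · letI : CommGroup V := { (inferInstance : Group V) with
      mul_comm := fun a b => Subtype.ext (comm_of_sq hV2 a.2 b.2) }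
    have := hL.dual (V := V) (fun v => Subtype.ext (hV2 v v.2)) (conjAct' hLV) hA'
      (W := (⁅V, A⁆ : Subgroup G).subgroupOf V) fun a ha v => comm_mem_commutator v.2 ha
    rwa [H2.card_subgroupOf_of_le (commutator_le_self_of_le_normalizer (hAL.trans hLV))] at this

/-- The `2F`-inequality for two sections. -/
theorem g3 (hG : G2F G) {U W : Subgroup G} [U.Normal] [W.Normal] (hWU : W ≤ U)
    (hU : IsPGroup 2 U) {A : Subgroup G} (hA : ∀ a ∈ A, a * a = 1) :
    ∃ D₁ D₂ : Subgroup G, D₁.Normal ∧ D₂.Normal ∧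
      (∀ d ∈ D₁, Odd (orderOf d) → d ∈ centralizer (W : Set G)) ∧
      (∀ d ∈ D₂, Odd (orderOf d) → ∀ u ∈ U, d * u * d⁻¹ * u⁻¹ ∈ W) ∧
      D₁.relIndex A ^ 2 * D₂.relIndex A ^ 2 ≤ (centralizer (A : Set G)).relIndex U := by
  set φ : G →* MulAut U := MulAut.conjNormal
  have hI : Inv φ (W.subgroupOf U) := fun x w hw => Normal.conj_mem ‹W.Normal› (w : G) hw x
  refine ⟨OO (res φ hI), OO (quo φ hI), inferInstance, inferInstance, fun d hd ho => ?_,
    fun d hd ho u hu => ?_, ?_⟩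
  · intro w hw
    have := congrArg (fun x : W.subgroupOf U => ((x : U) : G))
      (DFunLike.congr_fun (OO_odd hd ho) ⟨⟨w, hWU hw⟩, hw⟩)
    exact (mul_inv_eq_iff_eq_mul.mp this).symm
  · have := DFunLike.congr_fun (OO_odd hd ho) ((⟨u, hu⟩ : U) : U ⧸ W.subgroupOf U)
    rw [quo_mk, MulAut.one_apply, eq_comm, ← mul_inv_eq_one, ← QuotientGroup.mk_inv,
      ← QuotientGroup.mk_mul, QuotientGroup.eq_one_iff] at this
    have h2 := inv_mem this
    rw [mul_inv_rev, inv_inv] at h2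
    exact h2
  · have h1 := hG _ (hU.to_subgroup _) (res φ hI) A fun a ha => by rw [hA a ha, map_one]
    have h2 := hG _ (hU.to_quotient _) (quo φ hI) A fun a ha => by rw [hA a ha, map_one]
    refine (Nat.mul_le_mul h1 h2).trans ((index_res_mul_index_quo_le φ hI A).trans_eq ?_)
    congr 1
    ext v
    rw [mem_fx, mem_subgroupOf, mem_centralizer_iff]
    exact forall₂_congr fun a _ => Subtype.ext_iff.trans mul_inv_eq_iff_eq_mul

omit [Finite G] in
theorem relIndex_pos' [Finite G] (A B : Subgroup G) : 0 < A.relIndex B :=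
  Nat.pos_of_ne_zero index_ne_zero_of_finite

/-- Failure of factorisation. -/
theorem MaxEA.relIndex_le {p : ℕ} {H V A : Subgroup G} (hA : MaxEA p H A) (hVH : V ≤ H)
    (hV : IsElementaryAbelian p V) :
    (centralizer (A : Set G)).relIndex V ≤ (centralizer (V : Set G)).relIndex A := by
  have h1 := (hA.bestOffender hVH hV).1 (A ⊓ centralizer (V : Set G)) inf_le_left
  rw [inf_of_le_left (le_centralizer_symm inf_le_right)] at h1
  have h2 := H2.card_inf_mul_relIndex (centralizer (A : Set G)) V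
  have h3 := H2.card_inf_mul_relIndex (centralizer (V : Set G)) A
  rw [inf_comm] at h2 h3
  rw [← h2, ← h3, mul_assoc, mul_comm _ (Nat.card ↥(V ⊓ centralizer (A : Set G)))] at h1
  exact Nat.le_of_mul_le_mul_left (Nat.le_of_mul_le_mul_left h1 Nat.card_pos) Nat.card_pos

end Amb

section TwoF

variable {G : Type*} [Group G] {G' : Type*} [Group G']

/-- The `2F`-inequalities for the action of the subgroups of `S` on `Y`. -/
def TwoF (Y S : Subgroup G) : Prop :=
  ∀ E ≤ S, (∀ e ∈ E, e * e ∈ centralizer (Y : Set G)) →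
    (centralizer (Y : Set G)).relIndex E ^ 2 ≤ (centralizer (E : Set G)).relIndex Y ∧
    (centralizer (Y : Set G)).relIndex E ^ 2 ≤ Nat.card (⁅Y, E⁆ : Subgroup G)

theorem TwoF.mono {Y S S' : Subgroup G} (h : TwoF Y S) (hS : S' ≤ S) : TwoF Y S' :=
  fun E hE => h E (hE.trans hS)

theorem map_mem_centralizer_iff {f : G →* G'} {S A : Subgroup G} (hf : S ⊓ f.ker = ⊥)
    (hA : A ≤ S) {b : G} (hb : b ∈ S) :
    f b ∈ centralizer (A.map f : Set G') ↔ b ∈ centralizer (A : Set G) := by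
  constructor
  · intro h a ha
    refine eq_of_map_eq_of_inf_ker hf (mul_mem (hA ha) hb) (mul_mem hb (hA ha)) ?_
    rw [map_mul, map_mul]
    exact h _ ⟨a, ha, rfl⟩
  · rintro h _ ⟨a, ha, rfl⟩
    rw [← map_mul, ← map_mul, h a ha]

theorem relIndex_centralizer_map {f : G →* G'} {S A B : Subgroup G} (hf : S ⊓ f.ker = ⊥)
    (hA : A ≤ S) (hB : B ≤ S) :
    (centralizer (A.map f : Set G')).relIndex (B.map f) = (centralizer (A : Set G)).relIndex B := by
  rw [← relIndex_comap, ← inf_relIndex_right, ← inf_relIndex_right (centralizer (A : Set G))]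
  congr 1
  ext b
  exact and_congr_left fun hb => map_mem_centralizer_iff hf hA (hB hb)

theorem twoF_map_iff {f : G →* G'} {S Y : Subgroup G} (hf : S ⊓ f.ker = ⊥) (hY : Y ≤ S) :
    TwoF (Y.map f) (S.map f) ↔ TwoF Y S := by
  have key : ∀ E ≤ S, ((∀ e ∈ E.map f, e * e ∈ centralizer (Y.map f : Set G')) →
      (centralizer (Y.map f : Set G')).relIndex (E.map f) ^ 2 ≤
        (centralizer (E.map f : Set G')).relIndex (Y.map f) ∧
      (centralizer (Y.map f : Set G')).relIndex (E.map f) ^ 2 ≤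
        Nat.card (⁅Y.map f, E.map f⁆ : Subgroup G')) ↔
      ((∀ e ∈ E, e * e ∈ centralizer (Y : Set G)) →
      (centralizer (Y : Set G)).relIndex E ^ 2 ≤ (centralizer (E : Set G)).relIndex Y ∧
      (centralizer (Y : Set G)).relIndex E ^ 2 ≤ Nat.card (⁅Y, E⁆ : Subgroup G)) := by
    intro E hE
    rw [relIndex_centralizer_map hf hY hE, relIndex_centralizer_map hf hE hY, ← map_commutator,
      card_map_of_inf_ker (inf_ker_eq_bot_of_le hf
        ((commutator_mono hY hE).trans (commutator_le_self_of_le_normalizer le_normalizer)))]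
    refine imp_congr_left ⟨fun h e he => ?_, ?_⟩
    · rw [← map_mem_centralizer_iff hf hY (mul_mem (hE he) (hE he)), map_mul]
      exact h _ ⟨e, he, rfl⟩
    · rintro h _ ⟨e, he, rfl⟩
      rw [← map_mul, map_mem_centralizer_iff hf hY (mul_mem (hE he) (hE he))]
      exact h e he
  refine ⟨fun h E hE => (key E hE).mp (h _ (map_mono hE)), fun h E hE => ?_⟩
  rw [← map_inf_comap_eq hE]
  exact (key _ inf_le_left).mpr (h _ inf_le_left)

theorem TwoF.cj {S Y : Subgroup G} (h : TwoF Y S) (hY : Y ≤ S) (g : G) :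
    TwoF (cj g Y) (cj g S) :=
  (twoF_map_iff (inf_ker_eq_bot_of_injective (MulAut.conj g).injective S) hY).mpr h

/-- The normal closure of `Z` under `L`. -/
def ncl (L Z : Subgroup G) : Subgroup G := ⨆ g : L, cj (g : G) Z

theorem cj_le_ncl {L : Subgroup G} (Z : Subgroup G) {g : G} (hg : g ∈ L) : cj g Z ≤ ncl L Z :=
  le_iSup (fun g : L => cj (g : G) Z) ⟨g, hg⟩

theorem le_ncl (L Z : Subgroup G) : Z ≤ ncl L Z := by
  simpa [H22.cj_one] using cj_le_ncl Z (one_mem L)

theorem ncl_le_iff {L Z W : Subgroup G} : ncl L Z ≤ W ↔ ∀ g ∈ L, cj g Z ≤ W := by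
  simp [ncl]

theorem ncl_le {L Z W : Subgroup G} (h : Z ≤ W) (hL : L ≤ normalizer (W : Set G)) :
    ncl L Z ≤ W :=
  ncl_le_iff.mpr fun _ hg => (H22.cj_mono h).trans (H22.cj_eq_iff.mpr (hL hg)).le

theorem le_normalizer_ncl [Finite G] (L Z : Subgroup G) : L ≤ normalizer (ncl L Z : Set G) := by
  intro g hg
  rw [← H22.cj_eq_iff]
  apply H22.cj_eq_of_le
  rw [H22.cj_le_iff_le_cj_inv, ncl_le_iff]
  intro h hh
  rw [← H22.cj_le_iff_le_cj_inv, ← H22.cj_mul]
  exact cj_le_ncl Z (mul_mem hg hh)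

theorem le_centralizer_ncl [Finite G] {p : ℕ} [Fact p.Prime] {L S Z D : Subgroup G}
    (hS : SylIn p S L) (hZ : Z ≤ centralizer (S : Set G)) (hD : D ≤ L)
    (hn : L ≤ normalizer (D : Set G))
    (h : ∀ d ∈ D, (orderOf d).Coprime p → d ∈ centralizer (ncl L Z : Set G)) :
    D ≤ centralizer (ncl L Z : Set G) := by
  have hT := hS.inf_normal hD hn
  have key : ∀ k ∈ D, ∃ q ∈ S ⊓ D, ∃ c ∈ D ⊓ centralizer (ncl L Z : Set G), k = q * c :=
    fun k hk => hT.exists_mul_of_coprime_mem inf_le_left (H13.le_normalizer_inf le_normalizer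
      (H13.le_normalizer_centralizer (hD.trans (le_normalizer_ncl L Z))))
      (fun g hg ho => ⟨hg, h g hg ho⟩) hk
  have h1 : ncl L Z ≤ centralizer ((S ⊓ D : Subgroup G) : Set G) := by
    rw [ncl_le_iff]
    intro g hg
    obtain ⟨k, hk, hgk⟩ := hT.frattini' hn hg
    obtain ⟨q, hq, c, hc, hqc⟩ := key _ (inv_mem hk)
    have e : g = g * k * q * c := by rw [mul_assoc (g * k), ← hqc, mul_inv_cancel_right]
    rw [e, H22.cj_mul, H22.cj_mul, H22.cj_eq_iff.mpr (centralizer_le_normalizer _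
      (H13.centralizer_anti (le_ncl L Z) hc.2)),
      H22.cj_eq_iff.mpr (centralizer_le_normalizer _ (le_centralizer_symm hZ hq.1))]
    refine (H22.cj_mono (hZ.trans (H13.centralizer_anti (inf_le_left (b := D))))).trans ?_
    rw [H22.cj_centralizer, H22.cj_eq_iff.mpr hgk]
  intro k hk
  obtain ⟨q, hq, c, hc, rfl⟩ := key k hk
  exact mul_mem (le_centralizer_symm h1 hq) hc.2

theorem twoF_ncl {G : Type u} [Group G] [Finite G] {L S Z : Subgroup G} (hL : G2F L)
    (hS : SylIn 2 S L) (hZ : Z ≤ centralizer (S : Set G)) (hV : ∀ v ∈ ncl L Z, v * v = 1) :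
    TwoF (ncl L Z) L := by
  obtain ⟨D, hD, hn, ho, h⟩ := g1 hL (le_normalizer_ncl L Z) (isPGroup_of_sq hV)
  have h1 := le_centralizer_ncl hS hZ hD hn fun d hd hd' => ho d hd (coprime_two_iff.mp hd')
  intro E hE hE2
  have h2 := Nat.pow_le_pow_left (relIndex_le_of_le_left (L := E) h1 index_ne_zero_of_finite) 2
  exact ⟨h2.trans (h E hE hE2).1, h2.trans ((h E hE hE2).2 hV)⟩

theorem TwoF.le_centralizer_of_maxEA [Finite G] {V L H A : Subgroup G} (h : TwoF V L)
    (hA : MaxEA 2 H A) (hAL : A ≤ L) (hVH : V ≤ H) (hV : IsElementaryAbelian 2 V) :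
    A ≤ centralizer (V : Set G) := by
  have h1 := (h A hAL fun a ha => by rw [← pow_two, hA.ea.2 a ha]; exact one_mem _).1
  have h2 := hA.relIndex_le hVH hV
  have h3 : 0 < (centralizer (V : Set G)).relIndex A :=
    Nat.pos_of_ne_zero index_ne_zero_of_finite
  rw [← relIndex_eq_one]
  nlinarith

end TwoF

section SetA

variable {X : Type*} [Group X]

/-- The hypotheses of the normality lemma. -/
structure SetA (S Y : Subgroup X) : Prop where
  syl : SylIn 2 S ⊤
  sq : ∀ y ∈ Y, y * y = 1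
  le : Y ≤ thompsonSubgroupOf 2 S
  cent : thompsonSubgroupOf 2 S ≤ centralizer (Y : Set X)
  norm : normalizer (thompsonSubgroupOf 2 S : Set X) ≤ normalizer (Y : Set X)
  two : TwoF Y S

variable {S Y : Subgroup X}

theorem SetA.le_norm (h : SetA S Y) : S ≤ normalizer (Y : Set X) := (le_normalizer_J S).trans h.norm

theorem SetA.leS (h : SetA S Y) : Y ≤ S := h.le.trans (J_le S)

theorem cj_J (g : X) (H : Subgroup X) : cj g (thompsonSubgroupOf 2 H) = thompsonSubgroupOf 2 (cj g H) :=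
  conj_J g H

variable [Finite X]

theorem J_eq_of_sylIn {p : ℕ} [Fact p.Prime] {S P : Subgroup X} (h : SylIn p S ⊤)
    (hP : IsPGroup p P) (hJ : thompsonSubgroupOf p S ≤ P) :
    thompsonSubgroupOf p P = thompsonSubgroupOf p S := by
  obtain ⟨g, -, hg⟩ := h.exists_cj_le le_top hP
  rw [H22.cj_le_iff_le_cj_inv] at hg
  have e : cj g⁻¹ (thompsonSubgroupOf p S) = thompsonSubgroupOf p (cj g⁻¹ S) := conj_J _ _
  have h1 : thompsonSubgroupOf p S ≤ thompsonSubgroupOf p (cj g⁻¹ S) := by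
    rw [J_le_iff]
    intro A hA
    refine MaxEA.le_J ((hA.conj g⁻¹).of_card_le ((hA.le_J.trans hJ).trans hg) hA.ea ?_)
    exact (H22.card_cj g⁻¹ A).le
  have h2 : thompsonSubgroupOf p S = thompsonSubgroupOf p (cj g⁻¹ S) :=
    eq_of_le_of_card_ge h1 (by rw [← e, H22.card_cj])
  rw [J_eq_of_le (h2 ▸ hJ) hg, h2]

theorem SetA.exists_cj_le (h : SetA S Y) {E : Subgroup X} (hE : IsPGroup 2 E)
    (hEB : E ≤ normalizer (Y : Set X)) : ∃ b ∈ normalizer (Y : Set X), cj b E ≤ S :=
  (h.syl.mono h.le_norm le_top).exists_cj_le hEB hE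

theorem SetA.two' (h : SetA S Y) {E : Subgroup X} (hE : IsPGroup 2 E)
    (hEB : E ≤ normalizer (Y : Set X)) : TwoF Y E := by
  obtain ⟨b, hb, hbE⟩ := h.exists_cj_le hE hEB
  have := h.two.cj h.leS b⁻¹
  rw [H22.cj_eq_iff.mpr (inv_mem hb)] at this
  exact this.mono (H22.cj_le_iff_le_cj_inv.mp hbE)

theorem sylIn_subgroupOf {p : ℕ} {P L : Subgroup X} (h : SylIn p P L) :
    SylIn p (P.subgroupOf L) ⊤ :=
  H22.sylIn_top h.toSylow

theorem SetA.sub (h : SetA S Y) {L : Subgroup X} (hL : thompsonSubgroupOf 2 S ≤ L) :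
    ∃ S' : Subgroup L, SetA S' (Y.subgroupOf L) := by
  obtain ⟨P, hP, hJP⟩ := H22.exists_sylIn hL (h.syl.isPGroup.to_le (J_le S))
  have hJ := J_eq_of_sylIn h.syl hP.isPGroup hJP
  have hf := inf_ker_eq_bot_of_injective L.subtype_injective
  have e1 : (P.subgroupOf L).map L.subtype = P := by
    rw [subgroupOf_map_subtype, inf_of_le_left hP.le]
  have e2 : (Y.subgroupOf L).map L.subtype = Y := by
    rw [subgroupOf_map_subtype, inf_of_le_left (h.le.trans hL)]
  have e3 : thompsonSubgroupOf 2 (P.subgroupOf L) = (thompsonSubgroupOf 2 S).subgroupOf L := by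
    rw [← H23.comap_map_subtype (thompsonSubgroupOf 2 (P.subgroupOf L)), map_J (hf _), e1, hJ]
  have hPB : P ≤ normalizer (Y : Set X) := (hJ ▸ le_normalizer_J P).trans h.norm
  refine ⟨P.subgroupOf L, sylIn_subgroupOf hP, fun y hy => Subtype.ext (h.sq y hy),
    e3 ▸ comap_mono h.le, ?_, ?_, ?_⟩
  · rw [e3, centralizer_subgroupOf_eq (h.le.trans hL)]
    exact comap_mono h.cent
  · rw [e3, ← subgroupOf_normalizer_eq hL, ← subgroupOf_normalizer_eq (h.le.trans hL)]
    exact comap_mono h.norm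
  · rw [← twoF_map_iff (Y := Y.subgroupOf L) (hf (P.subgroupOf L)) (comap_mono (h.le.trans hJP)),
      e1, e2]
    exact h.two' hP.isPGroup hPB

theorem SetA.map (h : SetA S Y) {X' : Type*} [Group X'] {f : X →* X'} (hf : Function.Surjective f)
    (hk : (Nat.card f.ker).Coprime 2) : SetA (S.map f) (Y.map f) := by
  have hS := H13.inf_eq_bot_of_isPGroup_of_coprime h.syl.isPGroup hk
  have hJ := h.syl.isPGroup.to_le (J_le (p := 2) S)
  obtain ⟨P, rfl⟩ := h.syl.exists_sylow
  refine ⟨H22.sylIn_top (P.mapSurjective hf), ?_, map_J hS ▸ map_mono h.le, ?_, ?_,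
    (twoF_map_iff hS h.leS).mpr h.two⟩
  · rintro _ ⟨y, hy, rfl⟩
    rw [← map_mul, h.sq y hy, map_one]
  · rw [← map_J hS]
    exact (map_mono h.cent).trans (H13.map_centralizer_le f Y)
  · rw [← map_J hS, H13.normalizer_map_of_coprime_ker hf hk hJ]
    exact (map_mono h.norm).trans (le_normalizer_map f)

end SetA

end H12
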