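import Mathlib
import Cfsg.Agent.H12.TF5
import Cfsg.Agent.H12.FF1

/-!
# The normality lemma, first half
-/

set_option autoImplicit false

namespace H12

open Cfsg Subgroup
open H22 (cj SylIn)
open scoped commutatorElement

universe u

section Gen

variable {X : Type*} [Group X]

/-- The elements acting trivially on the section `O / A`. -/
def secC (O A : Subgroup X) : Subgroup X where
  carrier := {g | g ∈ normalizer (A : Set X) ∧ ∀ o ∈ O, g * o * g⁻¹ * o⁻¹ ∈ A}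
  one_mem' := ⟨one_mem _, fun o _ => by simp⟩
  mul_mem' := by
    rintro g h ⟨hg, hg'⟩ ⟨hh, hh'⟩
    refine ⟨mul_mem hg hh, fun o ho => ?_⟩
    have := mul_mem (H22.conj_mem_of_mem_normalizer hg (hh' o ho)) (hg' o ho)
    convert this using 1
    group
  inv_mem' := by
    rintro g ⟨hg, hg'⟩
    refine ⟨inv_mem hg, fun o ho => ?_⟩
    have := H22.conj_mem_of_mem_normalizer' hg (inv_mem (hg' o ho))
    convert this using 1
    group

theorem mem_secC {O A : Subgroup X} {g : X} :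
    g ∈ secC O A ↔ g ∈ normalizer (A : Set X) ∧ ∀ o ∈ O, g * o * g⁻¹ * o⁻¹ ∈ A := Iff.rfl

theorem conj_mem_secC {O A : Subgroup X} {x g : X} (hO : x ∈ normalizer (O : Set X))
    (hA : x ∈ normalizer (A : Set X)) (hg : g ∈ secC O A) : x * g * x⁻¹ ∈ secC O A := by
  refine ⟨mul_mem (mul_mem hA hg.1) (inv_mem hA), fun o ho => ?_⟩
  have := H22.conj_mem_of_mem_normalizer hA (hg.2 _ (H22.conj_mem_of_mem_normalizer' hO ho))
  convert this using 1
  group

theorem le_normalizer_secC [Finite X] {O A L : Subgroup X} (hO : L ≤ normalizer (O : Set X))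
    (hA : L ≤ normalizer (A : Set X)) : L ≤ normalizer (secC O A : Set X) :=
  fun _ hx => H22.mem_normalizer_of_conj_mem fun _ hg => conj_mem_secC (hO hx) (hA hx) hg

instance secC_normal (O A : Subgroup X) [O.Normal] [A.Normal] : (secC O A).Normal :=
  ⟨fun _ hg _ => conj_mem_secC (le_normalizer_of_normal (mem_top _))
    (le_normalizer_of_normal (mem_top _)) hg⟩

theorem mem_secC_of_le [Finite X] {O A : Subgroup X} (hAO : A ≤ O) {g : X}
    (h : ∀ o ∈ O, g * o * g⁻¹ * o⁻¹ ∈ A) : g ∈ secC O A :=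
  ⟨H22.mem_normalizer_of_conj_mem fun a ha => by simpa using mul_mem (h a (hAO ha)) ha, h⟩

theorem mem_centralizer_of_secC {p : ℕ} {O A : Subgroup X} (hA : IsPGroup p A) {g : X}
    (hg : (orderOf g).Coprime p) (h1 : g ∈ secC O A) (h2 : g ∈ centralizer (A : Set X)) :
    g ∈ centralizer (O : Set X) :=
  H13.mem_centralizer_of_stabilizes hA hg (fun t ht => by
    have := inv_mem (h1.2 t ht)
    convert this using 1
    rw [commutatorElement_def]; group) h2

theorem relIndex_sup_of_le [Finite X] {C F B : Subgroup X} (hF : F ≤ C)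
    (hn : F ≤ normalizer (B : Set X)) : C.relIndex (F ⊔ B) = C.relIndex B := by
  have h1 : C ⊓ (F ⊔ B) ⊔ B = F ⊔ B :=
    le_antisymm (sup_le inf_le_right le_sup_right) (sup_le_sup_right (le_inf hF le_sup_left) B)
  have h2 := relIndex_sup_eq_of_le_normalizer (F := C ⊓ (F ⊔ B)) (W := B)
    (inf_le_right.trans (sup_le hn le_normalizer))
  rw [h1, inf_relIndex_right] at h2
  rw [h2, ← inf_relIndex_right, inf_assoc, inf_of_le_right (le_sup_right : B ≤ F ⊔ B),
    inf_relIndex_right]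

theorem relIndex_le_of_inf_le [Finite X] {D O A : Subgroup X} (h : D ⊓ A ≤ O) :
    O.relIndex A ≤ D.relIndex A := by
  rw [← inf_relIndex_right D]
  exact relIndex_le_of_le_left h index_ne_zero_of_finite

theorem two_le_relIndex [Finite X] {O A : Subgroup X} (h : ¬ A ≤ O) : 2 ≤ O.relIndex A := by
  have h1 : O.relIndex A ≠ 0 := index_ne_zero_of_finite
  have h2 : O.relIndex A ≠ 1 := mt relIndex_eq_one.mp h
  omega

end Gen

variable {n : ℕ} {X : Type u} [Group X] [Finite X]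

/-- `Y` lies in a unique conjugate of the unique maximal overgroup `B` of `J`. -/
theorem uniq_conj (hK : KK n X) {S J Y B : Subgroup X} (hS : SylIn 2 S ⊤) (hJS : J ≤ S)
    (hSB : S ≤ B) (hmax : ∀ L : Subgroup X, J ≤ L → L ≠ ⊤ → L ≤ B)
    (hcore : ∀ W : Subgroup X, W.Normal → W ≤ B → W = ⊥) (hY1 : Y ≠ ⊥) (hYS : Y ≤ S)
    (hY2 : ∀ y ∈ Y, y * y = 1) (hJY : J ≤ centralizer (Y : Set X))
    (hBY : B ≤ normalizer (Y : Set X)) {g : X} (hg : cj g Y ≤ B) : g ∈ B := by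
  have hnorm : ∀ W : Subgroup X, W ≠ ⊥ → W ≤ B → J ≤ normalizer (W : Set X) →
      normalizer (W : Set X) ≤ B := fun W h1 h2 h3 =>
    hmax _ h3 fun h => h1 (hcore W (normalizer_eq_top_iff.mp h) h2)
  have hcent : ∀ y ∈ Y, y ≠ 1 → centralizer ({y} : Set X) ≤ B := by
    intro y hy h1
    rw [← centralizer_zpowers]
    have h2 : zpowers y ≤ Y := zpowers_le.mpr hy
    exact (centralizer_le_normalizer _).trans (hnorm _ (by simpa) (h2.trans (hYS.trans hSB))
      ((hJY.trans (H13.centralizer_anti h2)).trans (centralizer_le_normalizer _)))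
  have hSB' := hS.mono hSB le_top
  obtain ⟨b, hb, hbg⟩ := hSB'.exists_cj_le hg (H22.isPGroup_cj (isPGroup_of_sq hY2) g)
  rw [← H22.cj_mul] at hbg
  rw [← B.mul_mem_cancel_left hb]
  generalize b * g = g at hbg
  haveI : Nontrivial X := by
    obtain ⟨y, hy⟩ := ne_bot_iff_exists_ne_one.mp hY1
    exact ⟨y, 1, fun h => hy (Subtype.ext h)⟩
  obtain ⟨N, hN⟩ := H2.exists_isMinNormal X
  haveI := hN.1
  have hNS : S ⊔ N = ⊤ := by
    by_contra h
    exact hN.2.1 (hcore N hN.1 (le_sup_right.trans (hmax _ (hJS.trans le_sup_left) h)))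
  have hcomm : ∀ a ∈ S ⊓ N, ∀ b ∈ S ⊓ N, a * a = 1 → b * b = 1 → a * b = b * a :=
    fun a ha b hb => hK.p1 hN hS.isPGroup ha.2 hb.2 ha.1 hb.1
  let Z : Subgroup X :=
    { carrier := {t | t ∈ S ⊓ N ∧ t * t = 1}
      one_mem' := ⟨one_mem _, mul_one _⟩
      mul_mem' := fun {a b} ha hb => ⟨mul_mem ha.1 hb.1, by
        calc a * b * (a * b) = a * (b * a) * b := by group
          _ = (a * a) * (b * b) := by rw [← hcomm a ha.1 b hb.1 ha.2 hb.2]; group
          _ = 1 := by rw [ha.2, hb.2, mul_one]⟩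
      inv_mem' := fun {a} ha => ⟨inv_mem ha.1, by rw [← mul_inv_rev, ha.2, inv_one]⟩ }
  have hsq : ∀ h a : X, a * a = 1 → h * a * h⁻¹ * (h * a * h⁻¹) = 1 := fun h a ha => by
    calc _ = h * (a * a) * h⁻¹ := by group
      _ = 1 := by rw [ha]; group
  have hZS : ∀ h : X, cj h Z ≤ S → h ∈ normalizer (Z : Set X) := fun h hh =>
    H22.mem_normalizer_of_conj_mem fun z hz =>
      ⟨⟨hh (H22.conj_mem_cj hz), hN.1.conj_mem _ hz.1.2 h⟩, hsq h z hz.2⟩
  have hZle : Z ≤ S := fun z hz => hz.1.1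
  have Zlem : Z ≠ ⊥ → ∀ y ∈ Y, y ≠ 1 → ∀ g : X, Z ≤ centralizer ({g * y * g⁻¹} : Set X) →
      g ∈ B := by
    intro hZ y hy h1 g hg
    rw [← H22.cj_centralizer_singleton, ← H22.cj_inv_cj g⁻¹ Z, inv_inv, H22.cj_le_cj_iff] at hg
    obtain ⟨b, hb, hbg⟩ := hSB'.exists_cj_le (hg.trans (hcent y hy h1))
      (H22.isPGroup_cj (hS.isPGroup.to_le hZle) _)
    rw [← H22.cj_mul] at hbg
    have := hnorm Z hZ (hZle.trans hSB) (fun j hj => hZS j
      ((H22.cj_mono hZle).trans (H22.cj_eq_of_mem (hJS hj)).le)) (hZS _ hbg)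
    rwa [B.mul_mem_cancel_left hb, inv_mem_iff] at this
  by_cases hYN : Y ⊓ N = ⊥
  swap
  · obtain ⟨⟨y, hy⟩, hy1⟩ := ne_bot_iff_exists_ne_one.mp hYN
    have hy1' : y ≠ 1 := fun h => hy1 (Subtype.ext h)
    have hyZ : y ∈ Z := ⟨⟨hYS hy.1, hy.2⟩, hY2 y hy.1⟩
    refine Zlem (fun h => hy1' (by rwa [h, mem_bot] at hyZ)) y hy.1 hy1' g fun z hz => ?_
    rw [mem_centralizer_singleton_iff]
    exact hcomm _ hz.1 _ ⟨hbg (H22.conj_mem_cj hy.1), hN.1.conj_mem _ hy.2 g⟩ hz.2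
      (hsq g y (hY2 y hy.1))
  obtain ⟨⟨y, hy⟩, hy1⟩ := ne_bot_iff_exists_ne_one.mp hY1
  have hy1' : y ≠ 1 := fun h => hy1 (Subtype.ext h)
  obtain ⟨s, hs, m, hm, rfl⟩ := (H22.mem_sup_of_le_normalizer le_normalizer_of_normal).mp
    (hNS ▸ mem_top g)
  refine mul_mem (hSB hs) ?_
  have h1 : m * y * m⁻¹ ∈ S := by
    have := mul_mem (mul_mem (inv_mem hs) (hbg (H22.conj_mem_cj hy))) hs
    convert this using 1
    group
  have hyc : ∀ t ∈ S ⊓ N, t * y = y * t := by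
    intro t ht
    have : t * y * t⁻¹ * y⁻¹ ∈ Y ⊓ N := mem_inf.mpr
      ⟨mul_mem (H22.conj_mem_of_mem_normalizer (hBY (hSB ht.1)) hy) (inv_mem hy), by
        have := N.mul_mem ht.2 (hN.1.conj_mem _ (N.inv_mem ht.2) y)
        convert this using 1
        group⟩
    rw [hYN, mem_bot, mul_inv_eq_one, mul_inv_eq_iff_eq_mul] at this
    exact this
  have ht : m * y * m⁻¹ * y⁻¹ ∈ S ⊓ N := mem_inf.mpr ⟨mul_mem h1 (S.inv_mem (hYS hy)), by
    have := mul_mem hm (hN.1.conj_mem _ (inv_mem hm) y)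
    convert this using 1
    group⟩
  obtain ⟨t, htd⟩ : ∃ t, t = m * y * m⁻¹ * y⁻¹ := ⟨_, rfl⟩
  rw [← htd] at ht
  have e : m * y * m⁻¹ = t * y := by rw [htd]; group
  have ht2 : t * t = 1 := by
    calc t * t = t * t * (y * y) := by rw [hY2 y hy, mul_one]
      _ = t * (t * y) * y := by group
      _ = t * (y * t) * y := by rw [hyc t ht]
      _ = t * y * (t * y) := by group
      _ = 1 := by rw [← e]; exact hsq m y (hY2 y hy)
  by_cases ht1 : t = 1
  · refine hcent y hy hy1' ?_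
    rw [ht1, one_mul, mul_inv_eq_iff_eq_mul] at e
    exact mem_centralizer_singleton_iff.mpr e
  refine Zlem (fun h => ht1 (by rw [← mem_bot, ← h]; exact ⟨ht, ht2⟩)) y hy hy1' m fun z hz => ?_
  rw [mem_centralizer_singleton_iff, e, ← mul_assoc, hcomm z hz.1 t ht hz.2 ht2, mul_assoc,
    hyc z hz.1, mul_assoc]

theorem caseI_half {Q L Y₁ Y₂ : Subgroup X} (hL : G2F L) [Q.Normal] (hQ : IsPGroup 2 Q)
    (hc : centralizer (Q : Set X) ≤ Q) (hLe : L = Y₁ ⊔ Y₂ ⊔ Q) (h1 : ∀ y ∈ Y₁, y * y = 1)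
    (hO1 : H23.op 2 L ≤ normalizer (Y₁ : Set X)) (hO2 : H23.op 2 L ≤ normalizer (Y₂ : Set X))
    (h2 : ∀ y ∈ Y₂, y * y = 1) (ht : TwoF Y₁ (H23.op 2 L)) :
    (H23.op 2 L).relIndex Y₁ ^ 2 ≤ (centralizer (Y₁ : Set X)).relIndex (Y₂ ⊓ H23.op 2 L) ∧
    (centralizer (Y₁ : Set X)).relIndex (Y₂ ⊓ H23.op 2 L) ^ 2 ≤
      (H23.op 2 L).relIndex Y₁ * (centralizer (Y₂ : Set X)).relIndex (Y₁ ⊓ H23.op 2 L) := by
  have hQL : Q ≤ L := hLe ▸ le_sup_right
  have hY₁ : Y₁ ≤ L := hLe ▸ le_sup_left.trans le_sup_left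
  have hY₂ : Y₂ ≤ L := hLe ▸ le_sup_right.trans le_sup_left
  have hQO : Q ≤ H23.op 2 L := H23.le_op hQL le_normalizer_of_normal hQ
  have hOp := H23.op_isPGroup 2 L
  have hLO : L ≤ normalizer (H23.op 2 L : Set X) := H23.le_normalizer_op 2 le_normalizer
  have hop : ∀ D ≤ L, L ≤ normalizer (D : Set X) → IsPGroup 2 D → D ≤ H23.op 2 L :=
    fun D => H23.le_op
  generalize H23.op 2 L = O at *
  refine ⟨?_, ?_⟩
  swap
  · refine (ht _ inf_le_right fun e he => by rw [h2 e he.1]; exact one_mem _).1.trans ?_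
    rw [mul_comm, inf_comm Y₁, relIndex_inf_mul_relIndex]
    exact relIndex_le_of_le_left (inf_le_left.trans (H13.centralizer_anti inf_le_left))
      index_ne_zero_of_finite
  set A := (Y₁ ⊓ O) ⊔ (Y₂ ⊓ O) with hA
  have hAO : A ≤ O := sup_le inf_le_right inf_le_right
  have hs : ∀ Y : Subgroup X, Y ≤ L → O ≤ normalizer (Y : Set X) → Y ⊓ O ≤ A → Y ≤ secC O A := by
    intro Y hY hO hYA y hy
    refine mem_secC_of_le hAO fun o ho => hYA (mem_inf.mpr ⟨?_, ?_⟩)
    · have := mul_mem hy (H22.conj_mem_of_mem_normalizer (hO ho) (inv_mem hy))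
      convert this using 1
      group
    · exact mul_mem (H22.conj_mem_of_mem_normalizer (hLO (hY hy)) ho) (inv_mem ho)
  have hOA : O ≤ normalizer (A : Set X) := H13.le_normalizer_sup
    (H13.le_normalizer_inf hO1 le_normalizer) (H13.le_normalizer_inf hO2 le_normalizer)
  have hLA : L ≤ normalizer (A : Set X) := hLe ▸ sup_le (sup_le
    (fun y hy => (hs Y₁ hY₁ hO1 le_sup_left hy).1) fun y hy => (hs Y₂ hY₂ hO2 le_sup_right hy).1)
    (hQO.trans hOA)
  obtain ⟨D, hDL, hLD, hD, hb⟩ := g1 hL hLA (hOp.to_le hAO)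
  have h3 : D ⊓ secC O A ≤ O := by
    refine hop _ (inf_le_left.trans hDL) (H13.le_normalizer_inf hLD (le_normalizer_secC hLO hLA))
      (H13.isPGroup_of_forall_coprime_eq_one Nat.prime_two fun g hg ho => ?_)
    exact H13.eq_one_of_mem_isPGroup_of_coprime hQ (hc (H13.centralizer_anti hQO
      (mem_centralizer_of_secC (hOp.to_le hAO) ho hg.2 (hD g hg.1 (coprime_two_iff.mp ho))))) ho
  have h4 := (hb Y₁ hY₁ fun e he => by rw [h1 e he]; exact one_mem _).1
  rw [hA, relIndex_sup_of_le (F := Y₁ ⊓ O) (C := centralizer (Y₁ : Set X)) (fun y hy z hz => comm_of_sq h1 hz hy.1)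
    (inf_le_right.trans (H13.le_normalizer_inf hO2 le_normalizer))] at h4
  exact (Nat.pow_le_pow_left (relIndex_le_of_inf_le
    ((inf_le_inf_left D (hs Y₁ hY₁ hO1 le_sup_left)).trans h3)) 2).trans h4

theorem caseI (hK : KK n X) {S Y : Subgroup X} (h : SetA S Y)
    (hc : centralizer (pCore 2 X : Set X) ≤ pCore 2 X)
    (hu : ∀ g, cj g Y ≤ normalizer (Y : Set X) → g ∈ normalizer (Y : Set X)) : Y.Normal := by
  rw [← normalizer_eq_top_iff, eq_top_iff]
  intro x _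
  by_contra hx
  have h2 : ∀ P : Subgroup X, IsPGroup 2 P → Y ≤ P → P ≤ normalizer (Y : Set X) := by
    intro P hP hYP
    obtain ⟨g, -, hg⟩ := h.syl.exists_cj_le le_top hP
    have := hu g ((H22.cj_mono hYP).trans (hg.trans h.le_norm))
    rw [← H22.cj_le_cj_iff (g := g), H22.cj_eq_of_mem this]
    exact hg.trans h.le_norm
  have h2' : ∀ P : Subgroup X, IsPGroup 2 P → cj x Y ≤ P → P ≤ normalizer (cj x Y : Set X) := by
    intro P hP hYP
    rw [← H22.cj_normalizer, ← H22.cj_le_cj_iff (g := x⁻¹), H22.cj_inv_cj]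
    exact h2 _ (H22.isPGroup_cj hP _) (H22.cj_le_iff_le_cj_inv.mp hYP)
  have hsq : ∀ y ∈ cj x Y, y * y = 1 := by
    rintro _ ⟨y, hy, rfl⟩
    rw [← map_mul, h.sq y hy, map_one]
  obtain ⟨L, hL⟩ : ∃ L, L = Y ⊔ cj x Y ⊔ pCore 2 X := ⟨_, rfl⟩
  have hOp := H23.op_isPGroup 2 L
  have hLO : L ≤ normalizer (H23.op 2 L : Set X) := H23.le_normalizer_op 2 le_normalizer
  have hO1 : H23.op 2 L ≤ normalizer (Y : Set X) := le_sup_right.trans (h2 _
    (H22.isPGroup_sup_of_le_normalizer (isPGroup_of_sq h.sq) hOp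
      ((hL ▸ le_sup_left.trans le_sup_left : Y ≤ L).trans hLO)) le_sup_left)
  have hO2 : H23.op 2 L ≤ normalizer (cj x Y : Set X) := le_sup_right.trans (h2' _
    (H22.isPGroup_sup_of_le_normalizer (isPGroup_of_sq hsq) hOp
      ((hL ▸ le_sup_right.trans le_sup_left : cj x Y ≤ L).trans hLO)) le_sup_left)
  have ht2 : TwoF (cj x Y) (H23.op 2 L) := by
    have h3 : cj x⁻¹ (H23.op 2 L) ≤ normalizer (Y : Set X) := by
      rwa [H22.cj_le_iff_le_cj_inv, inv_inv, H22.cj_normalizer]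
    have h4 := H22.isPGroup_sup_of_le_normalizer (H22.isPGroup_cj hOp x⁻¹)
      (isPGroup_of_sq h.sq) h3
    refine ((h.two' h4 (sup_le h3 le_normalizer)).cj le_sup_right x).mono ?_
    rw [H22.cj_sup, H22.cj_cj_inv]
    exact le_sup_left
  obtain ⟨a1, a2⟩ := caseI_half (hK.sub L).g2f (H2.pCore_isPGroup 2 X) hc hL h.sq hO1 hO2 hsq
    (h.two' hOp hO1)
  obtain ⟨b1, b2⟩ := caseI_half (hK.sub L).g2f (H2.pCore_isPGroup 2 X) hc
    (hL.trans (by rw [sup_comm Y])) hsq hO2 hO1 h.sq ht2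
  have q1 := two_le_relIndex (O := H23.op 2 L) (A := Y) fun h3 => hx (by
    have h4 := h3.trans hO2
    rw [← H22.cj_normalizer, ← H22.cj_le_cj_iff (g := x⁻¹), H22.cj_inv_cj] at h4
    exact inv_mem_iff.mp (hu _ h4))
  have q2 := two_le_relIndex (O := H23.op 2 L) (A := cj x Y) fun h3 => hx (hu _ (h3.trans hO1))
  generalize (H23.op 2 L).relIndex Y = p at *
  generalize (H23.op 2 L).relIndex (cj x Y) = q at *
  generalize (centralizer (Y : Set X)).relIndex (cj x Y ⊓ H23.op 2 L) = u at *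
  generalize (centralizer (cj x Y : Set X)).relIndex (Y ⊓ H23.op 2 L) = v at *
  rcases le_total u v with huv | huv
  · have : v ≤ q := by
      by_contra hh
      push Not at hh
      nlinarith
    nlinarith
  · have : u ≤ p := by
      by_contra hh
      push Not at hh
      nlinarith
    nlinarith

end H12
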