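import Mathlib
import Cfsg.Agent.H12.TF6

/-!
# The normality lemma, second half
-/

set_option autoImplicit false

namespace H12

open Cfsg Subgroup
open H22 (cj SylIn)
open scoped commutatorElement

universe u

section Gen

variable {X : Type*} [Group X]

/-- The subgroup generated by the elements of odd order. -/
def oddK (X : Type*) [Group X] : Subgroup X := closure {x | Odd (orderOf x)}

theorem mem_oddK {x : X} (h : Odd (orderOf x)) : x ∈ oddK X := subset_closure h

theorem oddK_le {W : Subgroup X} : oddK X ≤ W ↔ ∀ x, Odd (orderOf x) → x ∈ W := closure_le W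

instance oddK_normal : (oddK X).Normal := by
  refine ⟨fun x hx g => H22.cj_le_iff.mp (show cj g (oddK X) ≤ oddK X from ?_) x hx⟩
  rw [H22.cj_le_iff_le_cj_inv, oddK_le]
  intro x hx
  rw [H22.mem_cj, inv_inv]
  refine mem_oddK ?_
  rwa [← MulAut.conj_apply, MulEquiv.orderOf_eq]

variable [Finite X]

theorem normal_of_oddK {S W : Subgroup X} (hS : SylIn 2 S ⊤) (h1 : S ≤ normalizer (W : Set X))
    (h2 : oddK X ≤ normalizer (W : Set X)) : W.Normal := by
  rw [← normalizer_eq_top_iff, eq_top_iff]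
  intro g hg
  obtain ⟨q, hq, k, hk, rfl⟩ := hS.exists_mul_of_coprime_mem (K := oddK X) le_top
    le_normalizer_of_normal (fun g _ ho => mem_oddK (coprime_two_iff.mp ho)) hg
  exact mul_mem (h1 hq) (h2 hk)

theorem oddK_le_of_sup_eq_top {S D : Subgroup X} [D.Normal] (hS : IsPGroup 2 S) (h : S ⊔ D = ⊤) :
    oddK X ≤ D :=
  oddK_le.mpr fun x hx => mem_of_coprime_of_mem_sup le_normalizer_of_normal hS (h ▸ mem_top x)
    (coprime_two_iff.mpr hx)

theorem commutator_oddK_le {Q : Subgroup X} [Q.Normal] (hQ : IsPGroup 2 Q) :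
    ⁅Q, oddK X⁆ ≤ ⁅⁅Q, oddK X⁆, oddK X⁆ := by
  set f := QuotientGroup.mk' ⁅⁅Q, oddK X⁆, oddK X⁆ with hf
  have hk : f.ker = ⁅⁅Q, oddK X⁆, oddK X⁆ := QuotientGroup.ker_mk' _
  have h1 := commutator_eq_bot_iff'.mp (H23.comm_le_ker_iff.mp hk.ge)
  rw [← hk, H23.comm_le_ker_iff, commutator_eq_bot_iff', map_le_iff_le_comap, oddK_le]
  intro x hx
  refine H13.mem_centralizer_of_stabilizes ((hQ.to_le (commutator_le_left Q (oddK X))).map f)
    (coprime_two_iff.mpr (odd_orderOf_map f hx)) ?_ (h1 ⟨x, mem_oddK hx, rfl⟩)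
  rintro _ ⟨t, ht, rfl⟩
  exact ⟨_, commutator_mem_commutator ht (mem_oddK hx), map_commutatorElement _ _ _⟩

omit [Finite X] in
theorem three_subgroups_mod {A B C W : Subgroup X} [W.Normal] (h1 : ⁅⁅B, C⁆, A⁆ ≤ W)
    (h2 : ⁅⁅C, A⁆, B⁆ ≤ W) : ⁅⁅A, B⁆, C⁆ ≤ W := by
  rw [← QuotientGroup.ker_mk' W, H23.comm_le_ker_iff, map_commutator] at h1 h2 ⊢
  exact commutator_commutator_eq_bot_of_rotate h1 h2

theorem le_of_le_sup_commutator {p : ℕ} [Fact p.Prime] {Q U Y : Subgroup X} (hQ : IsPGroup p Q)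
    (hU : IsMulCommutative U) (hUQ : U ≤ Q) (hQU : Q ≤ normalizer (U : Set X)) (hYU : Y ≤ U)
    (hQY : Q ≤ normalizer (Y : Set X)) (h : U ≤ Y ⊔ ⁅U, Q⁆) : U ≤ Y := by
  suffices key : ∀ k, ∀ W : Subgroup X, Nat.card W = k → W ≤ U → Q ≤ normalizer (W : Set X) →
      U ≤ Y ⊔ W → U ≤ Y from key _ U rfl le_rfl hQU le_sup_right
  intro k
  induction k using Nat.strong_induction_on with | _ k ih => ?_
  intro W hk hWU hQW hW
  by_cases h1 : W = ⊥
  · rwa [h1, sup_bot_eq] at hW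
  refine ih _ (hk ▸ H2.card_lt_of_lt (H13.commutator_lt_of_isPGroup (hQ.to_le (hWU.trans hUQ)) hQ
    hQW h1)) _ rfl ((commutator_le_self_of_le_normalizer hQW).trans hWU)
    (H13.le_normalizer_commutator hQW le_normalizer) (h.trans (sup_le le_sup_left ?_))
  refine (commutator_mono hW le_rfl).trans ?_
  rw [sup_commutator_eq_of_comm hU hYU hWU hQU]
  exact sup_le_sup_right (commutator_le_self_of_le_normalizer hQY) _

theorem chain_twoF {Q Y : Subgroup X} (ht : ∀ g, TwoF (cj g Y) Q)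
    (E : Subgroup X) (hE : E ≤ Q) (hE2 : ∀ e ∈ E, e * e = 1) :
    (centralizer (ncl ⊤ Y : Set X)).relIndex E ^ 2 ≤ (centralizer (E : Set X)).relIndex (ncl ⊤ Y) := by
  induction hk : Nat.card E using Nat.strong_induction_on generalizing E with | _ k ih => ?_
  by_cases h : E ≤ centralizer (ncl ⊤ Y : Set X)
  · rw [relIndex_eq_one.mpr h]
    exact relIndex_pos' _ _
  obtain ⟨g, hg⟩ : ∃ g, ¬ E ≤ centralizer (cj g Y : Set X) := by
    by_contra hh
    push Not at hh
    exact h (le_centralizer_symm (ncl_le_iff.mpr fun g _ => le_centralizer_symm (hh g)))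
  have hlt : centralizer (cj g Y : Set X) ⊓ E < E :=
    lt_of_le_of_ne inf_le_right fun h => hg (h ▸ inf_le_left)
  have h1 := ih _ (hk ▸ H2.card_lt_of_lt hlt) _ (hlt.le.trans hE) (fun e he => hE2 e he.2) rfl
  have h2 := (ht g E hE fun e he => by rw [hE2 e he]; exact one_mem _).1
  have hg' := cj_le_ncl Y (mem_top g)
  rw [← inf_of_le_left (H13.centralizer_anti hg'), ← relIndex_inf_mul_relIndex,
    ← inf_of_le_left (H13.centralizer_anti hlt.le), ← relIndex_inf_mul_relIndex, mul_pow, mul_comm]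
  exact Nat.mul_le_mul (h2.trans (relIndex_le_of_le_right
    (le_inf (le_centralizer_symm inf_le_left) hg') index_ne_zero_of_finite)) h1

omit [Finite X] in
theorem exists_commRange {v : X} {E W : Subgroup X} (h : ∀ q ∈ E, q * v * q⁻¹ * v⁻¹ ∈ W)
    (hc : E ≤ centralizer (W : Set X)) (hW : W ≤ centralizer (W : Set X)) :
    ∃ R : Subgroup X, (∀ x, x ∈ R ↔ ∃ q ∈ E, q * v * q⁻¹ * v⁻¹ = x) ∧
      Nat.card R = (centralizer ({v} : Set X)).relIndex E := by
  let ψ : E →* X := MonoidHom.mk' (fun q => q * v * (q : X)⁻¹ * v⁻¹) fun a b => by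
    have h1 := hc a.2 _ (h b b.2)
    have h2 := hW (h a a.2) _ (h b b.2)
    calc (a * b : X) * v * ((a * b : X))⁻¹ * v⁻¹
        = a * (b * v * (b : X)⁻¹ * v⁻¹) * (a : X)⁻¹ * (a * v * (a : X)⁻¹ * v⁻¹) := by group
      _ = _ := by rw [← h1, mul_inv_cancel_right, h2]
  refine ⟨ψ.range, fun x => ⟨fun ⟨q, hq⟩ => ⟨q, q.2, hq⟩, fun ⟨q, hq, h⟩ => ⟨⟨q, hq⟩, h⟩⟩, ?_⟩
  rw [← index_ker]
  congr 1
  ext q
  rw [MonoidHom.mem_ker, mem_subgroupOf, mem_centralizer_singleton_iff]
  change q * v * (q : X)⁻¹ * v⁻¹ = 1 ↔ _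
  rw [mul_inv_eq_one, mul_inv_eq_iff_eq_mul]

end Gen

variable {n : ℕ} {X : Type u} [Group X] [Finite X]

theorem caseIII (hX : G2F X) {S Y Q : Subgroup X} (h : SetA S Y) [Q.Normal] (hQS : Q ≤ S)
    (hd : ∀ D : Subgroup X, D.Normal → D ⊓ S ≤ Q ∨ oddK X ≤ D)
    (hJ : ¬ thompsonSubgroupOf 2 S ≤ Q) (hYQ : Y ≤ Q) : Y.Normal := by
  by_contra hne
  have hQ := h.syl.isPGroup.to_le hQS
  have ht : ∀ g, TwoF (cj g Y) Q := fun g =>
    (h.two.cj h.leS g).mono ((H22.cj_eq_of_normal g Q).ge.trans (H22.cj_mono hQS))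
  have hsq : ∀ g, ∀ y ∈ cj g Y, y * y = 1 := by
    rintro g _ ⟨y, hy, rfl⟩
    rw [← map_mul, h.sq y hy, map_one]
  have hcjQ : ∀ g, cj g Y ≤ Q := fun g => (H22.cj_mono hYQ).trans (H22.cj_eq_of_normal g Q).le
  have hcomm : ∀ g, cj g Y ≤ centralizer (Y : Set X) := by
    intro g
    have h1 := (h.two _ ((hcjQ g).trans hQS) fun e he => by rw [hsq g e he]; exact one_mem _).1
    have h2 := (ht g _ hYQ fun e he => by rw [h.sq e he]; exact one_mem _).1
    have h3 := relIndex_pos' (centralizer (Y : Set X)) (cj g Y)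
    rw [← relIndex_eq_one]
    generalize (centralizer (Y : Set X)).relIndex (cj g Y) = a at *
    generalize (centralizer (cj g Y : Set X)).relIndex Y = b at *
    by_contra h4
    have h5 : 2 ≤ a := by omega
    have h6 : 2 * a ≤ b := by nlinarith
    nlinarith
  have hch := chain_twoF ht
  have hYU := le_ncl ⊤ Y
  have hUQ : ncl ⊤ Y ≤ Q := ncl_le_iff.mpr fun g _ => hcjQ g
  have hUle : ∀ W : Subgroup X, W.Normal → Y ≤ W → ncl ⊤ Y ≤ W :=
    fun W _ hW => ncl_le hW le_normalizer_of_normal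
  haveI hUn : (ncl ⊤ Y).Normal := normalizer_eq_top_iff.mp (eq_top_iff.mpr (le_normalizer_ncl ⊤ Y))
  have hUc : ncl ⊤ Y ≤ centralizer (ncl ⊤ Y : Set X) :=
    hUle _ inferInstance (le_centralizer_symm (ncl_le_iff.mpr fun g _ => hcomm g))
  have hUcomm : IsMulCommutative (ncl ⊤ Y) :=
    H13.isMulCommutative_iff_forall_mem.mpr fun x hx y hy => hUc hy x hx
  have hUea : IsElementaryAbelian 2 (ncl ⊤ Y) :=
    ea_iSup hUcomm (fun g => cj_le_ncl Y g.2) fun g a ha => by rw [pow_two, hsq g a ha]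
  generalize ncl ⊤ Y = U at *
  have hKY : ¬ oddK X ≤ normalizer (Y : Set X) := fun hK => hne (normal_of_oddK h.syl h.le_norm hK)
  obtain ⟨A, hA, hAQ⟩ : ∃ A, MaxEA 2 S A ∧ ¬ A ≤ Q := by
    by_contra hh
    push Not at hh
    exact hJ (J_le_iff.mpr hh)
  have hA2 : ∀ a ∈ A, a * a = 1 := fun a ha => by rw [← pow_two, hA.ea.2 a ha]
  have hα := two_le_relIndex hAQ
  have hdA : ∀ D : Subgroup X, D.Normal → ¬ oddK X ≤ D → Q.relIndex A ≤ D.relIndex A :=
    fun D hD hK => relIndex_le_of_inf_le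
      ((inf_le_inf_left D hA.le).trans ((hd D hD).resolve_right hK))
  have hKU : ¬ oddK X ≤ centralizer (U : Set X) := fun hK =>
    hKY (hK.trans ((H13.centralizer_anti hYU).trans (centralizer_le_normalizer _)))
  have hγ : (centralizer (A : Set X)).relIndex U ≤
      (centralizer (U : Set X)).relIndex (Q ⊓ A) * Q.relIndex A := by
    rw [relIndex_inf_mul_relIndex]
    exact (hA.relIndex_le (hUQ.trans hQS) hUea).trans
      (relIndex_le_of_le_left inf_le_left index_ne_zero_of_finite)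
  have hβ := (hch (Q ⊓ A) inf_le_left fun e he => hA2 e he.2).trans
    (relIndex_le_of_le_left (H13.centralizer_anti inf_le_right) index_ne_zero_of_finite)
  have hβ0 := relIndex_pos' (centralizer (U : Set X)) (Q ⊓ A)
  have hγ2 : (centralizer (A : Set X)).relIndex U ≤ Q.relIndex A ^ 2 := by
    have : (centralizer (U : Set X)).relIndex (Q ⊓ A) ≤ Q.relIndex A :=
      Nat.le_of_mul_le_mul_left (by rw [← pow_two]; exact hβ.trans hγ) hβ0
    nlinarith
  have hG : ∀ W : Subgroup X, W.Normal → W ≤ U →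
      oddK X ≤ centralizer (W : Set X) ∨ oddK X ≤ secC U W := by
    intro W hW hWU
    obtain ⟨D₁, D₂, hD₁, hD₂, h1, h2, h3⟩ := g3 hX hWU (hQ.to_le hUQ) hA2
    by_contra hh
    push Not at hh
    have e1 := hdA D₁ hD₁ fun hK => hh.1 (oddK_le.mpr fun x hx => h1 x (hK (mem_oddK hx)) hx)
    have e2 := hdA D₂ hD₂ fun hK => hh.2 (oddK_le.mpr fun x hx =>
      mem_secC_of_le hWU (h2 x (hK (mem_oddK hx)) hx))
    have e3 := (Nat.mul_le_mul (Nat.pow_le_pow_left e1 2) (Nat.pow_le_pow_left e2 2)).trans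
      (h3.trans hγ2)
    have e4 : 4 ≤ Q.relIndex A ^ 2 := by nlinarith
    nlinarith
  have hG0 : Q.relIndex A ^ 2 ≤ (centralizer (A : Set X)).relIndex U := by
    obtain ⟨D₁, D₂, hD₁, -, h1, -, h3⟩ := g3 hX (le_refl U) (hQ.to_le hUQ) hA2
    have e1 := hdA D₁ hD₁ fun hK => hKU (oddK_le.mpr fun x hx => h1 x (hK (mem_oddK hx)) hx)
    refine (Nat.pow_le_pow_left e1 2).trans (le_trans ?_ h3)
    exact Nat.le_mul_of_pos_right _ (pow_pos (relIndex_pos' _ _) 2)
  have hnorm : ∀ O W T : Subgroup X, oddK X ≤ secC O W → W ≤ T → T ≤ O →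
      oddK X ≤ normalizer (T : Set X) := fun O W T h1 h2 h3 x hx =>
    H22.mem_normalizer_of_conj_mem fun t ht => by
      simpa using mul_mem (h2 ((h1 hx).2 t (h3 ht))) ht
  have hK1 : oddK X ≤ centralizer ((⁅U, Q⁆ : Subgroup X) : Set X) := by
    refine (hG _ inferInstance (commutator_le_left U Q)).resolve_right fun hK => hKY ?_
    have h1 := normal_of_oddK h.syl (H13.le_normalizer_sup h.le_norm le_normalizer_of_normal)
      (hnorm _ _ _ hK le_sup_right (sup_le hYU (commutator_le_left U Q)))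
    rw [le_antisymm hYU (le_of_le_sup_commutator hQ hUcomm hUQ le_normalizer_of_normal hYU
      (hQS.trans h.le_norm) (hUle _ h1 le_sup_left))]
    exact le_normalizer_of_normal
  obtain ⟨U₀, hU₀⟩ : ∃ U₀, U₀ = U ⊓ centralizer (oddK X : Set X) := ⟨_, rfl⟩
  haveI : U₀.Normal := hU₀ ▸ inferInstance
  have hU₀U : U₀ ≤ U := hU₀ ▸ inf_le_left
  have hKU₀ : oddK X ≤ centralizer (U₀ : Set X) := le_centralizer_symm (hU₀ ▸ inf_le_right)
  have hUQ₀ : ⁅U, Q⁆ ≤ U₀ := hU₀ ▸ le_inf (commutator_le_left U Q) (le_centralizer_symm hK1)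
  obtain ⟨v, hvY, hv₀, hvS⟩ := H13.exists_not_mem_commutator_mem h.syl.isPGroup.isNilpotent h.leS
    h.le_norm (H := U₀) fun hh => hKY
      ((hKU₀.trans (H13.centralizer_anti hh)).trans (centralizer_le_normalizer _))
  have hE := commutator_oddK_le hQ
  have hEK : oddK X ≤ secC Q ⁅Q, oddK X⁆ := fun x hx =>
    ⟨le_normalizer_of_normal (mem_top x), fun o ho => comm_mem_commutator ho hx⟩
  have hEQ := commutator_le_left Q (oddK X)
  have hEc : ⁅Q, oddK X⁆ ≤ centralizer (U₀ : Set X) := (commutator_le_right _ _).trans hKU₀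
  have hEn : (⁅Q, oddK X⁆).Normal := inferInstance
  generalize ⁅Q, oddK X⁆ = E at *
  have hc₀ : ∀ q ∈ E, ∀ u ∈ U, q * u * q⁻¹ * u⁻¹ ∈ U₀ :=
    fun q hq u hu => hUQ₀ (comm_mem_commutator hu (hEQ hq))
  obtain ⟨R, hR, hRc⟩ := exists_commRange (fun q hq => hc₀ q hq v (hYU hvY)) hEc
    (hU₀U.trans (hUc.trans (H13.centralizer_anti hU₀U)))
  have hRU₀ : R ≤ U₀ := fun x hx => by
    obtain ⟨q, hq, rfl⟩ := (hR x).mp hx
    exact hc₀ q hq v (hYU hvY)
  haveI hRn : R.Normal := by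
    refine normal_of_oddK h.syl (fun s hs => H22.mem_normalizer_of_conj_mem fun x hx => ?_)
      ((hKU₀.trans (H13.centralizer_anti hRU₀)).trans (centralizer_le_normalizer _))
    obtain ⟨q, hq, rfl⟩ := (hR x).mp hx
    have hq' := hEn.conj_mem q hq s
    refine (hR _).mpr ⟨_, hq', ?_⟩
    have h1 := (hvS s hs).1
    have h2 := hEc hq' _ h1
    have h3 := hUc (hU₀U h1) _ (hU₀U (hc₀ _ hq' v (hYU hvY)))
    rw [commutatorElement_def] at h2 h3
    obtain ⟨w, hw⟩ : ∃ w, w = v * s * v⁻¹ * s⁻¹ := ⟨_, rfl⟩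
    obtain ⟨q', hq'⟩ : ∃ q', q' = s * q * s⁻¹ := ⟨_, rfl⟩
    rw [← hw, ← hq'] at h2 h3
    rw [← hq']
    calc q' * v * q'⁻¹ * v⁻¹ = w⁻¹ * (w * (q' * v * q'⁻¹ * v⁻¹)) := by group
      _ = w⁻¹ * (q' * w) * w⁻¹ * v * q'⁻¹ * v⁻¹ * w := by rw [← h3]; group
      _ = q' * w⁻¹ * v * q'⁻¹ * v⁻¹ * w := by rw [← h2]; group
      _ = _ := by rw [hq', hw]; group
  have hT : oddK X ≤ secC U (U ⊓ secC E R) := by
    refine (hG _ inferInstance inf_le_left).resolve_left fun hK => hv₀ ?_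
    rw [hU₀]
    refine ⟨hYU hvY, le_centralizer_symm hK ⟨hYU hvY, le_normalizer_of_normal (mem_top v),
      fun o ho => ?_⟩⟩
    have := inv_mem ((hR _).mpr ⟨o, ho, rfl⟩)
    convert this using 1
    group
  have hER : ⁅E, U⁆ ≤ R := by
    refine (commutator_mono hE le_rfl).trans (three_subgroups_mod ?_ ?_)
    · rw [commutator_comm (oddK X) U]
      refine (commutator_mono (commutator_le_iff'.mpr fun a ha u hu => (hT ha).2 u hu)
        le_rfl).trans ?_
      rw [commutator_comm, commutator_le_iff']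
      exact fun a ha o ho => ha.2.2 o ho
    · rw [commutator_eq_bot_iff'.mpr (hKU₀.trans (H13.centralizer_anti
        (commutator_le_iff'.mpr hc₀)))]
      exact bot_le
  have hEY : E ≤ centralizer (Y : Set X) := by
    have h1 := (h.two E (hEQ.trans hQS) fun e he y hy => ?_).2
    · have h2 := card_le_of_le ((commutator_comm Y E).le.trans
        ((commutator_mono le_rfl hYU).trans hER))
      have h3 := relIndex_le_of_le_left (L := E) (H23.centralizer_le_centralizer_singleton hvY)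
        index_ne_zero_of_finite
      have h4 := relIndex_pos' (centralizer (Y : Set X)) E
      rw [← relIndex_eq_one]
      nlinarith
    · have h1 := hc₀ e he y (hYU hy)
      have h2 := hEc he _ h1
      have h3 := hUea.2 _ (hU₀U h1)
      generalize hw : e * y * e⁻¹ * y⁻¹ = w at *
      have e1 : e * y = w * y * e := by rw [← hw]; group
      calc y * (e * e) = w ^ 2 * y * (e * e) := by rw [h3, one_mul]
        _ = w * (w * y * e) * e := by rw [pow_two]; group
        _ = w * e * (y * e) := by rw [← e1]; group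
        _ = e * (w * y * e) := by rw [h2]; group
        _ = _ := by rw [← e1, mul_assoc]
  have hCn := normal_of_oddK h.syl (H13.le_normalizer_inf le_normalizer_of_normal
    (H13.le_normalizer_centralizer h.le_norm)) (hnorm _ _ _ hEK (le_inf hEQ hEY) inf_le_left)
  have hβ1 : Q ⊓ A ≤ centralizer (U : Set X) :=
    (inf_le_inf_left Q (hA.le_J.trans h.cent)).trans (le_centralizer_symm
      (hUle _ inferInstance (le_centralizer_symm inf_le_right)))
  rw [relIndex_eq_one.mpr hβ1] at hγ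
  nlinarith

theorem map_cj {G G' : Type*} [Group G] [Group G'] (f : G →* G') (g : G) (A : Subgroup G) :
    (cj g A).map f = cj (f g) (A.map f) := by
  rw [map_map, cj, map_map]
  congr 1
  ext x
  simp

theorem lemA_aux (k : ℕ) : ∀ (X : Type u) [Group X] [Finite X], Nat.card X = k → KK n X →
    centralizer (pCore 2 X : Set X) ≤ pCore 2 X → ∀ S Y : Subgroup X, SetA S Y → Y.Normal := by
  induction k using Nat.strong_induction_on with | _ k ih => ?_
  intro X _ _ hk hK hc S Y h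
  by_contra hne
  have hB : normalizer (Y : Set X) ≠ ⊤ := mt normalizer_eq_top_iff.mp hne
  have hQ := H2.pCore_isPGroup 2 X
  have hQS : pCore 2 X ≤ S := by
    obtain ⟨P, rfl⟩ := h.syl.exists_sylow
    exact H2.pCore_le_sylow P
  have hmax : ∀ L : Subgroup X, thompsonSubgroupOf 2 S ≤ L → pCore 2 X ≤ L → L ≠ ⊤ →
      L ≤ normalizer (Y : Set X) := by
    intro L h1 h2 h3
    obtain ⟨S', hS'⟩ := h.sub h1
    have h4 : (pCore 2 X).subgroupOf L ≤ pCore 2 L := H2.le_pCore inferInstance hQ.comap_subtype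
    refine (normal_subgroupOf_iff_le_normalizer (h.le.trans h1)).mp
      (ih _ (hk ▸ H2.card_lt_of_ne_top h3) L rfl (hK.sub L) ?_ _ _ hS')
    refine (H13.centralizer_anti h4).trans (le_trans ?_ h4)
    rw [centralizer_subgroupOf_eq h2]
    exact comap_mono hc
  have hmaxS : ∀ L : Subgroup X, S ≤ L → L ≠ ⊤ → L ≤ normalizer (Y : Set X) :=
    fun L h1 => hmax L ((J_le S).trans h1) (hQS.trans h1)
  have hcore : ∀ D : Subgroup X, D.Normal → D ≤ normalizer (Y : Set X) → D ⊓ S ≤ pCore 2 X := by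
    intro D hD hDB
    have hT := h.syl.inf_normal (K := D) le_top le_normalizer_of_normal
    rw [inf_comm]
    refine H2.le_pCore (normalizer_eq_top_iff.mp ?_) hT.isPGroup
    by_contra h1
    refine hB (eq_top_iff.mpr fun g hg => ?_)
    obtain ⟨d, hd, hdg⟩ := hT.frattini le_normalizer_of_normal hg
    exact (mul_mem_cancel_left (hDB hd)).mp (hmaxS _
      (H13.le_normalizer_inf le_normalizer le_normalizer_of_normal) h1 hdg)
  by_cases hYQ : Y ≤ pCore 2 X
  · refine hne (caseIII hK.g2f h hQS (fun D hD => ?_) (fun hJ => hB ?_) hYQ)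
    · by_cases h1 : S ⊔ D = ⊤
      · exact Or.inr (oddK_le_of_sup_eq_top h.syl.isPGroup h1)
      · exact Or.inl (hcore D hD (le_sup_right.trans (hmaxS _ le_sup_left h1)))
    · rw [eq_top_iff]
      refine le_trans ?_ h.norm
      rw [← J_eq_of_sylIn h.syl hQ hJ]
      exact le_normalizer_of_normal
  refine hne (caseI hK h hc fun g hg => ?_)
  obtain ⟨H₀, hH₀⟩ : ∃ H₀, H₀ = (normalizer (Y : Set X)).normalCore := ⟨_, rfl⟩
  haveI : H₀.Normal := hH₀ ▸ inferInstance
  have h1 : H₀ ≤ normalizer (Y : Set X) := hH₀ ▸ normalCore_le _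
  have h2 : ∀ D : Subgroup X, D.Normal → D ≤ normalizer (Y : Set X) → D ≤ H₀ :=
    fun D _ hD => hH₀ ▸ normal_le_normalCore.mpr hD
  have hf := QuotientGroup.mk'_surjective H₀
  have h3 : ((normalizer (Y : Set X)).map (QuotientGroup.mk' H₀)).comap (QuotientGroup.mk' H₀) =
      normalizer (Y : Set X) := by rw [H2.comap_map_mk', sup_of_le_left h1]
  rw [← h3]
  refine uniq_conj (hK.quo H₀) (S := S.map (QuotientGroup.mk' H₀))
    (J := (thompsonSubgroupOf 2 S).map (QuotientGroup.mk' H₀)) (Y := Y.map (QuotientGroup.mk' H₀))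
    ?_ (map_mono (J_le S)) (map_mono h.le_norm) (fun L hL hL1 => ?_) (fun W hW hWB => ?_) ?_
    (map_mono h.leS) ?_ ((map_mono h.cent).trans (H13.map_centralizer_le _ Y))
    (le_normalizer_map _) ?_
  · obtain ⟨P, rfl⟩ := h.syl.exists_sylow
    exact H22.sylIn_top (P.mapSurjective hf)
  · rw [← H2.map_comap_mk' H₀ L]
    refine map_mono (hmax _ (map_le_iff_le_comap.mp hL)
      ((h2 _ inferInstance (hQS.trans h.le_norm)).trans (H2.le_comap_mk' _ _)) fun h4 => hL1 ?_)
    rw [← H2.map_comap_mk' H₀ L, h4, map_top_of_surjective _ hf]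
  · rw [← H2.map_comap_mk' H₀ W, H2.map_mk'_eq_bot_iff]
    exact h2 _ (hW.comap _) (h3 ▸ comap_mono hWB)
  · rw [Ne, H2.map_mk'_eq_bot_iff]
    exact fun h4 => hYQ ((le_inf h4 h.leS).trans (hcore _ inferInstance h1))
  · rintro _ ⟨y, hy, rfl⟩
    rw [← map_mul, h.sq y hy, map_one]
  · rw [← map_cj]
    exact map_mono hg

/-- The normality lemma. -/
theorem lemA (hK : KK n X) (hc : centralizer (pCore 2 X : Set X) ≤ pCore 2 X) {S Y : Subgroup X}
    (h : SetA S Y) : Y.Normal :=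
  lemA_aux _ X rfl hK hc S Y h

end H12
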