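import Mathlib
import Cfsg.Agent.H12.TF7
import Cfsg.Agent.H13.ZJFusion

/-!
# The `2`-fusion of a `3'`-group with Suzuki-like simple sections is constrained
-/

set_option autoImplicit false

namespace H12

open Cfsg Subgroup
open H22 (cj SylIn)
open H13 (Good)
open scoped commutatorElement

universe u

theorem good_of_sc {G : Type*} [Group G] [Finite G] {p : ℕ} [Fact p.Prime] (T : Sylow p G)
    {E Z : Subgroup G} [Z.Normal] (hET : E ≤ T)
    (hsc : ∀ x ∈ E, ∀ g : G, g * x * g⁻¹ ∈ T → g * x * g⁻¹ ∈ E)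
    (h1 : ∀ a ∈ E, ∀ b ∈ E, a * b * a⁻¹ * b⁻¹ ∈ Z) (h2 : E ≤ centralizer (Z : Set G))
    (A : Subgroup G) (hA : A ≤ T) (g : G) (hg : cj g A ≤ T) :
    Good (normalizer (E : Set G)) A g := by
  have hTE : (T : Subgroup G) ≤ normalizer (E : Set G) := fun t ht =>
    H22.mem_normalizer_of_conj_mem fun x hx =>
      hsc x hx t (mul_mem (mul_mem ht (hET hx)) (inv_mem ht))
  refine H13.alperin_good T hTE (fun X hXT hXs IH g hg => ?_) A hA g hg
  by_cases hEX : E ≤ X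
  · exact H13.good_of_mem (H22.mem_normalizer_of_conj_mem fun x hx =>
      hsc x hx g (hXT (H22.conj_mem_of_mem_normalizer hg (hEX hx)))) X
  have hX : IsPGroup p X := T.isPGroup'.to_le hXT
  have n1 : normalizer (X : Set G) ≤ normalizer ((X ⊓ E : Subgroup G) : Set G) := fun h hh =>
    H22.mem_normalizer_of_conj_mem fun x hx => ⟨H22.conj_mem_of_mem_normalizer hh hx.1,
      hsc x hx.2 h (hXT (H22.conj_mem_of_mem_normalizer hh hx.1))⟩
  have n2 : normalizer (X : Set G) ≤ normalizer ((X ⊓ E ⊓ Z : Subgroup G) : Set G) :=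
    H13.le_normalizer_inf n1 le_normalizer_of_normal
  obtain ⟨D, hD⟩ : ∃ D, D = normalizer (X : Set G) ⊓ secC X (X ⊓ E) ⊓ secC (X ⊓ E) (X ⊓ E ⊓ Z) ⊓
    centralizer ((X ⊓ E ⊓ Z : Subgroup G) : Set G) := ⟨_, rfl⟩
  have hDX : D ≤ normalizer (X : Set G) := hD ▸ inf_le_left.trans (inf_le_left.trans inf_le_left)
  have hXD : normalizer (X : Set G) ≤ normalizer (D : Set G) := hD ▸ H13.le_normalizer_inf
    (H13.le_normalizer_inf (H13.le_normalizer_inf le_normalizer (le_normalizer_secC le_rfl n1))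
      (le_normalizer_secC n1 n2)) (H13.le_normalizer_centralizer n2)
  have hED : E ⊓ normalizer (X : Set G) ≤ D := by
    intro e he
    have k1 : ∀ x ∈ X, e * x * e⁻¹ * x⁻¹ ∈ X ⊓ E := fun x hx => mem_inf.mpr
      ⟨mul_mem (H22.conj_mem_of_mem_normalizer he.2 hx) (inv_mem hx), by
        have := E.mul_mem he.1 (H22.conj_mem_of_mem_normalizer (hTE (hXT hx)) (E.inv_mem he.1))
        convert this using 1
        group⟩
    rw [hD]
    exact ⟨⟨⟨he.2, n1 he.2, k1⟩, n2 he.2, fun x hx => ⟨k1 x hx.1, h1 e he.1 x hx.2⟩⟩,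
      H13.centralizer_anti inf_le_right (h2 he.1)⟩
  have hs := hXs.inf_normal hDX hXD
  obtain ⟨k, hk, hgk⟩ := hs.frattini' hXD hg
  obtain ⟨q, hq, c, hc, hqc⟩ := hs.exists_mul_of_coprime_mem (K := D ⊓ centralizer (X : Set G))
    inf_le_left (H13.le_normalizer_inf le_normalizer (H13.le_normalizer_centralizer hDX))
    (fun y hy ho => ⟨hy, by
      rw [hD] at hy
      exact mem_centralizer_of_secC hX.to_inf_left ho hy.1.1.2
        (mem_centralizer_of_secC hX.to_inf_left.to_inf_left ho hy.1.2 hy.2)⟩) (inv_mem hk)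
  have hle : X ⊔ (T : Subgroup G) ⊓ normalizer (X : Set G) ⊓ D ≤ T :=
    sup_le hXT (inf_le_left.trans inf_le_left)
  have hlt : X < X ⊔ (T : Subgroup G) ⊓ normalizer (X : Set G) ⊓ D := by
    have h3 := H22.lt_inf_normalizer (T.isPGroup'.to_le (sup_le hXT hET))
      (lt_of_le_of_ne le_sup_left fun h => hEX (h ▸ le_sup_right) : X < X ⊔ E)
    rw [H13.inf_sup_of_le_normalizer (hXT.trans hTE) le_normalizer] at h3
    exact h3.trans_le (sup_le_sup_left (le_inf (inf_le_inf_right _ hET) hED) X)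
  have hgk' : g * k ∈ normalizer (X : Set G) := mul_mem hg (hDX hk)
  have g1 := (IH _ hle (H2.card_lt_of_lt hlt) (g * k)
    ((H22.cj_eq_iff.mpr (H22.mem_normalizer_sup hgk' hgk)).trans_le hle)).res le_sup_left
  have g2 := ((H13.good_of_mem (hTE hq.1.1) X).mul
    ((H22.cj_eq_iff.mpr hq.1.2).symm ▸ g1)).cent hc.2
  rwa [mul_assoc, ← hqc, mul_inv_cancel_right] at g2

variable {n : ℕ}

theorem constrained_fusion_aux (k : ℕ) : ∀ (X : Type u) [Group X] [Finite X], Nat.card X = k →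
    KK n X → ∀ T : Sylow 2 X, ∃ T₀ ≤ (T : Subgroup X),
      (T : Subgroup X) ⊓ centralizer (T₀ : Set X) ≤ T₀ ∧ (T : Subgroup X) ≤ normalizer (T₀ : Set X) ∧
      ∀ A ≤ (T : Subgroup X), ∀ g : X, cj g A ≤ T → Good (normalizer (T₀ : Set X)) A g := by
  induction k using Nat.strong_induction_on with | _ k ih => ?_
  intro X _ _ hk hK T
  by_cases hc : (T : Subgroup X) ⊓ centralizer (pCore 2 X : Set X) ≤ pCore 2 X
  · exact ⟨_, H2.pCore_le_sylow T, hc, le_normalizer_of_normal,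
      fun A _ g _ => H13.good_of_mem (le_normalizer_of_normal (mem_top g)) A⟩
  by_cases hO : pPrimeCore 2 X = ⊥
  swap
  · have hf := QuotientGroup.mk'_surjective (pPrimeCore 2 X)
    have hker := H13.coprime_card_ker_mk'_pPrimeCore (G := X) 2
    obtain ⟨T₀, h1, h2, h3, h4⟩ := ih _ (hk ▸ H2.card_quotient_lt hO) _ rfl (hK.quo _)
      (T.mapSurjective hf)
    rw [Sylow.coe_mapSurjective] at h1 h2 h3 h4
    set f := QuotientGroup.mk' (pPrimeCore 2 X)
    have hT := H13.inf_eq_bot_of_isPGroup_of_coprime T.isPGroup' hker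
    have e := map_inf_comap_eq h1
    have h5 : (T : Subgroup X) ≤ normalizer (((T : Subgroup X) ⊓ T₀.comap f : Subgroup X) : Set X) :=
      H13.le_normalizer_inf le_normalizer
        ((le_comap_map f _).trans (H23.comap_le_normalizer_comap h3 f))
    refine ⟨T ⊓ T₀.comap f, inf_le_left, fun x hx => ⟨hx.1, h2 ⟨⟨x, hx.1, rfl⟩, ?_⟩⟩, h5,
      fun A hA g hg => H13.good_of_good_map hker (T.isPGroup'.to_le hA) (hA.trans h5)
        (hg.trans h5) ?_⟩
    · rw [← e]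
      exact (map_mem_centralizer_iff hT inf_le_left hx.1).mpr hx.2
    · rw [← H13.normalizer_map_of_coprime_ker hf hker T.isPGroup'.to_inf_left, e]
      exact h4 _ (map_mono hA) _ (map_cj f g A ▸ map_mono hg)
  obtain ⟨Q, hQ⟩ : ∃ Q, Q = pCore 2 X := ⟨_, rfl⟩
  rw [← hQ] at hc
  haveI : Q.Normal := hQ ▸ inferInstance
  have hQp : IsPGroup 2 Q := hQ ▸ H2.pCore_isPGroup 2 X
  have hf := QuotientGroup.mk'_surjective Q
  set f := QuotientGroup.mk' Q with hfd
  have hker : ∀ x, f x = 1 ↔ x ∈ Q := fun x => QuotientGroup.eq_one_iff x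
  obtain ⟨L, hL, hLC⟩ := H2.exists_isMinNormal_le (Normal.map inferInstance f hf :
    ((centralizer (Q : Set X)).map f).Normal)
    (mt H2.map_mk'_eq_bot_iff.mp fun h => hc (inf_le_right.trans h))
  haveI := hL.1
  have h1 : ¬ (T : Subgroup X) ⊓ (L.comap f ⊓ centralizer (Q : Set X)) ≤ Q := by
    intro h
    have h2 : ¬ 2 ∣ Q.relIndex (L.comap f ⊓ centralizer (Q : Set X)) := by
      intro hd
      apply H13.not_dvd_relIndex_sylow_normal T (L.comap f ⊓ centralizer (Q : Set X))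
      rw [← inf_relIndex_right]
      exact hd.trans (relIndex_dvd_of_le_left _ h)
    have h3 := H13.le_sup_pPrimeCore_of_central hQp inf_le_right
      ((Nat.prime_two.coprime_iff_not_dvd.mpr h2).symm)
    rw [hO, sup_bot_eq] at h3
    refine hL.2.1 (eq_bot_iff.mpr fun l hl => ?_)
    obtain ⟨c, hc, rfl⟩ := hLC hl
    exact (hker c).mpr (h3 ⟨hl, hc⟩)
  have hcomm : ∀ a ∈ (T : Subgroup X) ⊓ (L.comap f ⊓ centralizer (Q : Set X)),
      ∀ b ∈ (T : Subgroup X) ⊓ (L.comap f ⊓ centralizer (Q : Set X)), a * a ∈ Q → b * b ∈ Q →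
      f a * f b = f b * f a := fun a ha b hb ha2 hb2 =>
    (hK.quo Q).p1 hL (T.isPGroup'.map f) ha.2.1 hb.2.1 ⟨a, ha.1, rfl⟩ ⟨b, hb.1, rfl⟩
      (by rw [← map_mul, hker]; exact ha2) (by rw [← map_mul, hker]; exact hb2)
  let E : Subgroup X :=
    { carrier := {t | t ∈ (T : Subgroup X) ⊓ (L.comap f ⊓ centralizer (Q : Set X)) ∧ t * t ∈ Q}
      one_mem' := ⟨one_mem _, by simp⟩
      mul_mem' := fun {a b} ha hb => ⟨mul_mem ha.1 hb.1, by
        rw [← hker]
        calc f (a * b * (a * b)) = f a * (f b * f a) * f b := by simp only [map_mul]; group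
          _ = f (a * a) * f (b * b) := by
            rw [← hcomm a ha.1 b hb.1 ha.2 hb.2]; simp only [map_mul]; group
          _ = 1 := by rw [(hker _).mpr ha.2, (hker _).mpr hb.2, mul_one]⟩
      inv_mem' := fun {a} ha => ⟨inv_mem ha.1, by rw [← mul_inv_rev]; exact inv_mem ha.2⟩ }
  have hET : E ≤ T := fun x hx => hx.1.1
  have hEQ : ¬ E ≤ Q := by
    intro h
    refine omega_ne_bot (T.isPGroup'.to_inf_left.map f) (mt H2.map_mk'_eq_bot_iff.mp h1)
      (eq_bot_iff.mpr (omega_le_iff.mpr ?_))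
    rintro _ ⟨x, hx, rfl⟩ h2
    rw [pow_two, ← map_mul, hker] at h2
    exact (hker x).mpr (h ⟨hx, h2⟩)
  have hsc : ∀ x ∈ E, ∀ g : X, g * x * g⁻¹ ∈ T → g * x * g⁻¹ ∈ E := fun x hx g hg =>
    ⟨⟨hg, Normal.conj_mem inferInstance _ hx.1.2 g⟩, by
      have := Normal.conj_mem inferInstance _ hx.2 g
      convert this using 1
      group⟩
  have hgood := good_of_sc T (Z := Q ⊓ centralizer (Q : Set X)) hET hsc
    (fun a ha b hb => ⟨by
      change _ ∈ Q
      rw [← hker, map_mul, map_mul, map_mul, hcomm a ha.1 b hb.1 ha.2 hb.2, map_inv, map_inv]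
      group, mul_mem (mul_mem (mul_mem ha.1.2.2 hb.1.2.2) (Subgroup.inv_mem _ ha.1.2.2))
        (Subgroup.inv_mem _ hb.1.2.2)⟩)
    fun x hx => H13.centralizer_anti inf_le_left hx.1.2.2
  have hTE : (T : Subgroup X) ≤ normalizer (E : Set X) := fun t ht =>
    H22.mem_normalizer_of_conj_mem fun x hx =>
      hsc x hx t (mul_mem (mul_mem ht (hET hx)) (inv_mem ht))
  have hN : normalizer (E : Set X) ≠ ⊤ := fun h =>
    hEQ (hQ ▸ H2.le_pCore (normalizer_eq_top_iff.mp h) (T.isPGroup'.to_le hET))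
  generalize normalizer (E : Set X) = N at *
  obtain ⟨T₀, h2, h3, h4, h5⟩ := ih _ (hk ▸ H2.card_lt_of_ne_top hN) N rfl (hK.sub N)
    (H22.sylIn_of_sylow_le T hTE).toSylow
  rw [SylIn.coe_toSylow] at h2 h3 h4 h5
  refine ⟨T₀.map N.subtype, map_le_iff_le_comap.mpr h2, fun x hx => ?_, fun x hx => ?_,
    fun A hA g hg => ?_⟩
  · refine ⟨⟨x, hTE hx.1⟩, h3 ⟨hx.1, fun t ht => Subtype.ext (hx.2 _ ⟨t, ht, rfl⟩)⟩, rfl⟩
  · exact le_normalizer_map N.subtype ⟨⟨x, hTE hx⟩, h4 hx, rfl⟩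
  · obtain ⟨m, hm, hmg⟩ := hgood A hA g hg
    obtain ⟨m', hm', hmg'⟩ := h5 (A.subgroupOf N) (comap_mono hA) ⟨m, hm⟩
      (H22.cj_le_iff.mpr fun a ha => by
        change m * a * m⁻¹ ∈ T
        rw [hmg (a : X) ha]
        exact hg (H22.conj_mem_cj ha))
    exact ⟨m', le_normalizer_map N.subtype ⟨m', hm', rfl⟩, fun a ha =>
      (congrArg Subtype.val (hmg' ⟨a, hTE (hA ha)⟩ ha)).trans (hmg a ha)⟩

/-- Ambient form of constrained fusion. -/
theorem constrained_fusion {G : Type u} [Group G] [Finite G] {L R : Subgroup G} (hK : KK n L)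
    (hR : SylIn 2 R L) : ∃ T₀ ≤ R, R ⊓ centralizer (T₀ : Set G) ≤ T₀ ∧
      R ≤ normalizer (T₀ : Set G) ∧
      ∀ A ≤ R, ∀ g ∈ L, cj g A ≤ R → Good (L ⊓ normalizer (T₀ : Set G)) A g := by
  obtain ⟨T₀, h2, h3, h4, h5⟩ := constrained_fusion_aux _ L rfl hK hR.toSylow
  rw [SylIn.coe_toSylow] at h2 h3 h4 h5
  refine ⟨T₀.map L.subtype, map_le_iff_le_comap.mpr h2, fun x hx => ?_, fun x hx => ?_,
    fun A hA g hg hgA => ?_⟩
  · refine ⟨⟨x, hR.le hx.1⟩, h3 ⟨hx.1, fun t ht => Subtype.ext (hx.2 _ ⟨t, ht, rfl⟩)⟩, rfl⟩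
  · exact le_normalizer_map L.subtype ⟨⟨x, hR.le hx⟩, h4 hx, rfl⟩
  · obtain ⟨m', hm', hmg'⟩ := h5 (A.subgroupOf L) (comap_mono hA) ⟨g, hg⟩
      (H22.cj_le_iff.mpr fun a ha => hgA (H22.conj_mem_cj ha))
    exact ⟨m', ⟨m'.2, le_normalizer_map L.subtype ⟨m', hm', rfl⟩⟩, fun a ha =>
      congrArg Subtype.val (hmg' ⟨a, hR.le (hA ha)⟩ ha)⟩

end H12
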