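import Mathlib
import Cfsg.Agent.H12.TF8
import Cfsg.Prelude.Def_TwoFusion

/-!
# A strongly closed abelian `2`-subgroup
-/

set_option autoImplicit false

namespace H12

open Cfsg Subgroup
open H22 (cj SylIn)
open H13 (Good)
open scoped commutatorElement

universe u

variable {n : ℕ} {G : Type u} [Group G] [Finite G]

theorem good_of_setA (hK : KK n G) {S Y T₀ R : Subgroup G} (h : SetA S Y) [T₀.Normal]
    (hR : SylIn 2 R ⊤) (h1 : T₀ ≤ R) (h2 : R ⊓ centralizer (T₀ : Set G) ≤ T₀) {A : Subgroup G}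
    (hA : IsPGroup 2 A) (hAN : A ≤ normalizer (Y : Set G)) {g : G}
    (hg : cj g A ≤ normalizer (Y : Set G)) : Good (normalizer (Y : Set G)) A g := by
  have hf := QuotientGroup.mk'_surjective (pPrimeCore 2 G)
  have hker := H13.coprime_card_ker_mk'_pPrimeCore (G := G) 2
  obtain ⟨P, rfl⟩ := hR.exists_sylow
  have hT := H13.inf_eq_bot_of_isPGroup_of_coprime P.isPGroup' hker
  have h3 := H2.le_pCore (Normal.map ‹T₀.Normal› _ hf) ((P.isPGroup'.to_le h1).map _)
  have hn := lemA (hK.quo _) (H13.centralizer_pCore_le_of_sylow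
    (H2.pPrimeCore_quotient_pPrimeCore 2 G) (P.mapSurjective hf) (by
      rintro _ ⟨⟨x, hx, rfl⟩, hx'⟩
      exact h3 ⟨x, h2 ⟨hx, (map_mem_centralizer_iff hT h1 hx).mp
        (H13.centralizer_anti h3 hx')⟩, rfl⟩)) (h.map hf hker)
  refine H13.good_of_good_map hker hA hAN hg (H13.good_of_mem ?_ _)
  rw [← H13.normalizer_map_of_coprime_ker hf hker (isPGroup_of_sq h.sq)]
  exact le_normalizer_of_normal (mem_top _)

theorem good_of_setA' {S Y T₀ L : Subgroup G} (hK : KK n L) (h : SetA S Y) (hSL : S ≤ L)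
    (hL : L ≤ normalizer (T₀ : Set G)) (h1 : T₀ ≤ S) (h2 : S ⊓ centralizer (T₀ : Set G) ≤ T₀)
    {A : Subgroup G} (hA : A ≤ S) {g : G} (hgL : g ∈ L) (hg : cj g A ≤ S) :
    Good (normalizer (Y : Set G)) A g := by
  obtain ⟨S', hS'⟩ := h.sub ((J_le S).trans hSL)
  haveI := (normal_subgroupOf_iff_le_normalizer (h1.trans hSL)).mpr hL
  have e := subgroupOf_normalizer_eq (h.leS.trans hSL)
  obtain ⟨m, hm, hmg⟩ := good_of_setA hK hS' (T₀ := T₀.subgroupOf L)
    (sylIn_subgroupOf (h.syl.mono hSL le_top)) (comap_mono h1) (by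
      rw [centralizer_subgroupOf_eq (h1.trans hSL)]
      exact fun x hx => h2 hx) (A := A.subgroupOf L) (h.syl.isPGroup.to_le hA).comap_subtype
    (e ▸ comap_mono (hA.trans h.le_norm)) (g := ⟨g, hgL⟩) (by
      rw [← e, H22.cj_le_iff]
      exact fun a ha => h.le_norm (hg (H22.conj_mem_cj ha)))
  rw [← e] at hm
  exact ⟨m, hm, fun a ha => congrArg Subtype.val (hmg ⟨a, hSL (hA ha)⟩ ha)⟩

omit [Finite G] in
theorem sq_of_ea {V : Subgroup G} (h : IsElementaryAbelian 2 V) : ∀ v ∈ V, v * v = 1 :=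
  fun v hv => by rw [← pow_two, h.2 v hv]

/-- Thompson factorisation. -/
theorem thompson_fact {R T₀ L : Subgroup G} (hL : G2F L) (hR : SylIn 2 R L)
    (hLT : L ≤ normalizer (T₀ : Set G)) (h1 : T₀ ≤ R) (h2 : R ⊓ centralizer (T₀ : Set G) ≤ T₀)
    {A : Subgroup G} (hA : A ≤ R) {g : G} (hgL : g ∈ L) (hg : cj g A ≤ R) :
    ∃ x ∈ normalizer (omegaOne 2 (R ⊓ centralizer (R : Set G)) : Set G),
      ∃ y ∈ normalizer (thompsonSubgroupOf 2 R : Set G), g = y * x ∧ cj x A ≤ R := by
  have hZ := le_centralizer_omega_center (p := 2) R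
  have hZT : omegaOne 2 (R ⊓ centralizer (R : Set G)) ≤
      omegaOne 2 (T₀ ⊓ centralizer (T₀ : Set G)) :=
    omega_mono (le_inf ((inf_le_inf_left R (H13.centralizer_anti h1)).trans h2)
      (inf_le_right.trans (H13.centralizer_anti h1)))
  generalize omegaOne 2 (R ⊓ centralizer (R : Set G)) = Z at *
  have hV := ncl_le hZT (hLT.trans (normalizer_le_normalizer_omega_center T₀))
  have hVea := ea_of_le (ea_omega_center T₀) hV
  have ht := twoF_ncl hL hR (le_centralizer_symm hZ) (sq_of_ea hVea)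
  have hJ : thompsonSubgroupOf 2 R ≤ centralizer (ncl L Z : Set G) := J_le_iff.mpr fun B hB =>
    ht.le_centralizer_of_maxEA hB (hB.le.trans hR.le)
      (hV.trans ((omega_le _).trans (inf_le_left.trans h1))) hVea
  have hn : L ≤ normalizer ((L ⊓ centralizer (ncl L Z : Set G) : Subgroup G) : Set G) :=
    H13.le_normalizer_inf le_normalizer (H13.le_normalizer_centralizer (le_normalizer_ncl L Z))
  obtain ⟨k, hk, hgk⟩ := (hR.inf_normal inf_le_left hn).frattini' hn hgL
  have hgk' := normalizer_le_normalizer_J (p := 2) _ hgk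
  rw [J_eq_of_le (le_inf (J_le R) (le_inf ((J_le R).trans hR.le) hJ)) inf_le_left] at hgk'
  have hkZ : k ∈ centralizer (Z : Set G) := H13.centralizer_anti (le_ncl L Z) hk.2
  have hkK : k⁻¹ ∈ L ⊓ centralizer (Z : Set G) := inv_mem (mem_inf.mpr ⟨hk.1, hkZ⟩)
  have h3 : cj k⁻¹ A ≤ L ⊓ centralizer (Z : Set G) ⊓ normalizer (thompsonSubgroupOf 2 R : Set G) := by
    refine le_inf ?_ ?_
    · rw [← H22.cj_eq_of_mem hkK]
      exact H22.cj_mono (hA.trans (le_inf hR.le hZ))
    · rw [← H22.cj_le_cj_iff (g := g * k), ← H22.cj_mul, mul_inv_cancel_right,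
        H22.cj_eq_of_mem hgk']
      exact hg.trans (le_normalizer_J R)
  obtain ⟨m, hm, hmA⟩ := (hR.mono (le_inf (le_inf hR.le hZ) (le_normalizer_J R))
    (inf_le_left.trans inf_le_left)).exists_cj_le h3 (H22.isPGroup_cj (hR.isPGroup.to_le hA) _)
  rw [← H22.cj_mul] at hmA
  exact ⟨m * k⁻¹, centralizer_le_normalizer _ (mul_mem hm.1.2 hkK.2), g * k * m⁻¹,
    mul_mem hgk' (Subgroup.inv_mem _ hm.2), by group, hmA⟩

theorem setA_good (P : Sylow 2 G) {Y : Subgroup G} (h : SetA (P : Subgroup G) Y)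
    (hK : ∀ W : Subgroup G, W ≠ ⊥ → IsPGroup 2 W → KK n (normalizer (W : Set G)))
    (A : Subgroup G) (hA : A ≤ P)
    (g : G) (hg : cj g A ≤ P) : Good (normalizer (Y : Set G)) A g := by
  set N := normalizer (Y : Set G) with hN
  refine H13.alperin_good P h.le_norm (fun X hXP hXs IH g hg => ?_) A hA g hg
  have C2 : ∀ k : ℕ, ∀ R : Subgroup G, Nat.card G - Nat.card R = k → R ≤ P →
      ∀ X' W : Subgroup G, W ≠ ⊥ → W ≤ R → SylIn 2 R (normalizer (W : Set G)) → X' ≤ R →
        Nat.card X' = Nat.card X → ∀ g ∈ normalizer (W : Set G), cj g X' ≤ R → Good N X' g := by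
    intro k
    induction k using Nat.strong_induction_on with | _ k ihk => ?_
    intro R hk hRP X' W hW1 hWR hs hX' hc g hg hgX
    obtain ⟨T₀, h1, h2, h3, h4⟩ := constrained_fusion (hK W hW1 (hs.isPGroup.to_le hWR)) hs
    obtain ⟨m, hm, hmg⟩ := h4 X' hX' g hg hgX
    have hmX : cj m X' ≤ R := (H13.cj_eq_of_agree hmg).trans_le hgX
    have hKL : KK n ↥(normalizer (W : Set G) ⊓ normalizer (T₀ : Set G)) :=
      (hK W hW1 (hs.isPGroup.to_le hWR)).of_dvd (card_dvd_of_le inf_le_left)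
    refine Good.congr ?_ hmg
    rcases hRP.eq_or_lt with rfl | hlt0
    · exact good_of_setA' hKL h (le_inf hs.le h3) inf_le_right h1 h2 hX' hm hmX
    have hR1 : R ≠ ⊥ := fun h => hW1 (le_bot_iff.mp (h ▸ hWR))
    have step : ∀ W : Subgroup G, W ≠ ⊥ → W ≤ R →
        normalizer (R : Set G) ≤ normalizer (W : Set G) → ∀ X' ≤ R, Nat.card X' = Nat.card X →
        ∀ m ∈ normalizer (W : Set G), cj m X' ≤ R → Good N X' m := by
      intro W hW hWR hRW X' hX' hc m hm hmX
      have hlt : R < (P : Subgroup G) ⊓ normalizer (W : Set G) :=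
        (H22.lt_inf_normalizer P.isPGroup' hlt0).trans_le (inf_le_inf_left _ hRW)
      obtain ⟨h, hh1, hh2⟩ := H22.exists_cj_fullyNormalized P W
      have hlt' := H2.card_lt_of_lt hlt
      have g1 : Good N R h := (IH _ inf_le_left
        (lt_of_le_of_lt (hc ▸ card_le_of_le hX') hlt') h hh1).res hlt.le
      have hle : cj h ((P : Subgroup G) ⊓ normalizer (W : Set G)) ≤
          (P : Subgroup G) ⊓ normalizer (cj h W : Set G) :=
        le_inf hh1 (H22.cj_normalizer h W ▸ H22.cj_mono inf_le_right)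
      have hRle : cj h R ≤ (P : Subgroup G) ⊓ normalizer (cj h W : Set G) :=
        (H22.cj_mono hlt.le).trans hle
      have hc2 := card_le_of_le hle
      rw [H22.card_cj] at hc2
      have hc3 := card_le_card_group ((P : Subgroup G) ⊓ normalizer (cj h W : Set G))
      have hW1 : cj h W ≠ ⊥ := by rwa [← H22.cj_bot h, Ne, (H22.cj_injective h).eq_iff]
      have g2 := ihk _ (by omega) _ rfl inf_le_left (cj h X') (cj h W) hW1
        ((H22.cj_mono hWR).trans hRle) hh2
        ((H22.cj_mono hX').trans hRle) (by rw [H22.card_cj, hc]) (h * m * h⁻¹)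
        (H22.cj_normalizer h W ▸ H22.conj_mem_cj hm)
        (by rw [← H22.cj_mul, inv_mul_cancel_right, H22.cj_mul]; exact (H22.cj_mono hmX).trans hRle)
      have g3 := (g1.res hX').mul g2
      rw [inv_mul_cancel_right] at g3
      have g4 := (g1.res hmX).inv
      rw [← H22.cj_mul] at g4
      have g5 := g3.mul g4
      rwa [inv_mul_cancel_left] at g5
    obtain ⟨x, hx, y, hy, rfl, hxX⟩ := thompson_fact hKL.g2f (hs.mono (le_inf hs.le h3) inf_le_left)
      inf_le_right h1 h2 hX' hm hmX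
    exact (step _ (omega_center_ne_bot hs.isPGroup hR1) ((omega_le _).trans inf_le_left)
      (normalizer_le_normalizer_omega_center R) X' hX' hc x hx hxX).mul
      (step _ (J_ne_bot hs.isPGroup hR1) (J_le R) (normalizer_le_normalizer_J R) _ hxX
        (by rw [H22.card_cj, hc]) y hy (by rwa [← H22.cj_mul]))
  by_cases hX1 : X = ⊥
  · exact ⟨1, one_mem _, fun a ha => by rw [hX1, mem_bot] at ha; simp [ha]⟩
  · exact C2 _ _ rfl inf_le_left X X hX1 (le_inf hXP le_normalizer) hXs
      (le_inf hXP le_normalizer) rfl g hg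
      ((H22.cj_eq_iff.mpr hg).trans_le (le_inf hXP le_normalizer))

/-- A group all of whose local subgroups are in the class has a strongly closed abelian
`2`-subgroup. -/
theorem exists_stronglyClosed (P : Sylow 2 G) (hP : (P : Subgroup G) ≠ ⊥)
    (hK : ∀ W : Subgroup G, W ≠ ⊥ → IsPGroup 2 W → KK n (normalizer (W : Set G))) :
    ∃ Y : Subgroup G, Y ≠ ⊥ ∧ IsMulCommutative Y ∧ IsStronglyClosed Y P := by
  have hJ := J_ne_bot P.isPGroup' hP
  have hZ1 := omega_center_ne_bot P.isPGroup' hP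
  have hZ := le_centralizer_omega_center (p := 2) (P : Subgroup G)
  have hZJ := omega_center_le_omega_center_J (p := 2) (P : Subgroup G)
  generalize omegaOne 2 ((P : Subgroup G) ⊓ centralizer ((P : Subgroup G) : Set G)) = Z at *
  have hV := ncl_le hZJ (normalizer_le_normalizer_omega_center _)
  have hVea := ea_of_le (ea_omega_center _) hV
  have h : SetA (P : Subgroup G) (ncl (normalizer (thompsonSubgroupOf 2 (P : Subgroup G) : Set G)) Z) :=
    ⟨H22.sylIn_top P, sq_of_ea hVea, hV.trans ((omega_le _).trans inf_le_left),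
      le_centralizer_symm (hV.trans ((omega_le _).trans inf_le_right)), le_normalizer_ncl _ _,
      (twoF_ncl (hK _ hJ (P.isPGroup'.to_le (J_le _))).g2f (H22.sylIn_of_sylow_le P (le_normalizer_J _))
        (le_centralizer_symm hZ) (sq_of_ea hVea)).mono (le_normalizer_J _)⟩
  refine ⟨_, fun h0 => hZ1 (le_bot_iff.mp (h0 ▸ le_ncl _ Z)), hVea.1, h.leS, fun x hx g hg => ?_⟩
  obtain ⟨m, hm, hmg⟩ := setA_good P h hK (zpowers x) (zpowers_le.mpr (h.leS hx)) g
    (by rwa [H22.cj_zpowers, zpowers_le])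
  rw [← hmg x (mem_zpowers x)]
  exact H22.conj_mem_of_mem_normalizer hm hx

end H12
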