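import Mathlib
import Cfsg.Agent.H12.TF9
import Cfsg.Agent.H12.TF4
import Cfsg.Agent.S0073
import Cfsg.Agent.S0205

/-!
# Simple `3'`-groups, modulo the theorems of Bender and Goldschmidt
-/

set_option autoImplicit false

namespace H12

open Cfsg Subgroup
open scoped commutatorElement

universe u

/-- What is needed from Bender's theorem. -/
def BenderHyp : Prop :=
  ∀ (G : Type u) [Group G] [Finite G] [IsSimpleGroup G], ¬ IsMulCommutative G →
    ∀ H : Subgroup G, IsStronglyEmbedded H → ¬ 3 ∣ Nat.card G → SzLike G ∧ IsSuzuki G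

/-- Goldschmidt's theorem. -/
def GoldHyp : Prop :=
  ∀ (G : Type u) [Group G] [Finite G] [IsSimpleGroup G] (S : Sylow 2 G) (A : Subgroup G),
    A ≠ ⊥ → IsMulCommutative A → IsStronglyClosed A (S : Subgroup G) →
      IsMulCommutative (S : Subgroup G) ∨ ∃ H : Subgroup G, IsStronglyEmbedded H

/-- What is needed on simple groups with abelian Sylow `2`-subgroups. -/
def AbelHyp : Prop :=
  ∀ (G : Type u) [Group G] [Finite G] [IsSimpleGroup G], ¬ IsMulCommutative G →
    ∀ S : Sylow 2 G, IsMulCommutative (S : Subgroup G) →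
      (∃ H : Subgroup G, IsStronglyEmbedded H) ∨ 3 ∣ Nat.card G ∨ Nat.card (S : Subgroup G) = 4 ∨
        ((∀ x ∈ S, x * x = 1) ∧ ∃ K : Subgroup G, K ≠ ⊤ ∧ K ≠ ⊥ ∧ ⁅K, K⁆ = K)

theorem sylow_ne_bot_of_perfect {L : Type*} [Group L] [Finite L] (h : ¬ Group.IsSolvable L)
    (P : Sylow 2 L) : (P : Subgroup L) ≠ ⊥ := by
  intro hP
  refine h (Cfsg.Agent.S0205.result ?_)
  have := P.not_dvd_index
  rwa [hP, index_bot, ← even_iff_two_dvd, Nat.not_even_iff_odd] at this

theorem not_isSolvable_of_simple {L : Type*} [Group L] [IsSimpleGroup L]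
    (h : ¬ IsMulCommutative L) : ¬ Group.IsSolvable L := fun _ =>
  h (isMulCommutative_iff.mpr (IsSimpleGroup.comm_iff_isSolvable.mpr ‹_›))

theorem three_prime_aux (hB : BenderHyp.{u}) (hG : GoldHyp.{u}) (hA : AbelHyp.{u}) (n : ℕ) :
    ∀ (G : Type u) [Group G] [Finite G] [IsSimpleGroup G], Nat.card G = n →
      ¬ IsMulCommutative G → ¬ 3 ∣ Nat.card G → SzLike G ∧ IsSuzuki G := by
  induction n using Nat.strong_induction_on with | _ n ih => ?_
  intro G _ _ _ hn hna h3
  have hC : Ctx.{u} n := fun L _ _ _ h1 h2 h4 => (ih _ h4 L rfl h1 h2).1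
  have hK : ∀ L : Subgroup G, L ≠ ⊤ → KK n L := fun L hL =>
    ⟨hC, hn ▸ H2.card_lt_of_ne_top hL, fun h => h3 (h.trans (card_subgroup_dvd_card L))⟩
  suffices h : ∃ H : Subgroup G, IsStronglyEmbedded H by
    obtain ⟨H, hH⟩ := h
    exact hB G hna H hH h3
  obtain ⟨P⟩ : Nonempty (Sylow 2 G) := inferInstance
  have hP := sylow_ne_bot_of_perfect (not_isSolvable_of_simple hna) P
  obtain ⟨Y, hY1, hYc, hsc⟩ := exists_stronglyClosed (n := n) P hP fun W hW hW2 => hK _ fun h => by
    rcases (normalizer_eq_top_iff.mp h).eq_bot_or_eq_top with h | h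
    · exact hW h
    · haveI := (h ▸ hW2 : IsPGroup 2 (⊤ : Subgroup G)).of_equiv topEquiv |>.isNilpotent
      exact not_isSolvable_of_simple hna inferInstance
  refine (hG G P Y hY1 hYc hsc).elim (fun hab => ?_) id
  rcases hA G hna P hab with h | h | h | ⟨h, K, hK1, hK2, hK3⟩
  · exact h
  · exact absurd h h3
  · exfalso
    have h2 : 2 ∣ Nat.card G :=
      (show 2 ∣ Nat.card (P : Subgroup G) by rw [h]; norm_num).trans (card_subgroup_dvd_card _)
    rcases Cfsg.Agent.S0073.result (G := G) (by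
      by_contra hh
      push Not at hh
      exact hna (isMulCommutative_iff.mpr hh)) with h4 | h4
    · rw [(Nat.minFac_eq_two_iff _).mpr h2, ← (P : Subgroup G).card_mul_index, h] at h4
      exact P.not_dvd_index (by omega)
    · exact h3 ((by norm_num : 3 ∣ 12).trans h4)
  exfalso
  haveI : Nontrivial K := (nontrivial_iff_ne_bot K).mpr hK2
  obtain ⟨M, hM, hs⟩ := exists_simple_quotient K
  have hna' : ¬ IsMulCommutative (K ⧸ M) := by
    intro hc
    refine QuotientGroup.nontrivial_iff.mp hs.toNontrivial (eq_top_iff.mpr fun x _ => ?_)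
    have h1 : ⁅K, K⁆ ≤ M.map K.subtype := commutator_le.mpr fun a ha b hb =>
      ⟨⁅(⟨a, ha⟩ : K), (⟨b, hb⟩ : K)⁆, by
        change _ ∈ M
        rw [← QuotientGroup.eq_one_iff, ← QuotientGroup.mk'_apply, map_commutatorElement,
          commutatorElement_eq_one_iff_mul_comm]
        exact mul_comm' _ _, rfl⟩
    obtain ⟨y, hy, hyx⟩ := h1 (hK3.ge x.2)
    rwa [← Subtype.ext hyx]
  have hsz := hC _ hs hna' ((hK K hK1).quo M).h3 ((hK K hK1).quo M).lt
  obtain ⟨T⟩ : Nonempty (Sylow 2 K) := inferInstance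
  have hf := QuotientGroup.mk'_surjective M
  have h1 := hsz.sq_le (T.mapSurjective hf) _ le_rfl (by
    rintro _ ⟨x, hx, rfl⟩
    obtain ⟨g, hg⟩ := H22.sylow_exists_cj_le P (T.isPGroup'.map K.subtype)
    have h2 := h _ (hg (H22.conj_mem_cj ⟨x, hx, rfl⟩))
    have h4 : x * x = 1 := Subtype.ext (by
      change (x : G) * x = 1
      calc (x : G) * x = g⁻¹ * (g * x * g⁻¹ * (g * x * g⁻¹)) * g := by group
        _ = 1 := by rw [show g * x * g⁻¹ * (g * x * g⁻¹) = 1 from h2]; group)
    rw [← map_mul, h4, map_one])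
  have h2 := (one_lt_card_iff_ne_bot _).mpr
    (sylow_ne_bot_of_perfect (not_isSolvable_of_simple hna') (T.mapSurjective hf))
  nlinarith

/-- A simple `3'`-group is a Suzuki group, modulo the theorems of Bender and Goldschmidt. -/
theorem three_prime (hB : BenderHyp.{u}) (hG : GoldHyp.{u}) (hA : AbelHyp.{u}) {G : Type u}
    [Group G] [Finite G] [IsSimpleGroup G] (hna : ¬ IsMulCommutative G) (h3 : ¬ 3 ∣ Nat.card G) :
    SzLike G ∧ IsSuzuki G :=
  three_prime_aux hB hG hA _ G rfl hna h3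

end H12
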