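import Mathlib
import Cfsg.Agent.H12.TF10
import Cfsg.Agent.H26.GMain

/-!
# Simple `3'`-groups, modulo Bender's theorem
-/

set_option autoImplicit false

namespace H12

open Cfsg Subgroup

universe u

theorem goldHyp : GoldHyp.{u} := fun _ _ _ _ S _ hA hAc hsc =>
  H26.Gold.goldschmidt (H24.syl_top_of_sylow Nat.prime_two S) hA hAc hsc

theorem abelHyp : AbelHyp.{u} := by
  intro G _ _ _ hna S hab
  rcases H26.Gold.abelian_sylow hna (H24.syl_top_of_sylow Nat.prime_two S) hab with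
    h | h | ⟨h1, h2, -, h3⟩
  · exact Or.inl h
  · exact Or.inr (Or.inr (Or.inl h.2))
  refine Or.inr (Or.inr (Or.inr ⟨sq_of_ea h1, ?_⟩))
  obtain ⟨⟨a, ha⟩, ha1⟩ := ne_bot_iff_exists_ne_one.mp
    ((one_lt_card_iff_ne_bot (S : Subgroup G)).mp (by rw [h2]; norm_num))
  have ha1' : a ≠ 1 := fun h => ha1 (Subtype.ext h)
  obtain ⟨K, hK, -⟩ := h3 a ha ha1'
  refine ⟨K, fun h => ?_, hK.qs.ne, hK.qs.perf⟩
  have h4 : K ≤ centralizer ({a} : Set G) := hK.le.trans ((closure_le _).mpr Set.inter_subset_right)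
  have h5 : a ∈ center G := mem_center_iff.mpr fun g =>
    mem_centralizer_singleton_iff.mp (h4 (h ▸ mem_top g))
  rcases (inferInstance : (center G).Normal).eq_bot_or_eq_top with h6 | h6
  · exact ha1' (by rwa [h6, mem_bot] at h5)
  · exact hna (isMulCommutative_iff.mpr fun x y => (mem_center_iff.mp (h6 ▸ mem_top y) x))

theorem three_prime' (hB : BenderHyp.{u}) {G : Type u} [Group G] [Finite G] [IsSimpleGroup G]
    (hna : ¬ IsMulCommutative G) (h3 : ¬ 3 ∣ Nat.card G) : SzLike G ∧ IsSuzuki G :=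
  three_prime hB goldHyp abelHyp hna h3

end H12
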