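import Mathlib
import Cfsg.Agent.H12.TF10
import Cfsg.Agent.H3.B71Red

/-!
# Bender's theorem for simple `3'`-groups
-/

set_option autoImplicit false

namespace H12

universe u

theorem benderHyp : BenderHyp.{u} := by
  intro G _ _ _ _ H hH h3
  obtain ⟨t, Q, s, r, hyp⟩ := H3.B71.bender_simple hH
  exact ⟨szLike_of_hyp hyp h3, isSuzuki_of_hyp hyp h3⟩

end H12
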