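import Cfsg.Agent.H12.TID

/-!
# TI project, block A: the pair lemma and lines
-/

set_option autoImplicit false
set_option linter.unusedSectionVars false
set_option linter.unusedVariables false

namespace H12.TI

open Cfsg H24 Subgroup
open scoped commutatorElement

universe u

variable {G : Type u} [Group G] [Finite G] {Ω : Set (Subgroup G)}
  {A B C D F I P Q R S T U : Subgroup G} {a a' b c d d' g i j j' p r s t w x y ρ κ : G}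

theorem a0_inv (h : x * x = 1) : x⁻¹ = x := inv_eq_of_mul_eq_one_right h

theorem a0_comm (hs : ∀ x ∈ F, x * x = 1) (hx : x ∈ F) (hy : y ∈ F) : x * y = y * x := by
  have h1 := hs _ (F.mul_mem hx hy)
  calc x * y = (x * y)⁻¹ := (a0_inv h1).symm
    _ = y⁻¹ * x⁻¹ := mul_inv_rev _ _
    _ = y * x := by rw [a0_inv (hs x hx), a0_inv (hs y hy)]

theorem Sit.comm (h : Sit Ω) (hB : B ∈ Ω) (hx : x ∈ B) (hy : y ∈ B) : x * y = y * x :=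
  a0_comm (h.sq B hB) hx hy

theorem Sit.two (h : Sit Ω) (hB : B ∈ Ω) : IsPi {2} B :=
  isPi_of_isPGroup Nat.prime_two fun g =>
    ⟨1, Subtype.ext (by simpa [pow_two] using h.sq B hB g g.2)⟩

theorem Sit.card_eq (h : Sit Ω) (hB : B ∈ Ω) (hC : C ∈ Ω) : ♯B = ♯C := by
  obtain ⟨g, rfl⟩ := h.tr B hB C hC
  exact (card_cj g B).symm

theorem Sit.eq_of_mem (h : Sit Ω) (hB : B ∈ Ω) (hC : C ∈ Ω) (h1 : x ≠ 1) (hx : x ∈ B) (hx' : x ∈ C) :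
    B = C := by
  by_contra hne
  have : x ∈ B ⊓ C := ⟨hx, hx'⟩
  rw [h.ti B hB C hC hne] at this
  exact h1 (Subgroup.mem_bot.1 this)

theorem Sit.C1_le (h : Sit Ω) (hB : B ∈ Ω) (hb : b ∈ B) (h1 : b ≠ 1) : C{b} ≤ N[B] := by
  intro g hg
  rw [mem_N_iff_cj]
  refine h.eq_of_mem (h.cjm B hB g) hB h1 ?_ hb
  have := conj_mem_cj g hb
  rwa [mem_C1_iff_conj.1 hg] at this

theorem Sit.mem_of_cent (h : Sit Ω) (hA : A ∈ Ω) (hB : B ∈ Ω) (hd : d ∈ B) (hc : d ∈ C[A]) :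
    d ∈ A := by
  by_cases h1 : d = 1
  · exact h1 ▸ A.one_mem
  · rw [h.wc A hA B hB ((mem_C_iff_le_C1.1 hc).trans (h.C1_le hB hd h1))]; exact hd

/-- a `2`-subgroup containing a point normalises it and contains no other point -/
theorem Sit.norm_of_le (h : Sit Ω) (hA : A ∈ Ω) (hT : IsPi {2} T) (hAT : A ≤ T) : T ≤ N[A] := by
  have key : T ⊓ N[A] = T := by
    refine (hT.nil Nat.prime_two).eq_of_norm_le inf_le_left ?_
    rintro s ⟨hs, hn⟩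
    refine ⟨hs, ?_⟩
    have h1 : cj s A ≤ T ⊓ N[A] := cj_le_of_mem_N (le_inf hAT (norm_self A)) hn
    exact mem_N_iff_cj.2 (h.wc _ (h.cjm A hA s) A hA (h1.trans inf_le_right))
  exact key ▸ inf_le_right

/-- every `2`-subgroup of an overgroup `U` of `N(A)` normalises a `U`-conjugate of `A` -/
theorem Sit.fix_two (h : Sit Ω) (hA : A ∈ Ω) (hU : N[A] ≤ U) (hT : IsPi {2} T) (hTU : T ≤ U) :
    ∃ g ∈ U, T ≤ N[cj g A] := by
  obtain ⟨S, hS, hAS⟩ := Sylow_superset Nat.prime_two (h.two hA) ((norm_self A).trans hU)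
  obtain ⟨g, hg, hle⟩ := Sylow_subJ Nat.prime_two hS hT hTU
  exact ⟨g, hg, hle.trans (norm_cj (h.norm_of_le hA hS.pi hAS) g)⟩

theorem cj_ax (g : G) (A B : Subgroup G) : cj g (ax A B) = ax (cj g A) (cj g B) := by
  unfold ax; rw [cj_inf, cj_N]

theorem cj_Wl (g : G) (A B : Subgroup G) : cj g (Wl A B) = Wl (cj g A) (cj g B) := by
  unfold Wl; rw [cj_sup, cj_ax, cj_ax]

theorem Wl_comm (A B : Subgroup G) : Wl A B = Wl B A := sup_comm _ _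

theorem Sit.adj_cj (h : Sit Ω) (hA : Adj Ω A B) (g : G) : Adj Ω (cj g A) (cj g B) :=
  ⟨h.cjm _ hA.l g, h.cjm _ hA.r g, fun e => hA.ne (cj_inj.1 e), by
    rw [← cj_ax]; exact fun e => hA.nb (cj_eq_bot.1 e)⟩

theorem Sit.top_cj (h : Sit Ω) (hA : Top Ω A B) (g : G) : Top Ω (cj g A) (cj g B) :=
  ⟨h.adj_cj hA.toAdj g, fun C D hC => by rw [← cj_ax, card_cj]; exact hA.max C D hC⟩

theorem Sit.a0_one (h : Sit Ω) (hA : A ∈ Ω) (hB : B ∈ Ω) (hne : A ≠ B) (hx : x ∈ A) (hx' : x ∈ B) :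
    x = 1 := by
  by_contra h1
  exact hne (h.eq_of_mem hA hB h1 hx hx')

theorem Sit.a0_IJ (h : Sit Ω) (hA : A ∈ Ω) (hB : B ∈ Ω) (hne : A ≠ B) (hi : i ∈ ax A B)
    (hj : j ∈ ax B A) : i * j = j * i := by
  have h1 : ⁅i, j⁆ ∈ A := by
    have := A.mul_mem hi.1 (conj_mem hj.2 (A.inv_mem hi.1))
    simpa [commutatorElement_def, mul_assoc] using this
  have h2 : ⁅i, j⁆ ∈ B := B.mul_mem (conj_mem hi.2 hj.1) (B.inv_mem hj.1)
  exact commutatorElement_eq_one_iff_mul_comm.1 (h.a0_one hA hB hne h1 h2)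

theorem Sit.a0_mem (h : Sit Ω) (hA : A ∈ Ω) (hB : B ∈ Ω) (ha : a ∈ A) (hj : j ∈ ax B A) :
    ⁅a, j⁆ ∈ ax A B := by
  have h1 : ⁅a, j⁆ ∈ A := by
    have := A.mul_mem ha (conj_mem hj.2 (A.inv_mem ha))
    simpa [commutatorElement_def, mul_assoc] using this
  refine ⟨h1, ?_⟩
  by_cases e : j = 1
  · subst e; simp
  refine h.C1_le hB hj.1 e (mem_C1.2 ?_)
  have ja := h.sq B hB j hj.1
  have aa := h.sq A hA a ha
  have c := h.comm hA ha (conj_mem hj.2 ha)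
  rw [commutatorElement_def, a0_inv ja, a0_inv aa]
  rw [a0_inv ja] at c
  calc a * j * a * j * j = a * j * a := by rw [mul_assoc _ j j, ja, mul_one]
    _ = (j * j) * a * j * a * (j * j) := by rw [ja]; group
    _ = j * (j * a * j * a) * j * j := by group
    _ = j * (a * (j * a * j)) * j * j := by rw [c]
    _ = j * (a * j * a * j) * (j * j) := by group
    _ = j * (a * j * a * j) := by rw [ja, mul_one]

theorem Sit.adj_symm (h : Sit Ω) (hA : Adj Ω A B) : Adj Ω B A := by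
  refine ⟨hA.r, hA.l, hA.ne.symm, ?_⟩
  obtain ⟨i, hi, i1⟩ := exists_ne_one hA.nb
  obtain ⟨b, hb, b1⟩ := exists_ne_one (h.ne B hA.r)
  by_cases e : ⁅b, i⁆ = 1
  · exact ne_bot_of_mem (x := b) ⟨hb, h.C1_le hA.l hi.1 i1
      (mem_C1.2 (commutatorElement_eq_one_iff_mul_comm.1 e))⟩ b1
  · exact ne_bot_of_mem (h.a0_mem hA.r hA.l hb hi) e

theorem Sit.adj_of_mem (h : Sit Ω) (hA : A ∈ Ω) (hB : B ∈ Ω) (hne : A ≠ B) (hd : d ∈ B) (h1 : d ≠ 1)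
    (hn : d ∈ N[A]) : Adj Ω A B :=
  h.adj_symm ⟨hB, hA, hne.symm, ne_bot_of_mem (x := d) ⟨hd, hn⟩ h1⟩

theorem Sit.exists_not_mem (h : Sit Ω) (hA : Adj Ω A B) : ∃ a ∈ A, a ∉ N[B] := by
  by_contra hn
  push Not at hn
  exact hA.ne (h.wc A hA.l B hA.r hn)

/-- `C_A(j)` is the axis -/
theorem Sit.cent_iff (h : Sit Ω) (hA : Adj Ω A B) (hj : j ∈ ax B A) (h1 : j ≠ 1) (ha : a ∈ A) :
    a * j = j * a ↔ a ∈ N[B] :=
  ⟨fun e => h.C1_le hA.r hj.1 h1 (mem_C1.2 e), fun e => h.a0_IJ hA.l hA.r hA.ne ⟨ha, e⟩ hj⟩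

theorem Sit.comm_mem (h : Sit Ω) (hA : Adj Ω A B) (ha : a ∈ A) (hj : j ∈ ax B A) :
    ⁅a, j⁆ ∈ ax A B := h.a0_mem hA.l hA.r ha hj

theorem Sit.comm_inj (h : Sit Ω) (hA : Adj Ω A B) (ha : a ∈ A) (hn : a ∉ N[B]) (hj : j ∈ ax B A)
    (hj' : j' ∈ ax B A) (e : ⁅a, j⁆ = ⁅a, j'⁆) : j = j' := by
  by_contra hne
  have h1 : j'⁻¹ * j ≠ 1 := fun e' => hne (by rw [inv_mul_eq_one] at e'; exact e'.symm)
  refine hn ((h.cent_iff hA ((ax B A).mul_mem ((ax B A).inv_mem hj') hj) h1 ha).1 ?_)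
  have e2 : j * a⁻¹ * j⁻¹ = j' * a⁻¹ * j'⁻¹ := by
    have := congrArg (fun z => a⁻¹ * z) e
    simpa [commutatorElement_def, mul_assoc] using this
  calc a * (j'⁻¹ * j) = j'⁻¹ * (j' * a⁻¹ * j'⁻¹)⁻¹ * j := by group
    _ = j'⁻¹ * (j * a⁻¹ * j⁻¹)⁻¹ * j := by rw [e2]
    _ = j'⁻¹ * j * a := by group

theorem Sit.a0_le (h : Sit Ω) (hA : Adj Ω A B) : ♯(ax B A) ≤ ♯(ax A B) := by
  obtain ⟨a, ha, hn⟩ := h.exists_not_mem hA
  refine Nat.card_le_card_of_injective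
    (fun j : ax B A => (⟨⁅a, j.1⁆, h.comm_mem hA ha j.2⟩ : ax A B)) fun j j' e => ?_
  exact Subtype.ext (h.comm_inj hA ha hn j.2 j'.2 (congrArg Subtype.val e))

theorem Sit.card_ax (h : Sit Ω) (hA : Adj Ω A B) : ♯(ax A B) = ♯(ax B A) :=
  le_antisymm (h.a0_le (h.adj_symm hA)) (h.a0_le hA)

theorem Sit.top_of_le (h : Sit Ω) (hA : Top Ω A B) (hC : Adj Ω C D) (hle : ♯(ax A B) ≤ ♯(ax C D)) :
    Top Ω C D := ⟨hC, fun P Q hP => (hA.max P Q hP).trans hle⟩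

theorem Sit.top_symm (h : Sit Ω) (hA : Top Ω A B) : Top Ω B A :=
  h.top_of_le hA (h.adj_symm hA.toAdj) (h.card_ax hA.toAdj).le

theorem Sit.exists_top (h : Sit Ω) (hA : Adj Ω C D) (hA' : A ∈ Ω) : ∃ B, Top Ω A B := by
  have : Nonempty {p : Subgroup G × Subgroup G // Adj Ω p.1 p.2} := ⟨⟨(C, D), hA⟩⟩
  obtain ⟨⟨⟨P, Q⟩, hP⟩, hm⟩ := Finite.exists_max
    (fun p : {p : Subgroup G × Subgroup G // Adj Ω p.1 p.2} => ♯(ax p.1.1 p.1.2))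
  have ht : Top Ω P Q := ⟨hP, fun C D hC => hm ⟨(C, D), hC⟩⟩
  obtain ⟨g, rfl⟩ := h.tr P hP.l A hA'
  exact ⟨_, h.top_cj ht g⟩

theorem Sit.comm_surj (h : Sit Ω) (hA : Adj Ω A B) (ha : a ∈ A) (hn : a ∉ N[B]) (hi : i ∈ ax A B) :
    ∃ j ∈ ax B A, ⁅a, j⁆ = i := by
  have hb : Function.Bijective
      (fun j : ax B A => (⟨⁅a, j.1⁆, h.comm_mem hA ha j.2⟩ : ax A B)) :=
    (Nat.bijective_iff_injective_and_card _).2 ⟨fun j j' e =>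
      Subtype.ext (h.comm_inj hA ha hn j.2 j'.2 (congrArg Subtype.val e)), (h.card_ax hA).symm⟩
  obtain ⟨j, e⟩ := hb.2 ⟨i, hi⟩
  exact ⟨j, j.2, congrArg Subtype.val e⟩

theorem Sit.a0_mul (h : Sit Ω) (hA : A ∈ Ω) (hj : j ∈ N[A]) (ha : a ∈ A) (ha' : a' ∈ A) :
    ⁅a * a', j⁆ = ⁅a, j⁆ * ⁅a', j⁆ := by
  have c := h.comm hA (conj_mem hj (A.inv_mem ha)) (A.mul_mem ha' (conj_mem hj (A.inv_mem ha')))
  calc ⁅a * a', j⁆ = a * (a' * (j * a'⁻¹ * j⁻¹) * (j * a⁻¹ * j⁻¹)) := by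
        rw [commutatorElement_def]; group
    _ = a * (j * a⁻¹ * j⁻¹ * (a' * (j * a'⁻¹ * j⁻¹))) := by rw [c]
    _ = ⁅a, j⁆ * ⁅a', j⁆ := by rw [commutatorElement_def, commutatorElement_def]; group

theorem Sit.card_le_sq (h : Sit Ω) (hA : Adj Ω A B) : ♯A ≤ ♯(ax A B) ^ 2 := by
  obtain ⟨j, hj, j1⟩ := exists_ne_one (h.adj_symm hA).nb
  let f : A →* G := MonoidHom.mk' (fun a => ⁅a.1, j⁆) fun a a' => h.a0_mul hA.l hj.2 a.2 a'.2
  have hk : f.ker = (ax A B).subgroupOf A := by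
    ext a
    rw [MonoidHom.mem_ker, mem_subgroupOf]
    change ⁅a.1, j⁆ = 1 ↔ _
    rw [commutatorElement_eq_one_iff_mul_comm, h.cent_iff hA hj j1 a.2]
    exact ⟨fun e => ⟨a.2, e⟩, fun e => e.2⟩
  have hr : f.range ≤ ax A B := by
    rintro _ ⟨a, rfl⟩
    exact h.comm_mem hA a.2 hj
  have h1 : (ax A B).relIndex A = ♯(f.range) := by
    rw [Subgroup.relIndex, ← hk, Subgroup.index_ker]
  have h2 := card_mul_relIndex (show ax A B ≤ A from inf_le_left)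
  rw [← h2, h1, pow_two]
  exact Nat.mul_le_mul_left _ (card_le hr)

theorem Sit.a0_JI (h : Sit Ω) (hA : Adj Ω A B) : ax B A ≤ N[ax A B] :=
  norm_of_cent (le_C_iff.2 fun j hj i hi => (h.a0_IJ hA.l hA.r hA.ne hi hj).symm)

theorem Sit.mem_Wl (h : Sit Ω) (hA : Adj Ω A B) :
    w ∈ Wl A B ↔ ∃ i ∈ ax A B, ∃ j ∈ ax B A, w = i * j := mem_sup_of_norm (h.a0_JI hA)

theorem Sit.sq_Wl (h : Sit Ω) (hA : Adj Ω A B) (hw : w ∈ Wl A B) : w * w = 1 := by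
  obtain ⟨i, hi, j, hj, rfl⟩ := (h.mem_Wl hA).1 hw
  have c := h.a0_IJ hA.l hA.r hA.ne hi hj
  calc i * j * (i * j) = i * (j * i) * j := by group
    _ = (i * i) * (j * j) := by rw [← c]; group
    _ = 1 := by rw [h.sq A hA.l i hi.1, h.sq B hA.r j hj.1, one_mul]

theorem Sit.card_Wl (h : Sit Ω) (hA : Adj Ω A B) : ♯(Wl A B) = ♯(ax A B) ^ 2 := by
  have hi : ax A B ⊓ ax B A = ⊥ :=
    eq_bot_of_le (h.ti A hA.l B hA.r hA.ne) (inf_le_inf inf_le_left inf_le_left)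
  rw [pow_two]
  conv_rhs => rw [h.card_ax hA]; arg 1; rw [← h.card_ax hA]
  exact card_sup_of_inf (h.a0_JI hA) hi

theorem Sit.inf_Wl (h : Sit Ω) (hA : Adj Ω A B) : A ⊓ Wl A B = ax A B := by
  refine le_antisymm ?_ (le_inf inf_le_left le_sup_left)
  rintro a ⟨ha, hw⟩
  obtain ⟨i, hi, j, hj, rfl⟩ := (h.mem_Wl hA).1 hw
  have : j = 1 := h.a0_one hA.l hA.r hA.ne ((A.mul_mem_cancel_left hi.1).1 ha) hj.1
  rw [this, mul_one]; exact hi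

theorem Sit.le_N_Wl (h : Sit Ω) (hA : Adj Ω A B) : A ≤ N[Wl A B] := by
  refine le_N_iff.2 fun a ha w hw => ?_
  obtain ⟨i, hi, j, hj, rfl⟩ := (h.mem_Wl hA).1 hw
  have e : a * (i * j) * a⁻¹ = (i * ⁅a, j⁆) * j := by
    rw [commutatorElement_def, ← mul_assoc a i, h.comm hA.l ha hi.1]; group
  rw [e]
  exact (h.mem_Wl hA).2 ⟨_, (ax A B).mul_mem hi (h.comm_mem hA ha hj), j, hj, rfl⟩

theorem Sit.cent_Wl (h : Sit Ω) (hA : Adj Ω A B) (ha : a ∈ A) (hn : a ∉ N[B]) (hw : w ∈ Wl A B)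
    (e : a * w = w * a) : w ∈ ax A B := by
  obtain ⟨i, hi, j, hj, rfl⟩ := (h.mem_Wl hA).1 hw
  by_cases j1 : j = 1
  · rw [j1, mul_one]; exact hi
  refine absurd ((h.cent_iff hA hj j1 ha).1 ?_) hn
  rw [← mul_assoc, h.comm hA.l ha hi.1, mul_assoc, mul_assoc] at e
  exact mul_left_cancel e

theorem Sit.on_Wl (h : Sit Ω) (hA : Adj Ω A B) : On Ω (Wl A B) A :=
  ⟨hA.l, h.le_N_Wl hA, by rw [h.inf_Wl hA]; exact hA.nb⟩

theorem Sit.a0_WN (h : Sit Ω) (hA : Adj Ω A B) (hC : On Ω (Wl A B) C) : Wl A B ≤ N[C] := by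
  obtain ⟨c, hc, c1⟩ := exists_ne_one hC.nb
  exact fun w hw => h.C1_le hC.mem hc.1 c1
    (mem_C1.2 (a0_comm (fun x hx => h.sq_Wl hA hx) hw hc.2))

theorem Sit.a0_on (h : Sit Ω) (hA : Adj Ω A B) (hC : On Ω (Wl A B) C) (hne : A ≠ C) :
    Adj Ω A C ∧ ax A C = ax A B ∧ Wl A C = Wl A B := by
  have hWC := h.a0_WN hA hC
  have hWA := h.a0_WN hA (h.on_Wl hA)
  obtain ⟨c0, hc0, c1⟩ := exists_ne_one hC.nb
  have e1 : ax A C = ax A B := by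
    refine le_antisymm ?_ (le_inf inf_le_left (le_sup_left.trans hWC))
    intro a ha
    refine ⟨ha.1, ?_⟩
    by_contra hn
    have := h.cent_Wl hA ha.1 hn hc0.2 (h.a0_IJ hA.l hC.mem hne ha ⟨hc0.1, hWA hc0.2⟩)
    exact hne (h.eq_of_mem hA.l hC.mem c1 this.1 hc0.1)
  have hAC : Adj Ω A C := ⟨hA.l, hC.mem, hne, e1 ▸ hA.nb⟩
  refine ⟨hAC, e1, eq_of_card_eq (sup_le (e1 ▸ le_sup_left) ?_) ?_⟩
  · obtain ⟨c, hc, hn⟩ := h.exists_not_mem (h.adj_symm hAC)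
    intro j hj
    obtain ⟨i, hi, rfl⟩ := h.comm_surj (h.adj_symm hAC) hc hn hj
    have hiW : i ∈ Wl A B := (le_sup_left : ax A B ≤ Wl A B) (e1 ▸ hi)
    exact (Wl A B).mul_mem (conj_mem (hC.le hc) hiW) ((Wl A B).inv_mem hiW)
  · rw [h.card_Wl hAC, h.card_Wl hA, e1]

theorem Sit.a0_on2 (h : Sit Ω) (hA : Adj Ω A B) (hP : On Ω (Wl A B) P) (hQ : On Ω (Wl A B) Q)
    (hne : P ≠ Q) : ax P Q = P ⊓ Wl A B ∧ Wl P Q = Wl A B := by
  by_cases e : A = P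
  · subst e
    obtain ⟨-, h1, h2⟩ := h.a0_on hA hQ hne
    exact ⟨h1.trans (h.inf_Wl hA).symm, h2⟩
  · obtain ⟨hAP, -, h2⟩ := h.a0_on hA hP e
    have hPA := h.adj_symm hAP
    rw [Wl_comm A P] at h2
    obtain ⟨-, h3, h4⟩ := h.a0_on hPA (h2 ▸ hQ) hne
    exact ⟨by rw [h3, ← h2, h.inf_Wl hPA], h4.trans h2⟩

theorem Sit.gl_Wl (h : Sit Ω) (hA : Adj Ω A B) : GLn Ω (Wl A B) :=
  ⟨fun _ hx => h.sq_Wl hA hx, fun _ _ hP hQ hne => (h.a0_on2 hA hP hQ hne).1⟩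

/-- two points of a line determine it -/
theorem Sit.Wl_eq (h : Sit Ω) (hA : Adj Ω A B) (hP : On Ω (Wl A B) P) (hQ : On Ω (Wl A B) Q)
    (hne : P ≠ Q) : Wl P Q = Wl A B := (h.a0_on2 hA hP hQ hne).2

/-- the `α`-lemma -/
theorem Sit.cent_of (h : Sit Ω) (hA : Adj Ω A B) (hxA : x ∈ N[A]) (hxB : x ∈ N[B])
    (hI : x ∈ C[ax A B]) (hq : ∀ a ∈ A, ⁅a, x⁆ ∈ ax A B) : x ∈ C[ax B A] := by
  refine mem_C.2 fun j hj => ?_
  obtain ⟨a, ha, hn⟩ := h.exists_not_mem hA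
  have hxJ : x ∈ N[ax B A] := norm_inf (X := N[A] ⊓ N[B]) inf_le_right (norm_N inf_le_left) ⟨hxA, hxB⟩
  have hj' : x⁻¹ * j * x ∈ ax B A := conj_mem' hxJ hj
  have aa := a0_inv (h.sq A hA.l a ha)
  have e1 : x * a * x⁻¹ = a * ⁅a, x⁆ := by
    rw [commutatorElement_def, aa, ← mul_assoc, ← mul_assoc, ← mul_assoc, h.sq A hA.l a ha, one_mul]
  have c := h.a0_IJ hA.l hA.r hA.ne (hq a ha) hj
  have e2 : ⁅a, x⁻¹ * j * x⁆ = ⁅a, j⁆ := by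
    calc ⁅a, x⁻¹ * j * x⁆ = x⁻¹ * ⁅x * a * x⁻¹, j⁆ * x := by
          rw [commutatorElement_def, commutatorElement_def]; group
      _ = x⁻¹ * (⁅a, j⁆ * x) := by
          rw [e1, h.a0_mul hA.l hj.2 ha (hq a ha).1, commutatorElement_eq_one_iff_mul_comm.2 c]; group
      _ = ⁅a, j⁆ := by rw [mem_C.1 hI _ (h.comm_mem hA ha hj)]; group
  have e3 := h.comm_inj hA ha hn hj' hj e2
  calc j * x = x * (x⁻¹ * j * x) := by group
    _ = x * j := by rw [e3]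

/-- an element normalising `A` and `B` whose action on `A` commutes with that of `j` centralises `j` -/
theorem Sit.comm_of (h : Sit Ω) (hA : Adj Ω A B) (hxA : x ∈ N[A]) (hxB : x ∈ N[B]) (hj : j ∈ ax B A)
    (e : ⁅x, j⁆ ∈ C[A]) : x * j = j * x := by
  have h2 : ⁅x, j⁆ ∈ B := B.mul_mem (conj_mem hxB hj.1) (B.inv_mem hj.1)
  exact commutatorElement_eq_one_iff_mul_comm.1
    (h.a0_one hA.l hA.r hA.ne (h.mem_of_cent hA.l hA.r h2 e) h2)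

theorem Sit.a0_CW (h : Sit Ω) (hA : Adj Ω A B) (ht : t ∈ C[Wl A B]) (ha : a ∈ A) :
    ⁅a, t⁆ ∈ ax A B := by
  obtain ⟨i, hi, i1⟩ := exists_ne_one hA.nb
  obtain ⟨j, hj, j1⟩ := exists_ne_one (h.adj_symm hA).nb
  have htA : t ∈ N[A] :=
    h.C1_le hA.l hi.1 i1 (C_le_C1 ((le_sup_left : ax A B ≤ Wl A B) hi) ht)
  have h1 : ⁅a, t⁆ ∈ A := by
    have := A.mul_mem ha (conj_mem htA (A.inv_mem ha))
    simpa [commutatorElement_def, mul_assoc] using this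
  have h2 : ⁅a, t⁆ ∈ C[Wl A B] :=
    (C[Wl A B]).mul_mem (conj_mem (norm_C (h.le_N_Wl hA) ha) ht) ((C[Wl A B]).inv_mem ht)
  exact ⟨h1, (h.cent_iff hA hj j1 h1).1
    (mem_C'.1 h2 j ((le_sup_right : ax B A ≤ Wl A B) hj))⟩

theorem Sit.comm_CW (h : Sit Ω) (hA : Adj Ω A B) (ht : t ∈ C[Wl A B]) (hx : x ∈ A ⊔ B) :
    ⁅x, t⁆ ∈ Wl A B := by
  let K : Subgroup G :=
    { carrier := {x | x ∈ N[Wl A B] ∧ ⁅x, t⁆ ∈ Wl A B}
      one_mem' := ⟨Subgroup.one_mem _, by simp⟩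
      mul_mem' := by
        rintro x y ⟨hx, hx'⟩ ⟨hy, hy'⟩
        refine ⟨Subgroup.mul_mem _ hx hy, ?_⟩
        have e : ⁅x * y, t⁆ = x * ⁅y, t⁆ * x⁻¹ * ⁅x, t⁆ := by
          simp only [commutatorElement_def]; group
        rw [e]; exact (Wl A B).mul_mem (conj_mem hx hy') hx'
      inv_mem' := by
        rintro x ⟨hx, hx'⟩
        refine ⟨Subgroup.inv_mem _ hx, ?_⟩
        have e : ⁅x⁻¹, t⁆ = x⁻¹ * ⁅x, t⁆⁻¹ * x := by
          simp only [commutatorElement_def]; group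
        rw [e]; exact conj_mem' hx ((Wl A B).inv_mem hx') }
  have hB := h.adj_symm hA
  have hK : A ⊔ B ≤ K := by
    refine sup_le (fun a ha => ⟨h.le_N_Wl hA ha, (le_sup_left : ax A B ≤ Wl A B) (h.a0_CW hA ht ha)⟩)
      fun b hb => ⟨?_, (le_sup_right : ax B A ≤ Wl A B) (h.a0_CW hB (Wl_comm A B ▸ ht) hb)⟩
    rw [Wl_comm]; exact h.le_N_Wl hB hb
  exact (hK hx).2

theorem Sit.inf_C (h : Sit Ω) (hA : A ∈ Ω) (hB : B ∈ Ω) (hne : A ≠ B) : A ⊓ C[B] = ⊥ :=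
  (Subgroup.eq_bot_iff_forall _).2 fun _ hx =>
    h.a0_one hA hB hne hx.1 (h.mem_of_cent hB hA hx.1 hx.2)

end H12.TI
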