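import Cfsg.Agent.H12.TIA
import Cfsg.Agent.H3.TA0
import Cfsg.Agent.H6.Dihedral

/-! # TI, block B: generalised lines (proved by helper26) -/

set_option autoImplicit false
set_option linter.unusedSectionVars false
set_option linter.unusedVariables false

namespace H12.TI

open Cfsg H24 Subgroup
open scoped commutatorElement

universe u

variable {G : Type u} [Group G] [Finite G] {Ω : Set (Subgroup G)}
  {A B C D F I P Q R S T U : Subgroup G} {a a' b c d d' g i j j' p r s t w x y ρ κ : G}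

theorem commSq (h : ∀ x ∈ F, x * x = 1) (hx : x ∈ F) (hy : y ∈ F) : x * y = y * x := by
  have e1 := H3.TA.inv_of_sq (h _ (F.mul_mem hx hy))
  rw [mul_inv_rev, H3.TA.inv_of_sq (h _ hx), H3.TA.inv_of_sq (h _ hy)] at e1
  exact e1.symm

theorem ablSq (h : ∀ x ∈ F, x * x = 1) : Abl F :=
  abl_iff.2 (le_C_iff.2 fun _ ha _ hb => commSq h ha hb)

theorem neOne (h : x ∉ F) : x ≠ 1 := fun e => h (e ▸ F.one_mem)

theorem memAx : x ∈ ax A B ↔ x ∈ A ∧ x ∈ N[B] := Subgroup.mem_inf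

theorem axLeW (A B : Subgroup G) : ax A B ≤ Wl A B := le_sup_left

theorem axLeW' (A B : Subgroup G) : ax B A ≤ Wl A B := le_sup_right

theorem Sit.notW (h : Sit Ω) (hA : Adj Ω A B) (ha : a ∈ A) (hn : a ∉ N[B]) : a ∉ Wl A B := by
  intro hw
  have : a ∈ A ⊓ Wl A B := mem_inf.2 ⟨ha, hw⟩
  rw [h.inf_Wl hA] at this
  exact hn (memAx.1 this).2

theorem Sit.notW' (h : Sit Ω) (hA : Adj Ω A B) (hb : b ∈ B) (hn : b ∉ N[A]) : b ∉ Wl A B := by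
  rw [Wl_comm]; exact h.notW (h.adj_symm hA) hb hn

theorem Sit.onW' (h : Sit Ω) (hA : Adj Ω A B) : On Ω (Wl A B) B := by
  rw [Wl_comm]; exact h.on_Wl (h.adj_symm hA)

theorem invMemN (e : x * ρ * x⁻¹ = ρ⁻¹) : x ∈ N[zpowers ρ] := by
  rw [mem_N_iff_cj, cj_zpowers, e, zpowers_inv]

theorem On.cj (h : Sit Ω) (hP : On Ω F P) (hg : g ∈ N[F]) : On Ω F (cj g P) := by
  refine ⟨h.cjm _ hP.mem g, cj_le_of_mem hP.le hg, ?_⟩
  intro e
  apply hP.nb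
  have : H24.cj g (P ⊓ F) = ⊥ := by rw [cj_inf, cj_of_mem_N hg, e]
  simpa using this

theorem GLn.le_N (h : Sit Ω) (hF : GLn Ω F) (hP : On Ω F P) : F ≤ N[P] := by
  obtain ⟨x, hx, h1⟩ := exists_ne_one hP.nb
  intro f hf
  exact h.C1_le hP.mem (mem_inf.1 hx).1 h1 (mem_C1.2 (commSq hF.sq hf (mem_inf.1 hx).2))

theorem GLn.adj (h : Sit Ω) (hF : GLn Ω F) (hP : On Ω F P) (hQ : On Ω F Q) (hne : P ≠ Q) :
    Adj Ω P Q := ⟨hP.mem, hQ.mem, hne, by rw [hF.ax_eq P Q hP hQ hne]; exact hP.nb⟩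

theorem GLn.Wl_le (h : Sit Ω) (hF : GLn Ω F) (hP : On Ω F P) (hQ : On Ω F Q) (hne : P ≠ Q) :
    Wl P Q ≤ F := by
  unfold Wl
  rw [hF.ax_eq P Q hP hQ hne, hF.ax_eq Q P hQ hP hne.symm]
  exact sup_le inf_le_right inf_le_right

theorem GLn.fix (h : Sit Ω) (hF : GLn Ω F) (hP : On Ω F P) (hQ : On Ω F Q) (hp : p ∈ P) (hn : p ∉ F)
    (hq : p ∈ N[Q]) : P = Q := by
  by_contra hne
  have : p ∈ ax P Q := memAx.2 ⟨hp, hq⟩
  rw [hF.ax_eq P Q hP hQ hne] at this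
  exact hn (mem_inf.1 this).2

/-- reflections of the dihedral group generated by two plain elements are plain -/
theorem reflOn (h : Sit Ω) (hP : On Ω F P) (hQ : On Ω F Q) (hp : p ∈ P) (hpF : p ∉ F)
    (hr : r ∈ Q) (hrF : r ∉ F) (m : ℕ) :
    ∃ R, On Ω F R ∧ (p * r) ^ m * p ∈ R ∧ (p * r) ^ m * p ∉ F := by
  obtain ⟨k, hk⟩ := H3.TA.dih_conj (h.sq _ hP.mem _ hp) (h.sq _ hQ.mem _ hr) m
  have hN : (p * r) ^ k ∈ N[F] := pow_mem (mul_mem (hP.le hp) (hQ.le hr)) k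
  rcases hk with hk | hk
  · exact ⟨_, hP.cj h hN, hk ▸ conj_mem_cj _ hp, by rw [hk, conj_mem_iff hN]; exact hpF⟩
  · exact ⟨_, hQ.cj h hN, hk ▸ conj_mem_cj _ hr, by rw [hk, conj_mem_iff hN]; exact hrF⟩

theorem Od.memN (hρ : Od Ω F ρ) : ρ ∈ N[F] := by
  obtain ⟨R, R', c, hc, c', hc', hR, hR', hne, hcF, hcF', rfl⟩ := hρ
  exact mul_mem (hR.le hc) (hR'.le hc')

theorem Od.odd (h : Sit Ω) (hF : GLn Ω F) (hρ : Od Ω F ρ) : Odd (orderOf ρ) ∧ ρ ≠ 1 := by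
  obtain ⟨R, R', c, hc, c', hc', hR, hR', hne, hcF, hcF', rfl⟩ := hρ
  have s1 := h.sq _ hR.mem _ hc
  have s2 := h.sq _ hR'.mem _ hc'
  constructor
  · by_contra hodd
    rw [Nat.not_odd_iff_even] at hodd
    obtain ⟨ho, k1, k2⟩ := H6.central_involution s1 s2 hodd
    set m := orderOf (c * c') / 2
    have key : ∀ {R R' : Subgroup G} {c c' : G}, On Ω F R → On Ω F R' → c ∈ R → c ∉ F → c' ∈ R' →
        c' ∉ F → (c * c') ^ m * c = c * (c * c') ^ m → (c * c') ^ m ∈ R := by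
      intro R R' c c' hR hR' hc hcF hc' hcF' e
      obtain ⟨R'', h1, h2, h3⟩ := reflOn h hR hR' hc hcF hc' hcF' m
      have hn : (c * c') ^ m * c ∈ N[R] :=
        mul_mem (h.C1_le hR.mem hc (neOne hcF) (mem_C1.2 e)) (norm_self R hc)
      have := hF.fix h h1 hR h2 h3 hn
      subst this
      exact (mul_mem_cancel_right hc).1 h2
    have t1 := key hR hR' hc hcF hc' hcF' k1.eq
    have tt := H6.mul_self_of_orderOf_two ho
    have e2 : (c' * c) ^ m = (c * c') ^ m := by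
      have : c' * c = (c * c')⁻¹ := by
        rw [mul_inv_rev, H3.TA.inv_of_sq s1, H3.TA.inv_of_sq s2]
      rw [this, inv_pow, H3.TA.inv_of_sq tt]
    have t2 := key hR' hR hc' hcF' hc hcF (by rw [e2]; exact k2.eq)
    rw [e2] at t2
    exact hne (h.eq_of_mem hR.mem hR'.mem (H6.ne_one_of_orderOf_two ho) t1 t2)
  · intro e
    have : c = c' := by rw [← H3.TA.inv_of_sq s2]; exact eq_inv_of_mul_eq_one_left e
    exact hne (h.eq_of_mem hR.mem hR'.mem (neOne hcF) hc (this ▸ hc'))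

theorem oddSq (ho : Odd (orderOf x)) (e : x * x = 1) : x = 1 := by
  have h2 : orderOf x ∣ 2 := orderOf_dvd_of_pow_eq_one (by rw [pow_two, e])
  rcases (Nat.dvd_prime Nat.prime_two).1 h2 with h | h
  · exact orderOf_eq_one_iff.1 h
  · rw [h] at ho; exact absurd ho (by decide)

theorem Od.pow (h : Sit Ω) (hF : GLn Ω F) (hρ : Od Ω F ρ) {k : ℕ} (h1 : ρ ^ k ≠ 1) :
    Od Ω F (ρ ^ k) := by
  have ho := (hρ.odd h hF).1
  obtain ⟨R, R', c, hc, c', hc', hR, hR', hne, hcF, hcF', rfl⟩ := hρ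
  obtain ⟨R'', h2, h3, h4⟩ := reflOn h hR hR' hc hcF hc' hcF' k
  refine ⟨R'', R, _, h3, c, hc, h2, hR, ?_, h4, hcF, (H3.TA.mm' (h.sq _ hR.mem _ hc) _).symm⟩
  rintro rfl
  have hm : (c * c') ^ k ∈ R'' := (mul_mem_cancel_right hc).1 h3
  exact h1 (oddSq (ho.of_dvd_nat (orderOf_pow_dvd k)) (h.sq _ hR.mem _ hm))

/-- an element of odd order fixing a coset of an elementary abelian `2`-group fixes an element of it -/
theorem fixCoset (hs : ∀ x ∈ P, x * x = 1) (ho : Odd (orderOf ρ)) (hn : ρ ∈ N[P])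
    (hF : ρ ∈ N[F]) (hp : p ∈ P) (e : ρ * p * ρ⁻¹ * p ∈ F) :
    ∃ q ∈ P, q * p ∈ F ∧ ρ * q = q * ρ := by
  have key : ∀ k : ℕ, ((p * ρ) ^ k * (ρ ^ k)⁻¹ ∈ P) ∧
      (Even k → (p * ρ) ^ k * (ρ ^ k)⁻¹ ∈ F) ∧ (Odd k → (p * ρ) ^ k * (ρ ^ k)⁻¹ * p ∈ F) := by
    intro k
    induction k with
    | zero => simp
    | succ k ih =>
      obtain ⟨i1, i2, i3⟩ := ih
      set v := (p * ρ) ^ k * (ρ ^ k)⁻¹ with hv
      have e1 : (p * ρ) ^ (k + 1) * (ρ ^ (k + 1))⁻¹ = p * (ρ * v * ρ⁻¹) := by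
        rw [hv, pow_succ' (p * ρ), pow_succ' ρ]; group
      have m1 : ρ * v * ρ⁻¹ ∈ P := conj_mem hn i1
      have m2 : ρ * p * ρ⁻¹ ∈ P := conj_mem hn hp
      rw [e1]
      refine ⟨mul_mem hp m1, fun hk => ?_, fun hk => ?_⟩
      · have hk' : Odd k := by
          rw [Nat.even_add_one, Nat.not_even_iff_odd] at hk; exact hk
        have : p * (ρ * v * ρ⁻¹) = ρ * (v * p) * ρ⁻¹ * (ρ * p * ρ⁻¹ * p) := by
          rw [commSq hs hp m1, H3.TA.cj_mul' ρ v p, mul_assoc (ρ * v * ρ⁻¹),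
            ← mul_assoc (ρ * p * ρ⁻¹), hs _ m2, one_mul]
        rw [this]
        exact mul_mem (conj_mem hF (i3 hk')) e
      · have hk' : Even k := by
          rw [Nat.odd_add_one, Nat.not_odd_iff_even] at hk; exact hk
        rw [commSq hs hp m1, H3.TA.mm' (hs _ hp)]
        exact conj_mem hF (i2 hk')
  obtain ⟨k1, -, k3⟩ := key (orderOf ρ)
  have k4 := k3 ho
  rw [pow_orderOf_eq_one, inv_one, mul_one] at k1 k4
  refine ⟨_, k1, k4, ?_⟩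
  set q := (p * ρ) ^ orderOf ρ with hq
  have c1 : p * ρ * q = q * (p * ρ) := ((Commute.refl (p * ρ)).pow_right _).eq
  have c2 : p * q = q * p := commSq hs hp k1
  apply mul_left_cancel (a := p)
  rw [← mul_assoc, c1, ← mul_assoc, ← mul_assoc, c2]

theorem invPair (s1 : c * c = 1) (s2 : d * d = 1) : c * (c * d) * c⁻¹ = (c * d)⁻¹ :=
  H6.conj_mul_left s1 s2

/-- no fixed coset -/
theorem Od.nofix (h : Sit Ω) (hF : GLn Ω F) (hρ : Od Ω F ρ) (hP : On Ω F P) (hn : ρ ∈ N[P])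
    (hp : p ∈ P) (hpF : p ∉ F) : ρ * p * ρ⁻¹ * p ∉ F := by
  intro e
  obtain ⟨q, hq, hqp, hc⟩ :=
    fixCoset (h.sq _ hP.mem) (hρ.odd h hF).1 hn hρ.memN hp e
  have hqF : q ∉ F := fun hh => hpF ((mul_mem_cancel_left hh).1 hqp)
  obtain ⟨R, R', c, hc0, c', hc', hR, hR', hne, hcF, hcF', hρe⟩ := hρ
  have s1 := h.sq _ hR.mem _ hc0
  have s2 := h.sq _ hR'.mem _ hc'
  have pres : ∀ x, x ∈ N[F] → x ∈ N[zpowers ρ] → ∀ D ∈ {D | On Ω F D ∧ zpowers ρ ≤ N[D]},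
      cj x D ∈ {D | On Ω F D ∧ zpowers ρ ≤ N[D]} := by
    rintro x hx1 hx2 D ⟨hD1, hD2⟩
    refine ⟨hD1.cj h hx1, ?_⟩
    have := norm_cj hD2 x
    rwa [cj_of_mem_N hx2] at this
  have n1 : zpowers q ≤ N[F] ⊓ N[zpowers ρ] := by
    rw [zpowers_le]
    exact mem_inf.2 ⟨hP.le hq, norm_zpowers_of_cent (X := C{ρ}) le_rfl (mem_C1.2 hc.symm)⟩
  have n2 : zpowers c ≤ N[F] ⊓ N[zpowers ρ] := by
    rw [zpowers_le]
    exact mem_inf.2 ⟨hR.le hc0, invMemN (by rw [hρe]; exact invPair s1 s2)⟩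
  obtain ⟨D, ⟨hD1, hD2⟩, hD3⟩ := H3.TA.exists_fix_of_unique
    (S := {D | On Ω F D ∧ zpowers ρ ≤ N[D]}) (A := P)
    (H3.TA.zp_two (h.sq _ hP.mem _ hq)) (H3.TA.zp_two s1)
    (fun x hx => pres x (mem_inf.1 (n1 hx)).1 (mem_inf.1 (n1 hx)).2)
    (fun x hx => pres x (mem_inf.1 (n2 hx)).1 (mem_inf.1 (n2 hx)).2)
    ⟨hP, zpowers_le.2 hn⟩ (zpowers_le.2 (norm_self P hq))
    (fun D hD hD' => (hF.fix h hP hD.1 hq hqF (zpowers_le.1 hD')).symm)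
  have e1 := hF.fix h hR hD1 hc0 hcF (zpowers_le.1 hD3)
  subst e1
  have : c' ∈ N[R] := by
    have h1 := mul_mem (norm_self R hc0) (zpowers_le.1 hD2)
    rwa [hρe, H3.TA.mm s1] at h1
  exact hne (hF.fix h hR' hR hc' hcF' this).symm

theorem Od.fpf (h : Sit Ω) (hA : Adj Ω A B) (hρ : Od Ω (Wl A B) ρ) (hw : w ∈ Wl A B)
    (e : ρ * w = w * ρ) : w = 1 := by
  by_contra h1
  have hF := h.gl_Wl hA
  obtain ⟨R, R', c, hc0, c', hc', hR, hR', hne, hcF, hcF', hρe⟩ := hρ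
  have s1 := h.sq _ hR.mem _ hc0
  have s2 := h.sq _ hR'.mem _ hc'
  have hE : ∀ x ∈ Wl A B ⊓ C{ρ}, x * x = 1 := fun x hx => hF.sq _ (mem_inf.1 hx).1
  have hcN : c ∈ N[Wl A B ⊓ C{ρ}] := by
    have n2 : c ∈ N[zpowers ρ] := invMemN (by rw [hρe]; exact invPair s1 s2)
    have n3 : c ∈ N[C{ρ}] := by rw [← C_zpowers]; exact N_le_NC _ n2
    exact zpowers_le.1 (norm_inf (zpowers_le.2 (hR.le hc0)) (zpowers_le.2 n3))
  obtain ⟨y, hy, hy1, hyc⟩ := H3.TA.exists_fix (ablSq hE) hE hcN (by rw [s1]; exact one_mem _)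
    (mem_inf.2 ⟨hw, mem_C1.2 e.symm⟩) h1
  have hyW := (mem_inf.1 hy).1
  have hyρ : y * ρ = ρ * y := mem_C1.1 (mem_inf.1 hy).2
  have hyc' : c' * y = y * c' := by
    have : c' = c * ρ := by rw [hρe, H3.TA.mm s1]
    rw [this, mul_assoc, ← hyρ, ← mul_assoc, hyc, mul_assoc]
  have a1 := hF.adj h hR hR' hne
  have m1 := h.cent_Wl a1 hc0 (fun hh => hne (hF.fix h hR hR' hc0 hcF hh))
    (by rw [h.Wl_eq hA hR hR' hne]; exact hyW) hyc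
  have m2 := h.cent_Wl (h.adj_symm a1) hc' (fun hh => hne (hF.fix h hR' hR hc' hcF' hh).symm)
    (by rw [h.Wl_eq hA hR' hR hne.symm]; exact hyW) hyc'
  exact hne (h.eq_of_mem hR.mem hR'.mem hy1 (memAx.1 m1).1 (memAx.1 m2).1)

/-- swaps -/
theorem GLn.swap (h : Sit Ω) (hF : GLn Ω F) (hP : On Ω F P) (hQ : On Ω F Q) (hne : P ≠ Q)
    (hp : p ∈ P) (hpF : p ∉ F) (hr : r ∈ Q) (hrF : r ∉ F) :
    ∃ R, On Ω F R ∧ ∃ s ∈ R, s ∉ F ∧ s ∈ closure {p, r} ∧ s * p * s⁻¹ = r ∧ cj s P = Q ∧ cj s Q = P ∧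
      ∀ y : G, (y * p * y⁻¹ = p ∧ y * r * y⁻¹ = r) ∨ (y * p * y⁻¹ = r ∧ y * r * y⁻¹ = p) →
        y * s = s * y := by
  have hρ : Od Ω F (p * r) := ⟨P, Q, p, hp, r, hr, hP, hQ, hne, hpF, hrF, rfl⟩
  obtain ⟨e, he⟩ := (hρ.odd h hF).1
  obtain ⟨R, hR, h1, h2⟩ := reflOn h hP hQ hp hpF hr hrF e
  have s1 := h.sq _ hP.mem _ hp
  have s2 := h.sq _ hQ.mem _ hr
  have ss := h.sq _ hR.mem _ h1
  set ρ := p * r with hρe
  have o1 : ρ ^ e * ρ ^ e * ρ = 1 := by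
    rw [← pow_add, ← pow_succ, ← two_mul, ← he, pow_orderOf_eq_one]
  have i1 : p * ρ ^ e * p⁻¹ = (ρ ^ e)⁻¹ := H3.TA.dih_refl s1 s2 e
  have i2 : r = ρ⁻¹ * p := by
    rw [hρe, mul_inv_rev, H3.TA.inv_of_sq s1, H3.TA.inv_of_sq s2, H3.TA.mm' s1]
  have i3 : ρ⁻¹ = ρ ^ e * ρ ^ e := (eq_inv_of_mul_eq_one_left o1).symm
  have c1 : ρ ^ e * p * p * (ρ ^ e * p)⁻¹ = r := by
    calc ρ ^ e * p * p * (ρ ^ e * p)⁻¹ = ρ ^ e * (p * ρ ^ e * p⁻¹)⁻¹ * p := by group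
      _ = ρ ^ e * ρ ^ e * p := by rw [i1, inv_inv]
      _ = r := by rw [← i3, ← i2]
  have c2 : cj (ρ ^ e * p) P = Q :=
    h.eq_of_mem (h.cjm _ hP.mem _) hQ.mem (neOne hrF) (c1 ▸ conj_mem_cj _ hp) hr
  have mp : p ∈ closure ({p, r} : Set G) := subset_closure (by simp)
  have mr : r ∈ closure ({p, r} : Set G) := subset_closure (by simp)
  refine ⟨R, hR, _, h1, h2, mul_mem (pow_mem (mul_mem mp mr) e) mp, c1, c2, ?_, ?_⟩
  · rw [← c2, ← cj_mul, ss, cj_one]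
  · rintro y (⟨y1, y2⟩ | ⟨y1, y2⟩)
    · apply H3.TA.comm_of_cj
      have : y * ρ * y⁻¹ = ρ := by rw [hρe, H3.TA.cj_mul', y1, y2]
      rw [H3.TA.cj_mul', ← conj_pow, this, y1]
    · apply H3.TA.comm_of_cj
      have : y * ρ * y⁻¹ = ρ⁻¹ := by
        rw [hρe, H3.TA.cj_mul', y1, y2, mul_inv_rev, H3.TA.inv_of_sq s1, H3.TA.inv_of_sq s2]
      rw [H3.TA.cj_mul', ← conj_pow, this, y1, inv_pow]
      conv_lhs => rw [i2, i3]
      group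

/-- the covering lemma -/
theorem GLn.cover (h : Sit Ω) (hF : GLn Ω F) (hy : y ∈ N[F]) (h2 : y * y = 1) (hP : On Ω F P)
    (hn : y ∉ N[P]) (hp : p ∈ P) (hpF : p ∉ F) :
    ∃ R, On Ω F R ∧ ∃ s ∈ R, s ∉ F ∧ s ∈ closure {p, y * p * y⁻¹} ∧ y * s = s * y ∧
      y * s * p = p * (y * s) := by
  obtain ⟨R, hR, s, h3, h4, h5, h6, -, -, h7⟩ := hF.swap h hP (hP.cj h hy)
    (fun e => hn (mem_N_iff_cj.2 e.symm)) hp hpF (conj_mem_cj y hp)
    (by rw [conj_mem_iff hy]; exact hpF)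
  have e1 : y * (y * p * y⁻¹) * y⁻¹ = p := by
    calc y * (y * p * y⁻¹) * y⁻¹ = (y * y) * p * (y * y)⁻¹ := by group
      _ = p := by rw [h2]; group
  refine ⟨R, hR, s, h3, h4, h5, h7 y (Or.inr ⟨rfl, e1⟩), ?_⟩
  apply H3.TA.comm_of_cj
  calc y * s * p * (y * s)⁻¹ = y * (s * p * s⁻¹) * y⁻¹ := by group
    _ = p := by rw [h6, e1]

theorem pairLe (ha : a ∈ A) (hb : b ∈ B) : closure {a, b} ≤ A ⊔ B := by
  rw [closure_le]
  rintro x (rfl | rfl)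
  · exact mem_sup_left ha
  · exact mem_sup_right hb

theorem Sit.exists_h (h : Sit Ω) (hA : Adj Ω A B) (ha : a ∈ A) (hn : a ∉ N[B]) (ha' : a' ∈ A)
    (hn' : a' ∉ N[B]) : ∃ g ∈ A ⊔ B, g ∈ N[A] ∧ g ∈ N[B] ∧ g * a * g⁻¹ = a' ∧
      (a * a' ∉ N[B] → Od Ω (Wl A B) g) := by
  obtain ⟨b, hb, hbn⟩ := h.exists_not_mem (h.adj_symm hA)
  have hF := h.gl_Wl hA
  have oA := h.on_Wl hA
  have oB := h.onW' hA
  obtain ⟨R1, hR1, s1, a1, a2, a3, a4, a5, a6, -⟩ := hF.swap h oA oB hA.ne ha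
    (h.notW hA ha hn) hb (h.notW' hA hb hbn)
  obtain ⟨R2, hR2, s2, b1, b2, b3, b4, b5, b6, -⟩ := hF.swap h oA oB hA.ne ha'
    (h.notW hA ha' hn') hb (h.notW' hA hb hbn)
  have ss := h.sq _ hR2.mem _ b1
  have nA : s2 * s1 ∈ N[A] := by rw [mem_N_iff_cj, cj_mul, a5, b6]
  have eg : s2 * s1 * a * (s2 * s1)⁻¹ = a' := by
    calc s2 * s1 * a * (s2 * s1)⁻¹ = s2 * (s1 * a * s1⁻¹) * s2⁻¹ := by group
      _ = (s2 * s2) * a' * (s2 * s2)⁻¹ := by rw [a4, ← b4]; group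
      _ = a' := by rw [ss]; group
  refine ⟨s2 * s1, mul_mem (pairLe ha' hb b3) (pairLe ha hb a3), nA,
    by rw [mem_N_iff_cj, cj_mul, a6, b5], eg, fun hh => ?_⟩
  refine ⟨R2, R1, s2, b1, s1, a1, hR2, hR1, ?_, b2, a2, rfl⟩
  rintro rfl
  have hW : s2 * s1 ∈ Wl A B := by
    by_contra hW
    have := hF.fix h hR2 oA (mul_mem b1 a1) hW nA
    subst this
    exact hA.ne (by rw [← a5, cj_of_mem a1])
  apply hh
  have m1 : a * a' ∈ A ⊓ Wl A B := by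
    refine mem_inf.2 ⟨mul_mem ha ha', ?_⟩
    have : a * a' = a * (s2 * s1) * a⁻¹ * (s2 * s1)⁻¹ := by
      rw [← eg, H3.TA.inv_of_sq (h.sq _ hA.l _ ha)]; group
    rw [this]
    exact mul_mem (conj_mem (oA.le ha) hW) (inv_mem hW)
  rw [h.inf_Wl hA] at m1
  exact (memAx.1 m1).2

/-- an odd fixed-point-free element fixes exactly one element of each coset of `W` in `C(W)` -/
theorem Sit.dec (h : Sit Ω) (hA : Adj Ω A B) (ha : a ∈ A) (hn : a ∉ N[B]) (hb : b ∈ B)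
    (hn' : b ∉ N[A]) (ht : t ∈ C[Wl A B]) :
    ∃ w ∈ Wl A B, ∃ c, c * a = a * c ∧ c * b = b * c ∧ t = w * c := by
  have hF := h.gl_Wl hA
  have hρ : Od Ω (Wl A B) (a * b) := ⟨A, B, a, ha, b, hb, h.on_Wl hA, h.onW' hA, hA.ne,
    h.notW hA ha hn, h.notW' hA hb hn', rfl⟩
  have s1 := h.sq _ hA.l _ ha
  have s2 := h.sq _ hA.r _ hb
  have iv : a * (a * b) * a⁻¹ = (a * b)⁻¹ := invPair s1 s2
  have eb : b = a * (a * b) := (H3.TA.mm s1 b).symm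
  have hX : a * b ∈ A ⊔ B := mul_mem (mem_sup_left ha) (mem_sup_right hb)
  set ρ := a * b
  obtain ⟨w, hw, e⟩ := H3.TA.surj_of_inj (A := Wl A B) (B := Wl A B) (f := fun w => ⁅ρ, w⁆) le_rfl
    (fun x hx => by
      rw [commutatorElement_def]; exact mul_mem (conj_mem hρ.memN hx) (inv_mem hx))
    (fun x hx y hy e => by
      have : y⁻¹ * x = 1 := by
        apply hρ.fpf h hA (mul_mem (inv_mem hy) hx)
        apply H3.TA.comm_of_cj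
        simp only [commutatorElement_def] at e
        calc ρ * (y⁻¹ * x) * ρ⁻¹ = (ρ * y * ρ⁻¹)⁻¹ * (ρ * x * ρ⁻¹ * x⁻¹) * x := by group
          _ = y⁻¹ * x := by rw [e]; group
      exact (inv_mul_eq_one.1 this).symm)
    (h.comm_CW hA ht hX)
  simp only [commutatorElement_def] at e
  have c1 : ρ * (w⁻¹ * t) * ρ⁻¹ = w⁻¹ * t := by
    calc ρ * (w⁻¹ * t) * ρ⁻¹ = (ρ * w * ρ⁻¹)⁻¹ * (ρ * t * ρ⁻¹ * t⁻¹) * t := by group
      _ = w⁻¹ * t := by rw [← e]; group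
  have cC : w⁻¹ * t ∈ C[Wl A B] := mul_mem (inv_mem ((ablSq hF.sq).le_C hw)) ht
  set c := w⁻¹ * t with hc
  have c2 : ⁅a, c⁆ = 1 := by
    apply hρ.fpf h hA (h.comm_CW hA cC (mem_sup_left ha))
    apply H3.TA.comm_of_cj
    have c3 : ρ⁻¹ * c * ρ = c := by
      conv_lhs => rw [← c1]
      group
    have iv' : a⁻¹ * ρ * a = ρ⁻¹ := by
      rw [← iv, H3.TA.inv_of_sq s1]
    rw [commutatorElement_def]
    calc ρ * (a * c * a⁻¹ * c⁻¹) * ρ⁻¹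
        = a * ((a⁻¹ * ρ * a) * c * (a⁻¹ * ρ * a)⁻¹) * a⁻¹ * (ρ * c * ρ⁻¹)⁻¹ := by group
      _ = a * c * a⁻¹ * c⁻¹ := by rw [iv', inv_inv, c3, c1]
  have c4 : a * c = c * a := (commutatorElement_eq_one_iff_mul_comm).1 c2
  refine ⟨w, hw, c, c4.symm, ?_, by rw [hc]; group⟩
  have c5 := H3.TA.comm_of_cj c1
  clear_value ρ c
  rw [eb, ← mul_assoc, ← c4, mul_assoc, ← c5, mul_assoc]

/-- `C(A W) = I × C(X)` -/
theorem Sit.CK (h : Sit Ω) (hA : Adj Ω A B) (hκ : κ ∈ C[A]) (hj : j ∈ ax B A) (h1 : j ≠ 1)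
    (e : κ * j = j * κ) : ∃ i ∈ ax A B, ∃ c ∈ C[A ⊔ B], κ = i * c := by
  have nB : κ ∈ N[B] := h.C1_le hA.r (memAx.1 hj).1 h1 (mem_C1.2 e)
  have cI : κ ∈ C[ax A B] := C_anti inf_le_left hκ
  have cJ := h.cent_of hA (C_le_N A hκ) nB cI (fun a ha => by
    rw [(commutatorElement_eq_one_iff_mul_comm).2 (mem_C.1 hκ a ha)]; exact one_mem _)
  have cW : κ ∈ C[Wl A B] := by unfold Wl; rw [C_sup]; exact mem_inf.2 ⟨cI, cJ⟩
  obtain ⟨a, ha, hn⟩ := h.exists_not_mem hA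
  obtain ⟨b, hb, hn'⟩ := h.exists_not_mem (h.adj_symm hA)
  obtain ⟨w, hw, c, c1, c2, rfl⟩ := h.dec hA ha hn hb hn' cW
  have hwI : w ∈ ax A B := by
    apply h.cent_Wl hA ha hn hw
    have := mem_C.1 hκ a ha
    apply mul_right_cancel (b := c)
    rw [mul_assoc, this, mul_assoc, mul_assoc, c1]
  have cA : c ∈ C[A] := by
    have : w ∈ C[A] := mem_C'.2 fun x hx => h.comm hA.l (memAx.1 hwI).1 hx
    exact (mul_mem_cancel_left this).1 hκ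
  obtain ⟨R, -, s, -, -, -, -, a5, -, a7⟩ := (h.gl_Wl hA).swap h (h.on_Wl hA) (h.onW' hA) hA.ne ha
    (h.notW hA ha hn) hb (h.notW' hA hb hn')
  have cs := a7 c (Or.inl ⟨H3.TA.cj_of_comm c1, H3.TA.cj_of_comm c2⟩)
  refine ⟨w, hwI, c, ?_, rfl⟩
  rw [C_sup]
  refine mem_inf.2 ⟨cA, ?_⟩
  rw [← a5, ← cj_C, ← H3.TA.cj_of_comm cs.symm]
  exact conj_mem_cj s cA

theorem Sit.inv_le (h : Sit Ω) (hA : Adj Ω A B) (hU : U ≤ A) (hne : U ≠ A) (hn : N[A] ≤ N[U]) :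
    U ≤ N[B] := by
  intro v hv
  by_contra hvn
  apply hne
  apply le_antisymm hU
  have key : ∀ a ∈ A, a ∉ N[B] → a ∈ U := fun a ha han => by
    obtain ⟨g, -, g1, -, g3, -⟩ := h.exists_h hA (hU hv) hvn ha han
    rw [← g3]
    exact conj_mem (hn g1) hv
  intro a ha
  by_cases han : a ∈ N[B]
  · have := key (a * v) (mul_mem ha (hU hv)) (fun hh => hvn ((mul_mem_cancel_left han).1 hh))
    exact (mul_mem_cancel_right hv).1 this
  · exact key a ha han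

theorem memRad : x ∈ rad Ω A ↔ x ∈ A ∧ ∀ B, Top Ω A B → x ∈ N[B] := by
  simp [rad, Subgroup.mem_iInf]

theorem cjRadLe (h : Sit Ω) (g : G) (A : Subgroup G) : cj g (rad Ω A) ≤ rad Ω (cj g A) := by
  intro x hx
  rw [mem_cj, memRad] at hx
  refine memRad.2 ⟨mem_cj.2 hx.1, fun B hB => ?_⟩
  have h1 := h.top_cj hB g⁻¹
  rw [cj_inv_cj] at h1
  have h2 := hx.2 _ h1
  rw [← cj_N, mem_cj] at h2
  simpa [mul_assoc] using h2

theorem cj_rad (h : Sit Ω) (g : G) (A : Subgroup G) : cj g (rad Ω A) = rad Ω (cj g A) := by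
  apply le_antisymm (cjRadLe h g A)
  rw [le_cj_iff]
  have := cjRadLe h g⁻¹ (cj g A)
  rwa [cj_inv_cj] at this

theorem radLe (A : Subgroup G) : rad Ω A ≤ A := inf_le_left

theorem Sit.rad_le (h : Sit Ω) (hA : Adj Ω A B) : rad Ω A ≤ N[B] := by
  apply h.inv_le hA (radLe A)
  · obtain ⟨B', hB'⟩ := h.exists_top hA hA.l
    obtain ⟨a, ha, hn⟩ := h.exists_not_mem hB'.toAdj
    intro e
    rw [← e] at ha
    exact hn ((memRad.1 ha).2 _ hB')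
  · intro g hg
    rw [mem_N_iff_cj, cj_rad h, cj_of_mem_N hg]

/-- `UA` -/
theorem Sit.all_adj (h : Sit Ω) (φ : Subgroup G → Subgroup G)
    (hφ : ∀ P ∈ Ω, ∀ g : G, φ (cj g P) = cj g (φ P)) (h1 : ∀ P ∈ Ω, φ P ≠ ⊥) (h2 : ∀ P ∈ Ω, φ P < P)
    (h3 : ∀ P Q, Adj Ω P Q → ax P Q ≤ φ P) (hA : A ∈ Ω) (hB : B ∈ Ω) (hne : A ≠ B) :
    Adj Ω A B := by
  obtain ⟨i, hi, hi1⟩ := exists_ne_one (h1 A hA)
  obtain ⟨b, hb, hbn⟩ := SetLike.exists_of_lt (h2 B hB)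
  have hiA : i ∈ A := (h2 A hA).le hi
  have hb1 : b ≠ 1 := neOne hbn
  have s1 := h.sq _ hA _ hiA
  have s2 := h.sq _ hB _ hb
  have plain : ∀ g : G, ∀ Q ∈ Ω, g * b * g⁻¹ ∈ N[Q] → g * b * g⁻¹ ∈ Q := by
    intro g Q hQ hn
    by_cases e : Q = cj g B
    · rw [e]; exact conj_mem_cj g hb
    · exfalso
      have a1 := h.adj_symm (h.adj_of_mem hQ (h.cjm _ hB g) e (conj_mem_cj g hb)
        (H3.TA.cj_ne g hb1) hn)
      have := h3 _ _ a1 (memAx.2 ⟨conj_mem_cj g hb, hn⟩)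
      rw [hφ B hB, conj_mem_cj_iff] at this
      exact hbn this
  have ncj : ∀ g : G, g * i * g⁻¹ ≠ b := by
    intro g e
    have e1 := h.eq_of_mem (h.cjm _ hA g) hB hb1 (e ▸ conj_mem_cj g hiA) hb
    apply hbn
    rw [← e1, hφ A hA, ← e]
    exact conj_mem_cj g hi
  have hev : Even (orderOf (i * b)) := by
    by_contra hodd
    obtain ⟨d, -, hd⟩ := H6.exists_conj_of_odd s1 s2 (Nat.not_even_iff_odd.1 hodd)
    exact ncj d hd
  obtain ⟨ho, k1, k2⟩ := H6.central_involution s1 s2 hev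
  set m := orderOf (i * b) / 2
  have tt := H6.mul_self_of_orderOf_two ho
  have t1 := H6.ne_one_of_orderOf_two ho
  have e2 : (b * i) ^ m = (i * b) ^ m := by
    have : b * i = (i * b)⁻¹ := by
      rw [mul_inv_rev, H3.TA.inv_of_sq s1, H3.TA.inv_of_sq s2]
    rw [this, inv_pow, H3.TA.inv_of_sq tt]
  obtain ⟨k, hk⟩ := H3.TA.dih_conj s1 s2 m
  obtain ⟨l, hl⟩ := H3.TA.dih_conj s2 s1 m
  rw [e2] at hl
  have cl : (b * i) ^ l * (i * b) ^ m = (i * b) ^ m * (b * i) ^ l :=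
    ((k2.mul_right k1).pow_right l).eq.symm
  set t := (i * b) ^ m
  have nA : t ∈ N[A] := h.C1_le hA hiA hi1 (mem_C1.2 k1.eq)
  have nB : t ∈ N[B] := h.C1_le hB hb hb1 (mem_C1.2 k2.eq)
  rcases hk with hk | hk
  · rcases hl with hl | hl
    · have := plain _ B hB (hl ▸ mul_mem nB (norm_self B hb))
      rw [← hl] at this
      exact h.adj_of_mem hA hB hne ((mul_mem_cancel_right hb).1 this) t1 nA
    · exfalso
      apply ncj ((b * i) ^ l * (i * b) ^ k)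
      calc (b * i) ^ l * (i * b) ^ k * i * ((b * i) ^ l * (i * b) ^ k)⁻¹
          = (b * i) ^ l * ((i * b) ^ k * i * ((i * b) ^ k)⁻¹) * ((b * i) ^ l)⁻¹ := by group
        _ = t * ((b * i) ^ l * i * ((b * i) ^ l)⁻¹) := by
          rw [← hk, ← mul_assoc, cl]; simp only [mul_assoc]
        _ = b := by rw [← hl, H3.TA.mm tt]
  · have := plain _ A hA (hk ▸ mul_mem nA (norm_self A hiA))
    rw [← hk] at this
    exact ⟨hA, hB, hne, ne_bot_of_mem (memAx.2 ⟨(mul_mem_cancel_right hiA).1 this, nB⟩) t1⟩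

theorem Sit.commAx (h : Sit Ω) (hA : A ∈ Ω) (hB : B ∈ Ω) (hi : i ∈ ax A B) (hj : j ∈ ax B A) :
    i * j = j * i := by
  by_cases e : A = B
  · subst e; exact h.comm hA (memAx.1 hi).1 (memAx.1 hj).1
  · have : ⁅i, j⁆ ∈ A ⊓ B := by
      rw [commutatorElement_def]
      refine mem_inf.2 ⟨?_, mul_mem (conj_mem (memAx.1 hi).2 (memAx.1 hj).1) (inv_mem (memAx.1 hj).1)⟩
      have e1 : i * j * i⁻¹ * j⁻¹ = i * (j * i⁻¹ * j⁻¹) := by group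
      rw [e1]
      exact mul_mem (memAx.1 hi).1 (conj_mem (memAx.1 hj).2 (inv_mem (memAx.1 hi).1))
    rw [h.ti _ hA _ hB e, mem_bot] at this
    exact (commutatorElement_eq_one_iff_mul_comm).1 this

/-- if all pairs are adjacent, the radicals generate an abelian normal `2`-subgroup -/
theorem Sit.clique (h : Sit Ω) (φ : Subgroup G → Subgroup G)
    (hφ : ∀ P ∈ Ω, ∀ g : G, φ (cj g P) = cj g (φ P)) (h2 : ∀ P ∈ Ω, φ P ≤ P)
    (h3 : ∀ P ∈ Ω, ∀ Q ∈ Ω, φ P ≤ N[Q]) :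
    ∃ N : Subgroup G, N.Normal ∧ (∀ x ∈ N, x * x = 1) ∧ (∀ P ∈ Ω, φ P ≤ N) ∧
      N ≤ ⨆ P ∈ Ω, φ P := by
  have hle : ∀ P ∈ Ω, φ P ≤ ⨆ P ∈ Ω, φ P := fun P hP => le_iSup₂_of_le (f := fun P (_ : P ∈ Ω) => φ P) P hP le_rfl
  refine ⟨⨆ P ∈ Ω, φ P, ?_, ?_, hle, le_rfl⟩
  · rw [← nml_top_iff]
    refine ⟨le_top, fun g _ => mem_N_of_cj_le ?_⟩
    rw [cj_le_iff]
    refine iSup₂_le fun P hP => ?_
    rw [← cj_le_iff, ← hφ P hP]
    exact hle _ (h.cjm _ hP g)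
  · have ab : Abl (⨆ P ∈ Ω, φ P) := by
      rw [abl_iff]
      refine iSup₂_le fun P hP => cents_symm (iSup₂_le fun Q hQ => le_C_iff.2 fun x hx y hy => ?_)
      exact h.commAx hQ hP (memAx.2 ⟨h2 _ hQ hx, h3 _ hQ _ hP hx⟩)
        (memAx.2 ⟨h2 _ hP hy, h3 _ hP _ hQ hy⟩)
    have : (⨆ P ∈ Ω, φ P) ≤ H3.TA.Om (⨆ P ∈ Ω, φ P) :=
      iSup₂_le fun P hP x hx => H3.TA.mem_Om' (hle P hP hx) (h.sq _ hP _ (h2 _ hP hx))
    exact fun x hx => H3.TA.sq_of_Om ab (this hx)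

theorem Sit.rad_bot [IsSimpleGroup G] (hG : ¬ IsMulCommutative G) (h : Sit Ω)
    (hall : ∀ P ∈ Ω, ∀ Q ∈ Ω, P ≠ Q → Adj Ω P Q) (hA : A ∈ Ω) : rad Ω A = ⊥ := by
  obtain ⟨N, hN, h1, h2, -⟩ := h.clique (rad Ω) (fun P _ g => (cj_rad h g P).symm)
    (fun P _ => radLe P) (fun P hP Q hQ => by
      by_cases e : P = Q
      · subst e; exact H24.norm_of_le (radLe P)
      · exact h.rad_le (hall P hP Q hQ e))
  rcases hN.eq_bot_or_eq_top with e | e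
  · exact eq_bot_of_le e (h2 A hA)
  · exfalso
    apply hG
    subst e
    exact ⟨⟨fun x y => commSq h1 (mem_top x) (mem_top y)⟩⟩

theorem Conn.all (h : Sit Ω) (hc : Conn Ω)
    (h3 : ∀ A B C, Adj Ω A B → Adj Ω A C → B ≠ C → Adj Ω B C) :
    ∀ P ∈ Ω, ∀ Q ∈ Ω, P ≠ Q → Adj Ω P Q := by
  intro P hP Q hQ hne
  have key : ∀ Q, Relation.ReflTransGen (Adj Ω) P Q → P = Q ∨ Adj Ω P Q := by
    intro Q hh
    induction hh with
    | refl => exact Or.inl rfl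
    | tail _ hbc ih =>
      rcases ih with rfl | ih
      · exact Or.inr hbc
      · rename_i b c _
        by_cases e : P = c
        · exact Or.inl e
        · exact Or.inr (h3 _ _ _ (h.adj_symm ih) hbc e)
  exact (key Q (hc P hP Q hQ)).resolve_left hne

end H12.TI
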