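import Cfsg.Agent.H12.TIB
import Cfsg.Agent.H8.TI0
import Cfsg.Agent.H3.TA0

set_option autoImplicit false
set_option linter.unusedSectionVars false
set_option linter.unusedVariables false

namespace H12.TI

open Cfsg H24 Subgroup
open scoped commutatorElement

universe u

variable {G : Type u} [Group G] [Finite G] {Ω : Set (Subgroup G)}
  {A B C D F I P Q R S T U : Subgroup G} {a a' b c d d' g i j j' p r s t w x y ρ κ : G}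

open H8.TI

namespace IC

theorem centJ (h : Sit Ω) (hA : Adj Ω A B) (hC : Adj Ω A C) (e : ax A C = ax A B)
    (hd' : d' ∈ ax C A) (hn : d' ∈ N[B]) : d' ∈ C[ax B A] :=
  h.cent_of hA hd'.2 hn (e ▸ axC h hC hd') fun _ ha => e ▸ h.comm_mem hC ha hd'

theorem fam1a (h : Sit Ω) (hA : Top Ω A B) (hC : Adj Ω A C) (e : ax A C = ax A B)
    (hd : d ∈ ax B A) (h1 : d ≠ 1) (hd' : d' ∈ ax C A) (h1' : d' ≠ 1) (hc : d * d' = d' * d)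
    (ne : B ≠ C) : ax B C = ax B A := by
  have n := h.C1_le hA.r hd.1 h1 (mem_C1.2 hc.symm)
  have k := h.adj_of_mem hA.r hC.r ne hd'.1 h1' n
  exact ax_of_le h (h.top_symm hA) k (inf_C1 h k ⟨hd'.1, n⟩ h1' ▸ le_inf axL
    (mem_C_iff_le_C1.1 (centJ h hA.toAdj hC e hd' n))) le_rfl

end IC

theorem Sit.fam1 (h : Sit Ω) (hA : Top Ω A B) (hC : Adj Ω A C) (e : ax A C = ax A B)
    (hd : d ∈ ax B A) (h1 : d ≠ 1) (hd' : d' ∈ ax C A) (h1' : d' ≠ 1) (hc : d * d' = d' * d) :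
    ax B A ≤ C[ax C A] ∧ (B ≠ C → ax B C = ax B A) := by
  refine ⟨?_, IC.fam1a h hA hC e hd h1 hd' h1' hc⟩
  by_cases ne : B = C
  · subst ne
    exact (ablSq (h.sq B hA.r)).cents axL axL
  rw [← IC.fam1a h hA hC e hd h1 hd' h1' hc ne,
    ← IC.fam1a h (top_same h hA hC e) hA.toAdj e.symm hd' h1' hd h1 hc.symm (Ne.symm ne)]
  exact le_C_iff.2 fun a ha b hb => h.commAx hA.r hC.r ha hb

namespace IC

theorem core (h : Sit Ω) (hA : Top Ω A B) (hC : Adj Ω A C) (e : ax A C = ax A B)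
    (hd : d ∈ ax B A) (hd' : d' ∈ ax C A) (hc : d * (d' * d * d'⁻¹) = d' * d * d'⁻¹ * d) :
    d * d' = d' * d := by
  by_contra n
  have h1 : d ≠ 1 := by rintro rfl; simp at n
  have h1' : d' ≠ 1 := by rintro rfl; simp at n
  have n1 : d' ∉ N[B] := fun k => n (mem_C.1 (centJ h hA.toAdj hC e hd' k) d hd)
  have q := h.sq C hC.r d' hd'.1
  have dI : d' ∈ C[ax A B] := e ▸ axC h hC hd'
  obtain ⟨a1, a2, a3⟩ := cj_same h hA.toAdj hd'.2 (C_le_N _ dI)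
  have ne : B ≠ cj d' B := fun k => n1 (mem_N_iff_cj.2 k.symm)
  have m : d' * d * d'⁻¹ ∈ ax (cj d' B) A := a3 ▸ conj_mem_cj d' hd
  have m1 : d' * d * d'⁻¹ ≠ 1 := mt conj_eq_one_iff'.1 h1
  have b1 := fam1a h hA a1 a2 hd h1 m m1 hc ne
  have b2 := fam1a h (top_same h hA a1 a2) hA.toAdj a2.symm m m1 hd h1 hc.symm ne.symm
  have ad : Adj Ω B (cj d' B) := ⟨hA.r, a1.r, ne, b1 ▸ ne_bot_of_mem hd h1⟩
  have gl := h.gl_Wl ad
  have WM : Wl B (cj d' B) ≤ N[A] ⊓ C[ax A B] := sup_le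
    (b1 ▸ le_inf axN fun _ => axC h hA.toAdj) (b2 ▸ le_inf axN fun _ hx => a2 ▸ axC h a1 hx)
  obtain ⟨p, hp, p1⟩ := h.exists_not_mem ad
  obtain ⟨R, hR, s, hs, s1, -, c, -⟩ := gl.cover h (mem_N_iff_cj.2 (by
    rw [cj_Wl, ← cj_mul, q, cj_one, Wl_comm])) q (h.on_Wl ad) n1 hp (h.notW ad hp p1)
  have nR : d' ∈ N[R] := h.C1_le hR.mem hs (neOne s1) (mem_C1.2 c)
  have cR : ♯(R ⊓ Wl B (cj d' B)) = ♯(ax A B) := by
    obtain ⟨P, hP, k⟩ : ∃ P, On Ω (Wl B (cj d' B)) P ∧ R ≠ P := by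
      by_cases k : R = B
      exacts [⟨_, h.onW' ad, k ▸ ne⟩, ⟨_, h.on_Wl ad, k⟩]
    have := h.card_Wl (gl.adj h hR hP k)
    rw [h.Wl_eq ad hR hP k, h.card_Wl ad, gl.ax_eq _ _ hR hP k, b1] at this
    rw [h.card_ax hA.toAdj]
    exact (pow_left_inj₀ (Nat.zero_le _) (Nat.zero_le _) two_ne_zero).1 this.symm
  have WB := gl.le_N h (h.on_Wl ad)
  have k : d' ∈ C[R ⊓ Wl B (cj d' B)] ∧ d' ∉ R := by
    by_cases k : A = R
    · subst k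
      exact ⟨C_anti (inf_le_inf_left _ WB) dI, fun k => hC.ne (h.eq_of_mem hA.l hC.r h1' k hd'.1)⟩
    obtain ⟨x, hx, x1⟩ := exists_ne_one hR.nb
    obtain ⟨c1, c2⟩ := top_at h hA hR.mem k hx.1 x1 (WM hx.2).1 (WM hx.2).2
    have c3 := ax_of_le h hA (h.adj_symm c1) (inf_le_inf_left _ (WM.trans inf_le_left)) cR.ge
    refine ⟨c3 ▸ centJ h c1 hC (e.trans c2.symm) hd' nR, fun k => n1 (WB ?_)⟩
    exact (c3.le ⟨k, hd'.2⟩).2
  have RC : R ≠ C := fun e => k.2 (e ▸ hd'.1)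
  have ad' := h.adj_of_mem hR.mem hC.r RC hd'.1 h1' nR
  have e1 := inf_C1 h ad' ⟨hd'.1, nR⟩ h1'
  exact s1 ((ax_of_le h hA ad' (e1 ▸ le_inf inf_le_left (mem_C_iff_le_C1.1 k.1)) cR.ge).le
    (e1.le ⟨hs, mem_C1.2 c.symm⟩)).2

theorem fam2a (h : Sit Ω) (hA : Top Ω A B) (hd : d ∈ ax B A) (n : ℕ) : ∀ {C : Subgroup G} {d' : G},
    Adj Ω A C → ax A C = ax A B → d' ∈ ax C A → (d * d') ^ 2 ^ n = 1 → d * d' = d' * d := by
  induction n with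
  | zero => intro C d' _ _ _ e; rw [pow_zero, pow_one] at e; rw [e, mul_eq_one_comm.1 e]
  | succ n ih =>
    intro C d' hC e hd' k
    obtain ⟨a1, a2, a3⟩ := cj_same h hA.toAdj hd'.2 (C_le_N _ (e ▸ axC h hC hd'))
    refine core h hA hC e hd hd' (ih a1 a2 (a3 ▸ conj_mem_cj d' hd) ?_)
    rw [← k, pow_succ', pow_mul, pow_two, inv_eq_of_mul_eq_one_right (h.sq C hC.r d' hd'.1), mul_assoc,
      mul_assoc]

end IC

theorem Sit.fam2 (h : Sit Ω) (hA : Top Ω A B) (hC : Adj Ω A C) (e : ax A C = ax A B)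
    (hd : d ∈ ax B A) (hd' : d' ∈ ax C A) (hT : IsPi {2} T) (h1 : d ∈ T) (h2 : d' ∈ T) :
    d * d' = d' * d := by
  obtain ⟨n, k⟩ := (hT.piElt (mul_mem h1 h2)).exists_pow p2
  exact IC.fam2a h hA hd n hC e hd' (k ▸ pow_orderOf_eq_one _)

theorem IC.cj_le (h : Sit Ω) (g : G) (A I S : Subgroup G) :
    cj g (fam Ω A I S) ≤ fam Ω (cj g A) (cj g I) (cj g S) := by
  rw [fam, cj_sup, cj_def g (closure _), MonoidHom.map_closure]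
  refine sup_le_sup_left (Subgroup.closure_mono ?_) _
  rintro _ ⟨d, ⟨⟨B, h1, h2, h3⟩, h4⟩, rfl⟩
  exact ⟨⟨_, h.adj_cj h1 g, by rw [← cj_ax, h2], cj_ax g B A ▸ conj_mem_cj g h3⟩, conj_mem_cj g h4⟩

theorem cj_fam (h : Sit Ω) (g : G) (A I S : Subgroup G) :
    cj g (fam Ω A I S) = fam Ω (cj g A) (cj g I) (cj g S) :=
  le_antisymm (IC.cj_le h g A I S) (le_cj_iff.2 (by simpa using IC.cj_le h g⁻¹ (cj g A) (cj g I) (cj g S)))

namespace IC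

variable (h : Sit Ω) (hA : Top Ω A B) (hS : Syl 2 (N[A] ⊓ N[ax A B]) S)
include h hA hS

theorem AS : A ≤ S := hS.nml_le (h.two hA.l) ⟨le_inf (norm_self A) (ptN h hA.l axL), inf_le_left⟩

theorem FS : fam Ω A (ax A B) S ≤ S := sup_le (axL.trans (AS h hA hS)) ((closure_le _).2 fun _ k => k.2)

theorem SN : S ≤ N[fam Ω A (ax A B) S] := fun s hs => mem_N_iff_cj.2 (by
  rw [cj_fam h, cj_of_mem_N (hS.le hs).1, cj_of_mem_N (hS.le hs).2, cj_of_mem hs])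

theorem cF (h1 : x ∈ C[ax A B]) (h2 : ∀ C, Adj Ω A C → ax A C = ax A B → ∀ d ∈ ax C A, d ∈ S →
    d * x = x * d) : x ∈ C[fam Ω A (ax A B) S] :=
  mem_C_iff_le_C1.2 (sup_le (mem_C_iff_le_C1.1 h1) ((closure_le _).2 fun d ⟨⟨C, k1, k2, k3⟩, k4⟩ =>
    mem_C1.2 (h2 C k1 k2 d k3 k4)))

theorem sqF : ∀ x ∈ fam Ω A (ax A B) S, x * x = 1 := by
  rw [show fam Ω A (ax A B) S = closure (ax A B ∪ TD Ω A (ax A B) ∩ S) by
    rw [Subgroup.closure_union, closure_eq, fam]]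
  refine sq_closure ?_ ?_
  · rintro x (k | ⟨⟨C, k1, -, k3⟩, -⟩)
    exacts [h.sq A hA.l x k.1, h.sq C k1.r x k3.1]
  · rintro x (k | ⟨⟨C, k1, k2, k3⟩, k4⟩) y (l | ⟨⟨D, l1, l2, l3⟩, l4⟩)
    exacts [h.comm hA.l k.1 l.1, h.commAx hA.l l1.r (l2 ▸ k) l3, (h.commAx hA.l k1.r (k2 ▸ l) k3).symm,
      h.fam2 (top_same h hA k1 k2) l1 (l2.trans k2.symm) k3 l3 hS.pi k4 l4]

theorem FN (hP : P ∈ Ω) (hn : P ⊓ fam Ω A (ax A B) S ≠ ⊥) : fam Ω A (ax A B) S ≤ N[P] := by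
  obtain ⟨p, hp, p1⟩ := exists_ne_one hn
  exact fun x hx => h.C1_le hP hp.1 p1 (mem_C1.2 (commSq (sqF h hA hS) hx hp.2))

theorem mF (hC : Adj Ω A C) (e : ax A C = ax A B) (hd : d ∈ ax C A) (hs : d ∈ S) :
    d ∈ fam Ω A (ax A B) S := mem_sup_right (subset_closure ⟨⟨C, hC, e, hd⟩, hs⟩)

theorem exP : ∃ P, Adj Ω A P ∧ ax A P = ax A B ∧ ax P A ≤ fam Ω A (ax A B) S := by
  obtain ⟨g, hg, k⟩ := Sylow_Jsub p2 hS ((h.two hA.r).of_le axL) (axM h hA.toAdj)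
  obtain ⟨a1, a2, a3⟩ := cj_same h hA.toAdj hg.1 hg.2
  exact ⟨_, a1, a2, fun d hd => mF h hA hS a1 a2 hd (k (a3 ▸ hd))⟩

theorem AF : A ⊓ fam Ω A (ax A B) S = ax A B := by
  obtain ⟨P, h1, h2, h3⟩ := exP h hA hS
  refine le_antisymm ((inf_le_inf_left _ (FN h hA hS h1.r ?_)).trans h2.le) (le_inf axL le_sup_left)
  exact ne_bot_of_le (h.adj_symm h1).nb (le_inf axL h3)

theorem pt (hP : P ∈ Ω) (ne : A ≠ P) (hp : p ∈ P ⊓ fam Ω A (ax A B) S) (p1 : p ≠ 1) :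
    Adj Ω A P ∧ ax A P = ax A B ∧ p ∈ ax P A :=
  have n := (hS.le (FS h hA hS hp.2)).1
  have k := top_at h hA hP ne hp.1 p1 n
    (mem_C.2 fun i hi => commSq (sqF h hA hS) (mem_sup_left hi) hp.2)
  ⟨k.1, k.2, hp.1, n⟩

theorem PF (hP : P ∈ Ω) (ne : A ≠ P) (hn : P ⊓ fam Ω A (ax A B) S ≠ ⊥) :
    P ⊓ fam Ω A (ax A B) S = ax P A := by
  refine le_antisymm (inf_le_inf_left _ ((FS h hA hS).trans (hS.le.trans inf_le_left))) (le_inf axL ?_)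
  let E : Set G := {x | ∃ P ∈ Ω, A ≠ P ∧ P ⊓ fam Ω A (ax A B) S ≠ ⊥ ∧ x ∈ ax P A}
  have k : closure E ≤ S := by
    refine hS.le_of_norm' (H3.TA.two_of_sq (sq_closure ?_ ?_)) ((closure_le _).2 ?_) (norm_closure ?_)
    · rintro x ⟨P, h1, -, -, h4⟩; exact h.sq P h1 x h4.1
    · rintro x ⟨P, h1, h2, h3, h4⟩ y ⟨Q, l1, l2, l3, l4⟩
      obtain ⟨p, hp, p1⟩ := exists_ne_one h3
      obtain ⟨q, hq, q1⟩ := exists_ne_one l3
      obtain ⟨a1, a2, a3⟩ := pt h hA hS h1 h2 hp p1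
      obtain ⟨b1, b2, b3⟩ := pt h hA hS l1 l2 hq q1
      exact comm_of_cent (h.fam1 (top_same h hA a1 a2) b1 (b2.trans a2.symm) a3 p1 b3 q1
        (commSq (sqF h hA hS) hp.2 hq.2)).1 h4 l4
    · rintro x ⟨P, h1, h2, h3, h4⟩
      obtain ⟨p, hp, p1⟩ := exists_ne_one h3
      obtain ⟨a1, a2, -⟩ := pt h hA hS h1 h2 hp p1
      exact a2 ▸ axM h a1 h4
    · rintro s hs x ⟨P, h1, h2, h3, h4⟩
      have e := cj_of_mem_N (hS.le hs).1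
      refine subset_closure ⟨cj s P, h.cjm P h1 s, fun k => h2 (cj_inj.1 (e.trans k)), ?_, ?_⟩
      · rwa [← cj_of_mem_N (SN h hA hS hs), ← cj_inf, Ne, cj_eq_bot]
      · rw [← e, ← cj_ax]; exact conj_mem_cj s h4
  obtain ⟨p, hp, p1⟩ := exists_ne_one hn
  obtain ⟨a1, a2, -⟩ := pt h hA hS hP ne hp p1
  exact fun d hd => mF h hA hS a1 a2 hd (k (subset_closure ⟨P, hP, ne, hn, hd⟩))

theorem cPF (hP : P ∈ Ω) (hn : P ⊓ fam Ω A (ax A B) S ≠ ⊥) :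
    ♯(P ⊓ fam Ω A (ax A B) S) = ♯(ax A B) := by
  by_cases ne : A = P
  · rw [← ne, AF h hA hS]
  obtain ⟨p, hp, p1⟩ := exists_ne_one hn
  obtain ⟨a1, a2, -⟩ := pt h hA hS hP ne hp p1
  rw [PF h hA hS hP ne hn, ← h.card_ax a1, a2]

theorem axF (hP : P ∈ Ω) (hn : P ⊓ fam Ω A (ax A B) S ≠ ⊥) (hQ : Q ∈ Ω)
    (hn' : Q ⊓ fam Ω A (ax A B) S ≠ ⊥) (ne : P ≠ Q) :
    Top Ω P Q ∧ ax P Q = P ⊓ fam Ω A (ax A B) S :=
  have l : P ⊓ fam Ω A (ax A B) S ≤ ax P Q := inf_le_inf_left _ (FN h hA hS hQ hn')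
  have k : Adj Ω P Q := ⟨hP, hQ, ne, ne_bot_of_le hn l⟩
  ⟨h.top_of_le hA k ((cPF h hA hS hP hn).ge.trans (card_le l)),
    ax_of_le h hA k l (cPF h hA hS hP hn).ge⟩

theorem onF (hP : P ∈ Ω) (hn : P ⊓ fam Ω A (ax A B) S ≠ ⊥) : P ≤ N[fam Ω A (ax A B) S] := by
  by_cases ne : A = P
  · exact ne ▸ (AS h hA hS).trans (SN h hA hS)
  have nA : A ⊓ fam Ω A (ax A B) S ≠ ⊥ := (AF h hA hS).symm ▸ hA.nb
  obtain ⟨t, e⟩ := axF h hA hS hA.l nA hP hn ne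
  have t' := h.top_symm t
  rw [AF h hA hS] at e
  obtain ⟨a, ha, a1⟩ := h.exists_not_mem t.toAdj
  obtain ⟨b, hb, b1⟩ := h.exists_not_mem t'.toAdj
  obtain ⟨-, -, s, -, -, -, -, s1, s2, -⟩ := (h.gl_Wl t.toAdj).swap h (h.on_Wl t.toAdj) (h.onW' t.toAdj)
    ne ha (h.notW t.toAdj ha a1) hb (h.notW' t.toAdj hb b1)
  have e' : cj s (ax A B) = ax P A := by rw [← e, cj_ax, s1, s2]
  have pf := PF h hA hS hP ne hn
  obtain ⟨T, hT, l⟩ := Sylow_superset p2 (H3.TA.two_of_sq (sqF h hA hS)) (le_inf (FN h hA hS hP hn)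
    ((ablSq (sqF h hA hS)).norm le_rfl (pf.ge.trans inf_le_right)))
  have := hS.cj s
  rw [cj_inf, cj_N, cj_N, s1, e'] at this
  obtain ⟨g, hg, rfl⟩ := Sylow_trans p2 this hT
  have k : fam Ω A (ax A B) S = fam Ω P (ax P A) (cj g (cj s S)) := by
    refine eq_of_card_eq (sup_le (fun i hi => mF h t' hT t'.toAdj rfl (e ▸ hi) (l (mem_sup_left hi)))
      ((closure_le _).2 fun d ⟨⟨C, k1, k2, k3⟩, k4⟩ => ?_)) (by
        rw [← cj_of_mem_N hg.2, ← cj_of_mem_N hg.1, ← cj_fam h, cj_of_mem_N hg.1, card_cj, ← e', ← s1,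
          ← cj_fam h, card_cj])
    have dF := mF h hA hS k1 k2 k3 k4
    by_cases d1 : d = 1
    · exact d1 ▸ one_mem _
    by_cases c : P = C
    · exact mem_sup_left (c ▸ k3)
    obtain ⟨u, v⟩ := axF h hA hS hP hn k1.r (ne_bot_of_mem ⟨k3.1, dF⟩ d1) c
    exact mF h t' hT u.toAdj (v.trans pf) ⟨k3.1, FN h hA hS hP hn dF⟩ (l dF)
  rw [k]
  exact (AS h t' hT).trans (SN h t' hT)

end IC

theorem Sit.fam_Fam (h : Sit Ω) (hA : Top Ω A B) (hS : Syl 2 (N[A] ⊓ N[ax A B]) S) :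
    Fam Ω (fam Ω A (ax A B) S) ∧ S ≤ N[fam Ω A (ax A B) S] ∧ fam Ω A (ax A B) S ≤ S ∧ A ≤ S ∧
      A ⊓ fam Ω A (ax A B) S = ax A B ∧ ∃ P, On Ω (fam Ω A (ax A B) S) P ∧ P ≠ A := by
  obtain ⟨P, h1, h2, h3⟩ := IC.exP h hA hS
  have n := ne_bot_of_le (h.adj_symm h1).nb (le_inf axL h3)
  exact ⟨⟨⟨IC.sqF h hA hS, fun P Q a b c => (IC.axF h hA hS a.mem a.nb b.mem b.nb c).2⟩,
    fun P => IC.onF h hA hS, fun P Q a b c => (IC.axF h hA hS a.mem a.nb b.mem b.nb c).1⟩,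
    IC.SN h hA hS, IC.FS h hA hS, IC.AS h hA hS, IC.AF h hA hS,
    P, ⟨h1.r, IC.onF h hA hS h1.r n, n⟩, h1.ne.symm⟩

end H12.TI
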