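import Mathlib
import Cfsg.Prelude.Def_Transfer
import Cfsg.Prelude.Def_CaseTheorems
import Cfsg.Prelude.Def_Sz
import Cfsg.Prelude.Def_Spor_Mathieu
import Cfsg.Agent.H24.Base5

/-!
# Weakly closed elementary abelian TI-subgroups (Timmesfeld): definitions
See `stubs/TI/README.md`.
-/

set_option autoImplicit false

namespace H12.TI

open Cfsg H24 Subgroup
open scoped commutatorElement

universe u

variable {G : Type u} [Group G]

/-- `Ω` is a class of weakly closed elementary abelian `2`-subgroups with trivial intersections -/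
structure Sit (Ω : Set (Subgroup G)) : Prop where
  sq : ∀ B ∈ Ω, ∀ x ∈ B, x * x = 1
  ne : ∀ B ∈ Ω, B ≠ ⊥
  cjm : ∀ B ∈ Ω, ∀ g : G, cj g B ∈ Ω
  tr : ∀ B ∈ Ω, ∀ C ∈ Ω, ∃ g : G, cj g B = C
  ti : ∀ B ∈ Ω, ∀ C ∈ Ω, B ≠ C → B ⊓ C = ⊥
  wc : ∀ B ∈ Ω, ∀ C ∈ Ω, B ≤ N[C] → B = C

/-- the axis of `A` towards `B` -/
def ax (A B : Subgroup G) : Subgroup G := A ⊓ N[B]

/-- the elementary abelian group of the line through `A` and `B` -/
def Wl (A B : Subgroup G) : Subgroup G := ax A B ⊔ ax B A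

/-- adjacent points -/
structure Adj (Ω : Set (Subgroup G)) (A B : Subgroup G) : Prop where
  l : A ∈ Ω
  r : B ∈ Ω
  ne : A ≠ B
  nb : ax A B ≠ ⊥

/-- adjacent points with an axis of largest order -/
structure Top (Ω : Set (Subgroup G)) (A B : Subgroup G) : Prop extends Adj Ω A B where
  max : ∀ C D, Adj Ω C D → ♯(ax C D) ≤ ♯(ax A B)

/-- the involutions lying in points -/
def DD (Ω : Set (Subgroup G)) : Set G := {d | d ≠ 1 ∧ ∃ B ∈ Ω, d ∈ B}

/-- `P` is a point of the generalised line `F` -/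
structure On (Ω : Set (Subgroup G)) (F P : Subgroup G) : Prop where
  mem : P ∈ Ω
  le : P ≤ N[F]
  nb : P ⊓ F ≠ ⊥

/-- generalised line -/
structure GLn (Ω : Set (Subgroup G)) (F : Subgroup G) : Prop where
  sq : ∀ x ∈ F, x * x = 1
  ax_eq : ∀ P Q, On Ω F P → On Ω F Q → P ≠ Q → ax P Q = P ⊓ F

/-- `ρ` is a product of two elements outside `F` of two different points of `F` -/
def Od (Ω : Set (Subgroup G)) (F : Subgroup G) (ρ : G) : Prop :=
  ∃ R R' : Subgroup G, ∃ c ∈ R, ∃ c' ∈ R', On Ω F R ∧ On Ω F R' ∧ R ≠ R' ∧ c ∉ F ∧ c' ∉ F ∧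
    ρ = c * c'

/-- the elements of the axes towards `A` of the neighbours of `A` with axis `I` -/
def TD (Ω : Set (Subgroup G)) (A I : Subgroup G) : Set G :=
  {d | ∃ B, Adj Ω A B ∧ ax A B = I ∧ d ∈ ax B A}

/-- the family of `(A, I)` inside `S` -/
def fam (Ω : Set (Subgroup G)) (A I S : Subgroup G) : Subgroup G := I ⊔ closure (TD Ω A I ∩ S)

/-- families -/
structure Fam (Ω : Set (Subgroup G)) (F : Subgroup G) : Prop extends GLn Ω F where
  on : ∀ P ∈ Ω, P ⊓ F ≠ ⊥ → P ≤ N[F]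
  top : ∀ P Q, On Ω F P → On Ω F Q → P ≠ Q → Top Ω P Q

/-- intersection of the top axes -/
def rad (Ω : Set (Subgroup G)) (A : Subgroup G) : Subgroup G :=
  A ⊓ ⨅ B ∈ {B | Top Ω A B}, N[B]

/-- there are two different top axes -/
def Two (Ω : Set (Subgroup G)) : Prop := ∃ A B C, Top Ω A B ∧ Top Ω A C ∧ ax A B ≠ ax A C

/-- case `Z` -/
structure CZ (Ω : Set (Subgroup G)) : Prop where
  two : Two Ω
  inf : ∀ A B C, Top Ω A B → Top Ω A C → ax A B ≠ ax A C → ax A B ⊓ ax A C = ⊥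

/-- the linear case -/
structure CL (Ω : Set (Subgroup G)) : Prop where
  two : Two Ω
  sup : ∀ A B C, Top Ω A B → Top Ω A C → ax A B ≠ ax A C → ax A B ⊔ ax A C = A
  inf : ∀ A B C, Top Ω A B → Top Ω A C → ax A B ≠ ax A C → ax A B ⊓ ax A C ≠ ⊥

/-- the sporadic case -/
structure CS (Ω : Set (Subgroup G)) : Prop where
  card : ∀ A ∈ Ω, ♯A = 16
  four : ∀ A B, Adj Ω A B → ♯(ax A B) = 4
  ex : ∃ A B C, Adj Ω A B ∧ Adj Ω A C ∧ ax A B ≠ ax A C ∧ ax A B ⊓ ax A C ≠ ⊥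

/-- top axes have order the square root of the order of a point -/
def Half (Ω : Set (Subgroup G)) : Prop := ∀ A B, Top Ω A B → ♯A = ♯(ax A B) ^ 2

/-- top lines are `A ∪ B ^ A` and contain their families -/
structure Good (Ω : Set (Subgroup G)) : Prop where
  cw : ∀ A B, Top Ω A B → ∀ d ∈ DD Ω, d ∈ C[Wl A B] → d ∈ Wl A B
  ln : ∀ A B, Top Ω A B → ∀ P ∈ Ω, P ⊓ Wl A B ≠ ⊥ → P = A ∨ ∃ a ∈ A, P = cj a B

/-- one line for each top axis -/
def Uniq (Ω : Set (Subgroup G)) : Prop :=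
  ∀ A B C, Top Ω A B → Adj Ω A C → ax A C = ax A B → ∃ a ∈ A, C = cj a B

/-- the collinearity graph is connected -/
def Conn (Ω : Set (Subgroup G)) : Prop :=
  ∀ A ∈ Ω, ∀ B ∈ Ω, Relation.ReflTransGen (Adj Ω) A B

/-- the standard situation -/
structure St (Ω : Set (Subgroup G)) : Prop extends Sit Ω, Good Ω where
  uniq : Uniq Ω
  cent : ∀ A ∈ Ω, C[A] ≤ A
  conn : Conn Ω

section Lin

variable {F : Type} [Field F] {d : ℕ}

/-- `j` acts as the transvection `v ↦ v + f v • u` -/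
def Tv (ι : (Fin d → F) → G) (j : G) (u : Fin d → F) (f : Module.Dual F (Fin d → F)) : Prop :=
  ∀ v, j * ι v * j⁻¹ = ι (v + f v • u)

/-- `B` is a top neighbour of `A` with axis `ker f` -/
structure IsAx (Ω : Set (Subgroup G)) (A : Subgroup G) (ι : (Fin d → F) → G)
    (f : Module.Dual F (Fin d → F)) (B : Subgroup G) : Prop where
  top : Top Ω A B
  ne : f ≠ 0
  iff : ∀ v, ι v ∈ N[B] ↔ f v = 0

/-- linear coordinates on the point `A` -/
structure Lin (Ω : Set (Subgroup G)) (A : Subgroup G) (ι : (Fin d → F) → G) : Prop where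
  pt : A ∈ Ω
  three : 3 ≤ d
  mul : ∀ v w, ι (v + w) = ι v * ι w
  inj : Function.Injective ι
  mem : ∀ x, x ∈ A ↔ ∃ v, ι v = x
  exf : ∀ B, Top Ω A B → ∃ f, IsAx Ω A ι f B
  tv : ∀ f B, IsAx Ω A ι f B → ∀ j ∈ ax B A, ∃ u, f u = 0 ∧ Tv ι j u f
  ext : ∀ f B, IsAx Ω A ι f B → ∀ u, f u = 0 → ∃ j ∈ ax B A, Tv ι j u f
  semi : ∀ m ∈ N[A], ∃ σ : F ≃+* F, ∀ (c : F) v w,
    m * ι v * m⁻¹ = ι w → m * ι (c • v) * m⁻¹ = ι (σ c • w)

/-- every hyperplane is a top axis -/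
def All (Ω : Set (Subgroup G)) (A : Subgroup G) (ι : (Fin d → F) → G) : Prop :=
  ∀ f : Module.Dual F (Fin d → F), f ≠ 0 → ∃ B, IsAx Ω A ι f B

end Lin

/-- the list -/
def Concl (X : Type u) [Group X] : Prop :=
  (∃ (F : Type) (_ : Field F) (_ : Fintype F) (n : ℕ), ringChar F = 2 ∧ 2 ≤ n ∧
      Nonempty (X ≃* Matrix.ProjectiveSpecialLinearGroup (Fin n) F)) ∨
    Cfsg.Lie.IsoSuzuki X ∨
    (∃ (F : Type) (_ : Field F) (_ : Fintype F) (m : ℕ), 2 ≤ m ∧ Fintype.card F = 4 ^ m ∧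
      Nonempty (X ≃* Cfsg.PSU 3 F (2 ^ m))) ∨
    (∃ k : ℕ, 6 ≤ k ∧ k ≤ 9 ∧ Nonempty (X ≃* ↥(alternatingGroup (Fin k)))) ∨
    Cfsg.Spor.IsoM22 X ∨ Cfsg.Spor.IsoM23 X ∨ Cfsg.Spor.IsoM24 X

end H12.TI
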