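import Cfsg.Agent.H12.TIB
import Cfsg.Agent.H16.TI1

/-! # TI, block E: the group generated by two adjacent points (proved by helper16) -/

set_option autoImplicit false
set_option linter.unusedSectionVars false
set_option linter.unusedVariables false

namespace H12.TI

open Cfsg H24 Subgroup
open scoped commutatorElement

universe u

variable {G : Type u} [Group G] [Finite G] {Ω : Set (Subgroup G)}
  {A B C D F I P Q R S T U : Subgroup G} {a a' b c d d' g i j j' p r s t w x y ρ κ : G}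

theorem twoOut (hI : I ≤ A) (h4 : 4 * ♯I ≤ ♯A) (ha : a ∈ A) (hn : a ∉ I) :
    ∃ a' ∈ A, a' ∉ I ∧ a⁻¹ * a' ∉ I := by
  by_contra hc
  push Not at hc
  classical
  have h1 : (A : Set G) ⊆ (I : Set G) ∪ (fun x => a * x) '' (I : Set G) := fun x hx => by
    by_cases h : x ∈ I
    · exact Or.inl h
    · exact Or.inr ⟨_, hc x hx h, by simp⟩
  have h2 := (Set.ncard_le_ncard h1 (Set.toFinite _)).trans (Set.ncard_union_le _ _)
  rw [Set.ncard_image_of_injective _ (mul_right_injective a)] at h2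
  have h3 : ♯A ≤ ♯I + ♯I := h2
  have := card_pos I
  omega

/-- two-point stabilisers of `⟨A, B⟩` act on `A / I` as groups of odd order -/
theorem Sit.nl (h : Sit Ω) (hA : Adj Ω A B) (h4 : 4 * ♯(ax A B) ≤ ♯A) (hg : g ∈ A ⊔ B)
    (hgA : g ∈ N[A]) (hgB : g ∈ N[B]) : ∃ k, Odd k ∧ ∀ a ∈ A, ⁅a, g ^ k⁆ ∈ ax A B := by
  set X := A ⊔ B with hX
  have hF := h.gl_Wl hA
  have hXW : X ≤ N[Wl A B] := sup_le (h.on_Wl hA).le (h.onW' hA).le
  have hon : ∀ x ∈ X, On Ω (Wl A B) (cj x A) := fun x hx => (h.on_Wl hA).cj h (hXW hx)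
  obtain ⟨a, ha, hn⟩ := h.exists_not_mem hA
  obtain ⟨b, hb, hn'⟩ := h.exists_not_mem (h.adj_symm hA)
  obtain ⟨R, -, s, -, -, hs, -, hsA, -, -⟩ := hF.swap h (h.on_Wl hA) (h.onW' hA) hA.ne ha
    (h.notW hA ha hn) hb (h.notW' hA hb hn')
  have hsX : s ∈ X := pairLe ha hb hs
  let M0 : Subgroup X := (N[A]).subgroupOf X
  let K : Subgroup X := M0.normalCore
  let π : X →* X ⧸ K := QuotientGroup.mk' K
  have hπ : Function.Surjective π := QuotientGroup.mk'_surjective K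
  have hker : ∀ x : X, π x = 1 ↔ x ∈ K := fun x => QuotientGroup.eq_one_iff x
  have hKM : K ≤ M0 := normalCore_le M0
  have hM : ∀ x : X, π x ∈ M0.map π ↔ (x : G) ∈ N[A] := fun x => by
    rw [← mem_comap, comap_map_eq, QuotientGroup.ker_mk', sup_eq_left.2 hKM, mem_subgroupOf]
  have hN : ∀ x y : G, y ∈ N[cj x A] ↔ x⁻¹ * y * x ∈ N[A] := fun x y => by rw [← cj_N, mem_cj]
  have hKB : ∀ x : X, x ∈ K → (x : G) ∈ N[B] := fun x hx => by
    rw [← hsA, hN]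
    simpa [M0, mem_subgroupOf] using (hx (⟨s, hsX⟩ : X)⁻¹ : _ ∈ M0)
  have hAK : ∀ x : X, (x : G) ∈ A → (x : G) ∈ N[B] → x ∈ K := fun x hx hx' y => by
    have := hF.le_N h (hon _ (X.inv_mem y.2)) (axLeW A B (memAx.2 ⟨hx, hx'⟩))
    rw [hN] at this
    simpa [M0, mem_subgroupOf] using this
  let V : Subgroup (X ⧸ K) := (A.subgroupOf X).map π
  have hV : ∀ v ∈ V, ∃ x : X, (x : G) ∈ A ∧ π x = v := fun v ⟨x, hx, e⟩ => ⟨x, hx, e⟩
  have hV' : ∀ x : X, (x : G) ∈ A → π x ∈ V := fun x hx => ⟨x, hx, rfl⟩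
  have hAX : A ≤ X := le_sup_left
  obtain ⟨a', ha', hn1, hn2⟩ := twoOut inf_le_left h4 ha fun e => hn e.2
  have hne : ∀ x : X, (x : G) ∉ N[B] → π x ≠ 1 := fun x hx e => hx (hKB x ((hker x).1 e))
  have hse : IsStronglyEmbedded (M0.map π) := by
    refine H16.TI.se_of (V := V) (v := π ⟨a, hAX ha⟩) (w := π ⟨a', hAX ha'⟩) ?_ (hV' _ ha)
      (hV' _ ha') (hne _ hn) (hne _ fun e => hn1 ⟨ha', e⟩) ?_ ?_ ?_ ?_ ?_ ?_ ?_ ?_
    · intro v hv
      obtain ⟨x, hx, rfl⟩ := hV v hv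
      rw [← map_mul, show x * x = 1 from Subtype.ext (h.sq A hA.l x hx), map_one]
    · intro e
      refine hne (⟨a, hAX ha⟩⁻¹ * ⟨a', hAX ha'⟩) (fun e' => hn2 ⟨A.mul_mem (A.inv_mem ha) ha', e'⟩) ?_
      rw [map_mul, map_inv, e, inv_mul_cancel]
    · exact map_mono fun x hx => norm_self A hx
    · refine norm_map (le_N_iff.2 fun m hm x hx => ?_) π
      exact conj_mem (H := A) hm hx
    · intro y v hv v1 hy
      obtain ⟨x, hx, rfl⟩ := hV v hv
      obtain ⟨y, rfl⟩ := hπ y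
      rw [← map_inv, ← map_mul, ← map_mul, hM] at hy
      rw [hM, mem_N_iff_cj]
      refine hF.fix h (hon y y.2) (h.on_Wl hA) (conj_mem_cj (y : G) hx) (fun e => v1 ?_) hy
      rw [conj_mem_iff (hXW y.2)] at e
      exact (hker x).2 (hAK x hx (memAx.1 (h.inf_Wl hA ▸ (mem_inf.2 ⟨hx, e⟩ : (x : G) ∈ A ⊓ Wl A B))).2)
    · intro L hL hLM
      have h1 : L.comap π ≤ K := by
        have := hL.comap π
        refine normal_le_normalCore.2 fun x hx => ?_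
        exact (hM x).1 (hLM hx)
      rw [eq_bot_iff]
      intro y hy
      obtain ⟨y, rfl⟩ := hπ y
      exact (hker y).2 (h1 hy)
    · intro L hL hVL
      have h0 := hL.comap π
      have h1 : X ≤ (L.comap π).map X.subtype := by
        refine sup_le (fun x hx => ⟨⟨x, hAX hx⟩, hVL (hV' _ hx), rfl⟩) fun x hx => ?_
        rw [← hsA] at hx
        obtain ⟨y, hy, rfl⟩ := mem_cj'.1 hx
        exact ⟨_, h0.conj_mem ⟨y, hAX hy⟩ (hVL (hV' _ hy)) ⟨s, hsX⟩, rfl⟩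
      rw [eq_top_iff]
      intro y _
      obtain ⟨y, rfl⟩ := hπ y
      obtain ⟨z, hz, e⟩ := h1 y.2
      rw [← show z = y from Subtype.ext e]
      exact hz
    · intro v hv v1 w hw w1
      obtain ⟨x, hx, rfl⟩ := hV v hv
      obtain ⟨y, hy, rfl⟩ := hV w hw
      obtain ⟨g, hg, -, -, e, -⟩ := h.exists_h hA hx (fun e => v1 ((hker x).2 (hAK x hx e))) hy
        (fun e => w1 ((hker y).2 (hAK y hy e)))
      exact ⟨π ⟨g, hg⟩, by
        rw [← map_inv, ← map_mul, ← map_mul]; exact congrArg π (Subtype.ext e)⟩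
    · intro e
      exact hn' ((hM ⟨b, mem_sup_right hb⟩).1 (e ▸ mem_top _))
  have hs' : π ⟨s, hsX⟩ ∉ M0.map π := fun e =>
    hA.ne ((cj_of_mem_N ((hM _).1 e)).symm.trans hsA)
  have hodd := hse.2.2 _ hs'
  have hmem : π ⟨g, hg⟩ ∈ M0.map π ⊓ cj (π ⟨s, hsX⟩) (M0.map π) := by
    refine mem_inf.2 ⟨(hM _).2 hgA, ?_⟩
    rw [mem_cj, ← map_inv, ← map_mul, ← map_mul, hM]
    rw [← hsA, hN] at hgB
    exact hgB
  refine ⟨orderOf (π ⟨g, hg⟩), hodd.of_dvd_nat (orderOf_dvd_card' hmem), fun x hx => ?_⟩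
  set k := orderOf (π ⟨g, hg⟩)
  have hk : (⟨g, hg⟩ : X) ^ k ∈ K := (hker _).1 (by rw [map_pow]; exact pow_orderOf_eq_one _)
  have h1 : ⁅(⟨x, hAX hx⟩ : X), (⟨g, hg⟩ : X) ^ k⁆ ∈ K :=
    K.mul_mem (Normal.conj_mem inferInstance _ hk _) (K.inv_mem hk)
  refine memAx.2 ⟨?_, hKB _ h1⟩
  have : ⁅x, g ^ k⁆ = x * (g ^ k * x⁻¹ * (g ^ k)⁻¹) := by rw [commutatorElement_def]; group
  rw [this]
  exact A.mul_mem hx (conj_mem (pow_mem hgA k) (A.inv_mem hx))

end H12.TI
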