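import Cfsg.Agent.H12.TIC
import Cfsg.Agent.H12.TIE

set_option autoImplicit false
set_option linter.unusedSectionVars false
set_option linter.unusedVariables false

namespace H12.TI

open Cfsg H24 Subgroup
open scoped commutatorElement

universe u

variable {G : Type u} [Group G] [Finite G] {Ω : Set (Subgroup G)}
  {A B C D F I P Q R S T U : Subgroup G} {a a' b c d d' g i j j' p r s t w x y ρ κ : G}

open H8.TI

namespace IF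

theorem two_le (h : U < T) : 2 * ♯U ≤ ♯T := by
  obtain ⟨k, e⟩ := card_dvd h.le
  have := card_lt h
  rw [e] at this ⊢
  rw [mul_comm]
  exact Nat.mul_le_mul_left _ (by by_contra! n; interval_cases k <;> omega)

/-- two different top axes with largest intersection -/
structure Mx (Ω : Set (Subgroup G)) (A B C : Subgroup G) : Prop where
  h : Sit Ω
  t1 : Top Ω A B
  t2 : Top Ω A C
  ne : ax A B ≠ ax A C
  max : ∀ P Q R, Top Ω P Q → Top Ω P R → ax P Q ≠ ax P R → ♯(ax P Q ⊓ ax P R) ≤ ♯(ax A B ⊓ ax A C)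

theorem csup (h : Sit Ω) (h1 : Top Ω A B) (h2 : Top Ω A C) :
    ♯(ax A B ⊔ ax A C) * ♯(ax A B ⊓ ax A C) = ♯(ax A B) * ♯(ax A B) := by
  rw [card_sup (axL.trans (ptN h h1.l axL)), top_card h h1 h2]

namespace Mx

variable (m : Mx Ω A B C)
include m

theorem symm : Mx Ω A C B := ⟨m.h, m.t2, m.t1, m.ne.symm, inf_comm (ax A B) _ ▸ m.max⟩

theorem nle : ¬ ax A B ≤ ax A C := fun e => m.ne (eq_of_card_eq e (top_card m.h m.t2 m.t1))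

theorem exv : ∃ v ∈ ax A B, v ∉ N[C] :=
  (SetLike.not_le_iff_exists.1 m.nle).imp fun _ k => ⟨k.1, fun e => k.2 ⟨k.1.1, e⟩⟩

theorem sqI : ∀ x ∈ ax A B, x * x = 1 := fun x hx => m.h.sq A m.t1.l x hx.1

theorem cardJ : ♯(ax C A ⊓ N[ax A B]) = ♯(ax A B ⊓ ax A C) := by
  obtain ⟨v, hv, v1⟩ := m.exv
  obtain ⟨U, h1, h2, h3⟩ := exists_pb m.h m.t2.toAdj hv.1 v1 (V := ax A B ⊓ ax A C) inf_le_right
  rw [← h3]
  refine congrArg (fun X : Subgroup G => ♯X) (le_antisymm (fun j hj => (h2 j hj.1).2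
    ⟨cm_left m.sqI hj.2 hv, m.h.comm_mem m.t2.toAdj hv.1 hj.1⟩) fun g hg => ⟨h1 hg, by_contra fun n => ?_⟩)
  have e : ax A (cj g B) = cj g (ax A B) := by rw [cj_ax, cj_of_mem_N (h1 hg).2]
  have l : ax A B ⊓ ax A C ≤ cj g (ax A B) := fun x hx =>
    conj_eq_of_mem_C (axC m.h m.t2.toAdj (h1 hg)) hx.2 ▸ conj_mem_cj g hx.1
  have := m.max A B (cj g B) m.t1 (cj_of_mem_N (h1 hg).2 ▸ m.h.top_cj m.t1 g)
    fun k => n (mem_N_iff_cj.2 (e.symm.trans k.symm))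
  rw [e] at this
  refine v1 ((eq_of_card_ge (le_inf inf_le_left l) this).ge ⟨hv, ?_⟩).2.2
  have k := mul_mem (l ((h2 g (h1 hg)).1 hg)) (conj_mem_cj g hv)
  rwa [show ⁅v, g⁆ * (g * v * g⁻¹) = v by rw [commutatorElement_def]; group] at k

theorem WN : Wl A C ≤ N[A] := (m.h.gl_Wl m.t2.toAdj).le_N m.h (m.h.on_Wl m.t2.toAdj)

theorem fixA (hy : y ∈ Wl A C) (y1 : y ∉ A) : A ⊓ C{y} = ax A C :=
  le_antisymm (fun a ha => ⟨ha.1, by_contra fun n => y1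
    (m.h.cent_Wl m.t2.toAdj ha.1 n hy (mem_C1.1 ha.2)).1⟩) (le_inf axL fun i hi => mem_C1.2
      (commSq (m.h.gl_Wl m.t2.toAdj).sq (axLeW A C hi) hy))

theorem fixI (hy : y ∈ Wl A C) (y1 : y ∉ A) : ax A B ⊓ C{y} = ax A B ⊓ ax A C := by
  rw [← m.fixA hy y1, ← inf_assoc, inf_eq_left.2 axL]

theorem two' (hy : y ∈ Wl A C ⊓ N[ax A B]) (ha : a ∈ ax A B ⊔ ax A C) : ⁅a, y⁆ ∈ ax A B := by
  obtain ⟨i, hi, j, hj, rfl⟩ := (mem_sup_of_norm (axL.trans (ptN m.h m.t1.l axL))).1 ha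
  rw [cm_mul (m.h.sq A m.t1.l) (m.WN hy.1) i hi.1 j hj.1,
    cm_one.2 (commSq (m.h.gl_Wl m.t2.toAdj).sq (axLeW A C hj) hy.1), mul_one]
  exact cm_left m.sqI hy.2 hi

variable (hy : y ∈ Wl A C ⊓ N[ax A B]) (y1 : y ∉ A) (hn : y ∈ N[B])
include hy y1 hn

theorem j0 (ha : a ∈ A) (a1 : a ∉ N[B]) (e : ⁅a, y⁆ ∈ ax A B) (hj : j ∈ ax B A) :
    j ∈ C{y} ↔ ⁅a, j⁆ ∈ ax A B ⊓ ax A C := by
  have k : y * j * y⁻¹ ∈ ax B A := conj_mem (norm_inf (zpowers_le.2 hn)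
    (norm_N (zpowers_le.2 (m.WN hy.1))) (mem_zpowers y)) hj
  have k1 : y * ⁅a, j⁆ * y⁻¹ = ⁅a, y * j * y⁻¹⁆ := by
    rw [cm_conj, show y * a * y⁻¹ = ⁅a, y⁆⁻¹ * a by rw [commutatorElement_def]; group,
      cm_mul (m.h.sq A m.t1.l) k.2 _ (inv_mem e).1 _ ha,
      cm_one.2 (m.h.commAx m.t1.l m.t1.r (inv_mem e) k), one_mul]
  rw [← m.fixI hy.1 y1, mem_inf, and_iff_right (m.h.comm_mem m.t1.toAdj ha hj), mem_C1_comm,
    mem_C1_comm (x := y), mem_C1_iff_conj, mem_C1_iff_conj, k1]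
  exact ⟨fun e => by rw [e], m.h.comm_inj m.t1.toAdj ha a1 k hj⟩

theorem cJ0 : ♯(ax B A ⊓ C{y}) = ♯(ax A B ⊓ ax A C) := by
  obtain ⟨v, hv, v1⟩ := m.symm.exv
  obtain ⟨U, h1, h2, h3⟩ := exists_pb m.h m.t1.toAdj hv.1 v1 (V := ax A B ⊓ ax A C) inf_le_left
  have k := fun j => m.j0 hy y1 hn (j := j) hv.1 v1 (m.two' hy (mem_sup_right hv))
  rw [← h3]
  exact congrArg (fun X : Subgroup G => ♯X) (le_antisymm (fun j hj => (h2 j hj.1).2 ((k j hj.1).1 hj.2))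
    fun j hj => ⟨h1 hj, (k j (h1 hj)).2 ((h2 j (h1 hj)).1 hj)⟩)

theorem two (ha : a ∈ A) (e : ⁅a, y⁆ ∈ ax A B) : a ∈ ax A B ⊔ ax A C := by
  have q := m.h.sq A m.t1.l
  let U : Subgroup G :=
    { carrier := {a | a ∈ A ∧ ⁅a, y⁆ ∈ ax A B}
      mul_mem' := fun {a b} ha hb => ⟨mul_mem ha.1 hb.1, by
        rw [cm_mul q (m.WN hy.1) a ha.1 b hb.1]; exact mul_mem ha.2 hb.2⟩
      one_mem' := ⟨one_mem _, by simp⟩
      inv_mem' := fun {a} ha => by rwa [inv_eq_of_mul_eq_one_right (q a ha.1)] }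
  obtain ⟨j, hj, j1⟩ : ∃ j ∈ ax B A, j ∉ C{y} := SetLike.not_le_iff_exists.1 fun k => m.nle (by
    have := m.cJ0 hy y1 hn
    rw [inf_eq_left.2 k, ← m.h.card_ax m.t1.toAdj] at this
    exact (eq_of_card_eq inf_le_left this.symm).ge.trans inf_le_right)
  have := card_hom (U := U) (K := ax A B) (⁅·, j⁆) (fun a ha b hb => cm_mul q hj.2 a ha.1 b hb.1)
    (fun a ha => m.h.comm_mem m.t1.toAdj ha.1 hj) inf_le_left fun a ha e =>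
      ⟨ha.1, by_contra fun n => j1 ((m.j0 hy y1 hn ha.1 n ha.2 hj).2 e)⟩
  rw [← csup m.h m.t1 m.t2] at this
  exact (eq_of_card_ge (A := ax A B ⊔ ax A C) (B := U) (fun a ha => ⟨sup_le axL axL ha, m.two' hy ha⟩)
    (Nat.le_of_mul_le_mul_right this (card_pos _))).ge ⟨ha, e⟩

theorem three (ha : a ∈ A) (a1 : a ∉ ax A B ⊔ ax A C) :
    ♯(ax A B ⊓ ax A C) * ♯(ax A B ⊓ ax A C) ≤ ♯(ax A B) := by
  have q := m.h.sq A m.t1.l
  obtain ⟨U, h1, h2, h3⟩ := exists_pb m.h m.t1.toAdj ha (fun n => a1 (mem_sup_left ⟨ha, n⟩))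
    (V := ax A B ⊓ ax A C) inf_le_left
  have := card_sup_of_inf (A := ax B A ⊓ C{y}) (B := U) ((h1.trans axL).trans
    (ptN m.h m.t1.r (inf_le_left.trans axL))) (eq_bot_iff.2 fun j hj => by_contra fun j1 => a1 ?_)
  · rw [m.cJ0 hy y1 hn, h3] at this
    rw [← this, m.h.card_ax m.t1.toAdj]
    exact card_le (sup_le inf_le_left h1)
  have k := (h2 j hj.1.1).1 hj.2
  have k1 := mem_C1_iff_conj.1 (mem_C1_comm.1 ((m.fixI hy.1 y1).ge k).2)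
  have n := conj_mem (m.WN hy.1) ha
  rw [cm_conj, mem_C1_iff_conj.1 (mem_C1_comm.1 hj.1.2)] at k1
  refine m.two hy y1 hn ha ?_
  rw [commutatorElement_def, inv_eq_of_mul_eq_one_right (q a ha), mul_assoc, mul_assoc, ← mul_assoc y]
  refine ⟨mul_mem ha n, (m.h.cent_iff m.t1.toAdj hj.1.1 j1 (mul_mem ha n)).1 (cm_one.1 ?_)⟩
  rw [cm_mul q hj.1.1.2 _ ha _ n, k1]
  exact q _ k.1.1

theorem four (hx : x ∈ Wl A C ⊓ N[ax A B]) (x1 : x ∉ A) (hn' : x ∈ N[B]) (xy : x * y ∉ A)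
    (ha : a ∈ A) : a ∈ ax A B ⊔ ax A C := by
  by_contra a1
  have h := m.h
  have sq := (h.gl_Wl m.t2.toAdj).sq
  have mK : ∀ {x}, x ∈ centQ A (ax A B) ↔ x ∈ N[ax A B] ∧ ∀ u ∈ A, ⁅x, u⁆ ∈ ax A B :=
    mem_centQ (ptN h m.t1.l axL)
  have MK : N[A] ⊓ N[ax A B] ≤ N[centQ A (ax A B)] := norm_centQ inf_le_left inf_le_right
  have cK : ∀ {k u}, k ∈ centQ A (ax A B) → u ∈ A → ⁅u, k⁆ ∈ ax A B := fun hk hu =>
    by rw [← commutatorElement_inv]; exact inv_mem ((mK.1 hk).2 _ hu)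
  have VK : Wl A C ⊓ N[ax A B] ⊓ N[B] ≤ N[centQ A (ax A B)] :=
    (inf_le_left.trans (inf_le_inf_right _ m.WN)).trans MK
  have TM : (A ⊔ B) ⊓ (N[A] ⊓ N[B]) ≤ N[A] ⊓ N[ax A B] := inf_le_right.trans
    (le_inf inf_le_left (norm_inf inf_le_left (norm_N inf_le_right)))
  have nK : ∀ y ∈ Wl A C ⊓ N[ax A B] ⊓ N[B], y ∉ A → y ∉ centQ A (ax A B) := fun y hy y1 k =>
    a1 (m.two hy.1 y1 hy.2 ha (cK k ha))
  have sA : ax A B ⊔ ax A C ≤ A := sup_le axL axL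
  have up : ∀ {k : G} {X : Subgroup G}, k ∈ centQ A (ax A B) → ax A B ≤ X → X ≤ A → k ∈ N[X] :=
    fun hk h1 h2 => mem_N_of_finite fun u hu => by
      have := mul_mem (h1 ((mK.1 hk).2 u (h2 hu))) hu
      rwa [commutatorElement_def, inv_mul_cancel_right] at this
  have := le_of_quo_le (TM.trans MK) (B := N[A] ⊓ N[ax A B] ⊓ N[ax A B ⊔ ax A C])
    ⟨fun k hk => ⟨⟨up hk axL le_rfl, (mK.1 hk).1⟩, up hk le_sup_left sA⟩, inf_le_left.trans MK⟩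
    (H16.TI.gen4 (V := quo (Wl A C ⊓ N[ax A B] ⊓ N[B]) _) ?_ (cs_mem_quo ⟨hx, hn'⟩ (VK ⟨hx, hn'⟩))
      (cs_mem_quo ⟨hy, hn⟩ (VK ⟨hy, hn⟩)) (mt (cs_eq_one (VK ⟨hx, hn'⟩)).1 (nK x ⟨hx, hn'⟩ x1))
      (mt (cs_eq_one (VK ⟨hy, hn⟩)).1 (nK y ⟨hy, hn⟩ y1))
      (mt (cs_eq_cs (VK ⟨hx, hn'⟩) (VK ⟨hy, hn⟩)).1 (by
        rw [inv_eq_of_mul_eq_one_right (sq x hx.1)]
        exact nK _ (mul_mem (mem_inf.2 ⟨hx, hn'⟩) ⟨hy, hn⟩) xy)) (isPi_iff_piElt.2 ?_)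
      (quo_norm _ ?_) ?_)
  · obtain ⟨v, hv, v1⟩ := m.symm.exv
    obtain ⟨g, g1, g2, g3, rfl, -⟩ := h.exists_h m.t1.toAdj hv.1 v1 ha fun n => a1 (mem_sup_left ⟨ha, n⟩)
    exact a1 (conj_mem (this ⟨g1, g2, g3⟩).2 (mem_sup_right hv))
  · intro u hu
    obtain ⟨u, h1, h2, rfl⟩ := mem_quo.1 hu
    rw [← ap_mul _ h2 h2, sq u h1.1.1, ap_one]
  · intro u hu
    obtain ⟨u, h1, h2, rfl⟩ := mem_quo.1 hu
    obtain ⟨k, k1, k2⟩ := h.nl m.t1.toAdj (by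
      have := two_le (left_lt_sup.2 m.symm.nle)
      have := two_le (lt_of_le_of_ne sA fun e => a1 (e.ge ha))
      omega) h1.1 h1.2.1 h1.2.2
    refine piElt_of_pow_eq_one (n := k) (fun p _ hp e => ?_) ?_
    · rw [e] at hp
      exact Nat.not_even_iff_odd.2 k1 (even_iff_two_dvd.2 hp)
    · rw [← ap_pow _ h2]
      exact cs_of_mem (mK.2 ⟨pow_mem (mem_inf.1 (TM h1)).2 k, fun a ha =>
        by rw [← commutatorElement_inv]; exact inv_mem (k2 a ha)⟩)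
  · have n1 := inf_le_left.trans (inf_le_left.trans m.WN :
      Wl A C ⊓ N[ax A B] ≤ _) (a := Wl A C ⊓ N[ax A B] ⊓ N[B])
    exact norm_inf (norm_sup n1 inf_le_right) (norm_inf (norm_N n1) (norm_N inf_le_right))
  · intro u hu u1 t ht
    obtain ⟨u, h1, h2, rfl⟩ := mem_quo.1 hu
    obtain ⟨t, h3, h4, rfl⟩ := mem_quo.1 ht.1
    have u2 : u ∉ A := fun k => u1 (cs_of_mem (mK.2 ⟨h1.1.2, fun a ha => by
      rw [cm_one.2 (h.comm m.t1.l k ha)]; exact one_mem _⟩))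
    have k := mem_C1.1 ht.2
    rw [← ap_mul _ h4 h2, ← ap_mul _ h2 h4, cs_eq_cs (mul_mem h4 h2) (mul_mem h2 h4)] at k
    refine cs_mem_quo ⟨TM h3, mem_N_of_finite fun a ha =>
      m.two h1.1 u2 h1.2 (conj_mem h3.2.1 (sA ha)) ?_⟩ h4
    rw [show ⁅t * a * t⁻¹, u⁆ = t * (⁅a, u⁆ * (u * ⁅a, (t * u)⁻¹ * (u * t)⁆ * u⁻¹)) * t⁻¹ by
      simp only [commutatorElement_def]; group]
    exact conj_mem (TM h3).2 (mul_mem (m.two' h1.1 ha) (conj_mem h1.1.2 (cK k (sA ha))))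

end Mx

theorem Mx.chg (m : Mx Ω A B C) (hP : Top Ω A P) (e : ax A P = ax A B) : Mx Ω A P C :=
  ⟨m.h, hP, m.t2, e ▸ m.ne, e ▸ m.max⟩

theorem Mx.step (m : Mx Ω A B C) (hF : GLn Ω F) (hg : g ∈ Wl A C ⊓ N[ax A B]) (g1 : g ∉ A)
    (gF : g ∈ N[F]) (hP : On Ω F P) (ne : A ≠ P) (hb : b ∈ P) (b1 : b ∉ F) :
    ∃ y ∈ Wl A C ⊓ N[ax A B], y * g ∈ A ∧ ∃ R, On Ω F R ∧ A ≠ R ∧ y ∈ N[R] ∧
      ∀ x ∈ N[P], x ∈ C{b} → x ∈ C{g} → x ∈ N[R] := by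
  have q := m.h.sq_Wl m.t2.toAdj hg.1
  by_cases n : g ∈ N[P]
  · exact ⟨g, hg, q ▸ one_mem _, P, hP, ne, n, fun x k _ _ => k⟩
  obtain ⟨R, hR, s, hs, s1, s2, s3, s4⟩ := hF.cover m.h gF q hP n hb b1
  have k := m.h.C1_le hR.mem hs (neOne s1)
  by_cases e : A = R
  · subst e
    refine ⟨g * s, mul_mem hg ⟨axLeW A C ((m.fixA hg.1 g1).le ⟨hs, mem_C1.2 s3.symm⟩),
      ptN m.h m.t1.l axL hs⟩, by rwa [s3, mul_assoc, q, mul_one], P, hP, ne,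
      m.h.C1_le hP.mem hb (neOne b1) (mem_C1.2 s4), fun x k _ _ => k⟩
  refine ⟨g, hg, q ▸ one_mem _, R, hR, e, k (mem_C1.2 s3), fun x _ x1 x2 => k (mem_C1_comm.1
    ((closure_le C{x}).2 ?_ s2))⟩
  rintro _ (rfl | rfl)
  exacts [mem_C1_comm.1 x1, mul_mem (mul_mem (mem_C1_comm.1 x2) (mem_C1_comm.1 x1))
    (inv_mem (mem_C1_comm.1 x2))]

theorem Mx.small (m : Mx Ω A B C) (ha : a ∈ A) (a1 : a ∉ ax A B ⊔ ax A C)
    (h0 : ax A B ⊓ ax A C ≠ ⊥) : ♯(ax A B ⊓ ax A C) = 2 ∧ ♯(ax A B) = 4 := by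
  have h := m.h
  have sq := (h.gl_Wl m.t2.toAdj).sq
  obtain ⟨S, hS, l⟩ := Sylow_superset p2 ((H3.TA.two_of_sq sq).inf_left N[ax A B])
    (inf_le_inf_right _ m.WN)
  obtain ⟨hF, f1, f2, f3, f4, P, hP, ne⟩ := h.fam_Fam m.t1 hS
  have oA : On Ω _ A := ⟨m.t1.l, f3.trans f1, f4.symm ▸ m.t1.nb⟩
  generalize fam Ω A (ax A B) S = F at *
  have ch : ∀ {P}, On Ω F P → A ≠ P → Mx Ω A P C ∧ ax A P = ax A B := fun hP ne =>
    have e := (hF.ax_eq _ _ oA hP ne).trans f4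
    ⟨m.chg (hF.top _ _ oA hP ne) e, e⟩
  have gd : ∀ g ∈ ax C A ⊓ N[ax A B], g ≠ 1 → g ∈ Wl A C ⊓ N[ax A B] ∧ g ∉ A := fun g hg g1 =>
    ⟨⟨axLeW' A C hg.1, hg.2⟩, fun k => m.t2.ne (h.eq_of_mem m.t1.l m.t2.r g1 k hg.1.1)⟩
  obtain ⟨g, hg, g1⟩ := exists_ne_one (H := ax C A ⊓ N[ax A B]) fun e => h0 (by
    rw [← card_eq_one', ← m.cardJ, e, card_bot])
  obtain ⟨b, hb, b1⟩ := h.exists_not_mem (hF.top _ _ hP oA ne).toAdj
  obtain ⟨g2, g3⟩ := gd g hg g1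
  obtain ⟨y, hy, y1, Q, hQ, nQ, y2, -⟩ := m.step hF.toGLn g2 g3 (f1 (l g2)) hP ne.symm hb
    fun k => b1 (hF.toGLn.le_N h oA k)
  have y3 : y ∉ A := fun k => g3 ((mul_mem_cancel_left k).1 y1)
  obtain ⟨m1, e1⟩ := ch hQ nQ
  have c1 := m1.three (e1 ▸ hy) y3 y2 ha (e1 ▸ a1)
  have c2 := card_fix m.sqI hg.2 (sq g g2.1)
  have c3 := m1.cJ0 (e1 ▸ hy) y3 y2
  rw [e1] at c1 c3
  rw [m.fixI g2.1 g3] at c2
  have c4 : ♯(ax A B ⊓ ax A C) ≤ 2 := by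
    rw [← m.cardJ, ← H6.orderOf_eq_two_of (sq g g2.1) g1, ← card_zpowers']
    refine card_le fun g' hg' => by_contra fun n => ?_
    obtain ⟨g4, g5⟩ := gd g' hg' fun e => n (e ▸ one_mem _)
    obtain ⟨c, hc, c5⟩ : ∃ c ∈ Q ⊓ C{y}, c ∉ F := SetLike.not_le_iff_exists.1 fun k => by
      have d1 := card_fix (h.sq Q hQ.mem) y2 (sq y hy.1)
      have d2 : ♯(Q ⊓ C{y}) ≤ _ := c3 ▸ card_le (le_inf (le_inf inf_le_left
        (k.trans (hF.toGLn.le_N h oA))) inf_le_right)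
      have d3 := card_lt (lt_of_le_of_ne (axL (A := A) (B := B)) fun e => a1 (mem_sup_left (e.ge ha)))
      rw [h.card_eq hQ.mem m.t1.l] at d1
      exact absurd ((d1.trans (Nat.mul_le_mul d2 d2)).trans c1) d3.not_ge
    obtain ⟨x, hx, x1, R, hR, nR, x2, x3⟩ := m.step hF.toGLn g4 g5 (f1 (l g4)) hQ nQ hc.1 c5
    obtain ⟨m2, e2⟩ := ch hR nR
    refine a1 (e2 ▸ m2.four (e2 ▸ hy) y3 (x3 y y2 (mem_C1_comm.1 hc.2) (mem_C1.2 (commSq sq hy.1 g4.1)))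
      (e2 ▸ hx) (fun k => g5 ((mul_mem_cancel_left k).1 x1)) x2 (fun k => n ?_) ha)
    have : g' * g ∈ A := by
      have := mul_mem x1 y1
      rwa [mul_assoc, ← mul_assoc g', commSq sq g4.1 hy.1, mul_assoc, ← mul_assoc,
        mul_mem_cancel_left k] at this
    rw [eq_inv_of_mul_eq_one_left (by_contra fun k => m.t2.ne
      (h.eq_of_mem m.t1.l m.t2.r k this (mul_mem (mem_inf.1 hg'.1).1 hg.1.1)))]
    exact inv_mem (mem_zpowers g)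
  have c5 := one_lt_card h0
  have c6 : ♯(ax A B ⊓ ax A C) = 2 := by omega
  rw [c6] at c1 c2
  exact ⟨c6, by omega⟩

end IF

theorem Sit.tri (h : Sit Ω) (h2 : Two Ω) : CZ Ω ∨ CL Ω ∨ CS Ω := by
  obtain ⟨⟨A, B, C⟩, ⟨h3, h4, h5⟩, mx⟩ := Set.exists_max_image
    {q : Subgroup G × Subgroup G × Subgroup G | Top Ω q.1 q.2.1 ∧ Top Ω q.1 q.2.2 ∧
      ax q.1 q.2.1 ≠ ax q.1 q.2.2} (fun q => ♯(ax q.1 q.2.1 ⊓ ax q.1 q.2.2)) (Set.toFinite _)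
    (h2.elim fun A k => k.elim fun B k => k.elim fun C k => ⟨(A, B, C), k⟩)
  have m : IF.Mx Ω A B C := ⟨h, h3, h4, h5, fun P Q R a b c => mx (P, Q, R) ⟨a, b, c⟩⟩
  by_cases h0 : ax A B ⊓ ax A C = ⊥
  · refine Or.inl ⟨h2, fun P Q R a b c => eq_bot_of_card_le _ ?_⟩
    have := m.max P Q R a b c
    rwa [h0, card_bot] at this
  have c1 := IF.csup h m.t1 m.t2
  by_cases e : A ≤ ax A B ⊔ ax A C
  · have k : ∀ P Q R, Top Ω P Q → Top Ω P R → ax P Q ≠ ax P R →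
        ♯P ≤ ♯(ax P Q ⊔ ax P R) ∧ ♯(ax A B ⊓ ax A C) ≤ ♯(ax P Q ⊓ ax P R) := fun P Q R a b c => by
      have d1 := IF.csup h a b
      have d2 := m.max P Q R a b c
      have d3 := card_le (sup_le axL axL : ax P Q ⊔ ax P R ≤ P)
      rw [top_card h m.t1 a, ← c1, ← le_antisymm e (sup_le axL axL), h.card_eq m.t1.l a.l] at d1
      exact ⟨Nat.le_of_mul_le_mul_right (d1.ge.trans (Nat.mul_le_mul_left _ d2)) (card_pos _),
        Nat.le_of_mul_le_mul_left (d1.ge.trans (Nat.mul_le_mul_right _ d3)) (card_pos _)⟩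
    refine Or.inr (Or.inl ⟨h2, fun P Q R a b c => eq_of_card_ge (sup_le axL axL) (k P Q R a b c).1,
      fun P Q R a b c e => ?_⟩)
    have := (k P Q R a b c).2
    rw [e, card_bot] at this
    exact h0 (eq_bot_of_card_le _ this)
  obtain ⟨a, ha, a1⟩ := SetLike.not_le_iff_exists.1 e
  obtain ⟨c2, c3⟩ := m.small ha a1 h0
  have c4 := h.card_le_sq m.t1.toAdj
  have c5 := IF.two_le (lt_of_le_of_ne (sup_le axL axL : ax A B ⊔ ax A C ≤ A) fun k => e k.ge)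
  rw [c2, c3] at c1
  rw [c3] at c4
  have c6 : ∀ P ∈ Ω, ♯P = 16 := fun P hP => by rw [h.card_eq hP m.t1.l]; omega
  refine Or.inr (Or.inr ⟨c6, fun P Q k => ?_, A, B, C, m.t1.toAdj, m.t2.toAdj, m.ne, h0⟩)
  have d1 := m.t1.max P Q k
  have d2 := h.card_le_sq k
  rw [c6 P k.l] at d2
  rw [c3] at d1
  interval_cases ♯(ax P Q) <;> omega

end H12.TI
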