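import Cfsg.Agent.H12.TIC

set_option autoImplicit false
set_option linter.unusedSectionVars false
set_option linter.unusedVariables false

namespace H12.TI

open Cfsg H24 Subgroup
open scoped commutatorElement

universe u

variable {G : Type u} [Group G] [Finite G] {Ω : Set (Subgroup G)}
  {A B C D F I P Q R S T U : Subgroup G} {a a' b c d d' g i j j' p r s t w x y ρ κ : G}

open H8.TI

theorem Two.exists_ne (h : Sit Ω) (h2 : Two Ω) (hA : Top Ω A B) :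
    ∃ C, Top Ω A C ∧ ax A C ≠ ax A B := by
  obtain ⟨P, Q, R, h1, h2, h3⟩ := h2
  obtain ⟨g, rfl⟩ := h.tr P h1.l A hA.l
  by_cases e : ax (cj g P) (cj g Q) = ax (cj g P) B
  · exact ⟨_, h.top_cj h2 g, fun k => h3 (cj_inj.1 (by rw [cj_ax, cj_ax, e, k]))⟩
  · exact ⟨_, h.top_cj h1 g, e⟩

theorem CZ.half (h : Sit Ω) (hc : CZ Ω) : Half Ω := fun A B hA => by
  obtain ⟨C, hC, e⟩ := hc.two.exists_ne h hA
  refine le_antisymm (h.card_le_sq hA.toAdj) ?_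
  have := card_sup_of_inf (axL.trans (ptN h hA.l axL)) (hc.inf A C B hC hA e)
  rw [top_card h hA hC, ← pow_two] at this
  exact this ▸ card_le (sup_le axL axL)

theorem CS.half (h : Sit Ω) (hc : CS Ω) : Half Ω := fun A B hA => by
  rw [hc.card A hA.l, hc.four A B hA.toAdj]; rfl

theorem IG.onto (h : Sit Ω) (hc : Half Ω) (hA : Top Ω A B) (hj : j ∈ ax B A) (h1 : j ≠ 1)
    (hi : i ∈ ax A B) : ∃ a ∈ A, a * j * a⁻¹ = i * j := by
  obtain ⟨a, ha, e⟩ := surj_hom (⁅·, j⁆) (cm_mul (h.sq A hA.l) hj.2)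
    (fun _ ha => h.comm_mem hA.toAdj ha hj) (K := ax A B)
    (fun a ha e => ⟨ha, (h.cent_iff hA.toAdj hj h1 ha).1 (cm_one.1 e)⟩)
    (by rw [hc A B hA, pow_two]) hi
  exact ⟨a, ha, by rw [← e, commutatorElement_def, inv_mul_cancel_right]⟩

theorem Half.good (h : Sit Ω) (hc : Half Ω) : Good Ω := by
  refine ⟨fun A B hA d ⟨d1, P, hP, hd⟩ hW => ?_, fun A B hA P hP hn => ?_⟩
  · have hB := h.top_symm hA
    obtain ⟨i0, hi, i1⟩ := exists_ne_one hA.nb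
    obtain ⟨j0, hj, j1⟩ := exists_ne_one hB.nb
    have cI : d ∈ C[ax A B] := C_anti (axLeW A B) hW
    have cJ : d ∈ C[ax B A] := C_anti (axLeW' A B) hW
    have nA : d ∈ N[A] := h.C1_le hA.l hi.1 i1 (C_le_C1 hi cI)
    have nB : d ∈ N[B] := h.C1_le hA.r hj.1 j1 (C_le_C1 hj cJ)
    by_cases e1 : A = P
    · exact axLeW A B ⟨e1 ▸ hd, nB⟩
    by_cases e2 : B = P
    · exact axLeW' A B ⟨e2 ▸ hd, nA⟩
    obtain ⟨a1, a2⟩ := top_at h hA hP e1 hd d1 nA cI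
    obtain ⟨b1, b2⟩ := top_at h hB hP e2 hd d1 nB cJ
    obtain ⟨a, ha, n⟩ := h.exists_not_mem hA.toAdj
    obtain ⟨j, hj', e⟩ := h.comm_surj hA.toAdj ha n (a2 ▸ h.comm_mem a1 ha ⟨hd, nA⟩)
    obtain ⟨b, hb, e'⟩ := IG.onto h hc (top_same h hB b1 b2) ⟨hd, nB⟩ d1 (b2 ▸ hj')
    have m : j * d ∈ cj b P := e' ▸ conj_mem_cj b hd
    have jW := axLeW' A B hj'
    by_cases k : A = cj b P
    · exact (mul_mem_cancel_left jW).1 (axLeW A B ⟨k ▸ m, mul_mem (norm_self B hj'.1) nB⟩)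
    have k1 := mt conj_eq_one_iff'.1 d1 ∘ e'.trans
    obtain ⟨-, c2⟩ := top_at h hA (h.cjm P hP b) k m k1 (mul_mem hj'.2 nA)
      (mul_mem (axC h hA.toAdj hj') cI)
    refine absurd (c2.le ⟨ha, h.C1_le (h.cjm P hP b) m k1 (mem_C1_iff_conj.2 ?_)⟩).2 n
    have q := inv_eq_of_mul_eq_one_right (h.sq B hA.r j hj'.1)
    calc _ = (a * j * a⁻¹)⁻¹ * ⁅a, d⁆ * d := by rw [conj_inv, q, commutatorElement_def]; group
      _ = _ := by rw [← e, commutatorElement_def, inv_mul_cancel_left, q]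
  · obtain ⟨w, hw, w1⟩ := exists_ne_one hn
    obtain ⟨i, hi, j, hj, rfl⟩ := (h.mem_Wl hA.toAdj).1 hw.2
    by_cases j1 : j = 1
    · exact Or.inl (h.eq_of_mem hP hA.l w1 hw.1 (by rw [j1, mul_one]; exact hi.1))
    obtain ⟨a, ha, e⟩ := IG.onto h hc hA hj j1 hi
    exact Or.inr ⟨a, ha, h.eq_of_mem hP (h.cjm B hA.r a) w1 hw.1 (e ▸ conj_mem_cj a hj.1)⟩

end H12.TI
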