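import Cfsg.Agent.H12.TIG
import Cfsg.Agent.H25.TH2

/-! # TI, block H (proved by helper25) -/

set_option autoImplicit false
set_option linter.unusedSectionVars false
set_option linter.unusedVariables false

namespace H12.TI

open Cfsg H24 Subgroup
open scoped commutatorElement

universe u

variable {G : Type u} [Group G] [Finite G] {Ω : Set (Subgroup G)}
  {A B C D F I P Q R S T U : Subgroup G} {a a' b c d d' g i j j' p r s t w x y ρ κ : G}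

theorem Good.ul (h : Sit Ω) (hg : Good Ω) (hA : Top Ω A B) (h4 : 4 ≤ ♯(ax A B)) :
    ∀ κ ∈ C[A], ∃ a ∈ A, ∃ c ∈ C[A ⊔ B], κ = a * c := TH.ul h hg hA h4
theorem Good.uniq (h : Sit Ω) (hg : Good Ω) (h4 : ∀ A B, Top Ω A B → 4 ≤ ♯(ax A B)) : Uniq Ω :=
  TH.uniq h hg h4
theorem Uniq.norm (h : Sit Ω) (hu : Uniq Ω) (hA : Top Ω A B) (hx : x ∈ N[A]) (hI : x ∈ N[ax A B]) :
    x ∈ N[Wl A B] ∧ ∃ a ∈ A, x * a ∈ N[B] := TH.norm h hu hA hx hI
theorem CL.four (h : Sit Ω) (hc : CL Ω) (hA : Top Ω A B) : 4 ≤ ♯(ax A B) := TH.four h hc hA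
theorem Good.st [IsSimpleGroup G] (hG : ¬ IsMulCommutative G) (h : Sit Ω) (hg : Good Ω) (hc : Conn Ω)
    (hLS : CL Ω ∨ CS Ω) : St Ω := by
  rcases hLS with k | k
  · have h4 : ∀ A B, Top Ω A B → 4 ≤ ♯(ax A B) := fun A B => TH.four h k
    obtain ⟨P, Q, -, t, -⟩ := k.two
    exact ⟨h, hg, TH.uniq h hg h4, fun A hA =>
      TH.cent h hg hc h4 (fun _ _ _ => TH.CL_E h hg k) t.toAdj hA, hc⟩
  · have h4 : ∀ A B, Top Ω A B → 4 ≤ ♯(ax A B) := fun A B t => (k.four _ _ t.toAdj).ge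
    obtain ⟨P, Q, -, t, -⟩ := k.ex
    exact ⟨h, hg, TH.uniq h hg h4, fun A hA =>
      TH.cent h hg hc h4 (fun _ _ _ => TH.CS_E h hg k) t hA, hc⟩

end H12.TI
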