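import Cfsg.Agent.H12.TIH
import Cfsg.Agent.H17.TL1
import Cfsg.Agent.H17.TL2

set_option autoImplicit false
set_option linter.unusedSectionVars false
set_option linter.unusedVariables false

namespace H12.TI

open Cfsg H24 Subgroup L17
open scoped commutatorElement

universe u

variable {G : Type u} [Group G] [Finite G] {Ω : Set (Subgroup G)}
  {A B C D F I P Q R S T U : Subgroup G} {a a' b c d d' g i j j' p r s t w x y ρ κ : G}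

theorem Good.inv17 (h : Sit Ω) (hg : Good Ω) (hA : Top Ω A B) {a0 : G} (h0 : a0 ∈ A) (n0 : a0 ∉ N[B])
    (ha : a ∈ A) (hn : a ∉ N[B]) :
    ∃ a' ∈ A, ∀ j ∈ ax B A, ∀ j' ∈ ax B A, ⁅a0, j'⁆ = ⁅a, j⁆ → ⁅a', j'⁆ = ⁅a0, j⁆ := by
  have hB := h.top_symm hA
  obtain ⟨j0, m0, j1⟩ := exists_ne_one hB.nb
  have NW := h.le_N_Wl hA.toAdj
  have cm : ∀ i ∈ ax A B, ∀ j ∈ ax B A, i * j = j * i := fun i hi j hj => h.commAx hA.l hA.r hi hj
  have cj1 : ∀ (x y : G), x * y * x⁻¹ = ⁅x, y⁆ * y := fun x y => by rw [commutatorElement_def]; group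
  obtain ⟨b, hb, eb⟩ := (hg.ln B A hB _ (h.cjm B hA.r a0) (ne_bot_of_mem (mem_inf.2 ⟨conj_mem_cj a0 m0.1, by
    rw [Wl_comm]; exact conj_mem (NW h0) (axLeW' A B m0)⟩) fun e => j1 (conj_eq_one_iff.1 e))).resolve_left
      fun e => n0 (mem_N_iff_cj.2 e)
  have bi := inv_eq h hA.r hb
  have ai := inv_eq h hA.l h0
  have k1 : ∀ j ∈ ax B A, b * ⁅a0, j⁆ * b⁻¹ = ⁅a0, j⁆ * j := fun j hj => by
    have hi := h.comm_mem hA.toAdj h0 hj
    have m := h.comm_mem hB.toAdj hb hi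
    have := (eb.trans ((congrArg (cj · A) bi).symm)) ▸ conj_mem_cj a0 hj.1
    rw [mem_cj, inv_inv, cj1 a0, ← conj_mul, h.comm hA.r hb hj.1, mul_inv_cancel_right, cj1 b, ← cm _ hi _ m,
      mul_assoc, Subgroup.mul_mem_cancel_left _ hi.1] at this
    rw [cj1, ← cm _ hi _ m, eq_inv_of_mul_eq_one_left (eq_one h hA.l hA.r hA.ne this (mul_mem m.1 hj.1)),
      inv_eq h hA.r hj.1]
  have k2 : ∀ j ∈ ax B A, a0 * b * a0⁻¹ * j * (a0 * b * a0⁻¹)⁻¹ = ⁅a0, j⁆ := fun j hj => by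
    have hi := h.comm_mem hA.toAdj h0 hj
    rw [show a0 * b * a0⁻¹ * j * (a0 * b * a0⁻¹)⁻¹ = a0 * (b * (a0⁻¹ * j * a0⁻¹⁻¹) * b⁻¹) * a0⁻¹ by group, ai, cj1 a0 j,
      ← conj_mul, k1 j hj, h.comm hA.r hb hj.1, mul_inv_cancel_right, mul_assoc _ j, h.sq B hA.r j hj.1, mul_one,
      h.comm hA.l h0 hi.1, mul_assoc, h.sq A hA.l a0 h0, mul_one]
  have k3 : ∀ j ∈ ax B A, a0 * b * a0⁻¹ * ⁅a0, j⁆ * (a0 * b * a0⁻¹)⁻¹ = j := fun j hj => by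
    have : a0 * b * a0⁻¹ * (a0 * b * a0⁻¹) = 1 := by rw [conj_mul, h.sq B hA.r b hb]; simp
    rw [← k2 j hj, ← mul_assoc, ← mul_assoc, this, one_mul, mul_assoc, ← mul_inv_rev, this, inv_one, mul_one]
  have sW : a0 * b * a0⁻¹ ∈ N[Wl A B] := mul_mem (mul_mem (NW h0) ((h.onW' hA.toAdj).le hb)) (inv_mem (NW h0))
  generalize a0 * b * a0⁻¹ = s at k2 k3 sW
  have k4 : ∀ j ∈ ax B A, ∀ j' ∈ ax B A, ⁅a0, j'⁆ = ⁅a, j⁆ → j' * ⁅a0, j⁆ ∈ cj (s * a) B := fun j hj j' hj' e => by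
    have := conj_mem_cj (s * a) hj.1
    rwa [show s * a * j * (s * a)⁻¹ = s * (a * j * a⁻¹) * s⁻¹ by group, cj1 a j, ← conj_mul, ← e, k3 j' hj', k2 j hj]
      at this
  rcases hg.ln A B hA _ (h.cjm B hA.r (s * a)) (ne_bot_of_mem (mem_inf.2 ⟨conj_mem_cj _ m0.1,
    conj_mem (mul_mem sW (NW ha)) (axLeW' A B m0)⟩) fun e => j1 (conj_eq_one_iff.1 e)) with e | ⟨a', ha', e⟩
  · obtain ⟨j', hj', e1⟩ := h.comm_surj hA.toAdj h0 n0 (h.comm_mem hA.toAdj ha m0)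
    have := e ▸ k4 j0 m0 j' hj' e1
    rw [Subgroup.mul_mem_cancel_right _ (h.comm_mem hA.toAdj h0 m0).1] at this
    rw [eq_one h hA.l hA.r hA.ne this hj'.1] at e1
    exact absurd (h.comm_inj hA.toAdj ha hn m0 (one_mem _) (by simpa using e1.symm)) j1
  · refine ⟨a', ha', fun j hj j' hj' e1 => ?_⟩
    have hi := h.comm_mem hA.toAdj h0 hj
    have hi' := h.comm_mem hA.toAdj ha' hj'
    have := (e.trans ((congrArg (cj · B) (inv_eq h hA.l ha')).symm)) ▸ k4 j hj j' hj' e1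
    rw [mem_cj, inv_inv, ← conj_mul, h.comm hA.l ha' hi.1, mul_inv_cancel_right, cj1, cm _ hi' _ hj', mul_assoc,
      Subgroup.mul_mem_cancel_left _ hj'.1] at this
    rw [eq_inv_of_mul_eq_one_left (eq_one h hA.l hA.r hA.ne (mul_mem hi'.1 hi.1) this), inv_eq h hA.l hi.1]

theorem CL.lin (h : Sit Ω) (hg : Good Ω) (hu : Uniq Ω) (hc : CL Ω) (hA : A ∈ Ω) :
    ∃ (K : Type) (_ : Field K) (_ : Fintype K) (n : ℕ) (ι : (Fin n → K) → G),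
      CharP K 2 ∧ Lin Ω A ι := by
  obtain ⟨V, _, _, κ, mul, inj, mem⟩ : ∃ (V : Type u) (_ : AddCommGroup V) (_ : Finite V) (κ : V → G),
      (∀ v w, κ (v + w) = κ v * κ w) ∧ Function.Injective κ ∧ ∀ x, x ∈ A ↔ ∃ v, κ v = x :=
    let _ : CommGroup A := { (inferInstance : Group A) with mul_comm := fun a b => Subtype.ext (h.comm hA a.2 b.2) }
    ⟨Additive A, inferInstance, inferInstance, fun v => v.toMul, fun _ _ => rfl,
      fun _ _ e => Subtype.ext e, fun x => ⟨fun m => ⟨.ofMul ⟨x, m⟩, rfl⟩, fun ⟨v, e⟩ => e ▸ v.toMul.2⟩⟩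
  have kA : ∀ v, κ v ∈ A := fun v => (mem _).2 ⟨v, rfl⟩
  have k0 : κ 0 = 1 := by simpa using mul 0 0
  have k1 : ∀ v, κ v = 1 → v = 0 := fun v e => inj (e.trans k0.symm)
  have two : ∀ v : V, v + v = 0 := fun v => k1 _ (by rw [mul, h.sq A hA _ (kA v)])
  have exμ : ∀ m ∈ N[A], ∃ μ : V ≃+ V, ∀ v, κ (μ v) = m * κ v * m⁻¹ := fun m hm => by
    choose f hf using fun v => (mem _).1 (conj_mem hm (kA v))
    let f' : V →+ V := AddMonoidHom.mk' f fun v w => inj (by rw [mul, hf, hf, hf, mul, conj_mul])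
    exact ⟨AddEquiv.ofBijective f' (Finite.injective_iff_bijective.1 fun v w e => inj (by
      simpa [hf] using (hf v).symm.trans ((congrArg κ e).trans (hf w)))), hf⟩
  have cj1 : ∀ v j, κ v * ⁅κ v, j⁆ = j * κ v * j⁻¹ := fun v j => by
    rw [commutatorElement_def, ← mul_assoc, ← mul_assoc, ← mul_assoc, h.sq A hA _ (kA v), one_mul, inv_eq h hA (kA v)]
  have exτ : ∀ j ∈ N[A], ∃ τ : V →+ V, ∀ v, κ (τ v) = ⁅κ v, j⁆ := fun j hj => by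
    obtain ⟨μ, hμ⟩ := exμ j hj
    exact ⟨.id V + μ, fun v => by
      change κ (v + μ v) = _
      rw [mul, hμ, ← cj1, ← mul_assoc, h.sq A hA _ (kA v), one_mul]⟩
  let I : {B // Top Ω A B} → AddSubgroup V := fun B =>
    { carrier := {v | κ v ∈ N[B.1]}
      zero_mem' := by change κ 0 ∈ N[B.1]; rw [k0]; exact one_mem _
      add_mem' := fun {v w} hv hw => by change κ _ ∈ N[B.1]; rw [mul]; exact mul_mem hv hw
      neg_mem' := fun {v} hv => by rwa [neg_eq_of_add_eq_zero_right (two v)] }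
  let T : {B // Top Ω A B} → Set (V →+ V) := fun B => {τ | ∃ j ∈ ax B.1 A, ∀ v, κ (τ v) = ⁅κ v, j⁆}
  have eI : ∀ B C, I B = I C ↔ ax A B.1 = ax A C.1 := fun B C => ⟨fun e => Subgroup.ext fun x =>
    and_congr_right fun m => by
      obtain ⟨v, rfl⟩ := (mem x).1 m
      exact SetLike.ext_iff.1 e v, fun e => AddSubgroup.ext fun v =>
        (and_iff_right (kA v)).symm.trans ((SetLike.ext_iff.1 e (κ v)).trans (and_iff_right (kA v)))⟩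
  have tcj : ∀ m ∈ N[A], ∀ C, Top Ω A C → Top Ω A (cj m C) := fun m hm C hC => by
    simpa only [cj_of_mem_N hm] using h.top_cj hC m
  have acj : ∀ m ∈ N[A], ∀ C, ax (cj m C) A = cj m (ax C A) := fun m hm C => by rw [cj_ax, cj_of_mem_N hm]
  have L : H17.TL.LS I T := by
    refine ⟨two, ?_, ?_, ?_, fun B v hv u hu => ?_, ?_, fun B C e v => ?_, fun B C e => ?_,
      fun B C D E e1 e2 hle v hv => by_contra fun hn => e2 ((eI _ _).2 ?_), fun B => ?_, fun B C e => ?_, ?_,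
      fun B => ?_⟩
    · rintro B τ ⟨j, hj, e⟩ v
      exact show κ _ ∈ N[B.1] from e v ▸ (h.comm_mem B.2.toAdj (kA v) hj).2
    · rintro B τ ⟨j, hj, e⟩ v hv
      exact k1 _ (by rw [e, commutatorElement_eq_one_iff_mul_comm, h.commAx hA B.2.r ⟨kA v, hv⟩ hj])
    · rintro B τ ⟨j, hj, e⟩ v hv e1 w
      refine k1 _ ?_
      rw [e, h.comm_inj B.2.toAdj (kA v) hv hj (one_mem _) (by rw [← e, e1, k0]; simp)]
      simp
    · obtain ⟨j, hj, e⟩ := h.comm_surj B.2.toAdj (kA v) hv ⟨kA u, hu⟩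
      obtain ⟨τ, e1⟩ := exτ j hj.2
      exact ⟨τ, ⟨j, hj, e1⟩, inj (by rw [e1, e])⟩
    · rintro B τ ⟨j, hj, e⟩ τ' ⟨j', hj', e'⟩
      refine ⟨_, mul_mem hj hj', fun v => ?_⟩
      rw [AddMonoidHom.add_apply, mul, e, e', show ⁅κ v, j * j'⁆ = ⁅κ v, j⁆ * (j * ⁅κ v, j'⁆ * j⁻¹) by
        simp only [commutatorElement_def]; group,
        ← h.commAx hA B.2.r (h.comm_mem B.2.toAdj (kA v) hj') hj, mul_inv_cancel_right]
    · obtain ⟨x, hx, y, hy, e1⟩ := (mem_sup_of_norm (A := ax A B.1) (B := ax A C.1) (norm_of_cent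
        (le_C_iff.2 fun x hx y hy => h.comm hA hx.1 hy.1))).1 ((hc.sup A _ _ B.2 C.2 (mt (eI _ _).2 e)).ge (kA v))
      obtain ⟨x, rfl⟩ := (mem x).1 hx.1
      obtain ⟨y, rfl⟩ := (mem y).1 hy.1
      exact ⟨x, hx.2, y, hy.2, inj (by rw [mul, e1])⟩
    · obtain ⟨x, hx, x1⟩ := exists_ne_one (hc.inf A _ _ B.2 C.2 (mt (eI _ _).2 e))
      obtain ⟨x, rfl⟩ := (mem x).1 hx.1.1
      exact ⟨x, fun e => x1 (e ▸ k0), hx.1.2, hx.2.2⟩
    · refine big h hc B.2 C.2 (mt (eI _ _).2 e1) D.2 E.2 (fun x hx => ?_) ⟨kA v, hv.1⟩ ⟨kA v, hv.2⟩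
        fun e => hn ⟨e.1.2, e.2.2⟩
      obtain ⟨x, rfl⟩ := (mem x).1 hx.1.1
      exact ⟨⟨kA x, (hle ⟨hx.1.2, hx.2.2⟩).1⟩, kA x, (hle ⟨hx.1.2, hx.2.2⟩).2⟩
    · obtain ⟨C, hC, e⟩ := hc.two.exists_ne h B.2
      exact ⟨⟨C, hC⟩, fun e1 => e ((eI _ _).1 e1).symm⟩
    · rintro τ ⟨j, hj, e1⟩
      obtain ⟨a, ha, e2⟩ := hu A _ _ B.2 C.2.toAdj ((eI _ _).1 e).symm
      refine ⟨a * j * a⁻¹, by rw [e2, acj a (norm_self _ ha)]; exact conj_mem_cj a hj, fun v => ?_⟩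
      rw [e1, show ⁅κ v, a * j * a⁻¹⁆ = κ v * (a * (j * (a⁻¹ * (κ v)⁻¹ * a) * j⁻¹) * a⁻¹) by
        simp only [commutatorElement_def]; group, mul_assoc a⁻¹, h.comm hA (inv_mem (kA v)) ha, inv_mul_cancel_left,
        h.comm hA ha (conj_mem hj.2 (inv_mem (kA v))), mul_inv_cancel_right, commutatorElement_def]
      group
    · rintro B τ ⟨j, hj, e⟩ C
      have ji := inv_eq h B.2.r hj.1
      have e1 : ∀ v, κ (v + τ v) = j * κ v * j⁻¹ := fun v => by rw [mul, e, cj1]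
      refine ⟨⟨_, tcj j⁻¹ (inv_mem hj.2) _ C.2⟩, fun v => ?_, ?_⟩
      · change κ v ∈ N[cj j⁻¹ C.1] ↔ κ _ ∈ N[C.1]
        rw [e1, ← cj_N, mem_cj, inv_inv]
      · rintro ρ ⟨j2, h2, e2⟩
        rw [acj _ (inv_mem hj.2), mem_cj, inv_inv] at h2
        obtain ⟨ρ', e3⟩ := exτ _ h2.2
        refine ⟨ρ', ⟨_, h2, e3⟩, fun v => inj ?_⟩
        rw [e1, e2, e3, e1, conjugate_commutatorElement]
    · obtain ⟨a0, h0, n0⟩ := h.exists_not_mem B.2.toAdj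
      obtain ⟨a0, rfl⟩ := (mem a0).1 h0
      refine ⟨a0, n0, fun a ha => ?_⟩
      obtain ⟨a', ha', e⟩ := hg.inv17 h B.2 h0 n0 (kA a) ha
      obtain ⟨a', rfl⟩ := (mem a').1 ha'
      refine ⟨a', ?_⟩
      rintro τ ⟨j, hj, e1⟩ τ' ⟨j', hj', e2⟩ e3
      exact inj (by rw [e1, e2, e j hj j' hj' (by rw [← e1, ← e2, e3])])
  have : Nonempty {B // Top Ω A B} := by
    obtain ⟨_, _, _, h1, -⟩ := hc.two
    exact ⟨⟨_, (h.exists_top h1.toAdj hA).choose_spec⟩⟩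
  obtain ⟨K, _, _, n, e, ch, n3, hf, ht, hs⟩ := L.main
  have ex1 : ∀ f : Module.Dual K (Fin n → K), f ≠ 0 → ∃ a, f a = 1 := fun f f0 => by
    obtain ⟨a, ha⟩ := DFunLike.ne_iff.1 f0
    exact ⟨(f a)⁻¹ • a, by rw [map_smul, smul_eq_mul, inv_mul_cancel₀ ha]⟩
  have tv : ∀ f B (hB : IsAx Ω A (fun v => κ (e v)) f B), ∀ j ∈ ax B A, ∀ τ : V →+ V, (∀ v, κ (τ v) = ⁅κ v, j⁆) →
      ∀ a, f a = 1 → Tv (fun v => κ (e v)) j (e.symm (τ (e a))) f := fun f B hB j hj τ e1 a ha v => by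
    rw [← cj1, ← e1, ht ⟨B, hB.top⟩ τ ⟨j, hj, e1⟩ f hB.iff a ha v, ← mul, ← map_add]
  refine ⟨K, inferInstance, inferInstance, n, fun v => κ (e v), ch, hA, n3, fun v w => by rw [map_add, mul],
    inj.comp e.injective, fun x => (mem x).trans e.surjective.exists, fun B hB => ?_, fun f B hB j hj => ?_,
    fun f B hB u hu => ?_, fun m hm => ?_⟩
  · obtain ⟨f, f0, e1⟩ := hf ⟨B, hB⟩
    exact ⟨f, hB, f0, e1⟩
  · obtain ⟨a, ha⟩ := ex1 f hB.ne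
    obtain ⟨τ, e1⟩ := exτ j hj.2
    exact ⟨_, (hB.iff _).1 (by rw [e.apply_symm_apply, e1]; exact (h.comm_mem hB.top.toAdj (kA _) hj).2),
      tv f B hB j hj τ e1 a ha⟩
  · obtain ⟨a, ha⟩ := ex1 f hB.ne
    obtain ⟨τ, ⟨j, hj, e1⟩, e2⟩ := L.sur ⟨B, hB.top⟩ (e a) (fun m => one_ne_zero (ha ▸ (hB.iff a).1 m)) (e u)
      ((hB.iff u).2 hu)
    exact ⟨j, hj, by simpa only [e2, e.symm_apply_apply] using tv f B hB j hj τ e1 a ha⟩
  · obtain ⟨μ, hμ⟩ := exμ m hm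
    obtain ⟨σ, hσ⟩ := hs μ (by
      rintro B τ ⟨j, hj, e1⟩
      have m1 : m⁻¹ * j * m⁻¹⁻¹ ∈ ax (cj m⁻¹ B.1) A := acj _ (inv_mem hm) _ ▸ conj_mem_cj _ hj
      obtain ⟨τ', e2⟩ := exτ _ m1.2
      refine ⟨⟨_, tcj _ (inv_mem hm) _ B.2⟩, τ', ⟨_, m1, e2⟩, fun v => inj ?_⟩
      rw [hμ, e1, e2, hμ, conjugate_commutatorElement]
      simp [mul_assoc])
    exact ⟨σ, fun c v w e1 => (hμ _).symm.trans (congrArg κ (hσ c v w (inj ((hμ _).trans e1))))⟩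

end H12.TI
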