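import Cfsg.Agent.H12.TIH

/-! # TI, block J: linear coordinates (proved by helper25) -/

set_option autoImplicit false
set_option linter.unusedSectionVars false
set_option linter.unusedVariables false

namespace H12.TI

open Cfsg H24 Subgroup
open scoped commutatorElement

universe u

variable {G : Type u} [Group G] [Finite G] {Ω : Set (Subgroup G)}
  {A B C D F I P Q R S T U : Subgroup G} {a a' b c d d' g i j j' p r s t w x y ρ κ : G}

variable {K : Type} [Field K] [Fintype K] {n : ℕ} {ι : (Fin n → K) → G}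
  {f f' : Module.Dual K (Fin n → K)} {u v : Fin n → K}

namespace TJ

theorem ι0 (hl : Lin Ω A ι) : ι 0 = 1 := by
  have := hl.mul 0 0
  rw [add_zero] at this
  exact left_eq_mul.1 this

theorem memA (hl : Lin Ω A ι) (v : Fin n → K) : ι v ∈ A := (hl.mem _).2 ⟨v, rfl⟩

theorem add_self (h : Sit Ω) (hl : Lin Ω A ι) (v : Fin n → K) : v + v = 0 :=
  hl.inj (by rw [hl.mul, h.sq A hl.pt _ (memA hl v), ι0 hl])

theorem two0 (h : Sit Ω) (hl : Lin Ω A ι) (c : K) : c + c = 0 :=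
  congrFun (add_self h hl fun _ => c) ⟨0, lt_of_lt_of_le (by norm_num) hl.three⟩

theorem ι_eq_one (hl : Lin Ω A ι) : ι v = 1 ↔ v = 0 := by rw [← ι0 hl, hl.inj.eq_iff]

theorem exists_one (hf : f ≠ 0) : ∃ v, f v = 1 := by
  obtain ⟨v, hv⟩ := DFunLike.ne_iff.1 hf
  exact ⟨(f v)⁻¹ • v, by rw [map_smul, smul_eq_mul, inv_mul_cancel₀ hv]⟩

theorem dep_or (f f' : Module.Dual K (Fin n → K)) (hf : f ≠ 0) :
    (∃ c : K, f' = c • f) ∨ ∃ u, f u = 0 ∧ f' u = 1 := by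
  by_cases k : ∀ u, f u = 0 → f' u = 0
  · obtain ⟨v, hv⟩ := exists_one hf
    refine Or.inl ⟨f' v, LinearMap.ext fun x => ?_⟩
    have := k (x - f x • v) (by simp [hv])
    rw [map_sub, map_smul, sub_eq_zero] at this
    simp [this, mul_comm]
  · push Not at k
    obtain ⟨u, h1, h2⟩ := k
    exact Or.inr ⟨(f' u)⁻¹ • u, by simp [h1], by simp [h2]⟩

theorem ax_cjg (h : Sit Ω) (hB : IsAx Ω A ι f B) (g : G) :
    IsAx Ω (cj g A) (fun v => g * ι v * g⁻¹) f (cj g B) :=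
  ⟨h.top_cj hB.top g, hB.ne, fun v => by rw [← cj_N, conj_mem_cj_iff]; exact hB.iff v⟩

theorem ax_cjg' (h : Sit Ω) (hB : IsAx Ω (cj g A) (fun v => g * ι v * g⁻¹) f (cj g B)) :
    IsAx Ω A ι f B := by
  have := ax_cjg h hB g⁻¹
  simpa [mul_assoc] using this

theorem tv_cjg : Tv (fun v => g * ι v * g⁻¹) (g * j * g⁻¹) u f ↔ Tv ι j u f :=
  forall_congr' fun v => by
    rw [show g * j * g⁻¹ * (g * ι v * g⁻¹) * (g * j * g⁻¹)⁻¹ = g * (j * ι v * j⁻¹) * g⁻¹ by group]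
    simp

theorem scal (hB : IsAx Ω A ι f B) {c : K} (hc : c ≠ 0) : IsAx Ω A ι (c • f) B :=
  ⟨hB.top, smul_ne_zero hc hB.ne, fun v => by simp [hB.iff, hc]⟩

theorem memI (hl : Lin Ω A ι) (hB : IsAx Ω A ι f B) : ι v ∈ ax A B ↔ f v = 0 :=
  ⟨fun m => (hB.iff v).1 m.2, fun m => ⟨memA hl v, (hB.iff v).2 m⟩⟩

theorem tv_N (hl : Lin Ω A ι) (t : Tv ι j u f) : j ∈ N[A] := mem_N_of_finite fun x hx => by
  obtain ⟨v, rfl⟩ := (hl.mem x).1 hx
  rw [t v]; exact memA hl _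

theorem tv_comm (hl : Lin Ω A ι) (t : Tv ι j u f) : j * ι v = ι v * j ↔ f v • u = 0 := by
  rw [← mul_inv_eq_iff_eq_mul, t v, hl.inj.eq_iff, add_eq_left]

theorem tv_C (hl : Lin Ω A ι) (t : ∀ v, x * ι v * x⁻¹ = ι v) : x ∈ C[A] := mem_C'.2 fun a ha => by
  obtain ⟨v, rfl⟩ := (hl.mem a).1 ha
  exact mul_inv_eq_iff_eq_mul.1 (t v)

theorem tv_uniq (hl : Lin Ω A ι) (hf : f ≠ 0) (t : Tv ι j u f) (t' : Tv ι j v f) : u = v := by
  obtain ⟨x, hx⟩ := exists_one hf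
  have := hl.inj ((t x).symm.trans (t' x))
  simpa [hx] using this

theorem fu0 (hl : Lin Ω A ι) (hB : IsAx Ω A ι f B) (hj : j ∈ ax B A) (t : Tv ι j u f) : f u = 0 := by
  obtain ⟨u', h1, h2⟩ := hl.tv f B hB j hj
  rwa [tv_uniq hl hB.ne t h2]

theorem tv_notA (h : Sit Ω) (hl : Lin Ω A ι) (hf : f ≠ 0) (hu : u ≠ 0) (t : Tv ι j u f) : j ∉ A :=
  fun m => by
    obtain ⟨x, hx⟩ := exists_one hf
    have := (tv_comm hl t (v := x)).1 (h.comm hl.pt m (memA hl x))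
    rw [hx, one_smul] at this
    exact hu this

theorem tv_ne (h : St Ω) (hl : Lin Ω A ι) (t : Tv ι j u f) (hj : j ∉ A) : u ≠ 0 := fun e =>
  hj (h.cent A hl.pt (tv_C hl fun v => by rw [t v, e, smul_zero, add_zero]))

theorem tv_cj (h : Sit Ω) (hl : Lin Ω A ι) {k : G} {w : Fin n → K} {g : Module.Dual K (Fin n → K)}
    (t : Tv ι j u f) (t' : Tv ι k w g) (hk : k * k = 1) (gw : g w = 0) :
    Tv ι (k * j * k⁻¹) (u + g u • w) (f + f w • g) := fun v => by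
  have ki := TH.inv_of_sq hk
  have : k * j * k⁻¹ * ι v * (k * j * k⁻¹)⁻¹ = k * (j * (k * ι v * k⁻¹) * j⁻¹) * k⁻¹ := by
    conv_lhs => rw [mul_inv_rev, mul_inv_rev, inv_inv]
    nth_rewrite 1 [ki]
    nth_rewrite 2 [ki]
    group
  rw [this, t', t, t']
  congr 1
  have e := add_self h hl (g v • w)
  simp only [map_add, map_smul, gw, smul_eq_mul, LinearMap.add_apply, LinearMap.smul_apply, mul_zero,
    add_zero, smul_add, add_smul, smul_smul]
  linear_combination (norm := module) e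

theorem DD_cj (h : Sit Ω) (hd : d ∈ DD Ω) (g : G) : g * d * g⁻¹ ∈ DD Ω := by
  obtain ⟨h1, B, h2, h3⟩ := hd
  exact ⟨by simpa using h1, cj g B, h.cjm B h2 g, conj_mem_cj g h3⟩

theorem same0 (h : St Ω) (hl : Lin Ω A ι) (hB : IsAx Ω A ι f B) (hj : j ∈ DD Ω) (hjA : j ∉ A)
    (t : Tv ι j u f) : ∃ k ∈ ax B A, Tv ι k u f ∧ ∃ c : K, j = k * ι (c • u) := by
  obtain ⟨j1, P, hP, jP⟩ := hj
  have s := h.toSit
  have u0 := tv_ne h hl t hjA
  have jN := tv_N hl t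
  have ad : Adj Ω A P := s.adj_of_mem hl.pt hP (fun e => hjA (e ▸ jP)) jP j1 jN
  obtain ⟨a, a1, rfl⟩ := h.uniq A B P hB.top ad (by
    ext x
    refine and_congr_right fun hx => ?_
    obtain ⟨v, rfl⟩ := (hl.mem x).1 hx
    change ι v ∈ N[P] ↔ ι v ∈ N[B]
    rw [← s.cent_iff ad ⟨jP, jN⟩ j1 hx, eq_comm, tv_comm hl t, hB.iff, smul_eq_zero]
    simp [u0])
  have m : j ∈ cj a (ax B A) := TH.ax_cj' (norm_self A a1) ▸ ⟨jP, jN⟩
  obtain ⟨k, k1, rfl⟩ := mem_cj'.1 m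
  have tk : Tv ι k u f := fun v => by
    have := t v
    rw [show a * k * a⁻¹ * ι v * (a * k * a⁻¹)⁻¹ = a * (k * (a⁻¹ * ι v * a) * k⁻¹) * a⁻¹ by group,
      s.comm hl.pt (inv_mem a1) (memA hl v), inv_mul_cancel_right, mul_inv_eq_iff_eq_mul,
      s.comm hl.pt (memA hl _) a1] at this
    exact mul_left_cancel this
  obtain ⟨w, rfl⟩ := (hl.mem a).1 a1
  refine ⟨k, k1, tk, f w, ?_⟩
  have ki := TH.inv_of_sq (s.sq B hB.top.r k k1.1)
  have := tk w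
  rw [hl.mul, s.comm hl.pt a1 (memA hl _), ki] at this
  calc ι w * k * (ι w)⁻¹ = k⁻¹ * (k * ι w * k) * (ι w)⁻¹ := by group
    _ = _ := by rw [this, ki]; group

theorem eq_of_tv (h : St Ω) (hl : Lin Ω A ι) (hB : Adj Ω A B) (hj : j ∈ B) (hj' : j' ∈ B)
    (e : ∀ v, j * ι v * j⁻¹ = j' * ι v * j'⁻¹) : j = j' := by
  have : j'⁻¹ * j ∈ C[A] := tv_C hl fun v => by
    rw [show j'⁻¹ * j * ι v * (j'⁻¹ * j)⁻¹ = j'⁻¹ * (j * ι v * j⁻¹) * j' by group, e]; group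
  have := mem_bot.1 ((h.toSit.inf_C hB.r hB.l hB.ne.symm).le (mem_inf.2 ⟨mul_mem (inv_mem hj') hj, this⟩))
  exact (inv_mul_eq_one.1 this).symm

theorem W_N (h : Sit Ω) (hA : Adj Ω A B) (ha : a ∈ A) : Wl A B ≤ N[cj a B] := by
  have : Wl A B ≤ N[B] := sup_le inf_le_right (norm_of_le inf_le_left)
  have := norm_cj this a
  rwa [cj_of_mem_N (h.le_N_Wl hA ha)] at this

theorem ax_eq (hl : Lin Ω A ι) (hB : IsAx Ω A ι f B) (hC : IsAx Ω A ι f' C) {c : K} (e : f' = c • f) :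
    ax A C = ax A B := by
  have c0 : c ≠ 0 := fun k => hC.ne (by rw [e, k, zero_smul])
  ext x
  refine and_congr_right fun hx => ?_
  obtain ⟨v, rfl⟩ := (hl.mem x).1 hx
  change ι v ∈ N[C] ↔ ι v ∈ N[B]
  simp [hC.iff, hB.iff, e, c0]

end TJ

open TJ

theorem Lin.cj (h : Sit Ω) (hl : Lin Ω A ι) (g : G) : Lin Ω (cj g A) fun v => g * ι v * g⁻¹ := by
  have sj : ∀ B : Subgroup G, ∃ B', B = H24.cj g B' := fun B => ⟨H24.cj g⁻¹ B, by simp⟩
  refine ⟨h.cjm A hl.pt g, hl.three, fun v w => by rw [hl.mul]; group,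
    fun v w e => hl.inj (by simpa using e), fun x => ?_, fun B hB => ?_, fun f B hB j hj => ?_,
    fun f B hB u hu => ?_, fun m hm => ?_⟩
  · rw [mem_cj']
    exact ⟨fun ⟨y, y1, y2⟩ => by obtain ⟨v, rfl⟩ := (hl.mem y).1 y1; exact ⟨v, y2.symm⟩,
      fun ⟨v, e⟩ => ⟨_, memA hl v, e.symm⟩⟩
  · obtain ⟨B, rfl⟩ := sj B
    obtain ⟨f, hf⟩ := hl.exf B (by simpa using h.top_cj hB g⁻¹)
    exact ⟨f, ax_cjg h hf g⟩
  · obtain ⟨B, rfl⟩ := sj B
    rw [← cj_ax] at hj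
    obtain ⟨j, j1, rfl⟩ := mem_cj'.1 hj
    obtain ⟨u, u1, u2⟩ := hl.tv f B (ax_cjg' h hB) j j1
    exact ⟨u, u1, tv_cjg.2 u2⟩
  · obtain ⟨B, rfl⟩ := sj B
    obtain ⟨j, j1, j2⟩ := hl.ext f B (ax_cjg' h hB) u hu
    exact ⟨g * j * g⁻¹, cj_ax g B A ▸ conj_mem_cj g j1, tv_cjg.2 j2⟩
  · rw [← cj_N] at hm
    obtain ⟨m, m1, rfl⟩ := mem_cj'.1 hm
    obtain ⟨σ, hσ⟩ := hl.semi m m1
    refine ⟨σ, fun c v w e => ?_⟩
    have k : ∀ x : G, g * m * g⁻¹ * (g * x * g⁻¹) * (g * m * g⁻¹)⁻¹ = g * (m * x * m⁻¹) * g⁻¹ :=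
      fun x => by group
    rw [k] at e ⊢
    rw [hσ c v w (by simpa using e)]

theorem All.cj (h : Sit Ω) (hl : All Ω A ι) (g : G) : All Ω (cj g A) fun v => g * ι v * g⁻¹ :=
  fun f hf => by
    obtain ⟨B, hB⟩ := hl f hf
    exact ⟨_, ax_cjg h hB g⟩

theorem IsAx.cj (h : Sit Ω) (hl : Lin Ω A ι) (hB : IsAx Ω A ι f B) (ha : a ∈ A) :
    IsAx Ω A ι f (cj a B) :=
  ⟨TH.top_K h hB.top (norm_self A ha), hB.ne, fun v => by
    rw [← cj_N, mem_cj, h.comm hl.pt (inv_mem ha) (memA hl v), inv_mul_cancel_right]; exact hB.iff v⟩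

theorem IsAx.add (h : Sit Ω) (hl : Lin Ω A ι) (hB : IsAx Ω A ι f B) (hC : IsAx Ω A ι f' C)
    (hne : f + f' ≠ 0) : ∃ D, IsAx Ω A ι (f + f') D := by
  rcases dep_or f f' hB.ne with ⟨c, rfl⟩ | ⟨u, u1, u2⟩
  · have e : f + c • f = (1 + c) • f := by rw [add_smul, one_smul]
    rw [e] at hne ⊢
    exact ⟨B, scal hB fun k => hne (by rw [k, zero_smul])⟩
  · obtain ⟨j, j1, j2⟩ := hl.ext f B hB u u1
    refine ⟨H24.cj j C, TH.top_K h hC.top j1.2, hne, fun v => ?_⟩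
    have ji := TH.inv_of_sq (h.sq B hB.top.r j j1.1)
    rw [← cj_N, mem_cj, show j⁻¹ * ι v * j = j * ι v * j⁻¹ by rw [ji], j2, hC.iff]
    simp [u2, add_comm]

theorem Lin.all_rad (h : Sit Ω) (hl : Lin Ω A ι) (hf : f ≠ 0) (h0 : ∀ v, ι v ∈ rad Ω A → f v = 0) :
    ∃ B, IsAx Ω A ι f B := by
  let Φ : Submodule K (Module.Dual K (Fin n → K)) :=
    { carrier := {g | g = 0 ∨ ∃ B, IsAx Ω A ι g B}
      zero_mem' := Or.inl rfl
      add_mem' := by
        rintro g g' (rfl | ⟨B, hB⟩) (rfl | ⟨C, hC⟩)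
        · exact Or.inl (add_zero _)
        · exact Or.inr ⟨C, by rwa [zero_add]⟩
        · exact Or.inr ⟨B, by rwa [add_zero]⟩
        · exact (em (g + g' = 0)).imp id (hB.add h hl hC)
      smul_mem' := by
        rintro c g (rfl | ⟨B, hB⟩)
        · exact Or.inl (smul_zero _)
        · by_cases k : c = 0
          · exact Or.inl (by rw [k, zero_smul])
          · exact Or.inr ⟨B, scal hB k⟩ }
  have : f ∈ Φ := by
    rw [← Subspace.dualCoannihilator_dualAnnihilator_eq (W := Φ), Submodule.mem_dualAnnihilator]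
    intro v hv
    rw [Submodule.mem_dualCoannihilator] at hv
    refine h0 v (memRad.2 ⟨memA hl v, fun B hB => ?_⟩)
    obtain ⟨g, hg⟩ := hl.exf B hB
    exact (hg.iff v).2 (hv g (Or.inr ⟨B, hg⟩))
  exact this.resolve_left hf

/-- elements of points inside a top line which act in the same way differ by `[A, j]` -/
theorem Lin.same (h : St Ω) (hl : Lin Ω A ι) (hB : IsAx Ω A ι f B) (hj : j ∈ DD Ω) (hj' : j' ∈ DD Ω)
    (hjA : j ∉ A) (hjA' : j' ∉ A) (t : Tv ι j u f) (t' : Tv ι j' u f) :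
    j ∈ Wl A B ∧ ∃ c : K, j' = j * ι (c • u) := by
  obtain ⟨k, k1, k2, c, rfl⟩ := same0 h hl hB hj hjA t
  obtain ⟨k', k1', k2', c', rfl⟩ := same0 h hl hB hj' hjA' t'
  obtain rfl := eq_of_tv h hl hB.top.toAdj k1.1 k1'.1 fun v => (k2 v).trans (k2' v).symm
  refine ⟨mul_mem (axLeW' A B k1) (axLeW A B ((memI hl hB).2 ?_)), c' - c, ?_⟩
  · rw [map_smul, fu0 hl hB k1 k2, smul_zero]
  · rw [mul_assoc, ← hl.mul, ← add_smul, add_sub_cancel]

/-- `θ = 0` -/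
theorem Lin.theta (h : St Ω) (hl : Lin Ω A ι) (hB : IsAx Ω A ι f B) (hC : IsAx Ω A ι f' C)
    (hj : j ∈ ax B A) (t : Tv ι j u f) : j ∈ N[C] ↔ f' u = 0 := by
  have s := h.toSit
  have fu := fu0 hl hB hj t
  constructor
  · intro m
    rcases dep_or f' f hC.ne with ⟨c, e⟩ | ⟨v, v1, v2⟩
    · have c0 : c ≠ 0 := fun k => hB.ne (by rw [e, k, zero_smul])
      rw [e] at fu
      simpa [c0] using fu
    · have := conj_mem (norm_N (X := zpowers j) (zpowers_le.2 m) (mem_zpowers j)) ((hC.iff v).2 v1)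
      rw [t v, hC.iff] at this
      simpa [v1, v2] using this
  intro fu'
  by_cases u0 : u = 0
  · have : j = 1 := eq_of_tv h hl hB.top.toAdj hj.1 (one_mem B) fun v => by simp [t v, u0]
    rw [this]; exact one_mem _
  rcases dep_or f f' hB.ne with ⟨c, e⟩ | ⟨v0, a0, b0⟩
  · obtain ⟨a, a1, rfl⟩ := h.uniq A B C hB.top hC.top.toAdj (ax_eq hl hB hC e)
    exact W_N s hB.top.toAdj a1 (axLeW' A B hj)
  rcases dep_or f' f hC.ne with ⟨c, e⟩ | ⟨v1, a1, b1⟩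
  · have c0 : c ≠ 0 := fun k => hB.ne (by rw [e, k, zero_smul])
    rw [e] at a0
    simp [c0, b0] at a0
  obtain ⟨j', j1, t'⟩ := hl.ext f' C hC u fu'
  obtain ⟨k, k1, tk⟩ := hl.ext f B hB v0 a0
  obtain ⟨k', k1', tk'⟩ := hl.ext f' C hC v1 a1
  have sj := s.sq B hB.top.r j hj.1
  have sj' := s.sq C hC.top.r j' j1.1
  have nj := tv_notA s hl hB.ne u0 t
  have nj' := tv_notA s hl hC.ne u0 t'
  have dj : j ∈ DD Ω := ⟨neOne nj, B, hB.top.r, hj.1⟩
  have dj' : j' ∈ DD Ω := ⟨neOne nj', C, hC.top.r, j1.1⟩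
  have t1 : Tv ι (j * j' * j⁻¹) u f' := by simpa [fu, fu'] using tv_cj s hl t' t sj fu
  obtain ⟨-, c, e1⟩ := hl.same h hC dj' (DD_cj s dj' j) nj' (tv_notA s hl hC.ne u0 t1) t' t1
  have ne : f + f' ≠ 0 := fun e => by simpa [a0, b0] using congrArg (fun g => g v0) e
  obtain ⟨D, hD⟩ := hB.add s hl hC ne
  have t3 : Tv ι (k * j' * k⁻¹) u (f + f') := by
    simpa [fu, b0, add_comm] using tv_cj s hl t' tk (s.sq B hB.top.r k k1.1) a0
  have t3' : Tv ι (k' * j * k'⁻¹) u (f + f') := by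
    simpa [fu', b1] using tv_cj s hl t tk' (s.sq C hC.top.r k' k1'.1) a1
  obtain ⟨-, c', e2⟩ := hl.same h hD (DD_cj s dj' k) (DD_cj s dj k') (tv_notA s hl ne u0 t3)
    (tv_notA s hl ne u0 t3') t3 t3'
  have cm : ∀ {x : G} {w : Fin n → K} {g : Module.Dual K (Fin n → K)}, Tv ι x w g → g u = 0 → ∀ c : K,
      Commute x (ι (c • u)) := fun tx gu c => (tv_comm hl tx).2 (by simp [gu])
  have p1 := cm t fu c
  have p2 := cm t' fu' c
  have p3 := cm t3 (by simp [fu, fu']) c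
  have p4 := cm tk fu c
  have p5 := cm tk' fu' c
  have p6 := cm t' fu' c'
  have p7 : ι (c • u) * ι (c • u) = 1 := s.sq A hl.pt _ (memA hl _)
  have q1 : k * j = j * k := s.comm hB.top.r k1.1 hj.1
  have q2 : k' * j' = j' * k' := s.comm hC.top.r k1'.1 j1.1
  have s3 : k * j' * k⁻¹ * (k * j' * k⁻¹) = 1 := by
    rw [show k * j' * k⁻¹ * (k * j' * k⁻¹) = k * (j' * j') * k⁻¹ by group, sj']; group
  generalize ι (c • u) = φ at e1 p1 p2 p3 p4 p5 p7
  have r1 : j * (k * j' * k⁻¹) * j⁻¹ = k * j' * k⁻¹ * φ := by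
    calc _ = (j * k) * j' * (j * k)⁻¹ := by group
      _ = k * (j * j' * j⁻¹) * k⁻¹ := by rw [← q1]; group
      _ = _ := by rw [e1, ← mul_assoc, mul_assoc _ φ, ← p4.inv_left.eq, ← mul_assoc]
  have r2 : j' * j * j'⁻¹ = j * φ := by
    calc _ = j' * (j * j' * j⁻¹) * j := by rw [TH.inv_of_sq sj']; group
      _ = _ := by rw [e1, ← mul_assoc, sj', one_mul, p1.eq]
  have r3 : j' * (k * j' * k⁻¹) * j'⁻¹ = k * j' * k⁻¹ * φ := by
    have : j' * (k' * j * k'⁻¹) * j'⁻¹ = k' * j * k'⁻¹ * φ := by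
      calc _ = (j' * k') * j * (j' * k')⁻¹ := by group
        _ = k' * (j' * j * j'⁻¹) * k'⁻¹ := by rw [← q2]; group
        _ = _ := by rw [r2, ← mul_assoc, mul_assoc _ φ, ← p5.inv_left.eq, ← mul_assoc]
    rw [e2] at this
    have cA : ι (c' • u) * φ = φ * ι (c' • u) := by
      have : φ = j'⁻¹ * (j * j' * j⁻¹) := by rw [e1]; group
      rw [this]
      exact ((p6.inv_left.mul_left (((cm t fu c').mul_left p6).mul_left (cm t fu c').inv_left))).eq.symm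
    apply mul_right_cancel (b := ι (c' • u))
    calc _ = j' * (k * j' * k⁻¹) * (j'⁻¹ * ι (c' • u)) := by group
      _ = j' * (k * j' * k⁻¹ * ι (c' • u)) * j'⁻¹ := by rw [p6.inv_left.eq]; group
      _ = _ := by rw [this, mul_assoc, cA, ← mul_assoc]
  generalize k * j' * k⁻¹ = m at t3 p3 s3 r1 r3
  have kA : j * j' * m ∈ A := h.cent A hl.pt (tv_C hl fun v => by
    rw [show j * j' * m * ι v * (j * j' * m)⁻¹ = j * (j' * (m * ι v * m⁻¹) * j'⁻¹) * j⁻¹ by group,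
      t3, t', t]
    congr 1
    have e := add_self s hl (f v • u)
    have e' := add_self s hl (f' v • u)
    simp only [map_add, map_smul, fu, fu', smul_eq_mul, LinearMap.add_apply, mul_zero, add_zero,
      add_smul]
    linear_combination (exp := 1) e + e')
  obtain ⟨w, hw⟩ := (hl.mem _).1 kA
  have w1 : f w = 0 := by
    have := (tv_comm hl t (v := w)).1 (by
      rw [← mul_inv_eq_iff_eq_mul, hw]
      calc _ = j * (j * j' * j⁻¹) * (j * m * j⁻¹) := by group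
        _ = j * j' * (φ * m) * φ := by rw [e1, r1]; group
        _ = _ := by rw [← p3.eq, ← mul_assoc, mul_assoc _ φ, p7, mul_one])
    exact (smul_eq_zero.1 this).resolve_right u0
  have w2 : f' w = 0 := by
    have := (tv_comm hl t' (v := w)).1 (by
      rw [← mul_inv_eq_iff_eq_mul, hw]
      calc _ = (j' * j * j'⁻¹) * j' * (j' * m * j'⁻¹) := by group
        _ = j * (φ * j') * m * φ := by rw [r2, r3]; group
        _ = j * j' * (φ * m) * φ := by rw [← p2.eq]; group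
        _ = _ := by rw [← p3.eq, ← mul_assoc, mul_assoc _ φ, p7, mul_one])
    exact (smul_eq_zero.1 this).resolve_right u0
  have w3 : m * ι w = ι w * m := (tv_comm hl t3).2 (by simp [w1, w2])
  have w4 : j * j' = ι w * m := by rw [hw, mul_assoc, s3, mul_one]
  have w5 : j * j' * (j * j') = 1 := by
    rw [w4, mul_assoc, ← mul_assoc m, w3, mul_assoc, s3, mul_one]
    exact s.sq A hl.pt _ (memA hl w)
  refine s.C1_le hC.top.r j1.1 dj'.1 (mem_C1.2 ?_)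
  rw [eq_inv_of_mul_eq_one_left w5, mul_inv_rev, TH.inv_of_sq sj, TH.inv_of_sq sj']

theorem Lin.adj_top (h : St Ω) (hL : CL Ω) (hl : Lin Ω A ι) (hB : Top Ω A B) (hC : Top Ω A C)
    (hne : B ≠ C) : Adj Ω B C := by
  have s := h.toSit
  obtain ⟨f, hf⟩ := hl.exf B hB
  obtain ⟨f', hf'⟩ := hl.exf C hC
  obtain ⟨u, u1, u0⟩ := (Submodule.ne_bot_iff _).1 (LinearMap.ker_ne_bot_of_finrank_lt
    (f := f.prod f') (by have := hl.three; simp; omega))
  rw [LinearMap.mem_ker, LinearMap.prod_apply, Prod.mk_eq_zero] at u1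
  obtain ⟨j, j1, j2⟩ := hl.ext f B hf u u1.1
  exact s.adj_symm (s.adj_of_mem hC.r hB.r hne.symm j1.1 (neOne (tv_notA s hl hf.ne u0 j2))
    ((hl.theta h hf hf' j1 j2).2 u1.2))

end H12.TI
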