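import Cfsg.Agent.H12.TIJ
import Cfsg.Agent.H26.TK0

/-! # TI, block K: coordinates, `G ≅ PSL(n + 1, K)` (proved by helper26) -/

set_option autoImplicit false
set_option linter.unusedSectionVars false
set_option linter.unusedVariables false

namespace H12.TI

open Cfsg H24 Subgroup
open scoped commutatorElement

universe u

variable {G : Type u} [Group G] [Finite G] {Ω : Set (Subgroup G)}
  {A B C D F I P Q R S T U : Subgroup G} {a a' b c d d' g i j j' p r s t w x y ρ κ : G}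

variable {K : Type} [Field K] [Fintype K] {n : ℕ} {ι : (Fin n → K) → G}
  {f f' : Module.Dual K (Fin n → K)} {u v : Fin n → K}

namespace KK

open H26.TK

variable {X Y : Subgroup G}

theorem ι_mem (hl : Lin Ω A ι) (v : Fin n → K) : ι v ∈ A := (hl.mem _).2 ⟨v, rfl⟩

theorem ι_zero (hl : Lin Ω A ι) : ι 0 = 1 := by
  have := hl.mul 0 0
  rw [add_zero] at this
  exact left_eq_mul.1 this

theorem two_zero (h : Sit Ω) (hl : Lin Ω A ι) : (2 : K) = 0 := by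
  have e : ι ((fun _ => 1) + fun _ => 1) = ι 0 := by
    rw [hl.mul, h.sq _ hl.pt _ (ι_mem hl _), ι_zero hl]
  have := congrFun (hl.inj e) ⟨0, by have := hl.three; omega⟩
  simpa [one_add_one_eq_two] using this

theorem lin_at (h : Sit Ω) (hl : Lin Ω A ι) (hP : P ∈ Ω) : ∃ ι' : (Fin n → K) → G, Lin Ω P ι' := by
  obtain ⟨g, rfl⟩ := h.tr A hl.pt P hP
  exact ⟨_, hl.cj h g⟩

theorem isAx_of_eq (hl : Lin Ω A ι) (hX : IsAx Ω A ι f X) (hY : Top Ω A Y) (e : ax A X = ax A Y) :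
    IsAx Ω A ι f Y := by
  refine ⟨hY, hX.ne, fun v => ?_⟩
  rw [← hX.iff]
  have := SetLike.ext_iff.1 e (ι v)
  simp only [memAx, ι_mem hl v, true_and] at this
  exact this.symm

theorem ax_eq_of (hl : Lin Ω A ι) (hX : IsAx Ω A ι f X) (hY : IsAx Ω A ι f' Y)
    (e : ∀ v, f v = 0 ↔ f' v = 0) : ax A X = ax A Y := by
  ext x
  simp only [memAx, and_congr_right_iff]
  intro hx
  obtain ⟨v, rfl⟩ := (hl.mem x).1 hx
  rw [hX.iff, hY.iff, e]

theorem ax_cj (h : Sit Ω) (hP : P ∈ Ω) (hp : p ∈ P) (X : Subgroup G) : ax P (cj p X) = ax P X := by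
  have : ax P (cj p X) = cj p (ax P X) := by rw [cj_ax, cj_of_mem hp]
  rw [this]
  exact cj_of_mem_C (mem_C'.2 fun x hx => h.comm hP hp (memAx.1 hx).1)

theorem cj_ne (hp : p ∈ N[P]) (hX : X ≠ P) : cj p X ≠ P := fun e =>
  hX (by rw [← cj_of_mem_N hp] at e; simpa [cj_of_mem_N hp] using cj_inj.1 e)

/-- points of the line through `A` and `X` seen from `X` -/
theorem ax_line (h : Sit Ω) (hX : Adj Ω A X) (ha : a ∈ A) (hne : cj a X ≠ X) :
    ax X (cj a X) = ax X A := by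
  have hF := h.gl_Wl hX
  have o1 := h.on_Wl hX
  have o2 := h.onW' hX
  rw [hF.ax_eq _ _ o2 (o2.cj h (o1.le ha)) hne.symm, hF.ax_eq _ _ o2 o1 hX.ne.symm]

/-- the hypotheses -/
structure Hy (Ω : Set (Subgroup G)) (A : Subgroup G) (ι : (Fin n → K) → G) (B : Subgroup G) (d : G) :
    Prop where
  st : St Ω
  lin : Lin Ω A ι
  all : All Ω A ι
  top : ∀ P ∈ Ω, ∀ Q ∈ Ω, P ≠ Q → Top Ω P Q
  pt : B ∈ Ω
  mem : d ∈ B
  out : d ∉ N[A]

namespace Hy

variable (H : Hy Ω A ι B d)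
include H

theorem sit : Sit Ω := H.st.toSit

theorem l1 (hP : P ∈ Ω) (hQ : Q ∈ Ω) (hne : P ≠ Q) (hj : j ∈ Q) (hn : j ∈ N[P]) (hX : X ∈ Ω)
    (hY : Y ∈ Ω) (h1 : X ≠ P) (h2 : Y ≠ P) (e : ax P X = ax P Y) (hx : j ∈ N[X]) : j ∈ N[Y] := by
  obtain ⟨ι', hl⟩ := lin_at H.sit H.lin hP
  obtain ⟨φ, hφ⟩ := hl.exf Q (H.top _ hP _ hQ hne)
  obtain ⟨ψ, hψ⟩ := hl.exf X (H.top _ hP _ hX h1.symm)
  have hj' : j ∈ ax Q P := memAx.2 ⟨hj, hn⟩
  obtain ⟨u, -, hu⟩ := hl.tv φ Q hφ j hj'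
  exact (hl.theta H.st hφ (isAx_of_eq hl hψ (H.top _ hP _ hY h2.symm) e) hj' hu).2
    ((hl.theta H.st hφ hψ hj' hu).1 hx)

theorem pres (hP : P ∈ Ω) (hn : d ∈ N[P]) (hp : p ∈ P) (hX : X ∈ Ω) (hx : d ∈ N[X]) :
    d ∈ N[cj p X] := by
  by_cases e : P = B
  · subst e
    rw [← cj_N, ← H3.TA.cj_of_comm (H.sit.comm hP hp H.mem)]
    exact conj_mem_cj p hx
  by_cases e' : X = P
  · subst e'; rwa [cj_of_mem hp]
  exact H.l1 hP H.pt e H.mem hn hX (H.sit.cjm _ hX p) e' (cj_ne (norm_self P hp) e')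
    (ax_cj H.sit hP hp X).symm hx

theorem uniq0 (hX : Top Ω A X) (hY : Top Ω A Y) (e : ax A X = ax A Y) (hx : d ∈ N[X])
    (hy : d ∈ N[Y]) : X = Y := by
  by_contra hne
  wlog hB : X ≠ B generalizing X Y
  · exact this hY hX e.symm hy hx (Ne.symm hne) (fun e => hne ((not_not.1 hB).trans e.symm))
  obtain ⟨a, ha, rfl⟩ := H.st.uniq A X Y hX hY.toAdj e.symm
  exact H.out (H.l1 hX.r H.pt hB H.mem hx hY.r hX.l (Ne.symm hne) hX.ne
    (ax_line H.sit hX.toAdj ha (Ne.symm hne)) hy)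

theorem ne : A ≠ B := fun e => H.out (norm_self A (e ▸ H.mem))

theorem exists0 (hf : f ≠ 0) : ∃ X, IsAx Ω A ι f X ∧ d ∈ N[X] := by
  obtain ⟨P, hP⟩ := H.all f hf
  have h := H.sit
  by_cases e : P = B
  · exact ⟨P, hP, norm_self P (e ▸ H.mem)⟩
  obtain ⟨ι', hl⟩ := lin_at h H.lin H.pt
  obtain ⟨φ, hφ⟩ := hl.exf A (H.top _ H.pt _ H.lin.pt H.ne.symm)
  obtain ⟨ψ, hψ⟩ := hl.exf P (H.top _ H.pt _ hP.top.r (Ne.symm e))
  obtain ⟨v, hv⟩ := (hl.mem d).1 H.mem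
  have hv0 : φ v ≠ 0 := fun e => H.out (hv ▸ (hφ.iff v).2 e)
  by_cases hd : ∃ c : K, ψ = c • φ
  · obtain ⟨c, rfl⟩ := hd
    have c0 : c ≠ 0 := fun e => hψ.ne (by rw [e, zero_smul])
    have e1 : ax B A = ax B P := ax_eq_of hl hφ hψ fun v => by simp [c0]
    obtain ⟨b, hb, rfl⟩ := H.st.uniq B A P hφ.top hψ.top.toAdj e1.symm
    have hF := h.gl_Wl hφ.top.toAdj
    have o1 := h.on_Wl hφ.top.toAdj
    have o2 := h.onW' hφ.top.toAdj
    refine ⟨B, isAx_of_eq H.lin hP (h.top_symm hφ.top) ?_, norm_self B H.mem⟩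
    rw [hF.ax_eq _ _ o2 (o2.cj h (o1.le hb)) hP.top.ne, hF.ax_eq _ _ o2 o1 H.ne]
  obtain ⟨u, u1, u2⟩ := exists_ker_val hd (-ψ v / φ v)
  obtain ⟨j, hj, hT⟩ := hl.ext φ A hφ u u1
  refine ⟨cj j P, hP.cj h H.lin (memAx.1 hj).1, ?_⟩
  rw [← cj_N, mem_cj, ← hv]
  have jj := H3.TA.inv_of_sq (h.sq _ H.lin.pt _ (memAx.1 hj).1)
  have := hT v
  rw [jj] at this ⊢
  rw [this, hψ.iff, map_add, map_smul, u2, smul_eq_mul, mul_div_cancel₀ _ hv0, add_neg_cancel]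

end Hy

/-- coordinates -/
structure Co (Ω : Set (Subgroup G)) (A : Subgroup G) (ι : (Fin n → K) → G) (B : Subgroup G) (d : G)
    (β : Module.Dual K (Fin n → K) → K → Subgroup G) : Prop extends Hy Ω A ι B d where
  zero : ∀ c, β 0 c = A
  isax : ∀ f, f ≠ 0 → IsAx Ω A ι f (β f 0)
  fix : ∀ f, f ≠ 0 → d ∈ N[β f 0]
  act : ∀ f c v, cj (ι v) (β f c) = β f (c + f v)

theorem Hy.exists_co (H : Hy Ω A ι B d) : ∃ β, Co Ω A ι B d β := by
  classical
  choose b hb1 hb2 using fun f (hf : f ≠ 0) => H.exists0 hf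
  choose sec hsec using fun (f : Module.Dual K (Fin n → K)) (hf : f ≠ 0) c => exists_val hf c
  have t2 := two_zero H.sit H.lin
  have key : ∀ f hf v w, f v = f w → cj (ι v) (b f hf) = cj (ι w) (b f hf) := fun f hf v w e => by
    rw [cj_eq_cj_iff, H3.TA.inv_of_sq (H.sit.sq _ H.lin.pt _ (ι_mem H.lin w)), ← H.lin.mul,
      (hb1 f hf).iff, map_add, e, ← two_mul, t2, zero_mul]
  have k0 : ∀ f hf, cj (ι (sec f hf 0)) (b f hf) = b f hf := fun f hf => by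
    rw [key f hf _ 0 (by rw [hsec, map_zero]), ι_zero H.lin, cj_one]
  refine ⟨fun f c => if hf : f = 0 then A else cj (ι (sec f hf c)) (b f hf), H, fun c => by simp,
    fun f hf => ?_, fun f hf => ?_, fun f c v => ?_⟩
  · simp only [dif_neg hf, k0]; exact hb1 f hf
  · simp only [dif_neg hf, k0]; exact hb2 f hf
  · by_cases hf : f = 0
    · simp only [dif_pos hf]; exact cj_of_mem (ι_mem H.lin v)
    · simp only [dif_neg hf]
      rw [← cj_mul, ← H.lin.mul]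
      exact key f hf _ _ (by rw [map_add, hsec, hsec, add_comm])

namespace Co

variable {β : Module.Dual K (Fin n → K) → K → Subgroup G} (H : Co Ω A ι B d β)
  {g g' h h' : Module.Dual K (Fin n → K)} {c c' l : K}
include H

theorem t2 : (2 : K) = 0 := two_zero H.sit H.lin

theorem addS (f : Module.Dual K (Fin n → K)) : f + f = 0 := by
  rw [← two_smul K, H.t2, zero_smul]

theorem act0 (f : Module.Dual K (Fin n → K)) (v : Fin n → K) : cj (ι v) (β f 0) = β f (f v) := by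
  rw [H.act, zero_add]

theorem isax' (hf : f ≠ 0) (c : K) : IsAx Ω A ι f (β f c) := by
  obtain ⟨v, rfl⟩ := exists_val hf c
  rw [← H.act0]
  exact (H.isax f hf).cj H.sit H.lin (ι_mem H.lin v)

theorem βmem (f : Module.Dual K (Fin n → K)) (c : K) : β f c ∈ Ω := by
  by_cases hf : f = 0
  · rw [hf, H.zero]; exact H.lin.pt
  · exact (H.isax' hf c).top.r

theorem eq0 (hX : IsAx Ω A ι f X) (hx : d ∈ N[X]) : X = β f 0 :=
  H.uniq0 hX.top (H.isax f hX.ne).top (ax_eq_of H.lin hX (H.isax f hX.ne) fun _ => Iff.rfl) hx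
    (H.fix f hX.ne)

theorem smul (hl : l ≠ 0) (f : Module.Dual K (Fin n → K)) (c : K) : β (l • f) (l * c) = β f c := by
  by_cases hf : f = 0
  · simp [hf, H.zero]
  obtain ⟨v, rfl⟩ := exists_val hf c
  have h1 := H.isax f hf
  have : β f 0 = β (l • f) 0 :=
    H.eq0 ⟨h1.top, smul_ne_zero hl hf, fun v => by simp [h1.iff, hl]⟩ (H.fix f hf)
  rw [← H.act0, this, H.act0]
  rfl

theorem inj0 (hf : f ≠ 0) (e : β f c = β f c') : c = c' := by
  obtain ⟨v, rfl⟩ := exists_val hf c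
  obtain ⟨w, rfl⟩ := exists_val hf c'
  rw [← H.act0, ← H.act0, cj_eq_cj_iff, H3.TA.inv_of_sq (H.sit.sq _ H.lin.pt _ (ι_mem H.lin w)),
    ← H.lin.mul, (H.isax f hf).iff, map_add] at e
  linear_combination e - f w * H.t2

theorem inj (h1 : f ≠ 0 ∨ c ≠ 0) (h2 : g ≠ 0 ∨ c' ≠ 0) (e : β f c = β g c') :
    ∃ l : K, l ≠ 0 ∧ f = l • g ∧ c = l * c' := by
  by_cases hf : f = 0 <;> by_cases hg : g = 0
  · have a1 := h1.resolve_left (not_not.2 hf)
    have a2 := h2.resolve_left (not_not.2 hg)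
    exact ⟨c / c', div_ne_zero a1 a2, by simp [hf, hg], by rw [div_mul_cancel₀ _ a2]⟩
  · rw [hf, H.zero] at e; exact absurd e (H.isax' hg c').top.ne
  · rw [hg, H.zero] at e; exact absurd e.symm (H.isax' hf c).top.ne
  · obtain ⟨l, rfl⟩ := smul_of_ker (f := g) (g := f) fun v hv => by
      rw [← (H.isax' hf c).iff, e, (H.isax' hg c').iff]; exact hv
    have l0 : l ≠ 0 := fun e => hf (by rw [e, zero_smul])
    exact ⟨l, l0, rfl, H.inj0 hf (e.trans (H.smul l0 g c').symm)⟩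

theorem inj1 (e : β f 1 = β g 1) : f = g := by
  obtain ⟨l, -, e1, e2⟩ := H.inj (Or.inr one_ne_zero) (Or.inr one_ne_zero) e
  rw [mul_one] at e2
  rw [e1, ← e2, one_smul]

theorem ne10 (hg : g ≠ 0) : β f 1 ≠ β g 0 := fun e => by
  obtain ⟨l, -, -, e2⟩ := H.inj (Or.inr one_ne_zero) (Or.inl hg) e
  simp at e2

theorem surj (hX : X ∈ Ω) : ∃ f c, (f ≠ 0 ∨ c ≠ 0) ∧ X = β f c := by
  by_cases e : A = X
  · exact ⟨0, 1, Or.inr one_ne_zero, by rw [H.zero, e]⟩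
  have t := H.top _ H.lin.pt _ hX e
  obtain ⟨f, hf⟩ := H.lin.exf X t
  obtain ⟨a, ha, rfl⟩ := H.st.uniq A _ X (H.isax f hf.ne).top t.toAdj
    (ax_eq_of H.lin hf (H.isax f hf.ne) fun _ => Iff.rfl)
  obtain ⟨v, rfl⟩ := (H.lin.mem a).1 ha
  exact ⟨f, f v, Or.inl hf.ne, H.act0 f v⟩

theorem actj (hf : f ≠ 0) (hj : j ∈ ax (β f 0) A) (hT : Tv ι j u f) (hu : f u = 0)
    (g : Module.Dual K (Fin n → K)) (c : K) : cj j (β g c) = β (g + g u • f) c := by
  by_cases hg : g = 0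
  · simp only [hg, H.zero, LinearMap.zero_apply, zero_smul, add_zero]
    exact cj_of_mem_N (memAx.1 hj).2
  have jj := H3.TA.inv_of_sq (H.sit.sq _ (H.βmem f 0) _ (memAx.1 hj).1)
  have k : ∀ v, (g + g u • f) (v + f v • u) = g v := fun v => by
    simp only [LinearMap.add_apply, LinearMap.smul_apply, map_add, map_smul, smul_eq_mul, hu]
    linear_combination f v * g u * H.t2
  have g0 : g + g u • f ≠ 0 := fun e => hg (LinearMap.ext fun v => by rw [← k, e]; rfl)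
  have e0 : cj j (β g 0) = β (g + g u • f) 0 := by
    refine H.eq0 ⟨?_, g0, fun v => ?_⟩
      (H.pres (H.βmem f 0) (H.fix f hf) (memAx.1 hj).1 (H.βmem g 0) (H.fix g hg))
    · have := H.sit.top_cj (H.isax g hg).top j
      rwa [cj_of_mem_N (memAx.1 hj).2] at this
    · have := hT v
      rw [jj] at this
      rw [← cj_N, mem_cj, jj, this, (H.isax g hg).iff]
      simp [mul_comm]
  obtain ⟨v, rfl⟩ := exists_val hg c
  rw [← H.act0, ← cj_mul, show j * ι v = j * ι v * j⁻¹ * j by group, hT, cj_mul, e0, H.act0, k]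

theorem onA (hg : g ≠ 0) (l : K) : ax (β g 0) (β (l • g) 1) = ax (β g 0) A := by
  by_cases l0 : l = 0
  · rw [l0, zero_smul, H.zero]
  obtain ⟨v, hv⟩ := exists_val hg l⁻¹
  have e : β (l • g) 1 = cj (ι v) (β g 0) := by
    rw [H.act0, hv, ← H.smul l0 g l⁻¹, mul_inv_cancel₀ l0]
  have := H.ne10 (f := l • g) hg
  rw [e] at this ⊢
  exact ax_line H.sit (H.isax g hg).top.toAdj (ι_mem H.lin v) this

theorem col_le (hg : g ≠ 0) (h : Module.Dual K (Fin n → K)) (l : K) :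
    ax (β g 0) (β (h + l • g) 1) = ax (β g 0) (β h 1) := by
  by_cases hd : ∃ c : K, h = c • g
  · obtain ⟨c, rfl⟩ := hd
    rw [← add_smul, H.onA hg, H.onA hg]
  obtain ⟨u, u1, rfl⟩ := exists_ker_val hd l
  obtain ⟨j, hj, hT⟩ := H.lin.ext g _ (H.isax g hg) u u1
  rw [← H.actj hg hj hT u1]
  exact ax_cj H.sit (H.βmem g 0) (memAx.1 hj).1 _

theorem ofA (hg : g ≠ 0) (hY : Y ∈ Ω) (hne : Y ≠ β g 0) (e : ax (β g 0) Y = ax (β g 0) A) :
    ∃ l : K, Y = β (l • g) 1 := by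
  have h := H.sit
  have t := (H.isax g hg).top
  obtain ⟨p, hp, rfl⟩ := H.st.uniq _ A Y (h.top_symm t) (H.top _ t.r _ hY hne.symm).toAdj e
  rcases H.st.ln A _ t _ hY ((h.on_Wl t.toAdj).cj h ((h.onW' t.toAdj).le hp)).nb with e | ⟨a, ha, e⟩
  · exact ⟨0, by rw [e, zero_smul, H.zero]⟩
  obtain ⟨v, rfl⟩ := (H.lin.mem a).1 ha
  rw [H.act0] at e
  have v0 : g v ≠ 0 := fun e' => hne (by rw [e, e'])
  exact ⟨(g v)⁻¹, by rw [e, ← H.smul (inv_ne_zero v0) g (g v), inv_mul_cancel₀ v0]⟩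

theorem col_ge (hg : g ≠ 0) (hY : Y ∈ Ω) (hne : Y ≠ β g 0)
    (e : ax (β g 0) Y = ax (β g 0) (β h 1)) : ∃ l : K, Y = β (h + l • g) 1 := by
  by_cases e1 : ax (β g 0) (β h 1) = ax (β g 0) A
  · obtain ⟨l, rfl⟩ := H.ofA hg hY hne (e.trans e1)
    obtain ⟨m, hm⟩ := H.ofA hg (H.βmem h 1) (H.ne10 hg) e1
    exact ⟨l - m, by rw [H.inj1 hm, ← add_smul, add_sub_cancel]⟩
  have t := H.top _ (H.βmem g 0) _ (H.βmem h 1) (H.ne10 hg).symm
  obtain ⟨p, hp, rfl⟩ := H.st.uniq _ _ Y t (H.top _ t.l _ hY hne.symm).toAdj e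
  obtain ⟨ι', hl⟩ := lin_at H.sit H.lin t.l
  obtain ⟨φ, hφ⟩ := hl.exf A (H.sit.top_symm (H.isax g hg).top)
  obtain ⟨ψ, hψ⟩ := hl.exf _ t
  obtain ⟨v, rfl⟩ := (hl.mem p).1 hp
  obtain ⟨w, w1, w2⟩ := exists_ker_val (f := φ) (g := ψ) (by
    rintro ⟨c, rfl⟩
    have c0 : c ≠ 0 := fun e => hψ.ne (by rw [e, zero_smul])
    exact e1 (ax_eq_of hl hψ hφ fun v => by simp [c0])) (ψ v)
  have hj : ι' w ∈ ax (β g 0) A := memAx.2 ⟨ι_mem hl w, (hφ.iff w).2 w1⟩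
  obtain ⟨u, u1, hT⟩ := H.lin.tv g _ (H.isax g hg) _ hj
  refine ⟨h u, ?_⟩
  rw [← H.actj hg hj hT u1, cj_eq_cj_iff, H3.TA.inv_of_sq (H.sit.sq _ t.l _ (ι_mem hl w)), ← hl.mul,
    hψ.iff, map_add, w2, ← two_mul, H.t2, zero_mul]

theorem actd : ∃ φ : Module.Dual K (Fin n → K), φ ≠ 0 ∧
    ∀ h c, (h ≠ 0 ∨ c ≠ 0) → cj d (β h c) = β (h + c • φ) c := by
  obtain ⟨f, hf⟩ := H.lin.exf B (H.top _ H.lin.pt _ H.pt H.ne)
  have eB := H.eq0 hf (norm_self B H.mem)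
  have hd : d ∈ β f 0 := eB ▸ H.mem
  choose ν hν using fun h => H.col_ge (h := h) hf.ne (H.sit.cjm _ (H.βmem h 1) d)
    (cj_ne (norm_self _ hd) (H.ne10 hf.ne)) (ax_cj H.sit (H.βmem f 0) hd _)
  have k1 : ∀ h g, (¬ ∃ c : K, g = c • f) → ν (h + g) = ν h := fun h g hg => by
    have g0 : g ≠ 0 := fun e => hg ⟨0, by rw [e, zero_smul]⟩
    have e1 := congrArg (cj d) (H.col_le g0 h 1)
    rw [cj_ax, cj_ax, cj_of_mem_N (H.fix g g0), one_smul, hν, hν] at e1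
    obtain ⟨l, hl⟩ := H.col_ge g0 (H.βmem _ 1) (H.ne10 g0) e1
    have e2 := H.inj1 hl
    have e3 : (1 - l) • g = (ν h - ν (h + g)) • f := by
      linear_combination (norm := module) e2
    by_cases l1 : 1 - l = 0
    · rw [l1, zero_smul, eq_comm, smul_eq_zero] at e3
      exact (sub_eq_zero.1 (e3.resolve_right hf.ne)).symm
    · exact absurd ⟨(1 - l)⁻¹ * (ν h - ν (h + g)), by
        rw [mul_smul, ← e3, smul_smul, inv_mul_cancel₀ l1, one_smul]⟩ hg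
  have k2 : ∀ h, ν h = ν 0 := fun h => by
    by_cases hh : ∃ c : K, h = c • f
    · obtain ⟨g, hg⟩ := exists_indep (by have := H.lin.three; omega) f
      obtain ⟨c, rfl⟩ := hh
      rw [← k1 _ g hg, ← k1 0 (c • f + g), zero_add]
      rintro ⟨e, he⟩
      exact hg ⟨e - c, by linear_combination (norm := module) he⟩
    · rw [← k1 0 h hh, zero_add]
  refine ⟨ν 0 • f, fun e => H.out ?_, fun h c hc => ?_⟩
  · have := hν 0
    rwa [e, add_zero, H.zero, ← mem_N_iff_cj] at this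
  by_cases c0 : c = 0
  · rw [c0, zero_smul, add_zero]
    exact cj_of_mem_N (H.fix h (hc.resolve_right (not_not.2 c0)))
  have e1 : ∀ h, β h c = β (c⁻¹ • h) 1 := fun h => by
    rw [← H.smul (inv_ne_zero c0), inv_mul_cancel₀ c0]
  rw [e1, e1, hν, k2, smul_add, smul_smul c⁻¹, inv_mul_cancel₀ c0, one_smul]

/-- all elations with axis `Fix d` occur -/
theorem elat (φ : Module.Dual K (Fin n → K)) :
    ∃ γ : G, ∀ h c, (h ≠ 0 ∨ c ≠ 0) → cj γ (β h c) = β (h + c • φ) c := by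
  obtain ⟨φ0, h0, hd⟩ := H.actd
  have nz : ∀ (φ h : Module.Dual K (Fin n → K)) (c : K), (h ≠ 0 ∨ c ≠ 0) → h + c • φ ≠ 0 ∨ c ≠ 0 :=
    fun φ h c hc => by
      by_cases c0 : c = 0
      · left; simpa [c0] using hc
      · exact Or.inr c0
  have add : ∀ φ ψ : Module.Dual K (Fin n → K),
      (∃ γ : G, ∀ h c, (h ≠ 0 ∨ c ≠ 0) → cj γ (β h c) = β (h + c • φ) c) →
      (∃ γ : G, ∀ h c, (h ≠ 0 ∨ c ≠ 0) → cj γ (β h c) = β (h + c • ψ) c) →
      ∃ γ : G, ∀ h c, (h ≠ 0 ∨ c ≠ 0) → cj γ (β h c) = β (h + c • (φ + ψ)) c := by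
    rintro φ ψ ⟨γ, h1⟩ ⟨δ, h2⟩
    exact ⟨δ * γ, fun h c hc => by rw [cj_mul, h1 h c hc, h2 _ c (nz φ h c hc), smul_add, add_assoc]⟩
  have ind : ∀ f : Module.Dual K (Fin n → K), (¬ ∃ c : K, f = c • φ0) →
      ∃ γ : G, ∀ h c, (h ≠ 0 ∨ c ≠ 0) → cj γ (β h c) = β (h + c • f) c := fun f hf => by
    have f0 : f ≠ 0 := fun e => hf ⟨0, by rw [e, zero_smul]⟩
    obtain ⟨u, u1, u2⟩ := exists_ker_val (f := f) (g := φ0) (by
      rintro ⟨c, rfl⟩
      have c0 : c ≠ 0 := fun e => h0 (by rw [e, zero_smul])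
      exact hf ⟨c⁻¹, by rw [smul_smul, inv_mul_cancel₀ c0, one_smul]⟩) 1
    obtain ⟨j, hj, hT⟩ := H.lin.ext f _ (H.isax f f0) u u1
    have := add φ0 (φ0 + f) ⟨d, hd⟩ ⟨j * d * j, fun h c hc => by
      have z : h + h u • f ≠ 0 ∨ c ≠ 0 := hc.imp_left fun hh e => hh (by
        have e1 := congrArg (fun χ => χ u) e
        simp only [LinearMap.add_apply, LinearMap.smul_apply, u1, smul_eq_mul, mul_zero, add_zero,
          LinearMap.zero_apply] at e1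
        simpa [e1] using e)
      rw [cj_mul, cj_mul, H.actj f0 hj hT u1, hd _ c z, H.actj f0 hj hT u1]
      congr 1
      simp only [LinearMap.add_apply, LinearMap.smul_apply, u1, u2, smul_eq_mul, mul_zero, add_zero,
        mul_one]
      linear_combination (norm := module) H.addS (h u • f)⟩
    rwa [← add_assoc, H.addS, zero_add] at this
  by_cases hφ : ∃ c : K, φ = c • φ0
  · obtain ⟨g, hg⟩ := exists_indep (by have := H.lin.three; omega) φ0
    obtain ⟨c, rfl⟩ := hφ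
    have := add _ _ (ind (c • φ0 + g) fun ⟨e, he⟩ =>
      hg ⟨e - c, by linear_combination (norm := module) he⟩) (ind g hg)
    rwa [add_assoc, H.addS, add_zero] at this
  · exact ind φ hφ

theorem iff_smul (x y : Fin (n + 1) → K) (hx : x ≠ 0) (hy : y ≠ 0) :
    β (dl x) (x 0) = β (dl y) (y 0) ↔ ∃ c : K, c • y = x := by
  constructor
  · intro e
    obtain ⟨l, -, e1, e2⟩ := H.inj (ne_zero_dl.1 hx) (ne_zero_dl.1 hy) e
    exact ⟨l, ext_dl (by rw [dl_smul, e1]) (by simp [e2])⟩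
  · rintro ⟨c, rfl⟩
    rw [dl_smul]
    exact H.smul (fun e => hx (by rw [e, zero_smul])) _ _

theorem rl_A (v : Fin n → K) : ι v ∈ lin fun x : Fin (n + 1) → K => β (dl x) (x 0) := by
  have key : ∀ (i : Fin n) (c : K),
      ι (Pi.single i c) ∈ lin fun x : Fin (n + 1) → K => β (dl x) (x 0) := fun i c =>
    ⟨Matrix.SpecialLinearGroup.transvection (Fin.succ_ne_zero i).symm c, fun x hx => by
      simp only [tv_smul, H.act, dl_add, dl_smul, dl_e0, dl_single, smul_zero, add_zero]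
      simp [mul_comm]⟩
  induction v using Pi.single_induction with
  | zero => rw [ι_zero H.lin]; exact one_mem _
  | add a b ha hb => rw [H.lin.mul]; exact mul_mem ha hb
  | single i c => exact key i c

theorem rl_tv (i j : Fin (n + 1)) (hij : i ≠ j) (c : K) :
    ∃ γ, Rl (fun x : Fin (n + 1) → K => β (dl x) (x 0)) γ
      (Matrix.SpecialLinearGroup.transvection hij c) := by
  revert hij
  refine Fin.cases ?_ (fun i => ?_) i <;> refine Fin.cases ?_ (fun j => ?_) j <;> intro hij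
  · exact absurd rfl hij
  · exact ⟨ι (Pi.single j c), fun x hx => by
      simp only [tv_smul, H.act, dl_add, dl_smul, dl_e0, dl_single, smul_zero, add_zero]
      simp [mul_comm]⟩
  · obtain ⟨γ, hγ⟩ := H.elat (c • LinearMap.proj i)
    exact ⟨γ, fun x hx => by
      simp only [tv_smul, hγ _ _ (ne_zero_dl.1 hx), dl_add, dl_smul, dl_e, smul_smul]
      simp [mul_comm]⟩
  · have f0 : (LinearMap.proj i : Module.Dual K (Fin n → K)) ≠ 0 := fun e => by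
      simpa using congrArg (fun χ => χ (Pi.single i 1)) e
    have u1 : (LinearMap.proj i : Module.Dual K (Fin n → K)) (Pi.single j c) = 0 := by
      have : i ≠ j := fun e => hij (by rw [e])
      simp [this]
    obtain ⟨γ, hj, hT⟩ := H.lin.ext _ _ (H.isax _ f0) _ u1
    exact ⟨γ, fun x hx => by
      simp only [tv_smul, H.actj f0 hj hT u1, dl_add, dl_smul, dl_e, dl_single]
      simp [mul_comm]⟩

end Co

end KK

theorem Lin.psl [IsSimpleGroup G] (hG : ¬ IsMulCommutative G) (h : St Ω) (hl : Lin Ω A ι)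
    (ha : All Ω A ι) (hall : ∀ P ∈ Ω, ∀ Q ∈ Ω, P ≠ Q → Top Ω P Q) :
    Nonempty (G ≃* Matrix.ProjectiveSpecialLinearGroup (Fin (n + 1)) K) := by
  obtain ⟨f, hf⟩ := H26.TK.exists_indep (K := K) (by have := hl.three; omega : 2 ≤ n) 0
  obtain ⟨B, hB⟩ := ha f fun e => hf ⟨0, by rw [e, zero_smul]⟩
  obtain ⟨d, hd, hn⟩ := h.exists_not_mem (h.adj_symm hB.top.toAdj)
  obtain ⟨β, H⟩ := KK.Hy.exists_co ⟨h, hl, ha, hall, hB.top.r, hd, hn⟩
  have sj : ∀ P ∈ Ω, ∃ x : Fin (n + 1) → K, x ≠ 0 ∧ P = β (H26.TK.dl x) (x 0) := fun P hP => by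
    obtain ⟨f, c, h1, rfl⟩ := H.surj hP
    obtain ⟨x, rfl, rfl⟩ := H26.TK.exists_dl f c
    exact ⟨x, H26.TK.ne_zero_dl.2 h1, rfl⟩
  have all := H26.TK.exists_rl H.rl_tv
  refine H26.TK.psl_of H.iff_smul all (fun γ hγ => ?_) ?_
  · have hN : (⨅ P ∈ Ω, N[P] : Subgroup G).Normal := ⟨fun x hx g => by
      simp only [Subgroup.mem_iInf] at hx ⊢
      intro P hP
      have := conj_mem_cj g (hx _ (h.cjm P hP g⁻¹))
      rwa [cj_N, cj_cj_inv] at this⟩
    rcases hN.eq_bot_or_eq_top with e | e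
    · rw [← mem_bot, ← e]
      simp only [Subgroup.mem_iInf]
      intro P hP
      obtain ⟨x, hx, rfl⟩ := sj P hP
      exact mem_N_iff_cj.2 (hγ x hx)
    · have : d ∈ (⨅ P ∈ Ω, N[P] : Subgroup G) := e ▸ mem_top d
      simp only [Subgroup.mem_iInf] at this
      exact absurd (this A hl.pt) hn
  · have hN : (⨆ P ∈ Ω, P : Subgroup G).Normal := by
      rw [← nml_top_iff]
      refine ⟨le_top, fun g _ => mem_N_of_cj_le ?_⟩
      rw [cj_le_iff]
      refine iSup₂_le fun P hP => ?_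
      rw [← cj_le_iff]
      exact le_iSup₂_of_le (f := fun P (_ : P ∈ Ω) => P) _ (h.cjm _ hP g) le_rfl
    rcases hN.eq_bot_or_eq_top with e | e
    · exact absurd (eq_bot_of_le e
        (le_iSup₂_of_le (f := fun P (_ : P ∈ Ω) => P) _ hl.pt le_rfl)) (h.ne A hl.pt)
    rw [eq_top_iff, ← e]
    refine iSup₂_le fun P hP => ?_
    obtain ⟨x, hx, e1⟩ := sj A hl.pt
    obtain ⟨y, hy, rfl⟩ := sj P hP
    obtain ⟨γ, h1, h2⟩ := H26.TK.exists_trans H.iff_smul all hx hy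
    rw [← h2, ← e1]
    refine cj_le_of_mem (fun a ha => ?_) h1
    obtain ⟨v, rfl⟩ := (hl.mem a).1 ha
    exact H.rl_A v

end H12.TI
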