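import Cfsg.Agent.H12.TIJ
import Cfsg.Agent.H13.TL1

set_option autoImplicit false
set_option linter.unusedSectionVars false
set_option linter.unusedVariables false

namespace H12.TI

open Cfsg H24 Subgroup
open scoped commutatorElement

universe u

variable {G : Type u} [Group G] [Finite G] {Ω : Set (Subgroup G)}
  {A B C D F I P Q R S T U : Subgroup G} {a a' b c d d' g i j j' p r s t w x y ρ κ : G}

theorem Lin.four {K : Type} [Field K] [Fintype K] {ι : (Fin 4 → K) → G} [IsSimpleGroup G]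
    (hG : ¬ IsMulCommutative G) (h : St Ω) (hl : Lin Ω A ι) (ha : All Ω A ι)
    (h2 : Fintype.card K = 2) :
    Nonempty (G ≃* Matrix.ProjectiveSpecialLinearGroup (Fin 5) (ZMod 2)) ∨ Cfsg.Spor.IsoM24 G := by
  refine H13.TL.Dt.main (A := A) (ι := ι) ⟨h2, hl.mul, hl.inj, hl.mem, fun f u e => ?_, h.cent A hl.pt,
    fun g a m a1 k => mem_N_iff_cj.2 (h.toSit.eq_of_mem (h.cjm A hl.pt g) hl.pt
      (by rwa [Ne, conj_eq_one_iff]) (conj_mem_cj g m) k)⟩
  by_cases f0 : f = 0
  · exact ⟨1, mul_one 1, fun v => by simp [f0]⟩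
  obtain ⟨B, hB⟩ := ha f f0
  obtain ⟨j, hj, t⟩ := hl.ext f B hB u e
  exact ⟨j, h.sq B hB.top.r j hj.1, t⟩

end H12.TI
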