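import Cfsg.Agent.H12.TIG
import Cfsg.Prelude.Def_Involutions
import Cfsg.Agent.H16.TI1
import Cfsg.Agent.H16.TI2
import Cfsg.Agent.H26.B71C
import Cfsg.Agent.H2.CMain
import Cfsg.Agent.H2.CEnd
import Cfsg.Agent.H2.CE1
import Cfsg.Agent.H7.SmallIso
import Cfsg.Agent.S0848
import Cfsg.Agent.S0495
import Cfsg.Agent.S0497

/-! # TI, block M: the case `Z` (proved by helper16) -/

set_option autoImplicit false
set_option linter.unusedSectionVars false
set_option linter.unusedVariables false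

namespace H12.TI

open Cfsg H24 Subgroup
open scoped commutatorElement

universe u

variable {G : Type u} [Group G] [Finite G] {Ω : Set (Subgroup G)}
  {A B C D F I P Q R S T U : Subgroup G} {a a' b c d d' g i j j' p r s t w x y ρ κ : G}

theorem concl_of_se [IsSimpleGroup G] (hU : IsStronglyEmbedded U) : Concl G := by
  rcases (H26.BR.isBender_of_se hU).1 with ⟨F, _, _, n, hn, hF, e⟩ | e | ⟨F, _, _, n, hn, hF, e⟩
  · refine Or.inl ⟨F, inferInstance, inferInstance, 2, FiniteField.even_card_iff_char_two.2 ?_, le_rfl, e⟩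
    obtain ⟨m, rfl⟩ : ∃ m, n = m + 1 := ⟨n - 1, by omega⟩
    rw [hF, pow_succ]; omega
  · exact Or.inr (Or.inl e)
  · exact Or.inr (Or.inr (Or.inl ⟨F, _, _, n, hn, by
      rw [hF, ← pow_mul, mul_comm, pow_mul]; rfl, e⟩))

namespace IM

theorem top (h : Sit Ω) (hc : CZ Ω) (hP : Adj Ω P Q) : Top Ω P Q := by
  obtain ⟨A, B, -, hA, -, -⟩ := hc.two
  refine h.top_of_le hA hP ?_
  have h1 := h.card_le_sq hP
  rw [h.card_eq hP.l hA.l, hc.half h A B hA] at h1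
  exact (pow_le_pow_iff_left₀ (Nat.zero_le _) (Nat.zero_le _) two_ne_zero).1 h1

theorem same (h : Sit Ω) (hc : CZ Ω) (hP : Adj Ω P Q) (hR : Adj Ω P R) (h1 : x ≠ 1)
    (hx : x ∈ ax P Q) (hx' : x ∈ ax P R) : ax P Q = ax P R := by
  by_contra e
  exact h1 (mem_bot.1 ((hc.inf P Q R (top h hc hP) (top h hc hR) e).le ⟨hx, hx'⟩))

theorem cjD (h : Sit Ω) (hd : d ∈ DD Ω) (g : G) : g * d * g⁻¹ ∈ DD Ω := by
  obtain ⟨d1, P, hP, hd⟩ := hd
  exact ⟨fun e => d1 (conj_eq_one_iff.1 e), _, h.cjm P hP g, conj_mem_cj g hd⟩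

theorem WN (h : Sit Ω) (hA : Adj Ω A B) : Wl A B ≤ N[A] := (h.gl_Wl hA).le_N h (h.on_Wl hA)

theorem der (h : Sit Ω) (hA : Adj Ω A B) : ⁅A ⊔ Wl A B, A ⊔ Wl A B⁆ = ax A B := by
  rw [der1_sup (WN h hA), der1_eq_bot.2 (ablSq (h.sq A hA.l)),
    der1_eq_bot.2 (ablSq fun _ => h.sq_Wl hA), bot_sup_eq, sup_bot_eq]
  refine le_antisymm ?_ fun i hi => ?_
  · rw [← h.inf_Wl hA]
    exact le_inf (comm_le_left (WN h hA)) (comm_le_right (h.le_N_Wl hA))
  · obtain ⟨a, ha, hn⟩ := h.exists_not_mem hA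
    obtain ⟨j, hj, rfl⟩ := h.comm_surj hA ha hn hi
    exact commutator_mem_commutator ha (axLeW' A B hj)

theorem cen (h : Sit Ω) (hA : Adj Ω A B) : ax A B ≤ C[A ⊔ Wl A B] :=
  cents_sup ((ablSq (h.sq A hA.l)).cents inf_le_left le_rfl)
    ((ablSq fun _ => h.sq_Wl hA).cents (axLeW A B) le_rfl)

theorem two (h : Sit Ω) (hA : Adj Ω A B) : IsPi {2} (A ⊔ Wl A B) :=
  (h.two hA.l).sup (H16.TI.two_sq fun _ => h.sq_Wl hA) (WN h hA)

theorem inD (h : Sit Ω) (hc : CZ Ω) (hA : Adj Ω A B) (hP : IsPi {2} P) (hT : A ⊔ Wl A B ≤ P)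
    (hd : d ∈ DD Ω) (hdP : d ∈ P) : d ∈ A ⊔ Wl A B := by
  obtain ⟨d1, C, hC, hdC⟩ := id hd
  by_cases e : A = C
  · exact mem_sup_left (e ▸ hdC)
  have hPA := h.norm_of_le hA.l hP (le_sup_left.trans hT)
  have hAC := h.adj_of_mem hA.l hC e hdC d1 (hPA hdP)
  have hd' : d ∈ ax C A := memAx.2 ⟨hdC, hPA hdP⟩
  obtain ⟨z, hz, z1⟩ := exists_ne_one
    (IsPi.inf_C_ne_bot Nat.prime_two hP (h.two hA.l) hPA (h.ne A hA.l))
  obtain ⟨j, hj, j1⟩ := exists_ne_one (h.adj_symm hA).nb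
  have hJ : ∀ j ∈ ax B A, j ∈ P := fun j hj => hT (mem_sup_right (axLeW' A B hj))
  have e1 : ax A C = ax A B := same h hc hAC hA z1
    (memAx.2 ⟨hz.1, (h.cent_iff hAC hd' d1 hz.1).1 (mem_C.1 hz.2 d hdP).symm⟩)
    (memAx.2 ⟨hz.1, (h.cent_iff hA hj j1 hz.1).1 (mem_C.1 hz.2 j (hJ j hj)).symm⟩)
  refine mem_sup_right (((hc.half h).good h).cw A B (top h hc hA) d hd (mem_C.2 fun w hw => ?_))
  obtain ⟨i, hi, j, hj, rfl⟩ := (h.mem_Wl hA).1 hw
  rw [mul_assoc, h.fam2 (top h hc hA) hAC e1 hj hd' hP (hJ j hj) hdP, ← mul_assoc,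
    h.commAx hA.l hC (e1 ▸ hi) hd', mul_assoc]

theorem scl (h : Sit Ω) (hc : CZ Ω) (hA : Adj Ω A B) : H2.C2.SCl ⊤ (A ⊔ Wl A B) := by
  refine ⟨le_top, two h hA, fun P hP hT _ t ht g _ hg => ?_⟩
  have key := fun d => inD (d := d) h hc hA hP hT
  obtain ⟨a0, ha0, w, hw, rfl⟩ := (mem_sup_of_norm (WN h hA)).1 ht
  obtain ⟨i, hi, j, hj, rfl⟩ := (h.mem_Wl hA).1 hw
  rw [← mul_assoc a0 i j] at hg ⊢
  have ha := A.mul_mem ha0 hi.1
  generalize a0 * i = a at ha hg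
  by_cases j1 : j = 1
  · rw [j1, mul_one] at hg ⊢
    by_cases a1 : a = 1
    · rw [a1, mul_one, mul_inv_cancel]; exact one_mem _
    · exact key _ (cjD h ⟨a1, A, hA.l, ha⟩ g) hg
  have hjD : j ∈ DD Ω := ⟨j1, B, hA.r, hj.1⟩
  by_cases hn : a ∈ N[B]
  · obtain ⟨b, -, e⟩ := IG.onto h (hc.half h) (top h hc hA) hj j1 (memAx.2 ⟨ha, hn⟩)
    exact key _ (cjD h (e ▸ cjD h hjD b) g) hg
  have eu : g * (a * j) * g⁻¹ = g * a * g⁻¹ * (g * j * g⁻¹) := by group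
  by_cases e : cj g A = A
  · have h1 : g * a * g⁻¹ ∈ A := e ▸ conj_mem_cj g (e ▸ ha)
    rw [eu] at hg ⊢
    exact mul_mem (mem_sup_left h1)
      (key _ (cjD h hjD g) ((mul_mem_cancel_left (hT (mem_sup_left h1))).1 hg))
  exfalso
  have hPA := h.norm_of_le hA.l hP (le_sup_left.trans hT)
  have hA' := h.cjm A hA.l g
  have hc1 := h.comm_mem hA ha hj
  have c1 : ⁅a, j⁆ ≠ 1 := fun e =>
    hn ((h.cent_iff hA hj j1 ha).1 (commutatorElement_eq_one_iff_mul_comm.1 e))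
  have a2 : a⁻¹ = a := inv_eq_of_mul_eq_one_right (h.sq A hA.l a ha)
  have j2 : j⁻¹ = j := inv_eq_of_mul_eq_one_right (h.sq B hA.r j hj.1)
  set u := g * (a * j) * g⁻¹ with hu
  have u2 : u * u = g * ⁅a, j⁆ * g⁻¹ := by
    rw [hu, commutatorElement_def, a2, j2]; group
  have k1 : u * u ≠ 1 := fun e => c1 (conj_eq_one_iff.1 (u2 ▸ e))
  have k2 : u * u ∈ ax (cj g A) (cj g B) := by rw [u2, ← cj_ax]; exact conj_mem_cj g hc1
  have k3 : u * u ∈ N[A] := hPA (P.mul_mem hg hg)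
  have hAA : Adj Ω A (cj g A) := h.adj_of_mem hA.l hA' (Ne.symm e) k2.1 k1 k3
  have hAA' := h.adj_symm hAA
  have e1 : ax (cj g A) A = cj g (ax A B) := by
    rw [cj_ax]; exact same h hc hAA' (h.adj_cj hA g) k1 (memAx.2 ⟨k2.1, k3⟩) k2
  have m1 : u ∈ C[ax (cj g A) A] := by
    rw [e1, ← cj_C]
    exact conj_mem_cj g (cents_symm (cen h hA) (mul_mem (mem_sup_left ha)
      (mem_sup_right (axLeW' A B hj))))
  have m2 : u ∈ C[ax A (cj g A)] := by
    refine h.cent_of hAA' ?_ (hPA hg) m1 fun x hx => ?_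
    · rw [← cj_N]; exact conj_mem_cj g (mul_mem (norm_self A ha) hj.2)
    · obtain ⟨y, hy, rfl⟩ := mem_cj'.1 hx
      rw [e1, hu, ← conjugate_commutatorElement]
      refine conj_mem_cj g ?_
      rw [← der h hA]
      exact commutator_mem_commutator (mem_sup_left hy)
        (mul_mem (mem_sup_left ha) (mem_sup_right (axLeW' A B hj)))
  have m3 : u ∈ C[Wl A (cj g A)] := by rw [Wl, C_sup]; exact ⟨m2, m1⟩
  refine e (h.eq_of_mem hA' hA.l k1 k2.1 (h.mem_of_cent hA.l hA' k2.1 (mem_C.2 fun x hx => ?_)))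
  have n1 := h.comm_CW hAA m3 (mem_sup_left hx)
  have n2 := mem_C.1 m3 _ n1
  have n3 := h.sq_Wl hAA n1
  have n4 : x * u = ⁅x, u⁆ * u * x := by rw [commutatorElement_def]; group
  calc x * (u * u) = ⁅x, u⁆ * u * (x * u) := by rw [← mul_assoc, n4]; group
    _ = u * (⁅x, u⁆ * ⁅x, u⁆) * u * x := by rw [n2, n4]; group
    _ = _ := by rw [n3]; group

theorem psl2 [IsSimpleGroup G] (hG : ¬ IsMulCommutative G) (h : Sit Ω) (hA : Adj Ω A B)
    (h4 : ♯A = 4) (hT : Syl 2 ⊤ (A ⊔ Wl A B)) (h8 : ♯(A ⊔ Wl A B) = 8) (hab : ¬ Abl (A ⊔ Wl A B))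
    {K : Type} [Field K] [Fintype K] (hK : (2 : K) ≠ 0)
    (e : G ≃* Matrix.ProjectiveSpecialLinearGroup (Fin 2) K) : Concl G := by
  obtain ⟨z, hz, z1⟩ := exists_ne_one hA.nb
  obtain ⟨a, ha, hn⟩ := h.exists_not_mem hA
  have a1 : a ≠ 1 := neOne hn
  have az : a ≠ z := fun e => hn (e ▸ hz.2)
  have z2 := h.sq A hA.l z hz.1
  have a2 := h.sq A hA.l a ha
  have hza := h.comm hA.l ha hz.1
  have hA4 : A = H16.kleinOf z a z2 a2 hza := by
    refine (eq_of_card_eq ?_ ?_).symm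
    · rintro x (rfl | rfl | rfl | rfl)
      exacts [one_mem _, hz.1, ha, mul_mem hz.1 ha]
    · rw [H16.card_kleinOf z2 a2 hza z1 a1 az, h4]
  have hsq : ∀ c, c * z = z * c → c * a = a * c → c * c = 1 := fun c h1 h2 => by
    apply e.injective
    rw [map_mul, map_one]
    refine H16.TI.psl2_cent_four hK (x := e z) (y := e a) (by simpa using z1)
      (by rw [← map_mul, z2, map_one]) (by simpa using a1) (by rw [← map_mul, a2, map_one])
      (fun k => az (e.injective k)) ?_ ?_ ?_ <;> rw [← map_mul, ← map_mul] <;> congr 1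
  have h2 : IsPi {2} C{z} := isPi_iff_piElt.2 fun c hc => by
    have c1 := mem_C1.1 hc
    have c2 := conj_mem (h.C1_le hA.l hz.1 z1 hc) ha
    rw [hA4] at c2
    refine piElt_of_pow_eq_one (piNat_self_pow Nat.prime_two 2) ?_
    rw [show c ^ 2 ^ 2 = c * c * (c * c) by norm_num [pow_succ, mul_assoc]]
    refine hsq _ (by rw [mul_assoc, c1, ← mul_assoc, c1, mul_assoc]) ?_
    rcases c2 with k | k | k | k
    · exact absurd (conj_eq_one_iff.1 k) a1
    · exact absurd (by rw [← mem_C1_iff_conj.1 hc] at k; simpa using k) az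
    · rw [mul_inv_eq_iff_eq_mul] at k
      rw [mul_assoc, k, ← mul_assoc, k, mul_assoc]
    · rw [mul_inv_eq_iff_eq_mul] at k
      calc c * c * a = c * z * a * c := by rw [mul_assoc, k]; group
        _ = z * (c * a) * c := by rw [c1]; group
        _ = z * z * a * (c * c) := by rw [k]; group
        _ = _ := by rw [z2, one_mul]
  have hC : C{z} = A ⊔ Wl A B :=
    hT.eq_of_le h2 (mem_C_iff_le_C1.1 (cen h hA hz)) le_top
  obtain ⟨S, hS⟩ := hT.exists_sylow_top Nat.prime_two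
  obtain ⟨f⟩ := H18.dihedral_of_card_eight hG S (by rw [hS]; exact h8) (by rw [hS]; exact hab)
  have hp : commutator G = ⊤ :=
    (IsSimpleGroup.eq_bot_or_eq_top_of_normal _ inferInstance).resolve_left fun h =>
      hG ⟨⟨fun a b => (der1_eq_bot.1 h).comm (mem_top a) (mem_top b)⟩⟩
  rcases Cfsg.Agent.S0848.result hp z (H6.orderOf_eq_two_of z2 z1)
    ((MulEquiv.subgroupCongr (hC.trans hS.symm)).trans f) with k | k
  · obtain ⟨f1⟩ := Cfsg.Agent.S0495.result k (F := ZMod 7) (ZMod.card 7)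
    obtain ⟨f2⟩ := H7.psl2_Z7_equiv
    exact Or.inl ⟨ZMod 2, inferInstance, inferInstance, 3, ringChar.eq _ 2, by norm_num,
      ⟨f1.trans f2⟩⟩
  · exact Or.inr (Or.inr (Or.inr (Or.inl ⟨6, le_rfl, by norm_num, Cfsg.Agent.S0497.result k⟩)))

end IM

theorem CZ.concl [IsSimpleGroup G] (hG : ¬ IsMulCommutative G) (h : Sit Ω) (hc : CZ Ω) :
    Concl G := by
  obtain ⟨A, B, -, hT, -, -⟩ := hc.two
  have hA := hT.toAdj
  have hab : ¬ Abl (A ⊔ Wl A B) := fun e => hA.nb (by rw [← IM.der h hA, der1_eq_bot.2 e])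
  rcases H2.C2.main (IM.scl h hc hA) ((IM.der h hA).le.trans (IM.cen h hA)) hab with
    ⟨M, hM⟩ | ⟨W, X, R, R', q, k, e⟩
  · exact concl_of_se hM
  have c1 : ♯(ax A B) = q * ♯R := by rw [← IM.der h hA, e, k.h.der, k.h.cardY]
  have c2 := card_sup (IM.WN h hA)
  rw [h.inf_Wl hA, h.card_Wl hA, hc.half h A B hT, e, k.h.cardE, c1] at c2
  have hq := k.h.two_le
  have hR := card_pos R
  have c3 : ♯R = 1 := by
    have h1 : (q ^ 4 * ♯R ^ 2) * ♯R ^ 2 = (q ^ 4 * ♯R ^ 2) * 1 := by linarith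
    exact (pow_eq_one_iff_left two_ne_zero).1 (Nat.eq_of_mul_eq_mul_left (by positivity) h1)
  rcases k.h.two_cases with rfl | h4
  · rcases H2.C2.end_two k with ⟨K, _, _, hK, ⟨f⟩⟩ | f
    · refine IM.psl2 hG h hA (by rw [hc.half h A B hT, c1, c3]; rfl) (e ▸ k.syl)
        (by rw [e, k.h.cardE, c3]; rfl) hab ?_ f
      refine Ring.two_ne_zero fun e => ?_
      have := FiniteField.even_card_iff_char_two.1 e
      omega
    · exact Or.inr (Or.inr (Or.inr (Or.inl ⟨7, by norm_num, by norm_num, f⟩)))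
  · obtain ⟨K, _, _, -, hK, f⟩ := (k.geo h4).end3 (k.Rt_eq.trans (card_eq_one.1 c3))
    exact Or.inl ⟨K, inferInstance, inferInstance, 3, ringChar.eq K 2, by norm_num, f⟩

end H12.TI
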