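import Cfsg.Agent.H12.TIM
import Cfsg.Agent.H16.TI1
import Cfsg.Agent.H22.Ho8

/-!
# TI project, block N: connectedness of the collinearity graph (Holt's theorem)
-/

set_option autoImplicit false
set_option linter.unusedSectionVars false
set_option linter.unusedVariables false

namespace H12.TI

open Cfsg H24 Subgroup
open scoped commutatorElement

universe u

variable {G : Type u} [Group G] [Finite G] {Ω : Set (Subgroup G)}
  {A B C D F I P Q R S T U : Subgroup G} {a a' b c d d' g i j j' p r s t w x y ρ κ : G}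

theorem Sit.four_le [IsSimpleGroup G] (hG : ¬ IsMulCommutative G) (h : Sit Ω) (hA : A ∈ Ω) :
    4 ≤ ♯A := by
  by_contra hlt
  obtain ⟨k, hk⟩ := (h.two hA).card_eq_pow Nat.prime_two
  have h1 := one_lt_card (h.ne A hA)
  have h2 : ♯A = 2 := by
    rcases k with _ | _ | k
    · omega
    · simpa using hk
    · have : 0 < 2 ^ k := by positivity
      rw [pow_succ, pow_succ] at hk; omega
  obtain ⟨a, a1, au⟩ := (Nat.card_eq_two_iff' (1 : A)).1 h2
  have a1' : a.1 ≠ 1 := fun e => a1 (Subtype.ext e)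
  have uq : ∀ x ∈ A, x ≠ 1 → x = a := fun x hx x1 =>
    congrArg Subtype.val (au ⟨x, hx⟩ fun e => x1 (congrArg Subtype.val e))
  have key : ∀ l : G, ⁅a.1, l⁆ ∈ O[{2}ᶜ, (⊤ : Subgroup G)] := fun l => by
    refine H16.TI.iso_comm (L := ⊤) a1' (h.sq A hA a a.2) (fun l _ e => ?_) (mem_top l)
    have e2 : cj l A = A := by
      refine h.wc _ (h.cjm A hA l) A hA fun y hy => h.C1_le hA a.2 a1' ?_
      obtain ⟨x, hx, rfl⟩ := mem_cj'.1 hy
      by_cases x1 : x = 1
      · subst x1; simp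
      · rw [uq x hx x1]; exact mem_C1.2 e.symm
    have e3 := conj_mem_cj l a.2
    rw [e2] at e3
    exact uq _ e3 fun e => a1' (conj_eq_one_iff'.1 e)
  have hn : (O[{2}ᶜ, (⊤ : Subgroup G)]).Normal := nml_top_iff.1 (pcore_nml _ _)
  rcases hn.eq_bot_or_eq_top with e | e
  · have hz : a.1 ∈ center G := mem_center_iff.2 fun l => by
      have := key l
      rw [e, mem_bot, commutatorElement_eq_one_iff_mul_comm] at this
      exact this.symm
    rcases (inferInstance : (center G).Normal).eq_bot_or_eq_top with e' | e'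
    · exact a1' (mem_bot.1 (e' ▸ hz))
    · exact hG ⟨⟨fun x y => (mem_center_iff.1 (e' ▸ mem_top y : y ∈ center G) x)⟩⟩
  · have h3 : IsPi {2}ᶜ A := (pcore_pi {2}ᶜ (⊤ : Subgroup G)).of_le (le_top.trans e.ge)
    exact h.ne A hA ((h.two hA).eq_bot h3)

theorem n0_out {α : Type*} [Fintype α] [DecidableEq α] (l : List α) (h : l.length < Fintype.card α) :
    ∃ p, p ∉ l := by
  by_contra hn
  push Not at hn
  have : (Finset.univ : Finset α) ⊆ l.toFinset := fun p _ => List.mem_toFinset.2 (hn p)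
  have := (Finset.card_le_card this).trans (List.toFinset_card_le l)
  rw [Finset.card_univ] at this
  omega

/-- an elementary abelian group acting semiregularly off one point, normalised by centralisers -/
theorem alt_le {α : Type*} [Fintype α] [DecidableEq α] (V : Subgroup (alternatingGroup α))
    (h4 : 4 ≤ ♯V) (hsq : ∀ x ∈ V, x * x = 1) (hc : ∀ x ∈ V, x ≠ 1 → C{x} ≤ N[V]) (o : α)
    (hf : ∀ x ∈ V, x ≠ 1 → ∀ e : α, x.1 e = e ↔ e = o) : Fintype.card α ≤ 9 := by
  classical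
  by_contra hlt
  have := Fintype.ofFinite V
  rw [Nat.card_eq_fintype_card] at h4
  obtain ⟨z, hz⟩ := n0_out [(1 : V)] (lt_of_lt_of_le (by simp) h4)
  obtain ⟨a, ha⟩ := n0_out [(1 : V), z] (lt_of_lt_of_le (by simp) h4)
  simp only [List.mem_cons, List.not_mem_nil, or_false, not_or] at hz ha
  have z1 : z.1 ≠ 1 := fun e => hz (Subtype.ext e)
  have a1 : a.1 ≠ 1 := fun e => ha.1 (Subtype.ext e)
  have sq : ∀ x ∈ V, ∀ e : α, x.1 (x.1 e) = e := fun x hx e => by
    have := congrArg (fun y : alternatingGroup α => y.1 e) (hsq x hx)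
    simpa using this
  have za1 : z.1 * a.1 ≠ 1 := fun e => ha.2 (Subtype.ext (by
    have := congrArg (z.1 * ·) e
    simpa [← mul_assoc, hsq z.1 z.2] using this))
  set Z : Equiv.Perm α := z.1.1 with hZ
  set X : Equiv.Perm α := a.1.1 with hX
  obtain ⟨e, he⟩ := n0_out [o] (by simp; omega)
  obtain ⟨e', he'⟩ := n0_out [o, e, Z e, X e, Z (X e)] (by simp; omega)
  obtain ⟨p, hp⟩ := n0_out [o, e, Z e, e', Z e', X e, X (Z e), X e', X (Z e')] (by simp; omega)
  simp only [List.mem_cons, List.not_mem_nil, or_false, not_or] at he he' hp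
  have ZZ := sq z.1 z.2
  have XX := sq a.1 a.2
  have n1 : e ≠ Z e := fun k => he ((hf z.1 z.2 z1 e).1 k.symm)
  have n2 : e' ≠ Z e' := fun k => he'.1 ((hf z.1 z.2 z1 e').1 k.symm)
  let u : alternatingGroup α := ⟨Equiv.swap e (Z e) * Equiv.swap e' (Z e'), by
    simp [Equiv.Perm.mem_alternatingGroup, Equiv.Perm.sign_swap n1, Equiv.Perm.sign_swap n2]⟩
  have uf : ∀ q, q ≠ e → q ≠ Z e → q ≠ e' → q ≠ Z e' → u.1 q = q := fun q h1 h2 h3 h4 => by
    change Equiv.swap e (Z e) (Equiv.swap e' (Z e') q) = q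
    rw [Equiv.swap_apply_of_ne_of_ne h3 h4, Equiv.swap_apply_of_ne_of_ne h1 h2]
  have uz : u ∈ C{z.1} := by
    rw [mem_C1_comm, mem_C1_iff_conj]
    refine Subtype.ext ?_
    change Z * (Equiv.swap e (Z e) * Equiv.swap e' (Z e')) * Z⁻¹ = _
    have : Z * (Equiv.swap e (Z e) * Equiv.swap e' (Z e')) * Z⁻¹ =
        (Z * Equiv.swap e (Z e) * Z⁻¹) * (Z * Equiv.swap e' (Z e') * Z⁻¹) := by group
    rw [this, ← Equiv.swap_apply_apply, ← Equiv.swap_apply_apply, ZZ, ZZ, Equiv.swap_comm (Z e),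
      Equiv.swap_comm (Z e')]
  have hcV : u⁻¹ * a.1 * u * a.1 ∈ V := V.mul_mem (conj_mem' (hc _ z.2 z1 uz) a.2) a.2
  have c1 : u⁻¹ * a.1 * u * a.1 = 1 := by
    by_contra c1
    refine hp.1 ((hf _ hcV c1 p).1 ?_)
    have k1 : u.1 (X p) = X p := by
      refine uf _ ?_ ?_ ?_ ?_ <;> intro k <;> have k' := congrArg X k <;> rw [XX] at k' <;> tauto
    have k2 : u.1 p = p := uf _ hp.2.1 hp.2.2.1 hp.2.2.2.1 hp.2.2.2.2.1
    change u.1⁻¹ (X (u.1 (X p))) = p
    rw [k1, XX, Equiv.Perm.inv_eq_iff_eq, k2]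
  have k3 : u.1 (X e) = X e := by
    refine uf _ (fun k => he ((hf a.1 a.2 a1 e).1 k)) (fun k => he ((hf _ (V.mul_mem z.2 a.2) za1 e).1 ?_))
      (fun k => he'.2.2.2.1 k.symm) (fun k => he'.2.2.2.2 (by rw [k, ZZ]))
    change Z (X e) = e
    rw [k, ZZ]
  have k4 : u.1 e = Z e := by
    change Equiv.swap e (Z e) (Equiv.swap e' (Z e') e) = Z e
    rw [Equiv.swap_apply_of_ne_of_ne (fun k => he'.2.1 k.symm)
      (fun k => he'.2.2.1 (by rw [k, ZZ])), Equiv.swap_apply_left]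
  have k5 : u.1⁻¹ (X (u.1 (X e))) = e := congrArg (fun y : alternatingGroup α => y.1 e) c1
  rw [k3, XX, Equiv.Perm.inv_eq_iff_eq, k4] at k5
  exact n1 k5

theorem n0_cj (h : Sit Ω) (g : G) (e : Relation.ReflTransGen (Adj Ω) P Q) :
    Relation.ReflTransGen (Adj Ω) (cj g P) (cj g Q) := by
  induction e with
  | refl => exact .refl
  | tail _ e ih => exact ih.tail (h.adj_cj e g)

theorem n0_symm (h : Sit Ω) (e : Relation.ReflTransGen (Adj Ω) P Q) :
    Relation.ReflTransGen (Adj Ω) Q P := by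
  induction e with
  | refl => exact .refl
  | tail _ e ih => exact .head (h.adj_symm e) ih

/-- the stabiliser of the connected component of `A` -/
def n0_H (h : Sit Ω) (A : Subgroup G) : Subgroup G where
  carrier := {g | Relation.ReflTransGen (Adj Ω) A (cj g A)}
  one_mem' := by simpa [cj_one] using Relation.ReflTransGen.refl
  mul_mem' := fun {g g'} hg hg' => by
    have := n0_cj h g hg'
    rw [← cj_mul] at this
    exact Relation.ReflTransGen.trans hg this
  inv_mem' := fun {g} hg => by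
    have := n0_cj h g⁻¹ hg
    rw [cj_inv_cj] at this
    exact n0_symm h this

theorem n0_N (h : Sit Ω) : N[A] ≤ n0_H h A := fun g hg => by
  change Relation.ReflTransGen (Adj Ω) A (cj g A)
  rw [cj_of_mem_N hg]

theorem n0_fix (h : Sit Ω) (hA : A ∈ Ω) (ha : a ∈ A) (a1 : a ≠ 1) (hg : g⁻¹ * a * g ∈ n0_H h A) :
    g ∈ n0_H h A := by
  have hd : g⁻¹ * a * g ∈ cj g⁻¹ A := by simpa using conj_mem_cj g⁻¹ ha
  have hP := h.cjm A hA g⁻¹
  obtain ⟨x, hx, hle⟩ := h.fix_two hA (n0_N h) ((h.two hP).of_le (zpowers_le.2 hd)) (zpowers_le.2 hg)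
  refine (Subgroup.inv_mem_iff _).1 ?_
  change Relation.ReflTransGen (Adj Ω) A (cj g⁻¹ A)
  by_cases e : cj x A = cj g⁻¹ A
  · exact e ▸ hx
  · refine Relation.ReflTransGen.tail hx (h.adj_of_mem (h.cjm A hA x) hP e hd (fun k => a1 ?_)
      (hle (mem_zpowers _)))
    have := congrArg (fun y => g * y * g⁻¹) k
    simpa [mul_assoc] using this

theorem n0_smul {H : Subgroup G} : x • (g : G ⧸ H) = g ↔ g⁻¹ * x * g ∈ H := by
  rw [MulAction.Quotient.smul_coe, smul_eq_mul, eq_comm, QuotientGroup.eq, mul_assoc]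

theorem Sit.conn [IsSimpleGroup G] (hG : ¬ IsMulCommutative G) (h : Sit Ω) (hA : A ∈ Ω) :
    Conn Ω ∨ Concl G := by
  classical
  by_cases hH : n0_H h A = ⊤
  · refine Or.inl fun P hP Q hQ => ?_
    obtain ⟨g, rfl⟩ := h.tr A hA P hP
    obtain ⟨g', rfl⟩ := h.tr A hA Q hQ
    have h1 : g ∈ n0_H h A := hH ▸ mem_top g
    have h2 : g' ∈ n0_H h A := hH ▸ mem_top g'
    exact (n0_symm h h1).trans h2
  right
  set H := n0_H h A with hHd
  have AH : A ≤ H := (norm_self A).trans (n0_N h)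
  have hne : ∀ g : G, (g : G ⧸ H) = ((1 : G) : G ⧸ H) ↔ g ∈ H := fun g => by
    rw [eq_comm, QuotientGroup.eq]; simp
  have : Nontrivial (G ⧸ H) := by
    obtain ⟨g, hg⟩ : ∃ g, g ∉ H := by
      by_contra k
      push Not at k
      exact hH (eq_top_iff.2 fun g _ => k g)
    exact ⟨g, (1 : G), fun e => hg ((hne g).1 e)⟩
  have hinj : Function.Injective (MulAction.toPermHom G (G ⧸ H)) := by
    rw [← MonoidHom.ker_eq_bot_iff, ← Subgroup.normalCore_eq_ker]
    exact ((inferInstance : H.normalCore.Normal).eq_bot_or_eq_top).resolve_right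
      fun e => hH (eq_top_iff.2 (e ▸ H.normalCore_le))
  have hfix : ∀ a ∈ A, a ≠ 1 → ∀ e : G ⧸ H, a • e = e ↔ e = ((1 : G) : G ⧸ H) := fun a ha a1 e => by
    induction e using QuotientGroup.induction_on with
    | H g =>
      rw [n0_smul, hne]
      exact ⟨n0_fix h hA ha a1, fun k => H.mul_mem (H.mul_mem (H.inv_mem k) (AH ha)) k⟩
  obtain ⟨S, hS, hAS⟩ := Sylow_superset Nat.prime_two (h.two hA) (le_top : A ≤ ⊤)
  obtain ⟨z, hz, z1⟩ := exists_ne_one
    (hS.pi.inf_C_ne_bot Nat.prime_two (h.two hA) (h.norm_of_le hA hS.pi hAS) (h.ne A hA))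
  obtain ⟨S', rfl⟩ := hS.exists_sylow_top Nat.prime_two
  have z2 : orderOf z = 2 := orderOf_eq_prime (by rw [pow_two]; exact h.sq A hA z hz.1) z1
  rcases H22.Ho.holt_simple (Ω := G ⧸ H) hG
    (fun g hg => hinj (by rw [map_one]; exact Equiv.ext hg))
    (fun b c => MulAction.exists_smul_eq G b c) ⟨z2, S', hAS hz.1, mem_C.1 hz.2⟩
    ⟨_, (hfix z hz.1 z1 _).2 rfl, fun e he => (hfix z hz.1 z1 e).1 he⟩ with k | ⟨k7, k⟩
  · refine concl_of_se (U := H) ⟨hH, ?_, fun g hg => ?_⟩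
    · exact even_iff_two_dvd.2 (z2 ▸ orderOf_dvd_card' (AH hz.1))
    · rw [← Nat.not_even_iff_odd, even_iff_two_dvd]
      intro k2
      obtain ⟨x, hx⟩ := exists_prime_orderOf_dvd_card' 2 k2
      have x2 : orderOf x.1 = 2 := by rw [Subgroup.orderOf_coe, hx]
      refine hg ((hne g).1 (k x.1 ⟨fun e => by simp [e] at x2, ?_⟩ _ _ (n0_smul.2 (mem_cj.1 x.2.2))
        (n0_smul.2 (by simpa using x.2.1))))
      rw [← pow_two, ← x2, pow_orderOf_eq_one]
  · have := Fintype.ofFinite (G ⧸ H)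
    let e : G ≃* alternatingGroup (G ⧸ H) :=
      (MonoidHom.ofInjective hinj).trans (MulEquiv.subgroupCongr k)
    have h9 : Fintype.card (G ⧸ H) ≤ 9 := by
      refine alt_le (A.map e.toMonoidHom) ?_ ?_ ?_ ((1 : G) : G ⧸ H) ?_
      · rw [Subgroup.card_map_of_injective e.injective]; exact h.four_le hG hA
      · rintro _ ⟨a, ha, rfl⟩
        rw [← map_mul, h.sq A hA a ha, map_one]
      · rintro _ ⟨a, ha, rfl⟩ a1 y hy
        obtain ⟨g, rfl⟩ := e.surjective y
        have hg : g ∈ N[A] := h.C1_le hA ha (fun k => a1 (by rw [k, map_one]))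
          (mem_C1.2 (e.injective (by rw [map_mul, map_mul]; exact mem_C1.1 hy)))
        exact norm_map (X := N[A]) le_rfl e.toMonoidHom ⟨g, hg, rfl⟩
      · rintro _ ⟨a, ha, rfl⟩ a1 q
        exact hfix a ha (fun k => a1 (by rw [k, map_one])) q
    refine Or.inr (Or.inr (Or.inr (Or.inl ⟨Fintype.card (G ⧸ H), ?_, h9,
      ⟨e.trans (Fintype.equivFin _).altCongrHom⟩⟩)))
    rw [Nat.card_eq_fintype_card] at k7; omega

end H12.TI
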