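import Cfsg.Agent.H12.TIG
import Cfsg.Agent.H17.TO1

set_option autoImplicit false
set_option linter.unusedSectionVars false
set_option linter.unusedVariables false

namespace H12.TI

open Cfsg H24 Subgroup H8.TI
open scoped commutatorElement

universe u

variable {G : Type u} [Group G] [Finite G] {Ω : Set (Subgroup G)}
  {A B C D F I P Q R S T U : Subgroup G} {a a' b c d d' g i j j' p r s t w x y ρ κ : G}

namespace L17.Cx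

variable (m : Cx Ω A C F)
include m

theorem gd (hg : g ∈ ax C A ⊓ N[A ⊓ F]) : g ∈ Wl A C ⊓ N[A ⊓ F] := ⟨axLeW' A C hg.1, hg.2⟩

theorem gA (hv : a ∈ A) (hg : g ∈ ax C A) (g1 : g ≠ 1) : a * g ∉ A := fun k =>
  g1 (eq_one m.h m.tC.l m.tC.r m.tC.ne ((Subgroup.mul_mem_cancel_left _ hv).1 k) hg.1)

theorem vW (hv : a ∈ ax A C) : a ∈ Wl A C ⊓ N[A ⊓ F] := ⟨axLeW A C hv, ptN m.h m.oA.mem inf_le_left hv.1⟩

theorem cardJ : ♯(ax C A ⊓ N[A ⊓ F]) = ♯(A ⊓ F ⊓ ax A C) := by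
  obtain ⟨B, hB, ne⟩ := m.ex
  exact m.axq m.oA hB ne ▸ (m.mx hB ne).cardJ

theorem one_lt : 1 < ♯(A ⊓ F ⊓ ax A C) := by
  obtain ⟨B, hB, ne⟩ := m.ex
  exact one_lt_card (m.axq m.oA hB ne ▸ m.cl.inf A B C (m.mx hB ne).t1 m.tC (m.mx hB ne).ne)

theorem lemL (hQ : On Ω F Q) {x' : G} (hx : x ∈ Wl A C ⊓ N[A ⊓ F]) (ha : a ∈ A) (hb : b ∈ A)
    (e1 : cj x Q = cj a Q) (e2 : cj x' Q = cj b Q) (hc : c * (a * b) ∈ F) : c * (x * x') ∈ N[Q] := by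
  have := mul_mem (mul_mem (m.FN hQ (mul_mem hc (conj_mem' (m.oA.le ha) (m.AZ hx (inv_mem hb)).2)))
    (cj_eq_cj_iff.1 e1)) (cj_eq_cj_iff.1 e2)
  rwa [m.h.comm m.oA.mem ha hb, show c * (b * a) * (a⁻¹ * ⁅b⁻¹, x⁆ * a) * (a⁻¹ * x) * (b⁻¹ * x') = c * (x * x') by
    rw [commutatorElement_def]; group] at this

theorem small (hg : g ∈ ax C A ⊓ N[A ⊓ F]) (g1 : g ≠ 1) (hB : On Ω F B) (nB : A ≠ B) (gB : g ∈ N[B])
    (ha : a ∈ ax A C) (hP : On Ω F P) (gP : g * a ∈ N[P]) (gP' : g ∉ N[P]) :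
    ♯(A ⊓ F ⊓ ax A C) * ♯(A ⊓ F) ≤ ♯A := by
  have g2 := m.gd hg
  have nP : A ≠ P := fun e => gP' (e ▸ hg.1.2)
  have k : ∀ {y Q}, y ∈ Wl A C ⊓ N[A ⊓ F] → y ∉ A → On Ω F Q → A ≠ Q → y ∈ N[Q] → ∀ x, ∃ a,
      x ∈ ax C A ⊓ N[A ⊓ F] → a ∈ A ∧ cj x Q = cj a Q := fun {y Q} hy y1 hQ nQ yQ x => by
    by_cases hx : x ∈ ax C A ⊓ N[A ⊓ F]
    · have z : x ∈ ZZ F y := ⟨m.YN (m.gd hx), by
        rw [cm_one.2 (commSq (m.h.gl_Wl m.tC.toAdj).sq (m.gd hx).1 hy.1)]; exact one_mem _⟩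
      exact (m.tau hy y1 hQ nQ yQ (hQ.cj m.h z.1) (fun e => nQ (cj_inj.1 ((cj_of_mem_N hx.1.2).trans e)))
        ((Zfix m.h m.gl hQ z).2 yQ)).imp fun a k _ => k
    · exact ⟨1, fun k => absurd k hx⟩
  choose α hα using k g2 (by simpa using m.gA (one_mem _) hg.1 g1) hB nB gB
  choose β hβ using k (mul_mem g2 (m.vW ha)) (m.yv g2 ha ▸ m.gA ha.1 hg.1 g1) hP nP gP
  rw [← m.cardJ]
  refine pigeon2 inf_le_left (fun x => α x * β x) (fun x hx => mul_mem (hα x hx).1 (hβ x hx).1)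
    fun x hx x' hx' e => by_contra fun ne => gP' ?_
  obtain ⟨a1, a2⟩ := hα x hx
  obtain ⟨a3, a4⟩ := hα x' hx'
  obtain ⟨b1, b2⟩ := hβ x hx
  obtain ⟨b3, b4⟩ := hβ x' hx'
  have cm := fun {x y} => m.h.comm (x := x) (y := y) m.oA.mem
  obtain ⟨i, hi, v, hv, e1⟩ := m.dec (mul_mem a1 a3)
  have e2 : v * (α x * α x') ∈ F := by
    rw [e1, cm hi.1 hv.1, ← mul_assoc, m.h.sq A m.oA.mem v hv.1, one_mul]; exact hi.2
  have m4 := mul_mem hx hx'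
  obtain ⟨a, ha, rfl⟩ := m.tau (mul_mem (m.vW hv) (m.gd m4)) (m.gA hv.1 m4.1 fun e => ne
    ((eq_inv_of_mul_eq_one_left e).trans (inv_eq m.h m.tC.r hx'.1.1))) hB nB (m.lemL hB (m.gd hx) a1 a3 a2 a4 e2)
    hP nP (m.lemL hP (m.gd hx) b1 b3 b2 b4 (by
      have := mul_mem e2 e.2
      rwa [inv_eq m.h m.oA.mem (mul_mem a1 b1), mul_assoc (α x) (β x), ← mul_assoc (β x), cm b1 a3, mul_assoc (α x'),
        ← mul_assoc (α x) (α x'), mul_assoc v, ← mul_assoc (α x * α x'), m.h.sq A m.oA.mem _ (mul_mem a1 a3),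
        one_mul] at this))
  exact (Zfix m.h m.gl hB (m.AZ g2 ha)).2 gB

theorem lemE (hP : On Ω F P) (hQ : On Ω F Q) (ne : P ≠ Q) (tP : Top Ω P C) (hp : p ∈ ax P C) (p1 : p ∉ F)
    (hx : x ∈ F) (e : x * p = p * x) (hg : g ∈ ax C P) (g1 : g ≠ 1) (gF : g ∈ N[F]) (n : C ≠ cj x C) :
    ax C (cj x C) = ax C P := by
  have h := m.h
  have xP := cj_of_mem_N (m.FN hP hx)
  have t2 : Top Ω P (cj x C) := by simpa only [xP] using h.top_cj tP x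
  have e1 : ax P (cj x C) = cj x (ax P C) := by rw [cj_ax, xP]
  have e2 := m.axq hP hQ ne
  have e3 := big h m.cl (m.fam.top P Q hP hQ ne) tP (fun k => p1 ((k.symm.trans e2).le hp).2) tP t2
    (fun z hz => ⟨hz.2, by
      have := conj_mem_cj x hz.2
      rwa [commSq m.gl.sq hx (e2.le hz.1).2, mul_inv_cancel_right, ← e1] at this⟩) hp (by
      have := conj_mem_cj x hp
      rwa [e, mul_inv_cancel_right, ← e1] at this) fun k => p1 (e2.le k.1).2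
  refine (h.fam1 tP t2.toAdj e3.symm hg g1 (d' := x * g * x⁻¹) ?_ (mt conj_eq_one_iff.1 g1) ?_).2 n
  · have := conj_mem_cj x hg
    rwa [cj_ax, xP] at this
  · rw [show x * g * x⁻¹ = ⁅x, g⁆ * g by rw [commutatorElement_def]; group, ← mul_assoc,
      mem_C1.1 (cm_fix m.gl.sq gF (h.sq C tP.r g hg.1) hx).2]

theorem so (h1 : On Ω F P) (n1 : A ≠ P) (h2 : On Ω F Q) (n2 : A ≠ Q) : ∃ a ∈ A, Q = cj a P := by
  by_contra hn
  have h := m.h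
  have q := m.gl.sq
  have no : ∀ B, ∃ P, On Ω F P ∧ A ≠ P ∧ ∀ a ∈ A, P ≠ cj a B := fun B => by
    by_cases e : ∃ a ∈ A, P = cj a B
    · obtain ⟨a, ha, rfl⟩ := e
      exact ⟨Q, h2, n2, fun b hb e => hn ⟨_, mul_mem hb (inv_mem ha), by rw [cj_mul, cj_inv_cj, e]⟩⟩
    · exact ⟨P, h1, n1, fun a ha k => e ⟨a, ha, k⟩⟩
  have K : ∀ {y B a}, y ∈ Wl A C ⊓ N[A ⊓ F] → y ∉ A → On Ω F B → A ≠ B → y ∈ N[B] → a ∈ A → a ∉ F →
      ∃ Q, On Ω F Q ∧ y * a ∈ N[Q] ∧ y ∉ N[Q] := fun {y B a} hy y1 hB nB yB ha a1 =>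
    let ⟨P, p1, p2, p3⟩ := no B
    m.lemK hy y1 hB nB yB p1 p2 p3 ha a1
  obtain ⟨g, hg, g1⟩ := exists_ne_one ((one_lt_card_iff_ne_bot _).1 (m.cardJ ▸ m.one_lt))
  have g2 := m.gd hg
  have g3 : g ∉ A := by simpa using m.gA (one_mem _) hg.1 g1
  have gF := m.YN g2
  have gg := m.yy g2
  obtain ⟨B, hB, nB, gB⟩ : ∃ B, On Ω F B ∧ A ≠ B ∧ g ∈ N[B] := by
    obtain ⟨p, p1, p2⟩ := m.outF h1
    have e := m.axq m.oA h1 n1
    obtain ⟨y, hy, y1, R, hR, nR, yR, -⟩ := (m.mx h1 n1).step m.gl (e ▸ g2) g3 gF h1 n1 p1 p2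
    rw [e] at hy
    have e1 : y * (y * g) = g := by rw [← mul_assoc, m.yy hy, one_mul]
    by_cases k : y * g ∈ F
    · exact ⟨R, hR, nR, e1 ▸ mul_mem yR (m.FN hR k)⟩
    · obtain ⟨Q, q1, q2, q3⟩ := K hy (fun k => g3 ((Subgroup.mul_mem_cancel_left _ k).1 y1)) hR nR yR y1 k
      exact ⟨Q, q1, fun e => q3 (e ▸ m.yA hy), e1 ▸ q2⟩
  clear hn h1 n1 h2 n2 no
  obtain ⟨v, hv, v1⟩ := m.exv
  obtain ⟨P, hP, gP, gP'⟩ := K g2 g3 hB nB gB hv.1 v1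
  have c1 := m.small hg g1 hB nB gB hv hP gP gP'
  have c2 : ♯(A ⊓ F ⊓ ax A C) * ♯(A ⊓ F ⊓ ax A C) ≤ ♯(A ⊓ F) := Nat.le_of_mul_le_mul_left (c := ♯(A ⊓ F)) (by
    rw [← m.key, ← mul_assoc, mul_comm ♯(A ⊓ F)]; exact Nat.mul_le_mul_right _ c1) (card_pos _)
  have c3 := m.card0 g2 g3 hB gB
  have c4 := m.card0 g2 g3 m.oA hg.1.2
  have aAB := m.adj m.oA hB nB
  have eA := m.axq m.oA hB nB
  have eB := m.axq hB m.oA nB.symm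
  obtain ⟨b, hb, b1⟩ : ∃ b ∈ B ⊓ C{g}, b ∉ F := SetLike.not_le_iff_exists.1 fun k => by
    have d1 := card_fix (h.sq B hB.mem) gB gg
    have d2 : ♯(B ⊓ C{g}) ≤ _ := c3 ▸ card_le (le_inf (le_inf inf_le_left k) inf_le_right)
    have d3 := card_lt (lt_of_le_of_ne (inf_le_left (a := A) (b := F)) fun e => v1 (e.ge hv.1).2)
    rw [h.card_eq hB.mem m.oA.mem] at d1
    exact absurd ((d1.trans (Nat.mul_le_mul d2 d2)).trans c2) d3.not_ge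
  have CN := h.C1_le m.tC.r hg.1.1 g1
  obtain ⟨-, -, s, -, -, -, -, s1, -, s2⟩ := m.gl.swap h m.oA hB nB hv.1 v1 hb.1 b1
  have tB : Top Ω B C := by
    simpa only [s1, cj_of_mem_N (CN (mem_C1.2 (s2 g (.inl ⟨by rw [m.yv g2 hv, mul_inv_cancel_right],
      mem_C1_iff_conj.1 (mem_C1_comm.1 hb.2)⟩)).symm))] using h.top_cj m.tC s
  have nJ : ax C A ≠ ax C B := fun e => by
    have d := m.cardJ
    rw [inf_eq_left.2 (eA ▸ norm_inf axN (norm_N (e.le.trans axN))), ← h.card_ax m.tC.toAdj] at d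
    exact v1 ((eq_of_card_eq inf_le_right d.symm).ge hv).1.2
  have cE : ∀ x ∈ F, x * v = v * x → x * b = b * x → ⁅x, g⁆ = 1 := fun x hx e1 e2 => by
    have e : C = cj x C := by_contra fun n => nJ ((m.lemE m.oA hB nB m.tC hv v1 hx e1 hg.1 g1 gF n).symm.trans
      (m.lemE hB m.oA nB.symm tB ⟨hb.1, CN hb.2⟩ b1 hx e2 ⟨hg.1.1, gB⟩ g1 gF n))
    by_contra n
    have k : C ⊓ F ≠ ⊥ := ne_bot_of_mem (mem_inf.2 ⟨mul_mem (conj_mem (mem_N_iff_cj.2 e.symm) hg.1.1)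
      (inv_mem hg.1.1), cm_left q gF hx⟩) n
    exact m.ne (m.axq m.oA ⟨m.tC.r, m.fam.on C m.tC.r k, k⟩ m.tC.ne).symm
  have WF := m.gl.Wl_le h m.oA hB nB
  have cV : ∀ t ∈ F, ⁅t, g⁆ ∈ A ⊓ F ⊓ C{g} ⊔ B ⊓ F ⊓ C{g} := fun t ht => by
    obtain ⟨w, hw, c, k1, k2, rfl⟩ := h.dec aAB hv.1 (fun k => v1 (eA.le ⟨hv.1, k⟩).2) hb.1
      (fun k => b1 (eB.le ⟨hb.1, k⟩).2) (t := t) (mem_C.2 fun w hw => commSq q (WF hw) ht)
    have hc := (Subgroup.mul_mem_cancel_left _ (WF hw)).1 ht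
    obtain ⟨i, hi, j, hj, rfl⟩ := (h.mem_Wl aAB).1 hw
    rw [eA] at hi
    rw [eB] at hj
    rw [cm_mul q gF _ (WF hw) _ hc, cE c hc k1 k2, mul_one, cm_mul q gF _ hi.2 _ hj.2]
    exact mul_mem_sup ⟨m.nuN g2 m.oA hg.1.2 hi, (cm_fix q gF gg hi.2).2⟩ ⟨m.nuN g2 hB gB hj, (cm_fix q gF gg hj.2).2⟩
  have c5 : ♯(⊥ : Subgroup G) * ♯(A ⊓ F ⊓ C{g} ⊔ B ⊓ F ⊓ C{g}) ≤ ♯(P ⊓ F) := by
    have := card_sup (A := A ⊓ F ⊓ C{g}) (B := B ⊓ F ⊓ C{g})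
      (norm_of_cent (le_C_iff.2 fun x hx y hy => commSq q hx.1.2 hy.1.2))
    rw [c3, c4] at this
    rw [card_bot, one_mul, m.cardP hP]
    exact (Nat.le_mul_of_pos_right _ (card_pos _)).trans (this.le.trans c2)
  obtain ⟨j, hj, j1⟩ := exists_ne_one ((one_lt_card_iff_ne_bot _).1 (c3 ▸ m.one_lt))
  have : ∀ a, ∃ c, a ∈ A → c ∈ cj a B ∧ c ∉ F ∧ cj c P = cj g P := fun a => by
    by_cases ha : a ∈ A
    swap
    · exact ⟨1, fun k => absurd k ha⟩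
    have z := m.AZ g2 ha
    have o := hB.cj h z.1
    have g4 := (Zfix h m.gl hB z).2 gB
    have ne : cj a B ≠ P := fun e => gP' (e ▸ g4)
    have k1 : ⁅a, j⁆ ∈ A ⊓ F ⊓ C{g} := ⟨m.cm m.oA hB nB ha hj.1, mem_C1.2 (cm_one.1 (by
      rw [Zcm q gF z hj.1.2, cm_one.2 (mem_C1.1 hj.2)]; simp))⟩
    have k2 : a * j * a⁻¹ = ⁅a, j⁆ * j := by rw [commutatorElement_def]; group
    obtain ⟨x, hx, e1⟩ := surj_hom (U := P ⊓ F) (K := ⊥) (⁅·, g⁆) (fun a ha b hb => cm_mul q gF a ha.2 b hb.2)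
      (fun x hx => cV x hx.2) (fun x hx e => by_contra fun x1 => gP' (h.C1_le hP.mem hx.1 x1
        (mem_C1_comm.1 (mem_C1.2 (cm_one.1 e))))) c5 (k2 ▸ mul_mem_sup k1 hj)
    have x1 : x ≠ 1 := fun e => j1 (conj_eq_one_iff.1 (by rw [← e1, e]; simp))
    obtain ⟨c, hc, e2⟩ := surj_hom (U := cj a B) (K := cj a B ⊓ F) (W := cj a B ⊓ F ⊓ C{g}) (⁅·, x⁆)
      (cm_mul (h.sq _ o.mem) (m.FN o hx.2)) (fun c hc => ⟨m.cm o hP ne hc hx, mem_C1.2 (cm_one.1 (by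
        rw [Zcm q gF (m.tau0 g2 o g4 hc) hx.2, e1]
        exact cm_one.2 (h.comm o.mem hc (conj_mem_cj a hj.1.1))))⟩)
      (fun c hc e => m.cm1 o hP ne hc hx.1 x1 e) (by
        rw [m.card0 g2 g3 o g4, m.cardP o, h.card_eq o.mem m.oA.mem, mul_comm]; exact c1)
      (w := a * j * a⁻¹) ⟨⟨conj_mem_cj a hj.1.1, conj_mem z.1 hj.1.2⟩, k2 ▸ mul_mem k1.2 hj.2⟩
    have e3 : cj c P = cj g P := h.eq_of_mem (h.cjm P hP.mem c) (h.cjm P hP.mem g) (mt conj_eq_one_iff.1 x1)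
      (conj_mem_cj c hx.1) (by
        rw [show c * x * c⁻¹ = ⁅c, x⁆ * x by rw [commutatorElement_def]; group, e2, ← e1,
          commSq q (cm_left q gF hx.2) hx.2, commutatorElement_def, ← mul_assoc, ← mul_assoc, ← mul_assoc,
          q x hx.2, one_mul]
        exact conj_mem_cj g (inv_mem hx.1))
    exact ⟨c, fun _ => ⟨hc, fun k => gP' (mem_N_iff_cj.2 (e3.symm.trans (cj_of_mem_N (m.FN hP k)))), e3⟩⟩
  choose γ hγ using this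
  have oQ := hP.cj h gF
  have oB := fun a ha => hB.cj h (g := a) (m.oA.le ha)
  obtain ⟨π, p1, p2⟩ := m.outF oQ
  obtain ⟨a, ha, a', ha', d1, d2⟩ := pigeon (U := A ⊓ F) (V := P ⊓ F) inf_le_left inf_le_left
    (h.card_eq m.oA.mem hP.mem) (m.cardP hP).symm (fun a => (γ a)⁻¹ * π * γ a) fun a ha =>
      ⟨mem_cj.1 ((hγ a ha).2.2 ▸ p1), fun k => p2 (by
        simpa [mul_assoc] using conj_mem ((oB a ha).le (hγ a ha).1) k.2)⟩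
  obtain ⟨u1, u2, u3⟩ := hγ a ha
  obtain ⟨u4, u5, u6⟩ := hγ a' ha'
  have s4 := h.sq _ (oB a' ha').mem _ u4
  refine Od.nofix h m.gl ⟨_, _, _, u1, _, u4, oB a ha, oB a' ha', fun e => d1 (eA.le (mem_inf.2 ⟨mul_mem (inv_mem ha) ha',
    cj_eq_cj_iff.1 e.symm⟩)), u2, u5, rfl⟩ oQ (mem_N_iff_cj.2 (by
      rw [cj_mul, ← u6, ← cj_mul (γ a'), s4, cj_one, u3, u6])) p1 p2 ?_
  have := conj_mem (oQ.le p1) (conj_mem ((oB a ha).le u1) d2.2)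
  rw [inv_eq_of_mul_eq_one_right s4] at this
  rw [mul_inv_rev, inv_eq_of_mul_eq_one_right s4]
  rw [inv_eq h oQ.mem p1] at this
  convert this using 1
  group

end L17.Cx

theorem CL.so (h : Sit Ω) (hc : CL Ω) (hA : Top Ω A B) (hT : IsPi {2} T) (h1 : T ≤ N[A] ⊓ N[ax A B])
    (h2 : ax B A ≤ T) : ∃ F, Fam Ω F ∧ Wl A B ≤ F ∧ (∀ C, Adj Ω A C → ax A C = ax A B → ax C A ⊓ T ≤ F) ∧
      ∀ P ∈ Ω, P ⊓ F ≠ ⊥ → P = A ∨ ∃ a ∈ A, P = cj a B := by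
  obtain ⟨S, hS, l⟩ := Sylow_superset p2 hT h1
  obtain ⟨hF, f1, f2, f3, f4, P, hP, ne⟩ := h.fam_Fam hA hS
  have k := fun C hC e d hd hs => IC.mF h hA hS (C := C) (d := d) hC e hd hs
  have JF : ax B A ≤ _ := fun d hd => k B hA.toAdj rfl d hd (l (h2 hd))
  obtain ⟨C, hC, e⟩ := hc.two.exists_ne h hA
  obtain ⟨g, hg, k1⟩ := Sylow_Jsub p2 hS ((H3.TA.two_of_sq (h.gl_Wl hC.toAdj).sq).inf_left N[ax A B])
    (inf_le_inf_right _ ((h.gl_Wl hC.toAdj).le_N h (h.on_Wl hC.toAdj)))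
  have e1 := cj_of_mem_N hg.1
  have e2 := cj_of_mem_N hg.2
  rw [cj_inf, cj_Wl, cj_N, e1, e2] at k1
  have m : L17.Cx Ω A (cj g C) _ := ⟨h, hc, hF, ⟨hA.l, f3.trans f1, f4.symm ▸ hA.nb⟩,
    by simpa only [e1] using h.top_cj hC g, fun k => e (cj_inj.1 (by rw [cj_ax, e1, e2, ← k, f4])),
    f4.symm ▸ k1.trans f1, P, hP, ne.symm⟩
  have on : ∀ P ∈ Ω, P ⊓ _ ≠ ⊥ → On Ω _ P := fun P hP k => ⟨hP, hF.on P hP k, k⟩
  refine ⟨_, hF, sup_le le_sup_left JF, fun C hC e d hd => k C hC e d hd.1 (l hd.2), fun P hP n => ?_⟩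
  by_cases e : A = P
  · exact .inl e.symm
  · exact .inr (m.so (on B hA.r fun k => (h.top_symm hA).nb (eq_bot_iff.2 (k ▸ le_inf axL JF))) hA.ne (on P hP n) e)

theorem CL.good (h : Sit Ω) (hc : CL Ω) : Good Ω := by
  refine ⟨fun A B hA d ⟨d1, P, hP, hd⟩ hW => ?_, fun A B hA P hP hn => ?_⟩
  · obtain ⟨i0, hi, i1⟩ := exists_ne_one hA.nb
    obtain ⟨j0, hj, j1⟩ := exists_ne_one (h.top_symm hA).nb
    have cI : d ∈ C[ax A B] := C_anti (axLeW A B) hW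
    have cJ : d ∈ C[ax B A] := C_anti (axLeW' A B) hW
    have nA : d ∈ N[A] := h.C1_le hA.l hi.1 i1 (C_le_C1 hi cI)
    by_cases e1 : A = P
    · exact axLeW A B ⟨e1 ▸ hd, h.C1_le hA.r hj.1 j1 (C_le_C1 hj cJ)⟩
    obtain ⟨a1, a2⟩ := top_at h hA hP e1 hd d1 nA cI
    obtain ⟨F, -, -, k1, k2⟩ := hc.so h hA (T := ax B A ⊔ zpowers d) (((h.two hA.r).of_le axL).sup
      ((h.two hP).piElt hd).isPi (zpowers_le.2 (C_le_N _ cJ))) (sup_le (axM h hA.toAdj)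
        (zpowers_le.2 ⟨nA, C_le_N _ cI⟩)) le_sup_left
    obtain ⟨a, ha, rfl⟩ := (k2 P hP (ne_bot_of_mem (mem_inf.2 ⟨hd, k1 P a1 a2
      ⟨⟨hd, nA⟩, mem_sup_right (mem_zpowers d)⟩⟩) d1)).resolve_left (Ne.symm e1)
    have : d ∈ cj a (ax B A) := by rw [cj_ax, cj_of_mem ha]; exact ⟨hd, nA⟩
    exact cj_le_of_mem_N (axLeW' A B) (h.le_N_Wl hA.toAdj ha) this
  · obtain ⟨F, -, k1, -, k2⟩ := hc.so h hA ((h.two hA.r).of_le axL) (axM h hA.toAdj) le_rfl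
    exact k2 P hP fun e => hn (eq_bot_iff.2 (e ▸ inf_le_inf_left P k1))

end H12.TI
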