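import Cfsg.Agent.H25.TP2

set_option autoImplicit false
set_option linter.unusedSectionVars false
set_option linter.unusedVariables false

namespace H12.TI

open Cfsg H24 Subgroup
open scoped commutatorElement

universe u

variable {G : Type u} [Group G] [Finite G] {Ω : Set (Subgroup G)}
  {A B C D F I P Q R S T U : Subgroup G} {a a' b c d d' g i j j' p r s t w x y ρ κ : G}

variable {K : Type} [Field K] [Fintype K] {n : ℕ} {ι : (Fin n → K) → G}
  {f f' : Module.Dual K (Fin n → K)} {u v : Fin n → K}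

theorem TP.all_of_bot (h : Sit Ω) (hl : Lin Ω A ι) (e : rad Ω A = ⊥) : All Ω A ι := fun f hf =>
  hl.all_rad h hf fun v hv => by
    rw [e, mem_bot, ← TJ.ι0 hl, hl.inj.eq_iff] at hv
    rw [hv, map_zero]

/-- the non-top lines -/
theorem Lin.split [IsSimpleGroup G] (hG : ¬ IsMulCommutative G) (h : St Ω) (hL : CL Ω)
    (hl : Lin Ω A ι) : All Ω A ι ∧
      ((∀ P ∈ Ω, ∀ Q ∈ Ω, P ≠ Q → Top Ω P Q) ∨ (Fintype.card K = 2 ∧ n = 4)) := by
  have s := h.toSit
  by_cases α : Fintype.card K = 2 ∧ n = 4 ∧ rad Ω A = ⊥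
  · exact ⟨TP.all_of_bot s hl α.2.2, Or.inr ⟨α.1, α.2.1⟩⟩
  have lin : ∀ P ∈ Ω, ∃ ι' : (Fin n → K) → G, Lin Ω P ι' ∧ ∀ B, Adj Ω P B → ¬ Top Ω P B →
      ∃ U, TP.NT Ω P B ι' U ∧ ax P B = rad Ω P := fun P hP => by
    obtain ⟨g, rfl⟩ := h.tr A hl.pt P hP
    refine ⟨_, hl.cj s g, fun B hB nt => ?_⟩
    obtain ⟨U, hU⟩ := TP.exists_NT h (hl.cj s g) hB nt
    refine ⟨U, hU, (hU.main hL).resolve_left fun k => α ⟨k.1, k.2.1, ?_⟩⟩
    have := k.2.2
    rwa [← cj_rad s, cj_eq_bot] at this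
  have all := h.conn.all s fun P B C hB hC ne => by
    obtain ⟨ι', l, k⟩ := lin P hB.l
    have mix : ∀ B C, Top Ω P B → Adj Ω P C → ¬ Top Ω P C → Adj Ω B C := fun B C hB hC nt => by
      obtain ⟨U, hU, e⟩ := k C hC nt
      obtain ⟨f, hf⟩ := l.exf B hB
      exact hU.N2' hf fun u hu => (hf.iff u).1 (s.rad_le hB.toAdj (e ▸ hU.memI.2 hu))
    by_cases tB : Top Ω P B <;> by_cases tC : Top Ω P C
    · exact l.adj_top h hL tB tC ne
    · exact mix B C tB hC tC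
    · exact s.adj_symm (mix C B tC hB tB)
    · obtain ⟨U, hU, e⟩ := k B hB tB
      obtain ⟨U', hU', e'⟩ := k C hC tC
      exact hU.adj2 hU' (e'.trans e.symm) ne
  refine ⟨TP.all_of_bot s hl (s.rad_bot hG all hl.pt), Or.inl fun P hP Q hQ ne => by_contra fun nt => ?_⟩
  obtain ⟨ι', -, k⟩ := lin P hP
  obtain ⟨U, -, e⟩ := k Q (all P hP Q hQ ne) nt
  exact (all P hP Q hQ ne).nb (e.trans (s.rad_bot hG all hP))

end H12.TI
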