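import Cfsg.Agent.H12.TIB
import Cfsg.Agent.H16.TI1

/-! # TI, block R: reduction to simple groups (proved by helper16) -/

set_option autoImplicit false
set_option linter.unusedSectionVars false
set_option linter.unusedVariables false

namespace H12.TI

open Cfsg H24 Subgroup
open scoped commutatorElement

universe u

variable {G : Type u} [Group G] [Finite G] {Ω : Set (Subgroup G)}
  {A B C D F I P Q R S T U : Subgroup G} {a a' b c d d' g i j j' p r s t w x y ρ κ : G}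

/-- the theorem for simple groups -/
def Simp : Prop := ∀ (X : Type u) [Group X] [Finite X] [IsSimpleGroup X], ¬ IsMulCommutative X →
  ∀ (Ω : Set (Subgroup X)) (A : Subgroup X), Sit Ω → A ∈ Ω → Concl X

theorem sit_of (hB : IsElementaryAbelian 2 B) (h1 : B ≠ ⊥) (hti : ∀ g : G, cj g B = B ∨ cj g B ⊓ B = ⊥)
    (hwc : ∀ g : G, cj g B ≤ N[B] → cj g B = B) : Sit {P : Subgroup G | ∃ g, cj g B = P} := by
  refine ⟨?_, ?_, ?_, ?_, ?_, ?_⟩
  · rintro _ ⟨g, rfl⟩ x hx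
    obtain ⟨y, hy, rfl⟩ := mem_cj'.1 hx
    have := hB.2 y hy
    calc g * y * g⁻¹ * (g * y * g⁻¹) = g * y ^ 2 * g⁻¹ := by rw [pow_two]; group
      _ = 1 := by rw [this]; group
  · rintro _ ⟨g, rfl⟩
    simpa using h1
  · rintro _ ⟨g, rfl⟩ k
    exact ⟨k * g, cj_mul _ _ _⟩
  · rintro _ ⟨g, rfl⟩ _ ⟨k, rfl⟩
    exact ⟨k * g⁻¹, by rw [cj_mul, cj_inv_cj]⟩
  · rintro _ ⟨g, rfl⟩ _ ⟨k, rfl⟩ hne
    rcases hti (k⁻¹ * g) with e | e
    · exact absurd (cj_eq_cj_iff.2 (mem_N_iff_cj.2 e)) hne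
    · rw [← cj_eq_bot (g := k⁻¹), cj_inf, cj_inv_cj, ← cj_mul, e]
  · rintro _ ⟨g, rfl⟩ _ ⟨k, rfl⟩ hle
    refine cj_eq_cj_iff.2 (mem_N_iff_cj.2 (hwc _ ?_))
    rw [cj_mul, cj_le_iff, inv_inv, cj_N]
    exact hle

theorem elOf (h : ∀ x ∈ B, x * x = 1) : IsElementaryAbelian 2 B :=
  ⟨ablSq h, fun x hx => by rw [pow_two]; exact h x hx⟩

theorem rCen (hgen : normalClosure (A : Set G) = ⊤) [U.Normal] (hU : U ≤ C[A]) : U ≤ center G := by
  have h1 : (C[U]).Normal := inferInstance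
  have h2 : normalClosure (A : Set G) ≤ C[U] := normalClosure_le_normal (cents_symm hU)
  intro x hx
  exact mem_center_iff.2 fun g => (mem_C.1 (h2 (hgen ▸ mem_top g)) x hx).symm

theorem Sit.rNml (h : Sit Ω) (hA : A ∈ Ω) [U.Normal] (hU : IsPi {2} U) : U ≤ N[A] :=
  le_sup_right.trans (h.norm_of_le hA ((h.two hA).sup' hU (norm_of_normal _ _)) le_sup_left)

theorem rGen {Y : Type u} [Group Y] (π : G →* Y) (hπ : Function.Surjective π)
    (hgen : normalClosure (A : Set G) = ⊤) : normalClosure ((A.map π : Subgroup Y) : Set Y) = ⊤ := by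
  rw [coe_map, ← map_normalClosure _ _ hπ, hgen, map_top_of_surjective _ hπ]

theorem Sit.rMap {Y : Type u} [Group Y] [Finite Y] (π : G →* Y) (hπ : Function.Surjective π)
    (h : Sit Ω) (hA : A ∈ Ω) (h1 : A.map π ≠ ⊥)
    (hti : ∀ P ∈ Ω, P ≠ A → ∀ p ∈ P, ∀ a ∈ A, π p = π a → π p = 1)
    (hwc : ∀ P ∈ Ω, P.map π ≤ N[A.map π] → P = A) :
    Sit {P : Subgroup Y | ∃ g, cj g (A.map π) = P} := by
  refine sit_of (elOf ?_) h1 (fun y => ?_) fun y hy => ?_
  · rintro _ ⟨x, hx, rfl⟩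
    rw [← map_mul, h.sq A hA x hx, map_one]
  · obtain ⟨g, rfl⟩ := hπ y
    rw [← map_cj]
    by_cases e : cj g A = A
    · left; rw [e]
    · right
      rw [eq_bot_iff]
      rintro _ ⟨⟨p, hp, rfl⟩, a, ha, e'⟩
      exact hti _ (h.cjm A hA g) e p hp a ha e'.symm
  · obtain ⟨g, rfl⟩ := hπ y
    rw [← map_cj] at hy ⊢
    rw [hwc _ (h.cjm A hA g) hy]

theorem cjSub (hA : A ≤ U) (g : U) : (cj g (A.subgroupOf U)).map U.subtype = cj (g : G) A := by
  rw [map_cj, map_subgroupOf_eq_of_le hA]; rfl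

theorem Sit.rSub (h : Sit Ω) (hA : A ∈ Ω) (hU : A ≤ U) :
    Sit {P : Subgroup U | ∃ g, cj g (A.subgroupOf U) = P} := by
  have inj : ∀ X Y : Subgroup U, X.map U.subtype = Y.map U.subtype → X = Y := fun X Y e =>
    map_injective U.subtype_injective e
  have key : ∀ g : U, cj (g : G) A = A → cj g (A.subgroupOf U) = A.subgroupOf U := fun g e =>
    inj _ _ (by rw [cjSub hU, e, map_subgroupOf_eq_of_le hU])
  refine sit_of (elOf fun x hx => Subtype.ext (h.sq A hA x hx)) (fun e => h.ne A hA ?_)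
    (fun g => ?_) fun g hg => ?_
  · rw [← map_subgroupOf_eq_of_le hU, e, Subgroup.map_bot]
  · by_cases e : cj (g : G) A = A
    · exact Or.inl (key g e)
    · right
      refine inj _ _ ?_
      rw [map_inf _ _ _ U.subtype_injective, cjSub hU, map_subgroupOf_eq_of_le hU, Subgroup.map_bot]
      exact h.ti _ (h.cjm A hA g) A hA e
  · have := norm_map hg U.subtype
    rw [cjSub hU, map_subgroupOf_eq_of_le hU] at this
    exact key g (h.wc _ (h.cjm A hA g) A hA this)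

/-- a normal subgroup meeting a point trivially -/
theorem Sit.rIso (h : Sit Ω) (hA : A ∈ Ω) [U.Normal] (hU : U ⊓ A = ⊥) (ha : a ∈ A) (hx : x ∈ U) :
    ⁅a, x⁆ ∈ O[{2}ᶜ, (⊤ : Subgroup G)] := by
  by_cases a1 : a = 1
  · rw [a1, commutatorElement_one_left]; exact one_mem _
  refine H16.TI.iso_comm (L := U) a1 (h.sq A hA a ha) (fun l hl hc => ?_) hx
  have hl' : l * a * l⁻¹ * a⁻¹ ∈ U := by
    have := U.mul_mem hl (Normal.conj_mem inferInstance _ (U.inv_mem hl) a)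
    simpa only [mul_assoc] using this
  by_cases e : A = cj l A
  · have h2 : l * a * l⁻¹ * a⁻¹ ∈ U ⊓ A :=
      mem_inf.2 ⟨hl', A.mul_mem (e ▸ conj_mem_cj l (e ▸ ha)) (A.inv_mem ha)⟩
    rw [hU, mem_bot] at h2
    exact mul_inv_eq_one.1 h2
  · exfalso
    have hB := h.cjm A hA l
    have hj : l * a * l⁻¹ ∈ ax (cj l A) A :=
      memAx.2 ⟨conj_mem_cj l ha, h.C1_le hA ha a1 (mem_C1.2 hc.symm)⟩
    have j1 : l * a * l⁻¹ ≠ 1 := fun e => a1 (conj_eq_one_iff.1 e)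
    have hAB : Adj Ω A (cj l A) := h.adj_of_mem hA hB e hj.1 j1 hj.2
    refine e (h.wc A hA _ hB fun y hy => (h.cent_iff hAB hj j1 hy).1 ?_)
    set j := l * a * l⁻¹
    have h2 : ⁅y, j⁆ ∈ U ⊓ A := mem_inf.2 ⟨by
      have e1 : ⁅y, j⁆ = y * (j * a⁻¹) * y⁻¹ * (j * a⁻¹)⁻¹ := by
        have := h.comm hA ha (A.inv_mem hy)
        calc ⁅y, j⁆ = y * j * a⁻¹ * (a * y⁻¹) * j⁻¹ := by rw [commutatorElement_def]; group
          _ = _ := by rw [this]; group
      rw [e1]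
      exact U.mul_mem (Normal.conj_mem inferInstance _ hl' y) (U.inv_mem hl'),
      (h.comm_mem hAB hy hj).1⟩
    rw [hU, mem_bot, commutatorElement_eq_one_iff_mul_comm] at h2
    exact h2

/-- a normal subgroup meeting a point in a proper nontrivial subgroup -/
theorem Sit.rMid (h : Sit Ω) (hA : A ∈ Ω) [U.Normal] (hU : ⁅(⊤ : Subgroup G), (⊤ : Subgroup G)⁆ ≤ U)
    (h1 : U ⊓ A ≠ ⊥) (h2 : ¬ A ≤ U) :
    ∃ N : Subgroup G, N.Normal ∧ IsPi {2} N ∧ U ⊓ A ≤ N ∧ N ≤ U := by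
  have hφ : ∀ P ∈ Ω, ∀ g : G, U ⊓ cj g P = cj g (U ⊓ P) := fun P _ g => by
    rw [cj_inf, cj_of_mem_N (norm_of_normal ⊤ U (mem_top g))]
  have k1 : ∀ P ∈ Ω, U ⊓ P ≠ ⊥ := fun P hP => by
    obtain ⟨g, rfl⟩ := h.tr A hA P hP
    rw [hφ A hA]; simpa using h1
  have k2 : ∀ P ∈ Ω, U ⊓ P < P := fun P hP => by
    obtain ⟨g, rfl⟩ := h.tr A hA P hP
    rw [hφ A hA, cj_lt_cj]
    exact inf_lt_right.2 h2
  have hall := fun P hP Q hQ hne => h.all_adj (A := P) (B := Q) (fun P => U ⊓ P) hφ k1 k2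
    (fun P Q hPQ i hi => by
      obtain ⟨a, ha, hn⟩ := h.exists_not_mem hPQ
      obtain ⟨j, hj, rfl⟩ := h.comm_surj hPQ ha hn hi
      exact ⟨hU (commutator_mem_commutator (mem_top _) (mem_top _)), hi.1⟩) hP hQ hne
  obtain ⟨N, hN, hs, k3, k4⟩ := h.clique (fun P => U ⊓ P) hφ (fun _ _ => inf_le_right)
    fun P hP Q hQ => by
      by_cases e : P = Q
      · rw [e]; exact inf_le_right.trans (norm_self Q)
      · exact h.inv_le (hall P hP Q hQ e) inf_le_right (k2 P hP).ne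
          (norm_inf (norm_of_normal _ _) le_rfl)
  exact ⟨N, hN, H16.TI.two_sq hs, k3 A hA, k4.trans (iSup₂_le fun _ _ => inf_le_left)⟩

theorem Sit.rSimple (h : Sit Ω) (hA : A ∈ Ω) (hgen : normalClosure (A : Set G) = ⊤)
    (h2 : O[{2}, (⊤ : Subgroup G)] = ⊥) (hO : O[{2}ᶜ, (⊤ : Subgroup G)] = ⊥) (hZ : center G = ⊥) :
    IsSimpleGroup G := by
  obtain ⟨a, ha, a1⟩ := exists_ne_one (h.ne A hA)
  have : Nontrivial G := ⟨a, 1, a1⟩
  refine ⟨fun L hL => ?_⟩
  by_cases e1 : L ⊓ A = ⊥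
  · left
    rw [eq_bot_iff, ← hZ]
    refine rCen hgen fun x hx => mem_C.2 fun a ha => ?_
    have := h.rIso hA e1 ha hx
    rwa [hO, mem_bot, commutatorElement_eq_one_iff_mul_comm] at this
  right
  by_cases e2 : A ≤ L
  · rw [eq_top_iff, ← hgen]
    exact normalClosure_le_normal e2
  exfalso
  have hH : A ≤ L ⊔ A := le_sup_right
  have hL' : (L.subgroupOf (L ⊔ A)).Normal := hL.subgroupOf _
  obtain ⟨N, hN, k1, k2, k3⟩ := (h.rSub hA hH).rMid (A := A.subgroupOf (L ⊔ A)) ⟨1, cj_one _⟩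
    (U := L.subgroupOf (L ⊔ A)) (by
      rw [← map_le_map_iff_of_injective (L ⊔ A).subtype_injective, map_commutator,
        ← MonoidHom.range_eq_map, range_subtype, map_subgroupOf_eq_of_le le_sup_left,
        der1_sup (norm_of_normal _ _ : A ≤ N[L])]
      refine sup_le (sup_le (der1_le L) (comm_le_left (norm_of_normal _ _))) ?_
      rw [der1_eq_bot.2 (ablSq (h.sq A hA))]; exact bot_le)
    (fun e => e1 (eq_bot_iff.2 fun x hx => congrArg Subtype.val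
      (mem_bot.1 (e.le (show (⟨x, hH hx.2⟩ : ↥(L ⊔ A)) ∈ _ from hx)))))
    fun e => e2 fun x hx => e (show (⟨x, hH hx⟩ : ↥(L ⊔ A)) ∈ A.subgroupOf _ from hx)
  have k4 : N.map (L ⊔ A).subtype ≤ O[{2}, L] :=
    pcore_max' (k1.map _) (by rintro _ ⟨x, hx, rfl⟩; exact k3 hx)
      (le_sup_left.trans (nml_map_subtype N).norm)
  refine e1 (eq_bot_iff.2 fun x hx => ?_)
  rw [← h2]
  exact (nml_top L).pcore_le _ (k4 ⟨⟨x, hH hx.2⟩, k2 hx, rfl⟩)

theorem Sit.rCore (h : Sit Ω) (hA : A ∈ Ω) (hgen : normalClosure (A : Set G) = ⊤)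
    (h2 : A ⊓ O[{2}, (⊤ : Subgroup G)] = ⊥) : O[{2}, (⊤ : Subgroup G)] ≤ center G := by
  have := nml_top_iff.1 (pcore_nml {2} (⊤ : Subgroup G))
  exact rCen hgen (cents_symm
    (cents_of_inf_eq_bot (norm_of_normal _ _) (h.rNml hA (pcore_pi _ _)) h2))

theorem Sit.rOdd (h : Sit Ω) (hA : A ∈ Ω) (hgen : normalClosure (A : Set G) = ⊤) (ha : a ∈ A)
    (ha' : a' ∈ A) (a1 : a ≠ 1) (a1' : a' ≠ 1) (hne : a ≠ a') :
    O[{2}ᶜ, (⊤ : Subgroup G)] ≤ center G := by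
  have := nml_top_iff.1 (pcore_nml {2}ᶜ (⊤ : Subgroup G))
  refine rCen hgen (cents_symm (cents_of_inf_eq_bot (norm_of_normal _ _) ?_
    ((h.two hA).inf_eq_bot (pcore_pi _ _))))
  exact H16.TI.gen4 (h.sq A hA) ha ha' a1 a1' hne (pcore_pi _ _) (norm_of_normal _ _)
    fun x hx x1 => inf_le_right.trans (h.C1_le hA hx x1)

theorem red2 (hs : Simp.{u}) (h : Sit Ω) (hA : A ∈ Ω) (hgen : normalClosure (A : Set G) = ⊤)
    (h2 : A ⊓ O[{2}, (⊤ : Subgroup G)] = ⊥) : IsMulCommutative (G ⧸ Cfsg.oddCore G) ∨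
      ∃ Z : Subgroup G, Z ≤ center _ ∧ ∀ _ : Z.Normal, Concl (G ⧸ Z) := by
  obtain ⟨a, ha, a1⟩ := exists_ne_one (h.ne A hA)
  by_cases h4 : ∀ x ∈ A, x ≠ 1 → a = x
  · left
    let π := QuotientGroup.mk' (Cfsg.oddCore G)
    have hπ : Function.Surjective π := QuotientGroup.mk'_surjective _
    have hz : ∀ g : G, π a * π g = π g * π a := fun g => by
      have := H16.TI.iso_comm (L := ⊤) a1 (h.sq A hA a ha) (fun l _ hc => by
        have e : cj l A = A := h.wc _ (h.cjm A hA l) A hA fun y hy => by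
          obtain ⟨x, hx, rfl⟩ := mem_cj'.1 hy
          by_cases x1 : x = 1
          · rw [x1, mul_one, mul_inv_cancel]; exact one_mem _
          · rw [← h4 x hx x1]; exact h.C1_le hA ha a1 (mem_C1.2 hc.symm)
        exact (h4 _ (e ▸ conj_mem_cj l ha) fun e => a1 (conj_eq_one_iff.1 e)).symm) (mem_top g)
      rw [pcore_compl_singleton_top Nat.prime_two] at this
      rw [← commutatorElement_eq_one_iff_mul_comm, ← map_commutatorElement]
      exact (QuotientGroup.eq_one_iff _).2 this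
    have h1 : A.map π ≤ center _ := by
      rintro _ ⟨x, hx, rfl⟩
      by_cases x1 : x = 1
      · rw [x1, map_one]; exact one_mem _
      · rw [← h4 x hx x1]
        exact mem_center_iff.2 fun g => by obtain ⟨g, rfl⟩ := hπ g; exact (hz g).symm
    have h3 := normalClosure_le_normal (N := center _) h1
    rw [rGen π hπ hgen] at h3
    exact ⟨⟨fun x y => (mem_center_iff.1 (h3 (mem_top y)) x)⟩⟩
  right
  push Not at h4
  obtain ⟨a', ha', a1', hne⟩ := h4
  refine ⟨center G, le_rfl, fun _ => ?_⟩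
  let π := QuotientGroup.mk' (center G)
  have hπ : Function.Surjective π := QuotientGroup.mk'_surjective _
  have hker : ∀ x, π x = 1 ↔ x ∈ center G := fun x => QuotientGroup.eq_one_iff x
  have heq : ∀ x y, π x = π y → ∃ z ∈ center G, x = y * z := fun x y e =>
    ⟨y⁻¹ * x, (hker _).1 (by rw [map_mul, map_inv, e, inv_mul_cancel]), by group⟩
  have hAZ : ∀ x ∈ A, π x = 1 → x = 1 := fun x hx e => by
    have hx' := (hker x).1 e
    refine mem_bot.1 (h2.le ⟨hx, pcore_max' ((h.two hA).of_le (zpowers_le.2 hx)) le_top ?_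
      (mem_zpowers x)⟩)
    exact norm_zpowers_of_cent fun g _ => mem_C1.2 (mem_center_iff.1 hx' g)
  have hC : ∀ P ∈ Ω, ∀ Q ∈ Ω, ∀ p ∈ P, ∀ r ∈ Q, π p = π r → p ∈ Q := fun P hP Q hQ p hp r hr e => by
    obtain ⟨z, hz, rfl⟩ := heq p r e
    refine h.mem_of_cent hQ hP hp (mem_C.2 fun x hx => ?_)
    rw [← mul_assoc, h.comm hQ hx hr, mul_assoc, mem_center_iff.1 hz x, mul_assoc]
  have hN : ∀ P ∈ Ω, ∀ g : G, π g ∈ N[P.map π] → g ∈ N[P] := fun P hP g hg => by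
    refine mem_N_of_finite fun x hx => ?_
    obtain ⟨r, hr, e⟩ := conj_mem hg (mem_map_of_mem π hx)
    refine hC _ (h.cjm P hP g) P hP _ (conj_mem_cj g hx) r hr ?_
    rw [e, map_mul, map_mul, map_inv]
  have hY := h.rMap π hπ hA (ne_bot_of_mem (mem_map_of_mem π ha) fun e => a1 (hAZ a ha e))
    (fun P hP hne p hp x hx e => by
      by_contra k
      exact hne (h.eq_of_mem hP hA (fun e' => k (by rw [e', map_one])) hp (hC P hP A hA p hp x hx e)))
    fun P hP hle => h.wc P hP A hA fun p hp => hN A hA p (hle (mem_map_of_mem π hp))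
  have hA' : A.map π ∈ {P : Subgroup (G ⧸ center G) | ∃ g, cj g (A.map π) = P} := ⟨1, cj_one _⟩
  have hgen' := rGen π hπ hgen
  have hZ : center (G ⧸ center G) = ⊥ := by
    have := (inferInstance : (center (G ⧸ center G)).Normal).comap π
    have k : (center (G ⧸ center G)).comap π ≤ center G := rCen hgen fun g hg => mem_C.2 fun x hx => by
      have e : π (g * x * g⁻¹) = π x := by
        rw [map_mul, map_mul, map_inv, ← mem_center_iff.1 hg (π x), mul_inv_cancel_right]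
      have k1 := hC _ (h.cjm A hA g) A hA _ (conj_mem_cj g hx) x hx e
      have k2 := hAZ _ (A.mul_mem k1 (A.inv_mem hx)) (by rw [map_mul, map_inv, e, mul_inv_cancel])
      rw [mul_inv_eq_one, mul_inv_eq_iff_eq_mul] at k2
      exact k2.symm
    rw [eq_bot_iff]
    intro y hy
    obtain ⟨g, rfl⟩ := hπ y
    exact (hker g).2 (k hy)
  have h2' : A.map π ⊓ O[{2}, (⊤ : Subgroup (G ⧸ center G))] = ⊥ := by
    have hn := nml_top_iff.1 (pcore_nml {2} (⊤ : Subgroup (G ⧸ center G)))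
    have hn' := hn.comap π
    obtain ⟨N, hNn, k1, k2, -⟩ := h.clique
      (fun P => P ⊓ O[{2}, (⊤ : Subgroup (G ⧸ center G))].comap π)
      (fun P _ g => by rw [cj_inf, cj_of_mem_N (norm_of_normal ⊤ (comap π _) (mem_top g))])
      (fun _ _ => inf_le_left) fun P hP Q hQ p hp => hN Q hQ p (by
        obtain ⟨g, rfl⟩ := h.tr A hA Q hQ
        exact hY.rNml ⟨π g, (map_cj π g A).symm⟩ (pcore_pi _ _) hp.2)
    rw [eq_bot_iff]
    rintro _ ⟨⟨x, hx, rfl⟩, hx'⟩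
    have : x = 1 := mem_bot.1 (h2.le ⟨hx,
      pcore_max (H16.TI.two_sq k1) (nml_top N) (k2 A hA ⟨hx, hx'⟩)⟩)
    rw [this, map_one]; exact one_mem _
  have k2 := hY.rCore hA' hgen' h2'
  have kO := hY.rOdd hA' hgen' (mem_map_of_mem π ha) (mem_map_of_mem π ha')
    (fun e => a1 (hAZ a ha e)) (fun e => a1' (hAZ a' ha' e)) fun e => hne (by
      have := hAZ _ (A.mul_mem ha (A.inv_mem ha')) (by rw [map_mul, map_inv, e, mul_inv_cancel])
      exact mul_inv_eq_one.1 this)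
  rw [hZ, le_bot_iff] at k2 kO
  have := hY.rSimple hA' hgen' k2 kO hZ
  refine hs _ (fun hc => a1 (hAZ a ha ?_)) _ _ hY hA'
  exact mem_bot.1 (hZ.le (mem_center_iff.2 fun g => hc.is_comm.comm _ _))

/-- the reduction -/
theorem red (hs : Simp.{u}) (h : Sit Ω) (hA : A ∈ Ω) (hgen : normalClosure (A : Set G) = ⊤) :
    ∃ N : Subgroup G, N.Normal ∧ IsElementaryAbelian 2 N ∧ ∀ _ : N.Normal,
      IsMulCommutative ((G ⧸ N) ⧸ Cfsg.oddCore (G ⧸ N)) ∨
        ∃ Z : Subgroup (G ⧸ N), Z ≤ center _ ∧ ∀ _ : Z.Normal, Concl ((G ⧸ N) ⧸ Z) := by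
  set Q := O[{2}, (⊤ : Subgroup G)] with hQ
  have hQn : Q.Normal := nml_top_iff.1 (pcore_nml _ _)
  have hQ2 : IsPi {2} Q := pcore_pi _ _
  have hQN : ∀ P ∈ Ω, Q ≤ N[P] := fun P hP => h.rNml hP hQ2
  by_cases hAQ : A ≤ Q
  · have hn : A.Normal := ⟨fun x hx g => by
      have e : cj g A = A := h.wc _ (h.cjm A hA g) A hA
        ((cj_le_of_mem_N hAQ (norm_of_normal ⊤ Q (mem_top g))).trans (hQN A hA))
      exact e ▸ conj_mem_cj g hx⟩
    refine ⟨A, hn, elOf (h.sq A hA), fun _ => Or.inl ⟨⟨fun x y => ?_⟩⟩⟩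
    have e : A = ⊤ := by rw [← hgen, normalClosure_eq_self]
    have : Subsingleton (G ⧸ A) := QuotientGroup.subsingleton_iff.2 e
    obtain ⟨x, rfl⟩ := QuotientGroup.mk'_surjective _ x
    obtain ⟨y, rfl⟩ := QuotientGroup.mk'_surjective _ y
    rw [Subsingleton.elim x y]
  have hφ : ∀ P ∈ Ω, ∀ g : G, cj g P ⊓ Q = cj g (P ⊓ Q) := fun P _ g => by
    rw [cj_inf, cj_of_mem_N (norm_of_normal ⊤ Q (mem_top g))]
  obtain ⟨N, hN, k1, k2, k3⟩ := h.clique (fun P => P ⊓ Q) hφ (fun _ _ => inf_le_left)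
    fun P _ R hR => inf_le_right.trans (hQN R hR)
  replace k3 : N ≤ Q := k3.trans (iSup₂_le fun _ _ => inf_le_right)
  refine ⟨N, hN, elOf k1, fun _ => ?_⟩
  let π := QuotientGroup.mk' N
  have hπ : Function.Surjective π := QuotientGroup.mk'_surjective _
  have hker : ∀ x, π x = 1 ↔ x ∈ N := fun x => QuotientGroup.eq_one_iff x
  have hY := h.rMap π hπ hA
    (fun e => hAQ fun x hx => k3 ((hker x).1 (mem_bot.1 (e.le (mem_map_of_mem π hx)))))
    (fun P hP hne p hp x hx e => by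
      by_contra k
      have hn : x⁻¹ * p ∈ N := (hker _).1 (by rw [map_mul, map_inv, e, inv_mul_cancel])
      have hj : p ∈ ax P A := memAx.2 ⟨hp, by
        have := (N[A]).mul_mem (norm_self A hx) (hQN A hA (k3 hn))
        rwa [mul_inv_cancel_left] at this⟩
      have hAP : Adj Ω A P := h.adj_of_mem hA hP hne.symm hp (fun e' => k (by rw [e', map_one])) hj.2
      obtain ⟨a, ha, hna⟩ := h.exists_not_mem hAP
      have m1 : ∀ j ∈ P ⊓ Q, j ∈ ax P A := fun j hj => memAx.2 ⟨hj.1, hQN A hA hj.2⟩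
      have m2 : ∀ j ∈ Q, ⁅a, j⁆ ∈ Q := fun j hj =>
        Q.mul_mem (hQn.conj_mem _ hj a) (Q.inv_mem hj)
      let f : ↥(P ⊓ Q) → ↥(A ⊓ Q) := fun j =>
        ⟨⁅a, (j : G)⁆, (h.comm_mem hAP ha (m1 j j.2)).1, m2 j j.2.2⟩
      have hf : Function.Injective f := fun j j' e =>
        Subtype.ext (h.comm_inj hAP ha hna (m1 j j.2) (m1 j' j'.2) (congrArg Subtype.val e))
      have hc : ♯(A ⊓ Q) ≤ ♯(P ⊓ Q) := by
        obtain ⟨g, rfl⟩ := h.tr A hA P hP
        rw [hφ A hA, card_cj]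
      obtain ⟨j, hj'⟩ := (hf.bijective_of_nat_card_le hc).2 ⟨⁅a, p⁆, (h.comm_mem hAP ha hj).1, by
        have e1 : ⁅a, p⁆ = x * ⁅a, x⁻¹ * p⁆ * x⁻¹ := by
          have := h.comm hA ha (A.inv_mem hx)
          calc ⁅a, p⁆ = x * (x⁻¹ * a) * p * a⁻¹ * p⁻¹ := by rw [commutatorElement_def]; group
            _ = _ := by rw [← this, commutatorElement_def]; group
        rw [e1]
        exact hQn.conj_mem _ (m2 _ (k3 hn)) x⟩
      have e2 := h.comm_inj hAP ha hna (m1 j j.2) hj (congrArg Subtype.val hj')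
      exact k ((hker p).2 (e2 ▸ k2 P hP j.2)))
    fun P hP hle => by
      have h1 : P ≤ N[A ⊔ N] := fun p hp => mem_N_of_finite fun x hx => by
        have e : (A.map π).comap π = A ⊔ N := by rw [comap_map_eq, QuotientGroup.ker_mk']
        rw [← e] at hx ⊢
        have := conj_mem (hle (mem_map_of_mem π hp)) hx
        rwa [← map_inv, ← map_mul, ← map_mul] at this
      have h2 : IsPi {2} (A ⊔ N ⊔ P) :=
        ((h.two hA).sup' (hQ2.of_le k3) (norm_of_normal _ _)).sup (h.two hP) h1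
      exact h.wc P hP A hA (le_sup_right.trans (h.norm_of_le hA h2 (le_sup_left.trans le_sup_left)))
  refine red2 hs hY ⟨1, cj_one _⟩ (rGen π hπ hgen) ?_
  rw [eq_bot_iff]
  rintro _ ⟨⟨x, hx, rfl⟩, hx'⟩
  have hn := (nml_top_iff.1 (pcore_nml {2} (⊤ : Subgroup (G ⧸ N)))).comap π
  have h2 : IsPi {2} (O[{2}, (⊤ : Subgroup (G ⧸ N))].comap π) :=
    isPi_of_isPGroup Nat.prime_two (((pcore_pi _ _).isPGroup Nat.prime_two).comap_of_ker_isPGroup π
      (by rw [QuotientGroup.ker_mk']; exact (hQ2.of_le k3).isPGroup Nat.prime_two))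
  exact (hker x).2 (k2 A hA ⟨hx, pcore_max h2 (nml_top _) hx'⟩)

theorem red' (hs : Simp.{u}) (hB : IsElementaryAbelian 2 B)
    (hti : ∀ g : G, cj g B = B ∨ cj g B ⊓ B = ⊥) (hwc : ∀ g : G, cj g B ≤ N[B] → cj g B = B) :
    ∃ N : Subgroup (normalClosure (B : Set G)), N.Normal ∧ IsElementaryAbelian 2 N ∧ ∀ _ : N.Normal,
      IsMulCommutative ((normalClosure (B : Set G) ⧸ N) ⧸ Cfsg.oddCore (normalClosure (B : Set G) ⧸ N)) ∨
        ∃ Z : Subgroup (normalClosure (B : Set G) ⧸ N), Z ≤ center _ ∧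
          ∀ _ : Z.Normal, Concl ((normalClosure (B : Set G) ⧸ N) ⧸ Z) := by
  by_cases h1 : B = ⊥
  · have : Subsingleton (normalClosure (B : Set G)) := by
      rw [h1, normalClosure_eq_self]; infer_instance
    refine ⟨⊥, inferInstance, elOf fun x _ => Subsingleton.elim _ _, fun _ => Or.inl ⟨⟨fun x y => ?_⟩⟩⟩
    obtain ⟨x, rfl⟩ := QuotientGroup.mk'_surjective _ x
    obtain ⟨y, rfl⟩ := QuotientGroup.mk'_surjective _ y
    obtain ⟨x, rfl⟩ := QuotientGroup.mk'_surjective _ x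
    obtain ⟨y, rfl⟩ := QuotientGroup.mk'_surjective _ y
    rw [Subsingleton.elim x y]
  have h := sit_of hB h1 hti hwc
  have hA : B ∈ {P : Subgroup G | ∃ g, cj g B = P} := ⟨1, cj_one _⟩
  have hU : B ≤ normalClosure (B : Set G) := le_normalClosure
  refine red hs (h.rSub hA hU) ⟨1, cj_one _⟩ ?_
  set U := normalClosure (B : Set G)
  obtain ⟨S, hS, hBS⟩ := Sylow_superset Nat.prime_two (h.two hA) hU
  have key : ∀ g : G, ∃ u ∈ U, cj g B = cj u B := fun g => by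
    obtain ⟨u, hu, e⟩ := Sylow_Jsub Nat.prime_two hS ((h.two hA).cj g)
      (cj_le_of_mem_N hU (norm_of_normal ⊤ U (mem_top g)))
    rw [← cj_mul] at e
    have := hwc _ (e.trans (h.norm_of_le hA hS.pi hBS))
    exact ⟨u⁻¹, U.inv_mem hu, by rw [← cj_eq_iff, ← cj_mul, this]⟩
  have k : U ≤ (normalClosure ((B.subgroupOf U : Subgroup U) : Set U)).map U.subtype := by
    refine (closure_le _).2 fun x hx => ?_
    obtain ⟨b, hb, hc⟩ := Group.mem_conjugatesOfSet_iff.1 hx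
    obtain ⟨g, rfl⟩ := isConj_iff.1 hc
    obtain ⟨u, hu, e⟩ := key g
    obtain ⟨y, hy, e'⟩ := mem_cj'.1 (e ▸ conj_mem_cj g hb)
    exact ⟨⟨u, hu⟩ * ⟨y, hU hy⟩ * ⟨u, hu⟩⁻¹,
      normalClosure_normal.conj_mem (⟨y, hU hy⟩ : U) (subset_normalClosure hy) _, e'.symm⟩
  rw [eq_top_iff]
  intro x _
  obtain ⟨y, hy, e⟩ := k x.2
  rwa [← show y = x from Subtype.ext e]

end H12.TI
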