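import Cfsg.Agent.H12.TIH
import Cfsg.Agent.H28.TSD

set_option autoImplicit false
set_option linter.unusedSectionVars false
set_option linter.unusedVariables false

namespace H12.TI

open Cfsg H24 Subgroup
open scoped commutatorElement

universe u

variable {G : Type u} [Group G] [Finite G] {Ω : Set (Subgroup G)}
  {A B C D F I P Q R S T U : Subgroup G} {a a' b c d d' g i j j' p r s t w x y ρ κ : G}

theorem CS.concl [IsSimpleGroup G] (hG : ¬ IsMulCommutative G) (h : St Ω) (hc : CS Ω) :
    Cfsg.Spor.IsoM22 G ∨ Cfsg.Spor.IsoM23 G := H28.TS.main h hc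

end H12.TI
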