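import Cfsg.Agent.H12.TIF
import Cfsg.Agent.H12.TII
import Cfsg.Agent.H12.TIK
import Cfsg.Agent.H12.TIL
import Cfsg.Agent.H12.TIS
import Cfsg.Agent.H12.TIN
import Cfsg.Agent.H12.TIR
import Cfsg.Agent.H12.TIO
import Cfsg.Agent.H12.TIP

set_option autoImplicit false
set_option linter.unusedSectionVars false
set_option linter.unusedVariables false

namespace H12.TI

open Cfsg H24 Subgroup
open scoped commutatorElement

universe u

variable {G : Type u} [Group G] [Finite G] {Ω : Set (Subgroup G)} {A B : Subgroup G}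

theorem Sit.exists_adj [IsSimpleGroup G] (hG : ¬ IsMulCommutative G) (h : Sit Ω) (hc : Conn Ω)
    (hA : A ∈ Ω) : ∃ B, Adj Ω A B := by
  by_contra hn
  have e : ∀ g : G, cj g A = A := fun g => by
    rcases (hc A hA _ (h.cjm A hA g)).cases_head with e | ⟨B, hB, -⟩
    exacts [e.symm, absurd ⟨B, hB⟩ hn]
  have hN : A.Normal := ⟨fun x hx g => e g ▸ (⟨x, hx, rfl⟩ : g * x * g⁻¹ ∈ cj g A)⟩
  rcases hN.eq_bot_or_eq_top with k | k
  · exact h.ne A hA k
  · exact hG ⟨⟨fun x y => h.comm hA (k ▸ mem_top x) (k ▸ mem_top y)⟩⟩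

theorem Sit.two' [IsSimpleGroup G] (hG : ¬ IsMulCommutative G) (h : Sit Ω) (hA : Adj Ω A B) :
    Two Ω := by
  by_contra hn
  have e : ∀ P Q, Top Ω P Q → rad Ω P = ax P Q := fun P Q hP => by
    refine le_antisymm (le_inf inf_le_left (h.rad_le hP.toAdj)) (le_inf inf_le_left ?_)
    refine le_iInf₂ fun C hC => ?_
    have : ax P Q = ax P C := by
      by_contra k
      exact hn ⟨P, Q, C, hP, hC, k⟩
    exact this ▸ inf_le_right
  have hall : ∀ P ∈ Ω, ∀ Q ∈ Ω, P ≠ Q → Adj Ω P Q := fun P hP Q hQ hne => by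
    refine h.all_adj (rad Ω) (fun P _ g => (cj_rad h g P).symm) (fun P hP => ?_) (fun P hP => ?_)
      (fun P Q hPQ => ?_) hP hQ hne
    · obtain ⟨C, hC⟩ := h.exists_top hA hP
      exact e P C hC ▸ hC.nb
    · obtain ⟨C, hC⟩ := h.exists_top hA hP
      obtain ⟨a, ha, hn⟩ := h.exists_not_mem hC.toAdj
      exact e P C hC ▸ lt_of_le_of_ne inf_le_left fun k => hn (k.ge ha).2
    · obtain ⟨C, hC⟩ := h.exists_top hA hPQ.l
      have h1 : rad Ω P ≤ ax P Q := le_inf inf_le_left (h.rad_le hPQ)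
      exact (Subgroup.eq_of_le_of_card_ge h1 (e P C hC ▸ hC.max P Q hPQ)).ge
  obtain ⟨C, hC⟩ := h.exists_top hA hA.l
  exact hC.nb (e A C hC ▸ h.rad_bot hG hall hA.l)

theorem simp_all : Simp.{u} := by
  intro G _ _ _ hG Ω A h hA
  rcases h.conn hG hA with hc | hc
  swap
  · exact hc
  obtain ⟨B, hB⟩ := h.exists_adj hG hc hA
  rcases h.tri (h.two' hG hB) with k | k | k
  · exact k.concl hG h
  · have st := (k.good h).st hG h hc (Or.inl k)
    obtain ⟨K, _, _, n, ι, hK, hl⟩ := k.lin h st.toGood st.uniq hA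
    obtain ⟨ha, e | ⟨e, rfl⟩⟩ := hl.split hG st k
    · exact Or.inl ⟨K, inferInstance, inferInstance, n + 1, ringChar.eq K 2,
        by have := hl.three; omega, hl.psl hG st ha e⟩
    · rcases hl.four hG st ha e with e | e
      · exact Or.inl ⟨ZMod 2, inferInstance, inferInstance, 5, ringChar.eq _ 2, by norm_num, e⟩
      · exact Or.inr (Or.inr (Or.inr (Or.inr (Or.inr (Or.inr e)))))
  · rcases k.concl hG (((k.half h).good h).st hG h hc (Or.inr k)) with e | e
    · exact Or.inr (Or.inr (Or.inr (Or.inr (Or.inl e))))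
    · exact Or.inr (Or.inr (Or.inr (Or.inr (Or.inr (Or.inl e)))))

end H12.TI
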