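import Mathlib
import Cfsg.Agent.H12.WS
import Cfsg.Agent.H3.Frobenius
import Cfsg.Agent.H1.CoprimeAbelian

/-! Thompson's normal `p`-complement theorems. -/

open Subgroup Cfsg Pointwise

namespace H12

universe u

section general

variable {G : Type*} [Group G] {p : ℕ}

/-- If `G` is `p`-stable, `J(G)` centralizes every normal elementary abelian `V` with
`O_p(G/C_G(V)) = 1`. -/
theorem thompsonSubgroup_le_centralizer [Finite G] [Fact p.Prime] {V : Subgroup G} [V.Normal]
    (hV : IsElementaryAbelian p V) (hst : IsPStableOn p V)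
    (hO : pCore p (G ⧸ centralizer (V : Set G)) = ⊥) :
    thompsonSubgroup p G ≤ centralizer (V : Set G) := by
  rw [← J_top, J_le_iff]
  intro A hA
  by_contra hne
  obtain ⟨-, hq, hne'⟩ := hA.replace le_top hV (by rw [normalizer_eq_top]; exact le_top)
  refine hne' (fun h => hne (commutator_eq_bot_iff'.1 h)) (commutator_eq_bot_iff'.2 fun a ha => ?_)
  have := hst a (quadratic_mono le_rfl (zpowers_le.2 ha) (zpowers_le.2 ha) hq)
  rwa [hO, mem_bot, QuotientGroup.eq_one_iff] at this

theorem factorizable_of_not_quadInvolved [Finite G] [Fact p.Prime] (hG : ¬ QuadInvolved p G)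
    (hc : centralizer (pCore p G : Set G) ≤ pCore p G) : IsThompsonFactorizable p G :=
  (factorizable_iff (H13.pPrimeCore_eq_bot_of_centralizer_le hc)).2
    (thompsonSubgroup_le_centralizer (ea_ZV hc) (isPStableOn_of_elementary hG _ (ea_ZV hc))
      pCore_quotient_ZV)

theorem isPGroup_of_hasNPC_of_pCore_le [Finite G] [Fact p.Prime]
    (hc : centralizer (pCore p G : Set G) ≤ pCore p G) {H : Subgroup G} (hO : pCore p G ≤ H)
    (h : HasNormalPComplement p H) : IsPGroup p H := by
  refine H13.isPGroup_of_forall_coprime_eq_one Fact.out fun g hg ho => ?_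
  exact H13.eq_one_of_mem_isPGroup_of_coprime (H2.pCore_isPGroup p G)
    (hc (H3.HasNPC.mem_centralizer_of_mem h (H2.pCore_isPGroup p G) hO hg
      (by rw [normalizer_eq_top]; trivial) ho)) ho

theorem hasNPC_of_map_injective {H : Type*} [Group H] [Finite G] [Fact p.Prime] {f : H →* G}
    (hf : Function.Injective f) {K : Subgroup H} {L : Subgroup G} (hle : K.map f ≤ L)
    (h : HasNormalPComplement p L) : HasNormalPComplement p K :=
  H3.HasNPC.of_equiv (H3.HasNPC.of_le h hle) (K.equivMapOfInjective f hf).symm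

theorem pSep_of_hasNPC [Finite G] [Fact p.Prime] (h : HasNormalPComplement p G) : PSep p G :=
  PSep.of_normal_quotient (pResidual p G) (pSep_of_coprime (H3.hasNPC_iff_coprime.1 h))
    (pSep_of_isPGroup (H3.isPGroup_quotient_pResidual p G))

end general

/-- The common induction behind Thompson's normal `p`-complement theorems. -/
theorem hasNPC_of_hyp {p : ℕ} [Fact p.Prime] (hp : p ≠ 2)
    (Hyp : ∀ (G : Type u) [Group G], Subgroup G → Prop)
    (mono : ∀ (G H : Type u) [Group G] [Group H] [Finite G] (f : H →* G),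
      Function.Injective f → ∀ T : Subgroup H, Hyp G (T.map f) → Hyp H T)
    (quot : ∀ (G H : Type u) [Group G] [Group H] [Finite G] (f : G →* H),
      Function.Surjective f → (Nat.card f.ker).Coprime p → ∀ T : Subgroup G, IsPGroup p T →
        Hyp G T → Hyp H (T.map f))
    (loc : ∀ (G : Type u) [Group G] [Finite G] (T : Subgroup G), IsPGroup p T → T ≠ ⊥ →
      (∀ U : Subgroup G, IsPGroup p U → U ≠ ⊥ → normalizer (T : Set G) ≤ normalizer (U : Set G) →
        HasNormalPComplement p (normalizer (U : Set G))) → Hyp G T)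
    (base : ∀ (G : Type u) [Group G] [Finite G] (S : Sylow p G),
      centralizer (pCore p G : Set G) ≤ pCore p G → ¬ QuadInvolved p G → Hyp G S →
        HasNormalPComplement p G) (n : ℕ) :
    ∀ (G : Type u) [Group G] [Finite G], Nat.card G = n → ∀ S : Sylow p G, Hyp G S →
      HasNormalPComplement p G := by
  induction n using Nat.strong_induction_on with
  | _ n ih =>
  intro G _ _ hn S hS
  have factA : ∀ H : Subgroup G, H ≠ ⊤ → ∀ T : Subgroup G, T ≤ H → IsPGroup p T →
      ¬ p ∣ T.relIndex H → Hyp G T → HasNormalPComplement p H := by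
    intro H hH T hTH hT hi h
    obtain ⟨P, hP⟩ := isSylow_subgroupOf hT hi
    refine ih _ (hn ▸ H2.card_lt_of_ne_top hH) H rfl P (mono G H H.subtype H.subtype_injective _ ?_)
    rwa [hP, subgroupOf_map_subtype, inf_eq_left.2 hTH]
  have factS : ∀ H : Subgroup G, H ≠ ⊤ → (S : Subgroup G) ≤ H → HasNormalPComplement p H :=
    fun H hH hle => factA H hH S hle S.2 (H3.sylow_not_dvd_relIndex_of_le S hle) hS
  by_cases hO' : pPrimeCore p G = ⊥
  swap
  · refine H3.hasNPC_of_quotient_coprime _ (H2.pPrimeCore_coprime p G) ?_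
    refine ih _ (hn ▸ H2.card_quotient_lt hO') _ rfl
      (S.mapSurjective (QuotientGroup.mk'_surjective _)) ?_
    exact quot G _ _ (QuotientGroup.mk'_surjective _)
      (by rw [QuotientGroup.ker_mk']; exact H2.pPrimeCore_coprime p G) _ S.2 hS
  by_cases hO : pCore p G = ⊥
  · refine H3.hasNPC_of_local fun Q hQ hQ1 => ?_
    by_contra hbad
    obtain ⟨⟨U, T⟩, ⟨hU, hU1, hUbad, hT, hTU⟩, hmax⟩ := Set.exists_max_image
      {x : Subgroup G × Subgroup G | IsPGroup p x.1 ∧ x.1 ≠ ⊥ ∧
        ¬ HasNormalPComplement p (normalizer (x.1 : Set G)) ∧ IsPGroup p x.2 ∧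
        x.2 ≤ normalizer (x.1 : Set G)} (fun x => Nat.card x.2) (Set.toFinite _)
      ⟨(Q, Q), hQ, hQ1, hbad, hQ, le_normalizer⟩
    dsimp only at hU hU1 hUbad hT hTU hmax
    have hi : ¬ p ∣ T.relIndex (normalizer (U : Set G)) := by
      refine H13.not_dvd_relIndex_of_maximal hT hTU fun R hR hRU hTR => ?_
      exact (eq_of_le_of_card_ge hTR (hmax (U, R) ⟨hU, hU1, hUbad, hR, hRU⟩)).symm
    have hT1 : T ≠ ⊥ := by
      rintro rfl
      have := hmax (U, U) ⟨hU, hU1, hUbad, hU, le_normalizer⟩
      rw [card_bot] at this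
      exact hU1 (eq_bot_of_card_le _ this)
    refine hUbad (factA _ (fun ht => hU1 (eq_bot_iff.2 (hO ▸ H2.le_pCore
      (normalizer_eq_top_iff.1 ht) hU))) T hTU hT hi ?_)
    obtain ⟨P, hP⟩ := hT.exists_le_sylow
    rcases hP.eq_or_lt with he | hlt
    · obtain ⟨g, hg⟩ := MulAction.exists_smul_eq G P S
      refine mono G G (MulAut.conj g).toMonoidHom (MulAut.conj g).injective _ ?_
      rwa [H3.map_conj_eq, he, ← Sylow.coe_subgroup_smul, hg]
    · refine loc G T hT hT1 fun U' hU' hU'1 hN => ?_
      by_contra hbad'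
      have hlt' := H3.lt_normalizer_inf_of_isPGroup P.2 hlt
      exact (H2.card_lt_of_lt hlt').not_ge (hmax (U', _)
        ⟨hU', hU'1, hbad', P.2.to_le inf_le_right, inf_le_left.trans hN⟩)
  -- `G / O_p(G)` has a normal `p`-complement
  set f := QuotientGroup.mk' (pCore p G) with hf
  have hsurj : Function.Surjective f := QuotientGroup.mk'_surjective _
  set Sb := S.mapSurjective hsurj with hSb
  have hSb' : (Sb : Subgroup (G ⧸ pCore p G)) = (S : Subgroup G).map f := rfl
  have hq : HasNormalPComplement p (G ⧸ pCore p G) := by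
    by_cases hb : (Sb : Subgroup (G ⧸ pCore p G)) = ⊥
    · refine H3.hasNPC_of_coprime ?_
      have := H3.sylow_index_coprime Sb
      rwa [hb, index_bot] at this
    refine ih _ (hn ▸ H2.card_quotient_lt hO) _ rfl Sb (loc _ _ Sb.2 hb fun U hU hU1 hN => ?_)
    have h1 : (normalizer (U : Set (G ⧸ pCore p G))).comap f ≠ ⊤ := fun ht => by
      have := congrArg (map f) ht
      rw [map_comap_eq_self_of_surjective hsurj, map_top_of_surjective _ hsurj,
        normalizer_eq_top_iff] at this
      exact hU1 (eq_bot_iff.2 (H2.pCore_quotient_pCore p G ▸ H2.le_pCore this hU))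
    have h2 := H3.HasNPC.map (factS _ h1 (map_le_iff_le_comap.1 (le_normalizer.trans hN))) f
    rwa [map_comap_eq_self_of_surjective hsurj] at h2
  have hsep : PSep p G := PSep.of_normal_quotient (pCore p G)
    (pSep_of_isPGroup (H2.pCore_isPGroup p G)) (pSep_of_hasNPC hq)
  have hc := hsep.centralizer_pCore_le hO'
  refine base G S hc (fun hQ => hQ.not_abelian_two hp ?_) hS
  -- Sylow `2`-subgroups are abelian
  haveI : Fact (Nat.Prime 2) := ⟨Nat.prime_two⟩
  have hK := H3.hasNPC_iff_coprime.1 hq
  set K := pResidual p (G ⧸ pCore p G)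
  obtain ⟨T, hT⟩ := exists_sylow_normalized_of_isPGroup Sb.2 hK
    (by rw [normalizer_eq_top]; exact le_top) 2
  set Tb := (T : Subgroup K).map K.subtype with hTb
  have hTb2 : IsPGroup 2 Tb := T.2.map _
  have hTab : ⁅Tb, Tb⁆ = ⊥ := by
    have hRT : ⁅Tb, Tb⁆ ≤ Tb := commutator_le_self_of_le_normalizer le_normalizer
    have hdis : ∀ X : Subgroup (G ⧸ pCore p G), IsPGroup p X → X ⊓ Tb = ⊥ := fun X hX =>
      disjoint_iff.1 (IsPGroup.disjoint_of_ne p 2 hp X Tb hX hTb2)
    by_cases ht : ((Sb : Subgroup (G ⧸ pCore p G)) ⊔ ⁅Tb, Tb⁆).comap f = ⊤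
    · have := congrArg (map f) ht
      rw [map_comap_eq_self_of_surjective hsurj, map_top_of_surjective _ hsurj, sup_comm] at this
      have h2 := H13.inf_sup_of_le_normalizer' (H13.le_normalizer_commutator hT hT) hRT
      rw [this, top_inf_eq, hdis _ Sb.2, sup_bot_eq] at h2
      by_contra hne
      haveI := hTb2.isNilpotent
      have := H2.commutator_lt_of_isSolvable (H := Tb) inferInstance
        (fun hb => hne (eq_bot_iff.2 (hb ▸ hRT)))
      exact this.ne h2.symm
    · have hle : (S : Subgroup G) ≤ ((Sb : Subgroup (G ⧸ pCore p G)) ⊔ ⁅Tb, Tb⁆).comap f :=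
        map_le_iff_le_comap.1 le_sup_left
      have h1 := (isPGroup_of_hasNPC_of_pCore_le hc ((H2.pCore_le_sylow S).trans hle)
        (factS _ ht hle)).map f
      rw [map_comap_eq_self_of_surjective hsurj] at h1
      exact eq_bot_iff.2 (hdis _ h1 ▸ le_inf le_sup_right hRT)
  have hTc : IsMulCommutative T := by
    have h1 := commutator_eq_bot_iff'.1 hTab
    refine H13.isMulCommutative_iff_forall_mem.2 fun x hx y hy => Subtype.ext ?_
    exact mem_centralizer_iff.1 (h1 (mem_map_of_mem _ hy)) _ (mem_map_of_mem _ hx)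
  intro U hU
  have hUK : U.map f ≤ K :=
    H3.le_pResidual_of_coprime (H2.IsPGroup.card_coprime_of_ne (hU.map f) hp.symm)
  have h1 := abelian_two_subgroups_of_sylow T hTc ((U.map f).subgroupOf K) (hU.map f).comap_subtype
  have hk : U ⊓ f.ker = ⊥ := by
    rw [QuotientGroup.ker_mk']
    exact disjoint_iff.1 (IsPGroup.disjoint_of_ne 2 p hp.symm _ _ hU (H2.pCore_isPGroup p G))
  refine H13.isMulCommutative_iff_forall_mem.2 fun x hx y hy => ?_
  refine eq_of_map_eq_of_inf_ker hk (mul_mem hx hy) (mul_mem hy hx) ?_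
  rw [map_mul, map_mul]
  exact congrArg Subtype.val (H13.isMulCommutative_iff_forall_mem.1 h1
    ⟨f x, hUK (mem_map_of_mem f hx)⟩ (mem_map_of_mem f hx)
    ⟨f y, hUK (mem_map_of_mem f hy)⟩ (mem_map_of_mem f hy))

theorem hasNPC_of_normalizer_WOf {p : ℕ} [Fact p.Prime] (hp : p ≠ 2) {G : Type u} [Group G]
    [Finite G] (S : Sylow p G)
    (h : HasNormalPComplement p (normalizer (WOf p (S : Subgroup G) : Set G))) :
    HasNormalPComplement p G := by
  refine hasNPC_of_hyp hp
    (fun G _ T => HasNormalPComplement p (normalizer (WOf p T : Set G))) ?_ ?_ ?_ ?_ _ G rfl S h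
  · intro G H _ _ _ f hf T h
    rw [← map_WOf (inf_ker_eq_bot_of_injective hf T)] at h
    exact hasNPC_of_map_injective hf (le_normalizer_map f) h
  · intro G H _ _ _ f hf hk T hT h
    rw [← map_WOf (H13.inf_eq_bot_of_isPGroup_of_coprime hT hk),
      H13.normalizer_map_of_coprime_ker hf hk (hT.to_le (WOf_le _))]
    exact H3.HasNPC.map h f
  · intro G _ _ T hT hT1 h
    exact h _ (hT.to_le (WOf_le _)) (WOf_ne_bot hT hT1) (normalizer_le_normalizer_WOf T)
  · intro G _ _ S hc hG h
    exact H3.hasNPC_of_eq_top (normalizer_eq_top_iff.2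
      (normal_WOf (isActionPStable_of_not_quadInvolved hG) hc S)) h

theorem hasNPC_of_J_Z {p : ℕ} [Fact p.Prime] (hp : p ≠ 2) {G : Type u} [Group G]
    [Finite G] (S : Sylow p G)
    (h1 : HasNormalPComplement p (normalizer (thompsonSubgroupOf p (S : Subgroup G) : Set G)))
    (h2 : HasNormalPComplement p (centralizer (((S : Subgroup G) ⊓
      centralizer ((S : Subgroup G) : Set G) : Subgroup G) : Set G))) :
    HasNormalPComplement p G := by
  refine hasNPC_of_hyp hp
    (fun G _ T => HasNormalPComplement p (normalizer (thompsonSubgroupOf p T : Set G)) ∧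
      HasNormalPComplement p (centralizer ((T ⊓ centralizer (T : Set G) : Subgroup G) : Set G)))
    ?_ ?_ ?_ ?_ _ G rfl S ⟨h1, h2⟩
  · rintro G H _ _ _ f hf T ⟨h1, h2⟩
    rw [← map_J (inf_ker_eq_bot_of_injective hf T)] at h1
    rw [← map_inf_centralizer (inf_ker_eq_bot_of_injective hf T)] at h2
    exact ⟨hasNPC_of_map_injective hf (le_normalizer_map f) h1,
      hasNPC_of_map_injective hf (H13.map_centralizer_le f _) h2⟩
  · rintro G H _ _ _ f hf hk T hT ⟨h1, h2⟩
    have := H13.inf_eq_bot_of_isPGroup_of_coprime hT hk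
    rw [← map_J this, ← map_inf_centralizer this,
      H13.normalizer_map_of_coprime_ker hf hk (hT.to_le (J_le _)),
      H13.centralizer_map_of_coprime_ker hf hk (hT.to_le inf_le_left)]
    exact ⟨H3.HasNPC.map h1 f, H3.HasNPC.map h2 f⟩
  · intro G _ _ T hT hT1 h
    refine ⟨h _ (hT.to_le (J_le _)) (J_ne_bot hT hT1) (normalizer_le_normalizer_J T), ?_⟩
    exact H3.HasNPC.of_le (h _ (hT.to_le inf_le_left)
      (H2.inf_centralizer_ne_bot_of_isPGroup hT hT le_normalizer hT1)
      (H13.le_normalizer_inf le_rfl (H13.normalizer_le_normalizer_centralizer T)))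
      (centralizer_le_normalizer _)
  · rintro G _ _ S hc hG ⟨h1, h2⟩
    have hOS := H2.pCore_le_sylow S
    have hp2 := isPGroup_of_hasNPC_of_pCore_le hc
      (hOS.trans (le_centralizer_symm inf_le_right)) h2
    set Z := pCore p G ⊓ centralizer (pCore p G : Set G) with hZ
    haveI : (omegaOne p Z).Normal := by
      rw [← normalizer_eq_top_iff, eq_top_iff]
      exact (normalizer_eq_top _).ge.trans (normalizer_le_normalizer_omega_center _)
    have hC : centralizer (omegaOne p Z : Set G) = pCore p G := by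
      refine le_antisymm (H2.le_pCore inferInstance ?_) (le_centralizer_omega_center _)
      refine H13.isPGroup_of_forall_coprime_eq_one Fact.out fun g hg ho => ?_
      haveI := isMulCommutative_inf_centralizer (pCore p G)
      have hZp : IsPGroup p Z := (H2.pCore_isPGroup p G).to_le inf_le_left
      have h3 := H1.le_centralizer_of_prime_order (zpowers g) Z
        (by rw [normalizer_eq_top]; exact le_top) ?_ ?_
      · have h4 : (S : Subgroup G) ⊓ centralizer ((S : Subgroup G) : Set G) ≤ Z :=
          le_inf (inf_le_right.trans ((H13.centralizer_anti hOS).trans hc))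
            (inf_le_right.trans (H13.centralizer_anti hOS))
        exact H13.eq_one_of_mem_isPGroup_of_coprime hp2
          (H13.centralizer_anti h4 (h3 (mem_zpowers g))) ho
      · obtain ⟨k, hk⟩ := IsPGroup.iff_card.1 hZp
        rw [hk]
        exact (H13.card_zpowers_coprime ho).pow_right k
      · intro v hv hvp a ha
        have hvo : orderOf v = p := by
          obtain ⟨k, hk⟩ := H13.isPGroup_iff_forall_mem.1 hZp v hv
          exact (Nat.prime_dvd_prime_iff_eq hvp Fact.out).1
            (hvp.dvd_of_dvd_pow (orderOf_dvd_of_pow_eq_one hk))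
        exact (mem_centralizer_iff.1 (zpowers_le.2 hg ha) v
          (mem_omega hv (hvo ▸ pow_orderOf_eq_one v))).symm
    have hJ := thompsonSubgroup_le_centralizer (ea_omega_center _)
      (isPStableOn_of_elementary hG (omegaOne p Z) (ea_omega_center _))
      (by
        have : ∀ (C : Subgroup G) [C.Normal], C = pCore p G → pCore p (G ⧸ C) = ⊥ := by
          rintro C _ rfl
          exact H2.pCore_quotient_pCore p G
        exact this _ hC)
    rw [hC] at hJ
    refine H3.hasNPC_of_eq_top ?_ h1
    rw [← J_eq_of_le ((J_sylow_le S).trans hJ) hOS]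
    exact normalizer_eq_top _

end H12
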